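import Mathlib

/-! Closure of the image of a quasi-compact morphism, and preimages under generalizing maps. -/

set_option autoImplicit false

open CategoryTheory CategoryTheory.Limits AlgebraicGeometry

namespace Groth.DescentBase

universe u

theorem exists_comap_specializes {R S : Type*} [CommRing R] [CommRing S] (φ : R →+* S)
    {p : PrimeSpectrum R} (hp : p ∈ closure (Set.range (PrimeSpectrum.comap φ))) :
    ∃ P, PrimeSpectrum.comap φ P ⤳ p := by
  rw [PrimeSpectrum.closure_range_comap, PrimeSpectrum.mem_zeroLocus, SetLike.coe_subset_coe] at hp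
  obtain ⟨q, hq, hqp⟩ := Ideal.exists_minimalPrimes_le hp
  rw [RingHom.ker_eq_comap_bot] at hq
  obtain ⟨P, hP, -, hPq⟩ := Ideal.exists_comap_eq_of_mem_minimalPrimes φ q hq
  refine ⟨⟨P, hP⟩, ?_⟩
  rw [← PrimeSpectrum.le_iff_specializes]
  exact hPq.le.trans hqp

/-- A point in the closure of the image of a quasi-compact morphism is a specialization of a
point of the image. -/
theorem exists_specializes_of_mem_closure_range {Y Z : Scheme.{u}} (g : Y ⟶ Z) [QuasiCompact g]
    {z : Z} (hz : z ∈ closure (Set.range g.base)) : ∃ y, g.base y ⤳ z := by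
  obtain ⟨U, hU, hzU, -⟩ := TopologicalSpace.Opens.isBasis_iff_nbhd.mp Z.isBasis_affineOpens
    (TopologicalSpace.Opens.mem_top z)
  obtain ⟨R, h, hh⟩ := isCompact_iff_exists.mp (g.isCompact_preimage hU.isCompact)
  have hsub : Set.range (h ≫ g).base ⊆ Set.range hU.fromSpec.base := by
    rw [hU.range_fromSpec]
    rintro _ ⟨r, rfl⟩
    have h' : h.base r ∈ Set.range h.base := Set.mem_range_self r
    rw [hh] at h'
    exact h'
  obtain ⟨φ, hφ⟩ := Spec.map_surjective (IsOpenImmersion.lift hU.fromSpec (h ≫ g) hsub)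
  have hfac : Spec.map φ ≫ hU.fromSpec = h ≫ g := by rw [hφ, IsOpenImmersion.lift_fac]
  obtain ⟨p, rfl⟩ : z ∈ Set.range hU.fromSpec.base := by rw [hU.range_fromSpec]; exact hzU
  have hrange : hU.fromSpec.base ⁻¹' Set.range g.base = Set.range (Spec.map φ).base := by
    ext q
    constructor
    · rintro ⟨y, hy⟩
      have hyU : y ∈ Set.range h.base := by
        rw [hh]
        change g.base y ∈ (U : Set Z)
        rw [hy, ← hU.range_fromSpec]
        exact Set.mem_range_self q
      obtain ⟨r, rfl⟩ := hyU
      exact ⟨r, hU.fromSpec.isOpenEmbedding.injective (by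
        rw [← Scheme.Hom.comp_apply, hfac, Scheme.Hom.comp_apply]; exact hy)⟩
    · rintro ⟨r, rfl⟩
      exact ⟨h.base r, by rw [← Scheme.Hom.comp_apply, ← hfac, Scheme.Hom.comp_apply]⟩
  have hp : p ∈ closure (Set.range (Spec.map φ).base) := by
    rw [← hrange, ← hU.fromSpec.isOpenEmbedding.isOpenMap.preimage_closure_eq_closure_preimage
      hU.fromSpec.continuous]
    exact hz
  obtain ⟨P, hP⟩ := exists_comap_specializes φ.hom hp
  refine ⟨h.base P, ?_⟩
  rw [← Scheme.Hom.comp_apply, ← hfac, Scheme.Hom.comp_apply]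
  exact Specializes.map hP hU.fromSpec.continuous

theorem mem_closure_range_iff {Y Z : Scheme.{u}} (g : Y ⟶ Z) [QuasiCompact g] {z : Z} :
    z ∈ closure (Set.range g.base) ↔ ∃ y, g.base y ⤳ z :=
  ⟨exists_specializes_of_mem_closure_range g,
    fun ⟨y, hy⟩ => hy.mem_closed isClosed_closure (subset_closure ⟨y, rfl⟩)⟩

/-- Taking closures of images of quasi-compact morphisms commutes with preimages along maps along
which generalizations lift. -/
theorem preimage_closure_range {X Y Z : Scheme.{u}} (f : X ⟶ Z) (hf : GeneralizingMap f.base)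
    (g : Y ⟶ Z) [QuasiCompact g] :
    f.base ⁻¹' closure (Set.range g.base) = closure (f.base ⁻¹' Set.range g.base) := by
  refine subset_antisymm (fun x hx => ?_) (f.continuous.closure_preimage_subset _)
  obtain ⟨y, hy⟩ := exists_specializes_of_mem_closure_range g hx
  obtain ⟨x', hx', hx''⟩ := hf hy
  exact hx'.mem_closed isClosed_closure (subset_closure ⟨y, hx''.symm⟩)

end Groth.DescentBase
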