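import Mathlib

/-! Fpqc descent of more properties of morphisms. -/

set_option autoImplicit false
set_option backward.isDefEq.respectTransparency.types false

open CategoryTheory CategoryTheory.Limits AlgebraicGeometry MorphismProperty

namespace Groth.DescentBase

universe u

/-- Surjective, flat, quasi-compact. -/
abbrev SFQ : MorphismProperty Scheme.{u} := @Surjective ⊓ @Flat ⊓ @QuasiCompact

theorem sfq {X Y : Scheme.{u}} (g : X ⟶ Y) [Surjective g] [Flat g] [QuasiCompact g] : SFQ g :=
  ⟨⟨inferInstance, inferInstance⟩, inferInstance⟩

instance descendsAlong_monomorphisms : (monomorphisms Scheme.{u}).DescendsAlong SFQ := by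
  rw [← diagonal_isomorphisms]
  infer_instance

instance descendsAlong_isClosedImmersion :
    DescendsAlong @IsClosedImmersion (SFQ : MorphismProperty Scheme.{u}) := by
  refine ⟨fun {A X Y Z fst snd f g} hsq hf hfst => ?_⟩
  have h1 : IsClosedImmersion fst := hfst
  have : LocallyOfFiniteType g := of_isPullback_of_descendsAlong hsq hf (inferInstance : LocallyOfFiniteType fst)
  have : UniversallyClosed g := of_isPullback_of_descendsAlong hsq hf (inferInstance : UniversallyClosed fst)
  have : Mono g := of_isPullback_of_descendsAlong (P := monomorphisms Scheme.{u}) hsq hf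
    (inferInstance : Mono fst)
  rw [IsClosedImmersion.iff_isProper_and_mono]
  exact ⟨{ }, this⟩

instance descendsAlong_isSeparated :
    DescendsAlong @IsSeparated (SFQ : MorphismProperty Scheme.{u}) := by
  rw [IsSeparated.isSeparated_eq_diagonal_isClosedImmersion]
  infer_instance

instance descendsAlong_isProper :
    DescendsAlong @IsProper (SFQ : MorphismProperty Scheme.{u}) := by
  rw [isProper_eq]
  infer_instance

end Groth.DescentBase
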