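import Mathlib
import Groth.Agent.DescentBase.Descends
import Groth.Agent.DescentBase.ClosureRange

/-! Topological consequences of generalizing quasi-compact morphisms, descent of immersions. -/

set_option autoImplicit false
set_option backward.isDefEq.respectTransparency.types false

open CategoryTheory CategoryTheory.Limits AlgebraicGeometry MorphismProperty

namespace Groth.DescentBase

universe u

/-- A closed subset is the range of a closed immersion. -/
theorem exists_closedImmersion_range {X : Scheme.{u}} {F : Set X} (hF : IsClosed F) :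
    ∃ (T : Scheme.{u}) (i : T ⟶ X), IsClosedImmersion i ∧ Set.range i.base = F :=
  ⟨_, (Scheme.IdealSheafData.vanishingIdeal ⟨F, hF⟩).subschemeι, inferInstance, by
    rw [Scheme.IdealSheafData.range_subschemeι, Scheme.IdealSheafData.coe_support_vanishingIdeal]; rfl⟩

/-- The closed-set version: preimage of the closure of the image of a closed set. -/
theorem preimage_closure_image {X Y Z : Scheme.{u}} (f : X ⟶ Z) (hf : GeneralizingMap f.base)
    (g : Y ⟶ Z) [QuasiCompact g] {F : Set Y} (hF : IsClosed F) :
    f.base ⁻¹' closure (g.base '' F) = closure (f.base ⁻¹' (g.base '' F)) := by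
  obtain ⟨T, i, hi, rfl⟩ := exists_closedImmersion_range hF
  rw [← Set.range_comp, ← TopCat.coe_comp, ← Scheme.Hom.comp_base]
  exact preimage_closure_range f hf (i ≫ g)

theorem preimage_closure_image_self {X Y : Scheme.{u}} (f : X ⟶ Y) (hf : GeneralizingMap f.base)
    [QuasiCompact f] {F : Set X} (hF : IsClosed F) (hsat : f.base ⁻¹' (f.base '' F) = F) :
    f.base ⁻¹' closure (f.base '' F) = F := by
  rw [preimage_closure_image f hf f hF, hsat, hF.closure_eq]

theorem isQuotientMap_of_generalizing {X Y : Scheme.{u}} (f : X ⟶ Y) (hf : GeneralizingMap f.base)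
    [QuasiCompact f] [Surjective f] : Topology.IsQuotientMap f.base := by
  refine Topology.isQuotientMap_iff_isClosed.mpr ⟨f.surjective, fun Z => ⟨fun h => ?_, fun h => ?_⟩⟩
  · exact h.preimage f.continuous
  · have hsat : f.base ⁻¹' (f.base '' (f.base ⁻¹' Z)) = f.base ⁻¹' Z := by
      rw [Set.image_preimage_eq _ f.surjective]
    have := preimage_closure_image_self f hf h hsat
    rw [Set.image_preimage_eq _ f.surjective] at this
    have hZ : closure Z = Z := by
      ext y
      obtain ⟨x, rfl⟩ := f.surjective y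
      exact Set.ext_iff.mp this x
    exact hZ ▸ isClosed_closure

theorem range_fst_eq {A X Y Z : Scheme.{u}} {fst : A ⟶ X} {snd : A ⟶ Y} {f : X ⟶ Z} {g : Y ⟶ Z}
    (h : IsPullback fst snd f g) : Set.range fst.base = f.base ⁻¹' Set.range g.base := by
  rw [← Set.image_univ, ← Set.image_univ, ← Scheme.image_preimage_eq_of_isPullback h.flip Set.univ,
    Set.preimage_univ]

theorem quasiCompact_of_isPullback {A X Y Z : Scheme.{u}} {fst : A ⟶ X} {snd : A ⟶ Y} {f : X ⟶ Z}
    {g : Y ⟶ Z} (h : IsPullback fst snd f g) [Surjective f] [QuasiCompact f] [QuasiCompact fst] :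
    QuasiCompact g := by
  refine ⟨fun U hU hUc => ?_⟩
  have h1 : IsCompact (fst.base ⁻¹' (f.base ⁻¹' U)) :=
    fst.isSpectralMap.2 (hU.preimage f.continuous) (f.isSpectralMap.2 hU hUc)
  have h2 := Scheme.image_preimage_eq_of_isPullback h (f.base ⁻¹' U)
  rw [Set.image_preimage_eq _ f.surjective] at h2
  rw [← h2]
  exact h1.image snd.continuous

theorem injective_of_isPullback {A X Y Z : Scheme.{u}} {fst : A ⟶ X} {snd : A ⟶ Y} {f : X ⟶ Z}
    {g : Y ⟶ Z} (h : IsPullback fst snd f g) [Surjective f] (hfst : Function.Injective fst.base) :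
    Function.Injective g.base := by
  intro y₁ y₂ he
  obtain ⟨x, hx⟩ := f.surjective (g.base y₁)
  obtain ⟨a, ha, ha'⟩ := Scheme.exists_preimage_of_isPullback h x y₁ hx
  obtain ⟨b, hb, hb'⟩ := Scheme.exists_preimage_of_isPullback h x y₂ (hx.trans he)
  rw [← ha', ← hb', hfst (ha.trans hb.symm)]

theorem isEmbedding_of_isPullback {A X Y Z : Scheme.{u}} {fst : A ⟶ X} {snd : A ⟶ Y} {f : X ⟶ Z}
    {g : Y ⟶ Z} (h : IsPullback fst snd f g) [Surjective f] [QuasiCompact f] [QuasiCompact fst]
    (hf : GeneralizingMap f.base) (hfst : Topology.IsEmbedding fst.base) :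
    Topology.IsEmbedding g.base := by
  haveI := quasiCompact_of_isPullback h
  have hsurj : Function.Surjective snd.base := by
    intro y
    obtain ⟨x, hx⟩ := f.surjective (g.base y)
    obtain ⟨a, -, ha⟩ := Scheme.exists_preimage_of_isPullback h x y hx
    exact ⟨a, ha⟩
  refine ⟨?_, injective_of_isPullback h hfst.injective⟩
  rw [Topology.isInducing_iff]
  refine le_antisymm g.continuous.le_induced ?_
  intro U hU
  refine ⟨(closure (g.base '' Uᶜ))ᶜ, isClosed_closure.isOpen_compl, ?_⟩
  rw [Set.preimage_compl, compl_eq_comm]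
  refine Set.Subset.antisymm (fun y hy => subset_closure ⟨y, hy, rfl⟩) (fun y hy => ?_)
  obtain ⟨a, rfl⟩ := hsurj y
  have h1 : fst.base a ∈ f.base ⁻¹' closure (g.base '' Uᶜ) := by
    have : f.base (fst.base a) = g.base (snd.base a) := by
      rw [← Scheme.Hom.comp_apply, ← Scheme.Hom.comp_apply, h.w]
    rw [Set.mem_preimage, this]
    exact hy
  rw [preimage_closure_image f hf g hU.isClosed_compl,
    ← Scheme.image_preimage_eq_of_isPullback h.flip Uᶜ] at h1
  have h2 : a ∈ closure (snd.base ⁻¹' Uᶜ) := by
    rw [hfst.toIsInducing.closure_eq_preimage_closure_image]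
    exact h1
  rwa [(hU.isClosed_compl.preimage snd.continuous).closure_eq] at h2

theorem isImmersion_of_isPullback {A X Y Z : Scheme.{u}} {fst : A ⟶ X} {snd : A ⟶ Y} {f : X ⟶ Z}
    {g : Y ⟶ Z} (h : IsPullback fst snd f g) (hq : Topology.IsQuotientMap f.base)
    (hcl : f.base ⁻¹' closure (Set.range g.base) = closure (f.base ⁻¹' Set.range g.base))
    (W : MorphismProperty Scheme.{u}) [W.IsStableUnderBaseChange]
    [DescendsAlong @IsClosedImmersion W] (hfW : W f) [IsImmersion fst] : IsImmersion g := by
  have hr := range_fst_eq h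
  have hco : f.base ⁻¹' coborder (Set.range g.base) = coborder (Set.range fst.base) := by
    rw [coborder_eq_union_closure_compl, coborder_eq_union_closure_compl, hr, Set.preimage_union,
      Set.preimage_compl, hcl]
  have hopen : IsOpen (coborder (Set.range g.base)) := by
    rw [← hq.isOpen_preimage, hco]
    exact fst.isLocallyClosed_range.isOpen_coborder
  let U : Z.Opens := ⟨_, hopen⟩
  have hgU : Set.range g.base ⊆ Set.range U.ι.base := by
    rw [Scheme.Opens.range_ι]; exact subset_coborder
  have hfU : Set.range fst.base ⊆ Set.range (f ⁻¹ᵁ U).ι.base := by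
    rw [Scheme.Opens.range_ι]
    change _ ⊆ f.base ⁻¹' coborder (Set.range g.base)
    rw [hco]; exact subset_coborder
  let g' := IsOpenImmersion.lift U.ι g hgU
  let fst' := IsOpenImmersion.lift (f ⁻¹ᵁ U).ι fst hfU
  have hg' : g' ≫ U.ι = g := IsOpenImmersion.lift_fac _ _ _
  have hfst' : fst' ≫ (f ⁻¹ᵁ U).ι = fst := IsOpenImmersion.lift_fac _ _ _
  have hpb : IsPullback fst' snd (f ∣_ U) g' := by
    refine IsPullback.of_right (by rwa [hfst', hg']) ?_ (isPullback_morphismRestrict f U).flip
    rw [← cancel_mono U.ι, Category.assoc, morphismRestrict_ι, ← Category.assoc, hfst', h.w,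
      Category.assoc, hg']
  haveI : IsPreimmersion fst' := by
    have : IsPreimmersion (fst' ≫ (f ⁻¹ᵁ U).ι) := by rw [hfst']; infer_instance
    exact IsPreimmersion.of_comp fst' (f ⁻¹ᵁ U).ι
  haveI : IsClosedImmersion fst' := by
    refine .of_isPreimmersion _ ?_
    have h1 : Set.range fst'.base =
        (f ⁻¹ᵁ U).ι.base ⁻¹' closure (Set.range fst.base) := by
      ext x
      constructor
      · rintro ⟨a, rfl⟩
        exact subset_closure ⟨a, by rw [← Scheme.Hom.comp_apply, hfst']⟩
      · intro hx
        have hxc : (f ⁻¹ᵁ U).ι.base x ∈ coborder (Set.range fst.base) := by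
          rw [← hco]; exact x.2
        have : (f ⁻¹ᵁ U).ι.base x ∈ Set.range fst.base := by
          rw [← closure_inter_coborder (s := Set.range fst.base)]
          exact ⟨hx, hxc⟩
        obtain ⟨a, ha⟩ := this
        exact ⟨a, (f ⁻¹ᵁ U).ι.isOpenEmbedding.injective (by
          rw [← Scheme.Hom.comp_apply, hfst']; exact ha)⟩
    rw [h1]
    exact isClosed_closure.preimage (f ⁻¹ᵁ U).ι.continuous
  have : IsClosedImmersion g' :=
    of_isPullback_of_descendsAlong (P := @IsClosedImmersion) hpb
      (W.of_isPullback (isPullback_morphismRestrict f U).flip hfW) inferInstance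
  rw [← hg']
  infer_instance

end Groth.DescentBase
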