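import Mathlib
import Groth.Prelude.Def_Flat
import Groth.Agent.SpectralTopology.Dim

/-! Dimension and generalizing maps with discrete fibres. -/

set_option autoImplicit false

open CategoryTheory CategoryTheory.Limits AlgebraicGeometry TopologicalSpace Order

namespace Groth.DescentBase

universe u

theorem locallyQuasiFinite_of_etale {U V : Scheme.{u}} (f : U ⟶ V) [Etale f] :
    LocallyQuasiFinite f := by
  rw [HasRingHomProperty.iff_appLE (P := @LocallyQuasiFinite)]
  intro W W' e
  have h1 := HasRingHomProperty.appLE @FormallyUnramified f inferInstance W W' e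
  have h2 := HasRingHomProperty.appLE @LocallyOfFiniteType f inferInstance W W' e
  algebraize [(f.appLE W.1 W'.1 e).hom]
  change Algebra.QuasiFinite _ _
  infer_instance

section Top

variable {α β : Type*} [TopologicalSpace α] [TopologicalSpace β]

attribute [local instance] specializationOrder

theorem topologicalKrullDim_eq_points [QuasiSober α] [T0Space α] :
    topologicalKrullDim α = Order.krullDim α :=
  Order.krullDim_eq_of_orderIso irreducibleSetEquivPoints

theorem topologicalKrullDim_le_of_discrete_fibres [QuasiSober α] [T0Space α] [QuasiSober β]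
    [T0Space β] (f : α → β) (hf : Continuous f) (hd : ∀ y, _root_.IsDiscrete (f ⁻¹' {y})) :
    topologicalKrullDim α ≤ topologicalKrullDim β := by
  rw [topologicalKrullDim_eq_points, topologicalKrullDim_eq_points]
  refine Order.krullDim_le_of_strictMono f fun a b hab => ?_
  have hba : b ⤳ a := hab.le
  refine lt_of_le_of_ne (hba.map hf) fun he => hab.ne ?_
  haveI := (hd (f b)).to_subtype
  have h1 : (⟨b, rfl⟩ : ↥(f ⁻¹' {f b})) ⤳ ⟨a, he⟩ := subtype_specializes_iff _ _ |>.mpr hba
  exact (congrArg Subtype.val h1.eq).symm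

theorem topologicalKrullDim_le_of_generalizing [QuasiSober α] [T0Space α] [QuasiSober β]
    [T0Space β] (f : α → β) (hg : GeneralizingMap f) (hs : Function.Surjective f) :
    topologicalKrullDim β ≤ topologicalKrullDim α := by
  rw [topologicalKrullDim_eq_points, topologicalKrullDim_eq_points]
  refine iSup_le fun l => ?_
  have : ∀ a, f a = l.head → ∃ l' : LTSeries α, l'.head = a ∧ l'.length = l.length := by
    induction l using RelSeries.inductionOn with
    | singleton x => exact fun a _ => ⟨RelSeries.singleton _ a, rfl, rfl⟩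
    | cons p x hx ih =>
      intro a ha
      rw [RelSeries.head_cons] at ha
      obtain ⟨a', h1, h2⟩ := hg (show p.head ⤳ f a by rw [ha]; exact le_of_lt hx)
      obtain ⟨l', hl', hlen⟩ := ih a' h2
      have hlt : a < l'.head := by
        rw [hl']
        exact lt_of_le_of_ne h1 fun he => ne_of_lt (show x < p.head from hx) (by rw [← ha, he, h2])
      exact ⟨l'.cons a hlt, RelSeries.head_cons .., by rw [RelSeries.cons_length, RelSeries.cons_length, hlen]⟩
  obtain ⟨a, ha⟩ := hs l.head
  obtain ⟨l', -, hlen⟩ := this a ha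
  rw [← hlen]
  exact LTSeries.length_le_krullDim l'

end Top

theorem dim_opens_eq_dim_image {U V : Scheme.{u}} (f : U ⟶ V) [Etale f] (W : U.Opens) :
    topologicalKrullDim (W : Set U) = topologicalKrullDim (f.base '' (W : Set U)) := by
  let W' : V.Opens := ⟨f.base '' (W : Set U), f.isOpenMap _ W.2⟩
  let g : W.toScheme ⟶ W'.toScheme :=
    IsOpenImmersion.lift W'.ι (W.ι ≫ f) (by
      rintro _ ⟨x, rfl⟩
      rw [Scheme.Opens.range_ι]
      exact ⟨W.ι.base x, x.2, by rw [Scheme.Hom.comp_apply]⟩)
  have hg : g ≫ W'.ι = W.ι ≫ f := IsOpenImmersion.lift_fac _ _ _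
  haveI : Etale (g ≫ W'.ι) := by rw [hg]; infer_instance
  haveI : Etale g := Etale.of_comp g W'.ι
  haveI : LocallyQuasiFinite g := locallyQuasiFinite_of_etale g
  change topologicalKrullDim W.toScheme = topologicalKrullDim W'.toScheme
  refine le_antisymm (topologicalKrullDim_le_of_discrete_fibres g.base g.continuous
    g.isDiscrete_preimage_singleton)
    (topologicalKrullDim_le_of_generalizing g.base (Flat.generalizingMap g) ?_)
  rintro ⟨y, x, hx, hxy⟩
  refine ⟨⟨x, hx⟩, W'.ι.isOpenEmbedding.injective ?_⟩
  rw [← Scheme.Hom.comp_apply, hg, Scheme.Hom.comp_apply]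
  exact hxy

theorem localDim_eq_of_etale {U V : Scheme.{u}} (f : U ⟶ V) [Etale f] (u : U) :
    FlatMor.localDim U u = FlatMor.localDim V (f.base u) := by
  refine le_antisymm (le_iInf fun V' => ?_) (le_iInf fun U' => ?_)
  · refine (Groth.SpectralTopology.localDim_le_of_mem
      (U := (⟨f.base ⁻¹' (V'.1 : Set V), V'.1.2.preimage f.continuous⟩ : Opens U)) V'.2).trans ?_
    rw [dim_opens_eq_dim_image f ⟨f.base ⁻¹' (V'.1 : Set V), V'.1.2.preimage f.continuous⟩]
    exact (Topology.IsEmbedding.inclusion (Set.image_preimage_subset _ _)).toIsInducing.topologicalKrullDim_le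
  · rw [dim_opens_eq_dim_image f U'.1]
    exact Groth.SpectralTopology.localDim_le_of_mem
      (U := (⟨f.base '' (U'.1 : Set U), f.isOpenMap _ U'.1.2⟩ : Opens V)) ⟨u, U'.2, rfl⟩

end Groth.DescentBase
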