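import Mathlib

/-! Descent of flatness along faithfully flat maps on the source. -/

set_option autoImplicit false

open TensorProduct

namespace Groth.DescentBase

universe u

/-- A universally injective submodule of a flat module is flat. -/
theorem flat_of_rTensor_injective {A : Type u} [CommRing A] {M N : Type u} [AddCommGroup M]
    [Module A M] [AddCommGroup N] [Module A N] [Module.Flat A N] (ι : M →ₗ[A] N)
    (hι : ∀ (P : Type u) [AddCommGroup P] [Module A P], Function.Injective (ι.rTensor P)) :
    Module.Flat A M := by
  rw [Module.Flat.iff_lTensor_preserves_injective_linearMap]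
  intro P Q _ _ _ _ f hf
  have h : (ι.rTensor Q) ∘ₗ (f.lTensor M) = (f.lTensor N) ∘ₗ (ι.rTensor P) := by
    ext; simp
  have : Function.Injective ((ι.rTensor Q) ∘ₗ (f.lTensor M)) := by
    rw [h]
    exact (Module.Flat.lTensor_preserves_injective_linearMap f hf).comp (hι P)
  rw [LinearMap.coe_comp] at this
  exact this.of_comp

theorem mk_one_rTensor_injective (A B C : Type u) [CommRing A] [CommRing B] [CommRing C]
    [Algebra A B] [Algebra A C] [Algebra B C] [IsScalarTower A B C] [Module.FaithfullyFlat B C]
    (M : Type u) [AddCommGroup M] [Module A M] [Module B M] [IsScalarTower A B M]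
    (P : Type u) [AddCommGroup P] [Module A P] :
    Function.Injective ((((TensorProduct.mk B C M) 1).restrictScalars A).rTensor P) := by
  let e := AlgebraTensorModule.assoc A B B C M P
  have h : e.toLinearMap.restrictScalars A ∘ₗ (((TensorProduct.mk B C M) 1).restrictScalars A).rTensor P =
      ((TensorProduct.mk B C (M ⊗[A] P)) 1).restrictScalars A := by
    ext; simp [e]
  have hinj : Function.Injective (e.toLinearMap.restrictScalars A ∘ₗ
      (((TensorProduct.mk B C M) 1).restrictScalars A).rTensor P) := by
    rw [h]
    exact Module.FaithfullyFlat.tensorProduct_mk_injective (A := B) (B := C) (M ⊗[A] P)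
  rw [LinearMap.coe_comp] at hinj
  exact hinj.of_comp

/-- If `B → C` is faithfully flat and `C ⊗_B M` is flat over `A`, then so is `M`. -/
theorem flat_of_flat_baseChange (A B C : Type u) [CommRing A] [CommRing B] [CommRing C]
    [Algebra A B] [Algebra A C] [Algebra B C] [IsScalarTower A B C] [Module.FaithfullyFlat B C]
    (M : Type u) [AddCommGroup M] [Module A M] [Module B M] [IsScalarTower A B M]
    [Module.Flat A (C ⊗[B] M)] : Module.Flat A M :=
  flat_of_rTensor_injective (((TensorProduct.mk B C M) 1).restrictScalars A)
    fun P _ _ => mk_one_rTensor_injective A B C M P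

/-- If `B → C` is faithfully flat and `A → C` is flat, then `A → B` is flat. -/
theorem flat_of_flat_of_faithfullyFlat (A B C : Type u) [CommRing A] [CommRing B] [CommRing C]
    [Algebra A B] [Algebra A C] [Algebra B C] [IsScalarTower A B C] [Module.FaithfullyFlat B C]
    [Module.Flat A C] : Module.Flat A B :=
  have : Module.Flat A (C ⊗[B] B) :=
    Module.Flat.of_linearEquiv ((AlgebraTensorModule.rid B B C).restrictScalars A)
  flat_of_flat_baseChange A B C B

end Groth.DescentBase
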