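import Mathlib
import Groth.Agent.DescentBase.SmoothSource
import Groth.Agent.DescentBase.FlatTower

/-! Properties of morphisms checked after an open surjection on the source. -/

set_option autoImplicit false
set_option backward.isDefEq.respectTransparency.types false

open CategoryTheory CategoryTheory.Limits AlgebraicGeometry

namespace Groth.DescentBase

universe u

open scoped TensorProduct

/-- For an open surjection `f : X' ⟶ X` and an affine open `V` of `X`, an affine scheme over `X`
with range `V` that is a finite union of affine opens of `X'`. -/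
theorem exists_affine_cover_of_isOpenMap (Pf Pg : MorphismProperty Scheme.{u})
    [IsZariskiLocalAtSource Pf] [IsZariskiLocalAtSource Pg]
    {X' X Y : Scheme.{u}} (f : X' ⟶ X) (g : X ⟶ Y) (hf : Pf f) (hg : Pg (f ≫ g))
    (hopen : IsOpenMap f.base) (hsurj : Function.Surjective f.base)
    {V : X.Opens} (hV : IsAffineOpen V) :
    ∃ (W : Scheme.{u}) (h : W ⟶ X), IsAffine W ∧ Set.range h.base = (V : Set X) ∧ Pf h ∧ Pg (h ≫ g) := by
  classical
  have hcov : (V : Set X) ⊆ ⋃ w : {W : X'.Opens // IsAffineOpen W ∧ W ≤ f ⁻¹ᵁ V}, f.base '' (w.1 : Set X') := by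
    intro x hx
    obtain ⟨x', rfl⟩ := hsurj x
    obtain ⟨W, hW, hxW, hle⟩ := TopologicalSpace.Opens.isBasis_iff_nbhd.mp X'.isBasis_affineOpens
      (show x' ∈ f ⁻¹ᵁ V from hx)
    exact Set.mem_iUnion.mpr ⟨⟨W, hW, hle⟩, x', hxW, rfl⟩
  obtain ⟨s, hs⟩ := hV.isCompact.elim_finite_subcover _ (fun w => hopen _ w.1.isOpen) hcov
  let F : ∀ w : s, (w.1.1 : Scheme.{u}) ⟶ X := fun w => w.1.1.ι ≫ f
  have hι : ∀ w : s, Sigma.ι (fun w : s => (w.1.1 : Scheme.{u})) w ≫ Sigma.desc F = w.1.1.ι ≫ f :=
    fun w => Sigma.ι_desc F w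
  have haff : ∀ w : s, IsAffine (w.1.1 : Scheme.{u}) := fun w => w.1.2.1
  refine ⟨_, Sigma.desc F, inferInstance, ?_, ?_, ?_⟩
  · apply Set.Subset.antisymm
    · rintro _ ⟨z, rfl⟩
      obtain ⟨w, a, rfl⟩ := (sigmaOpenCover fun w : s => (w.1.1 : Scheme.{u})).exists_eq z
      change (Sigma.desc F).base ((Sigma.ι (fun w : s => (w.1.1 : Scheme.{u})) w).base a) ∈ (V : Set X)
      rw [← Scheme.Hom.comp_apply, hι]
      exact w.1.2.2 a.2
    · intro x hx
      obtain ⟨w, hw, a, ha, rfl⟩ := Set.mem_iUnion₂.mp (hs hx)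
      exact ⟨(Sigma.ι (fun w : s => (w.1.1 : Scheme.{u})) ⟨w, hw⟩).base ⟨a, ha⟩, by
        rw [← Scheme.Hom.comp_apply, hι]; rfl⟩
  · refine (IsZariskiLocalAtSource.iff_of_openCover (P := Pf) (sigmaOpenCover _)).mpr fun w => ?_
    change Pf (Sigma.ι (fun w : s => (w.1.1 : Scheme.{u})) w ≫ Sigma.desc F)
    rw [hι]
    exact IsZariskiLocalAtSource.comp hf _
  · refine (IsZariskiLocalAtSource.iff_of_openCover (P := Pg) (sigmaOpenCover _)).mpr fun w => ?_
    change Pg (Sigma.ι (fun w : s => (w.1.1 : Scheme.{u})) w ≫ Sigma.desc F ≫ g)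
    rw [← Category.assoc, hι, Category.assoc]
    exact IsZariskiLocalAtSource.comp hg _

/-- A ring-hom property descends on the source along open surjections. -/
theorem of_comp_of_isOpenMap {Pf Pg : MorphismProperty Scheme.{u}}
    {Qf Qg : ∀ {R S : Type u} [CommRing R] [CommRing S], (R →+* S) → Prop}
    [HasRingHomProperty Pf Qf] [HasRingHomProperty Pg Qg]
    (H : ∀ (R S T : Type u) [CommRing R] [CommRing S] [CommRing T] (φ : R →+* S) (ψ : S →+* T),
      Qf ψ → Function.Surjective (PrimeSpectrum.comap ψ) → Qg (ψ.comp φ) → Qg φ)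
    {X' X Y : Scheme.{u}} (f : X' ⟶ X) (g : X ⟶ Y) (hf : Pf f) (hg : Pg (f ≫ g))
    (hopen : IsOpenMap f.base) (hsurj : Function.Surjective f.base) : Pg g := by
  rw [HasRingHomProperty.iff_appLE (P := Pg)]
  rintro U V e
  obtain ⟨W, h, hW, hrange, hPf, hPg⟩ := exists_affine_cover_of_isOpenMap Pf Pg f g hf hg hopen hsurj V.2
  have e1 : (⊤ : W.Opens) ≤ h ⁻¹ᵁ V.1 := fun w _ => by
    have : h.base w ∈ (V.1 : Set X) := hrange ▸ Set.mem_range_self w
    exact this
  have e2 : (⊤ : W.Opens) ≤ (h ≫ g) ⁻¹ᵁ U.1 := fun w _ => e (e1 (show w ∈ (⊤ : W.Opens) from trivial))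
  have h1 : Qf (h.appLE V.1 ⊤ e1).hom := HasRingHomProperty.appLE Pf h hPf V ⟨⊤, isAffineOpen_top W⟩ e1
  have h2 : Qg ((h ≫ g).appLE U.1 ⊤ e2).hom :=
    HasRingHomProperty.appLE Pg (h ≫ g) hPg U ⟨⊤, isAffineOpen_top W⟩ e2
  refine H _ _ _ (g.appLE U.1 V.1 e).hom (h.appLE V.1 ⊤ e1).hom h1 ?_ ?_
  · intro p
    obtain ⟨w, hw⟩ : V.2.fromSpec.base p ∈ Set.range h.base := by
      rw [hrange]
      exact V.2.range_fromSpec ▸ Set.mem_range_self p
    refine ⟨(isAffineOpen_top W).primeIdealOf ⟨w, trivial⟩, V.2.fromSpec.isOpenEmbedding.injective ?_⟩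
    change V.2.fromSpec.base ((Spec.map (h.appLE V.1 ⊤ e1)).base
      ((isAffineOpen_top W).primeIdealOf ⟨w, trivial⟩)) = _
    rw [← Scheme.Hom.comp_apply, IsAffineOpen.SpecMap_appLE_fromSpec h V.2 (isAffineOpen_top W) e1,
      Scheme.Hom.comp_apply, IsAffineOpen.fromSpec_primeIdealOf]
    exact hw
  · rw [← CommRingCat.hom_comp, Scheme.Hom.appLE_comp_appLE]
    exact h2

/-- A faithfully flat ring map from flatness and surjectivity on spectra. -/
theorem faithfullyFlat_of {S T : Type u} [CommRing S] [CommRing T] [Algebra S T] [Module.Flat S T]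
    (h : Function.Surjective (PrimeSpectrum.comap (algebraMap S T))) : Module.FaithfullyFlat S T :=
  Module.FaithfullyFlat.of_comap_surjective h

/-- Being formally unramified descends on the source along formally etale faithfully flat maps. -/
theorem formallyUnramified_of_formallyEtale (A B C : Type u) [CommRing A] [CommRing B] [CommRing C]
    [Algebra A B] [Algebra B C] [Algebra A C] [IsScalarTower A B C] [Algebra.FormallyEtale B C]
    [Module.FaithfullyFlat B C] [Algebra.FormallyUnramified A C] :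
    Algebra.FormallyUnramified A B := by
  have : Subsingleton (C ⊗[B] Ω[B⁄A]) :=
    (KaehlerDifferential.tensorKaehlerEquivOfFormallyEtale A B C).subsingleton
  exact ⟨Module.FaithfullyFlat.lTensor_reflects_triviality B C Ω[B⁄A]⟩

section scheme

variable {X' X Y : Scheme.{u}} (f : X' ⟶ X) (g : X ⟶ Y)

/-- Locally of finite type descends on the source along smooth surjections. -/
theorem locallyOfFiniteType_of_smooth [Smooth f] [Surjective f] [LocallyOfFiniteType (f ≫ g)] :
    LocallyOfFiniteType g :=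
  of_comp_of_isOpenMap (Pf := @Smooth) (Pg := @LocallyOfFiniteType)
    (fun R S T _ _ _ φ ψ hψ hs hφ => by
      algebraize [φ, ψ, ψ.comp φ]
      have : Algebra.FiniteType R T := hφ
      have := faithfullyFlat_of (S := S) (T := T) hs
      exact finiteType_of_smooth R S T)
    f g ‹_› ‹_› f.isOpenMap f.surjective

/-- Locally of finite presentation descends on the source along smooth surjections. -/
theorem locallyOfFinitePresentation_of_smooth [Smooth f] [Surjective f]
    [LocallyOfFinitePresentation (f ≫ g)] : LocallyOfFinitePresentation g :=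
  of_comp_of_isOpenMap (Pf := @Smooth) (Pg := @LocallyOfFinitePresentation)
    (fun R S T _ _ _ φ ψ hψ hs hφ => by
      algebraize [φ, ψ, ψ.comp φ]
      have : Algebra.FinitePresentation R T := hφ
      have := faithfullyFlat_of (S := S) (T := T) hs
      exact finitePresentation_of_smooth R S T)
    f g ‹_› ‹_› f.isOpenMap f.surjective

/-- Being formally unramified descends on the source along etale surjections. -/
theorem formallyUnramified_of_etale [Etale f] [Surjective f] [FormallyUnramified (f ≫ g)] :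
    FormallyUnramified g :=
  of_comp_of_isOpenMap (Pf := @Etale) (Pg := @FormallyUnramified)
    (fun R S T _ _ _ φ ψ hψ hs hφ => by
      algebraize [φ, ψ, ψ.comp φ]
      have := faithfullyFlat_of (S := S) (T := T) hs
      exact formallyUnramified_of_formallyEtale R S T)
    f g ‹_› ‹_› f.isOpenMap f.surjective

/-- Flatness descends on the source along flat surjections. -/
theorem flat_of_flat_surjective [Flat f] [Surjective f] [Flat (f ≫ g)] : Flat g := by
  refine Flat.of_stalkMap _ fun y => ?_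
  obtain ⟨x, rfl⟩ := f.surjective y
  have h1 := Flat.stalkMap f x
  have h2 := Flat.stalkMap (f ≫ g) x
  rw [Scheme.Hom.stalkMap_comp] at h2
  let _ := (g.stalkMap (f x)).hom.toAlgebra
  let _ := (f.stalkMap x).hom.toAlgebra
  let _ := ((f.stalkMap x).hom.comp (g.stalkMap (f x)).hom).toAlgebra
  have : IsScalarTower (Y.presheaf.stalk (g (f x))) (X.presheaf.stalk (f x)) (X'.presheaf.stalk x) :=
    .of_algebraMap_eq' rfl
  have : Module.Flat (X.presheaf.stalk (f x)) (X'.presheaf.stalk x) := h1
  have : IsLocalHom (algebraMap (X.presheaf.stalk (f x)) (X'.presheaf.stalk x)) :=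
    inferInstanceAs (IsLocalHom (f.stalkMap x).hom)
  have : Module.FaithfullyFlat (X.presheaf.stalk (f x)) (X'.presheaf.stalk x) :=
    Module.FaithfullyFlat.of_flat_of_isLocalHom
  have : Module.Flat (Y.presheaf.stalk (g (f x))) (X'.presheaf.stalk x) := h2
  exact flat_of_flat_of_faithfullyFlat (Y.presheaf.stalk (g (f x))) (X.presheaf.stalk (f x)) (X'.presheaf.stalk x)

end scheme

end Groth.DescentBase
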