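import Groth.Agent.DescentBase.Descends

/-! Fpqc covers of affine schemes and descent of properties along them. -/

set_option autoImplicit false
set_option backward.isDefEq.respectTransparency.types false

open CategoryTheory CategoryTheory.Limits AlgebraicGeometry MorphismProperty

namespace Groth.DescentBase

universe u

/-- An fpqc cover of an affine scheme is refined by a single surjective flat quasi-compact
morphism from a finite disjoint union of affines, each mapping by an open immersion to a member. -/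
theorem exists_affine_refinement {Y : Scheme.{u}} [IsAffine Y]
    (𝒰 : Scheme.Cover Scheme.fpqcPrecoverage Y) :
    ∃ (m : Type u) (_ : Finite m) (W : m → Scheme.{u}) (_ : ∀ j, IsAffine (W j)) (s : m → 𝒰.I₀)
      (a : ∀ j, W j ⟶ 𝒰.X (s j)), (∀ j, IsOpenImmersion (a j)) ∧
        SFQ (Sigma.desc (fun j => a j ≫ 𝒰.f (s j))) := by
  have hmem := 𝒰.mem₀
  have hq : QuasiCompactCover 𝒰.toPreZeroHypercover := by
    have := hmem.1
    simpa using this
  let 𝒰' : Y.Cover (Scheme.precoverage @Flat) := ⟨𝒰.toPreZeroHypercover, hmem.2⟩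
  have : QuasiCompactCover 𝒰'.toPreZeroHypercover := hq
  obtain ⟨𝒱, φ, hfin, himm⟩ := QuasiCompactCover.exists_hom (S := Y) (P := @Flat) 𝒰'
  obtain ⟨n, ⟨e⟩⟩ := Finite.exists_equiv_fin 𝒱.I₀
  let k : ULift.{u} (Fin n) → 𝒱.I₀ := fun j => e.symm j.down
  let F : ∀ j, 𝒱.cover.X (k j) ⟶ Y := fun j => 𝒱.cover.f (k j)
  refine ⟨ULift.{u} (Fin n), inferInstance, fun j => 𝒱.cover.X (k j),
    fun j => inferInstanceAs (IsAffine (Spec (𝒱.X (k j)))), fun j => φ.s₀ (k j), fun j => φ.h₀ (k j),
    fun j => himm (k j), ?_⟩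
  have heq : (fun j => φ.h₀ (k j) ≫ 𝒰.f (φ.s₀ (k j))) = F := funext fun j => φ.w₀ (k j)
  rw [heq]
  have hflat : ∀ j, Flat (F j) := fun j => 𝒱.map_prop (k j)
  refine ⟨⟨⟨fun y => ?_⟩, ?_⟩, ?_⟩
  · obtain ⟨j, z, hz⟩ := 𝒱.cover.exists_eq y
    obtain ⟨i, rfl⟩ : ∃ i, k i = j := ⟨⟨e j⟩, e.symm_apply_apply j⟩
    exact ⟨(Sigma.ι (fun i => 𝒱.cover.X (k i)) i).base z, by
      rw [← Scheme.Hom.comp_apply, Sigma.ι_desc]; exact hz⟩
  · exact (IsZariskiLocalAtSource.iff_of_openCover (P := @Flat) (sigmaOpenCover _)).mpr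
      fun j => by
        change Flat (Sigma.ι (fun i => 𝒱.cover.X (k i)) j ≫ Sigma.desc F)
        rw [Sigma.ι_desc]; exact hflat j
  · have : ∀ j, IsAffine (𝒱.cover.X (k j)) := fun j => inferInstanceAs (IsAffine (Spec (𝒱.X (k j))))
    exact inferInstance

/-- Restricting a base change along an open immersion keeps a Zariski-local property. -/
theorem of_isOpenImmersion_comp (P : MorphismProperty Scheme.{u}) [IsZariskiLocalAtTarget P]
    {X Y W W' : Scheme.{u}} (f : X ⟶ Y) (g : W ⟶ Y) (a : W' ⟶ W) [IsOpenImmersion a]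
    (h : P (pullback.snd f g)) : P (pullback.snd f (a ≫ g)) := by
  refine IsZariskiLocalAtTarget.of_isPullback (iY := a)
    (iX := pullback.map f (a ≫ g) f g (𝟙 X) a (𝟙 Y) (by simp) (by simp)) ?_ h
  refine IsPullback.of_right (h₁₂ := pullback.fst f g) (v₁₃ := f) (h₂₂ := g) ?_
    (by simp only [pullback.map, pullback.lift_snd]) (IsPullback.of_hasPullback f g)
  simpa only [pullback.map, pullback.lift_fst, Category.comp_id] using IsPullback.of_hasPullback f (a ≫ g)

theorem of_eq (P : MorphismProperty Scheme.{u}) {X Y W : Scheme.{u}} (f : X ⟶ Y) {g g' : W ⟶ Y}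
    (e : g = g') (h : P (pullback.snd f g)) : P (pullback.snd f g') := by
  subst e; exact h

/-- A Zariski-local property descending along surjective flat quasi-compact maps descends along
fpqc covers. -/
theorem of_fpqcCover (P : MorphismProperty Scheme.{u}) [IsZariskiLocalAtTarget P]
    (hP : P.DescendsAlong SFQ) {X Y : Scheme.{u}} (f : X ⟶ Y)
    (𝒰 : Scheme.Cover Scheme.fpqcPrecoverage Y) (h : ∀ i, P (pullback.snd f (𝒰.f i))) : P f := by
  wlog hY : IsAffine Y generalizing X Y
  · rw [IsZariskiLocalAtTarget.iff_of_openCover (P := P) Y.affineCover]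
    intro j
    refine this (Y.affineCover.pullbackHom f j) (𝒰.pullback₁ (Y.affineCover.f j)) (fun i => ?_)
      inferInstance
    change P (pullback.snd (pullback.snd f (Y.affineCover.f j))
      (pullback.fst (Y.affineCover.f j) (𝒰.f i)))
    rw [← P.cancel_left_of_respectsIso (pullbackLeftPullbackSndIso f _ _).inv,
      pullbackLeftPullbackSndIso_inv_snd_snd]
    exact of_eq P f pullback.condition.symm (of_isOpenImmersion_comp P f (𝒰.f i) _ (h i))
  obtain ⟨m, _, W, _, s, a, ha, hg⟩ := exists_affine_refinement 𝒰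
  refine hP.of_isPullback (IsPullback.of_hasPullback f (Sigma.desc fun j => a j ≫ 𝒰.f (s j))).flip hg ?_
  rw [IsZariskiLocalAtTarget.iff_of_openCover (P := P) (sigmaOpenCover W)]
  intro j
  change P (pullback.snd (pullback.snd f (Sigma.desc fun j => a j ≫ 𝒰.f (s j))) (Sigma.ι W j))
  rw [← P.cancel_left_of_respectsIso (pullbackLeftPullbackSndIso f _ _).inv,
    pullbackLeftPullbackSndIso_inv_snd_snd]
  have := ha j
  exact of_eq P f (Sigma.ι_desc _ j).symm (of_isOpenImmersion_comp P f (𝒰.f (s j)) (a j) (h (s j)))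

end Groth.DescentBase
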