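import Mathlib
import Groth.Agent.VarietyBC.TensorGeom

/-! Products over a field with geometrically reduced schemes. -/

set_option autoImplicit false

open CategoryTheory CategoryTheory.Limits AlgebraicGeometry TensorProduct

namespace Groth.DescentBase

universe u

theorem isReduced_pullback_spec {k A B : Type u} [Field k] [CommRing A] [CommRing B]
    [Algebra k A] [Algebra k B] (h : _root_.IsReduced (A ⊗[k] B)) :
    AlgebraicGeometry.IsReduced (pullback (Spec.map (CommRingCat.ofHom (algebraMap k A)))
      (Spec.map (CommRingCat.ofHom (algebraMap k B)))) :=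
  isReduced_of_isOpenImmersion (pullbackSpecIso k A B).hom

theorem isReduced_pullback_spec_of_forall {k A B : Type u} [Field k] [CommRing A] [CommRing B]
    [Algebra k A] [Algebra k B] [_root_.IsReduced B]
    (hX : ∀ (F : Type u) [Field F] [Algebra k F], AlgebraicGeometry.IsReduced
      (pullback (Spec.map (CommRingCat.ofHom (algebraMap k A)))
        (Spec.map (CommRingCat.ofHom (algebraMap k F))))) :
    AlgebraicGeometry.IsReduced (pullback (Spec.map (CommRingCat.ofHom (algebraMap k A)))
      (Spec.map (CommRingCat.ofHom (algebraMap k B)))) := by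
  refine isReduced_pullback_spec (Groth.VarietyBC.isReduced_tensor_of_fields fun F _ _ => ?_)
  haveI := hX F
  exact (affine_isReduced_iff (CommRingCat.of _)).mp
    (isReduced_of_isOpenImmersion (pullbackSpecIso k A F).inv)

theorem isReduced_pullback_spec_map {k : Type u} [Field k] {RA RB : CommRingCat.{u}}
    (φ : CommRingCat.of k ⟶ RA) (ψ : CommRingCat.of k ⟶ RB)
    (hS : AlgebraicGeometry.IsReduced (Spec RB))
    (hX : ∀ (F : Type u) [Field F] (χ : Spec (CommRingCat.of F) ⟶ Spec (CommRingCat.of k)),
      AlgebraicGeometry.IsReduced (pullback (Spec.map φ) χ)) :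
    AlgebraicGeometry.IsReduced (pullback (Spec.map φ) (Spec.map ψ)) := by
  letI := φ.hom.toAlgebra
  letI := ψ.hom.toAlgebra
  haveI : _root_.IsReduced RB := (affine_isReduced_iff _).mp hS
  exact isReduced_pullback_spec_of_forall (k := k) (A := RA) (B := RB) fun F _ _ =>
    hX F (Spec.map (CommRingCat.ofHom (algebraMap k F)))

/-- `X ×_k S` is reduced for `X` geometrically reduced and `S` reduced. -/
theorem isReduced_pullback_of_geometricallyReduced {k : Type u} [Field k] {X S : Scheme.{u}}
    (f : X ⟶ Spec (CommRingCat.of k)) (g : S ⟶ Spec (CommRingCat.of k)) [GeometricallyReduced f]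
    [AlgebraicGeometry.IsReduced S] : AlgebraicGeometry.IsReduced (pullback f g) := by
  let 𝒰 := Scheme.Pullback.openCoverOfLeftRight X.affineCover S.affineCover f g
  suffices ∀ i, AlgebraicGeometry.IsReduced (𝒰.X i) from IsReduced.of_openCover _ 𝒰
  rintro ⟨i, j⟩
  have hS : AlgebraicGeometry.IsReduced (S.affineCover.X j) :=
    isReduced_of_isOpenImmersion (S.affineCover.f j)
  have hX : ∀ (K : Type u) [Field K] (φ : Spec (CommRingCat.of K) ⟶ Spec (CommRingCat.of k)),
      AlgebraicGeometry.IsReduced (pullback (X.affineCover.f i ≫ f) φ) := by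
    intro K _ φ
    have := GeometricallyReduced.geometrically_isReduced (f := f) φ _ _ (IsPullback.of_hasPullback f φ)
    exact isReduced_of_isOpenImmersion (pullback.map (X.affineCover.f i ≫ f) φ f φ
      (X.affineCover.f i) (𝟙 _) (𝟙 _) (by simp) (by simp))
  change AlgebraicGeometry.IsReduced (pullback (X.affineCover.f i ≫ f) (S.affineCover.f j ≫ g))
  revert hX hS
  generalize X.affineCover.f i ≫ f = a
  generalize S.affineCover.f j ≫ g = b
  intro hS hX
  obtain ⟨φ, rfl⟩ := Spec.map_surjective a
  obtain ⟨ψ, rfl⟩ := Spec.map_surjective b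
  exact isReduced_pullback_spec_map φ ψ hS hX

/-- The spectrum of a geometrically reduced algebra is geometrically reduced. -/
theorem geometricallyReduced_spec {k A : Type u} [Field k] [CommRing A] [Algebra k A]
    [Algebra.IsGeometricallyReduced k A] :
    GeometricallyReduced (Spec.map (CommRingCat.ofHom (algebraMap k A))) := by
  refine ⟨fun K _ χ Z fst snd h => ?_⟩
  obtain ⟨χ', rfl⟩ := Spec.map_surjective χ
  letI := χ'.hom.toAlgebra
  haveI := isReduced_pullback_spec (k := k) (A := A) (B := K)
    Groth.VarietyBC.isReduced_tensor_of_isGeometricallyReduced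
  exact isReduced_of_isOpenImmersion h.isoPullback.hom

theorem geometricallyReduced_pullback {k : Type u} [Field k] {X Y : Scheme.{u}}
    (f : X ⟶ Spec (CommRingCat.of k)) (g : Y ⟶ Spec (CommRingCat.of k)) [GeometricallyReduced f]
    [GeometricallyReduced g] : GeometricallyReduced (pullback.fst f g ≫ f) := by
  refine ⟨fun K _ χ Z fst snd h => ?_⟩
  haveI : AlgebraicGeometry.IsReduced (pullback g χ) :=
    GeometricallyReduced.geometrically_isReduced (f := g) χ _ _ (IsPullback.of_hasPullback g χ)
  haveI : AlgebraicGeometry.IsReduced (pullback f (pullback.fst g χ ≫ g)) :=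
    isReduced_pullback_of_geometricallyReduced f _
  let e : pullback (pullback.snd f g) (pullback.fst g χ) ≅ pullback f (pullback.fst g χ ≫ g) :=
    pullbackLeftPullbackSndIso f g (pullback.fst g χ)
  have h1 : IsPullback (pullback.fst (pullback.snd f g) (pullback.fst g χ))
      (pullback.snd (pullback.snd f g) (pullback.fst g χ) ≫ pullback.snd g χ)
      (pullback.fst f g ≫ f) χ := by
    rw [pullback.condition (f := f) (g := g)]
    exact ((IsPullback.of_hasPullback _ _).flip.paste_horiz (IsPullback.of_hasPullback g χ).flip).flip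
  haveI : AlgebraicGeometry.IsReduced (pullback (pullback.snd f g) (pullback.fst g χ)) :=
    isReduced_of_isOpenImmersion e.hom
  exact isReduced_of_isOpenImmersion (h.isoIsPullback _ _ h1).hom

end Groth.DescentBase
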