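import Mathlib.RingTheory.Flat.Basic
import Mathlib.RingTheory.Ideal.Quotient.Operations
import Mathlib.RingTheory.TensorProduct.Maps
import Mathlib.LinearAlgebra.TensorProduct.Pi
import Mathlib.LinearAlgebra.TensorProduct.RightExactness
import Mathlib.LinearAlgebra.Quotient.Basic
import Mathlib.RingTheory.Spectrum.Prime.Basic

/-!
# The Amitsur equalizer for a finite flat covering family of algebras
-/

set_option autoImplicit false

universe u v

open TensorProduct

namespace Groth.DescentBase

variable {A : Type u} [CommRing A] {K : Type v} [Finite K] {B : K → Type u}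
  [∀ k, CommRing (B k)] [∀ k, Algebra A (B k)] [∀ k, Module.Flat A (B k)]
  {P : Type u} [AddCommGroup P] [Module A P]

variable (A B P) in
/-- The difference of the two pullbacks of the `k`-th and `l`-th components. -/
noncomputable def amitsurDiff (k l : K) :
    ((j : K) → B j ⊗[A] P) →ₗ[A] B k ⊗[A] (B l ⊗[A] P) :=
  LinearMap.lTensor (B k) (TensorProduct.mk A (B l) P 1) ∘ₗ LinearMap.proj k -
    TensorProduct.mk A (B k) (B l ⊗[A] P) 1 ∘ₗ LinearMap.proj l

/-- A compatible family in `B k ⊗ P` for a flat covering family of algebras comes from `P`. -/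
theorem exists_eq_one_tmul_of_compat
    (hcov : ∀ m : Ideal A, m.IsMaximal →
      ∃ k, ∃ q : Ideal (B k), q.IsPrime ∧ q.comap (algebraMap A (B k)) = m)
    (e : ∀ k, B k ⊗[A] P)
    (hcomp : ∀ k l, LinearMap.lTensor (B k) (TensorProduct.mk A (B l) P 1) (e k) = 1 ⊗ₜ e l) :
    ∃ p : P, ∀ k, e k = 1 ⊗ₜ p := by
  classical
  let _ := Fintype.ofFinite K
  let C : Submodule A ((k : K) → B k ⊗[A] P) :=
    ⨅ (k) (l), LinearMap.ker (amitsurDiff A B P k l)
  have memC : ∀ x, x ∈ C ↔ ∀ k l,
      LinearMap.lTensor (B k) (TensorProduct.mk A (B l) P 1) (x k) = 1 ⊗ₜ x l := by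
    intro x
    simp [C, amitsurDiff, sub_eq_zero]
  let δ : P →ₗ[A] C := LinearMap.codRestrict C
    (LinearMap.pi fun k => TensorProduct.mk A (B k) P 1) fun p => (memC _).2 fun k l => by simp
  let x : C := ⟨e, (memC e).2 hcomp⟩
  suffices h : x ∈ LinearMap.range δ by
    obtain ⟨p, hp⟩ := h
    exact ⟨p, fun k => (congrFun (congrArg Subtype.val hp) k).symm⟩
  let hC : AddCommGroup C := Submodule.addCommGroup C
  let Q := C ⧸ LinearMap.range δ
  let g : A →ₗ[A] Q := LinearMap.toSpanSingleton A Q (Submodule.Quotient.mk x)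
  let I : Ideal A := LinearMap.ker g
  suffices hI : I = ⊤ by
    have : g 1 = 0 := by rw [← LinearMap.mem_ker]; exact (Ideal.eq_top_iff_one _).mp hI
    simpa [g, Q] using this
  by_contra hI
  obtain ⟨m, hm, hIm⟩ := Ideal.exists_le_maximal I hI
  obtain ⟨k, q, hq, hqm⟩ := hcov m hm
  -- `1 ⊗ x` is the image of the component `e k`
  have hw : LinearMap.lTensor (B k) δ (e k) = 1 ⊗ₜ x := by
    refine Module.Flat.lTensor_preserves_injective_linearMap (M := B k) C.subtype
      C.injective_subtype ?_
    refine (TensorProduct.piRight A A (B k) fun l => B l ⊗[A] P).injective (funext fun l => ?_)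
    rw [← LinearMap.comp_apply, ← LinearMap.lTensor_comp]
    have key : ∀ z : B k ⊗[A] P,
        TensorProduct.piRight A A (B k) (fun l => B l ⊗[A] P)
          (LinearMap.lTensor (B k) (C.subtype ∘ₗ δ) z) l =
        LinearMap.lTensor (B k) (TensorProduct.mk A (B l) P 1) z := by
      intro z
      induction z using TensorProduct.induction_on with
      | zero => simp
      | tmul b p => simp [δ]
      | add a b ha hb => simp only [map_add, Pi.add_apply, ha, hb]
    rw [key]
    simp [x, hcomp k l]
  -- the class of `x` is killed after tensoring with `B k`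
  let gbar : (A ⧸ I) →ₗ[A] Q := Submodule.liftQ I g le_rfl
  have hgbar : Function.Injective gbar := by
    exact LinearMap.ker_eq_bot.1 (Submodule.ker_liftQ_eq_bot _ _ _ le_rfl)
  have hz : (1 : B k) ⊗ₜ[A] (1 : A ⧸ I) = 0 := by
    refine Module.Flat.lTensor_preserves_injective_linearMap (M := B k) gbar hgbar ?_
    rw [LinearMap.lTensor_tmul, map_zero]
    have : gbar 1 = Submodule.Quotient.mk x :=
      (Submodule.liftQ_apply I g (1 : A)).trans (one_smul A _)
    rw [this]
    calc (1 : B k) ⊗ₜ[A] (Submodule.Quotient.mk x : Q)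
        = LinearMap.lTensor (B k) (LinearMap.range δ).mkQ (1 ⊗ₜ x) := rfl
      _ = LinearMap.lTensor (B k) ((LinearMap.range δ).mkQ ∘ₗ δ) (e k) := by
          rw [← hw, LinearMap.lTensor_comp, LinearMap.comp_apply]
      _ = 0 := by rw [LinearMap.range_mkQ_comp, LinearMap.lTensor_zero, LinearMap.zero_apply]
  have hIq : I ≤ q.comap (algebraMap A (B k)) := hqm ▸ hIm
  let f : B k ⊗[A] (A ⧸ I) →ₐ[A] B k ⧸ q :=
    Algebra.TensorProduct.lift (Ideal.Quotient.mkₐ A q)
      (Ideal.quotientMapₐ q (Algebra.ofId A (B k)) hIq) fun _ _ => Commute.all _ _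
  have h1 : (1 : B k ⧸ q) = 0 := by
    rw [← map_one f, Algebra.TensorProduct.one_def, hz, map_zero]
  exact hq.ne_top (Ideal.Quotient.zero_eq_one_iff.mp h1.symm)

end Groth.DescentBase
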