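import Groth.Agent.DescentBase.El
import Groth.Agent.DescentBase.Amitsur

/-!
# Pairs of affine pieces over an affine open, and descent of sections of a quasi-coherent module
-/

set_option autoImplicit false
set_option backward.isDefEq.respectTransparency.types false

universe u

open CategoryTheory Limits AlgebraicGeometry Opposite TopologicalSpace TensorProduct

namespace Groth.DescentBase

open Groth.QCohMod (res res_res res_self res_app sectionsAlg pullSecEquiv)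

variable {X Z Z₁ Z₂ T : Scheme.{u}}

/-- The morphism from `Spec R` to an affine scheme defined by a ring map. -/
noncomputable def fromRing [IsAffine Z] {R : CommRingCat.{u}} (φ : Γ(Z, ⊤) ⟶ R) : Spec R ⟶ Z :=
  Spec.map φ ≫ Z.isoSpec.inv

theorem fromRing_appTop [IsAffine Z] {R : CommRingCat.{u}} (φ : Γ(Z, ⊤) ⟶ R) :
    (fromRing φ).appTop = φ ≫ (Scheme.ΓSpecIso R).inv := by
  have h : Z.isoSpec.inv.appTop = (Scheme.ΓSpecIso Γ(Z, ⊤)).inv := by
    rw [← cancel_mono (Scheme.ΓSpecIso Γ(Z, ⊤)).hom, Iso.inv_hom_id]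
    calc Z.isoSpec.inv.appTop ≫ (Scheme.ΓSpecIso Γ(Z, ⊤)).hom
        = Z.isoSpec.inv.appTop ≫ Z.isoSpec.hom.appTop := by
          rw [Scheme.isoSpec_hom, Scheme.toSpecΓ_appTop]
      _ = 𝟙 _ := by rw [← Scheme.Hom.comp_appTop, Iso.hom_inv_id, Scheme.Hom.id_appTop]
  rw [fromRing, Scheme.Hom.comp_appTop, h, ← Scheme.ΓSpecIso_inv_naturality]

/-- A morphism from an affine scheme into an affine open is given by its ring map. -/
theorem eq_SpecMap_fromSpec [IsAffine Z] (c : Z ⟶ X) {U : X.Opens} (hU : IsAffineOpen U)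
    (hc : ⊤ ≤ c ⁻¹ᵁ U) : Z.isoSpec.inv ≫ c = Spec.map (c.appLE U ⊤ hc) ≫ hU.fromSpec := by
  rw [IsAffineOpen.SpecMap_appLE_fromSpec c hU (isAffineOpen_top Z) hc, IsAffineOpen.fromSpec_top]

theorem appLE_comp_appTop (g : T ⟶ Z) (c : Z ⟶ X) (q : T ⟶ X) (e : g ≫ c = q) {U : X.Opens}
    (hc : ⊤ ≤ c ⁻¹ᵁ U) :
    c.appLE U ⊤ hc ≫ g.appTop = q.appLE U ⊤ (by subst e; exact g.preimage_mono hc) := by
  subst e
  have h : g.appTop = g.appLE ⊤ ⊤ le_rfl := by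
    simp [Scheme.Hom.appLE, Scheme.Hom.appTop]
  rw [h, Scheme.Hom.appLE_comp_appLE]

section pair

variable {U : X.Opens} (hU : IsAffineOpen U) [IsAffine Z₁] [IsAffine Z₂]
  (c₁ : Z₁ ⟶ X) (h₁ : ⊤ ≤ c₁ ⁻¹ᵁ U) (c₂ : Z₂ ⟶ X) (h₂ : ⊤ ≤ c₂ ⁻¹ᵁ U)

/-- The ring of a pair of affine pieces. -/
noncomputable abbrev pairRing : CommRingCat.{u} :=
  letI := sectionsAlg c₁ h₁
  letI := sectionsAlg c₂ h₂
  CommRingCat.of (Γ(Z₁, ⊤) ⊗[Γ(X, U)] Γ(Z₂, ⊤))

/-- The fibre product of a pair of affine pieces over an affine open. -/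
noncomputable abbrev pairScheme : Scheme.{u} := Spec (pairRing c₁ h₁ c₂ h₂)

/-- The inclusion of the first ring. -/
noncomputable def pairInl : Γ(Z₁, ⊤) ⟶ pairRing c₁ h₁ c₂ h₂ :=
  letI := sectionsAlg c₁ h₁
  letI := sectionsAlg c₂ h₂
  CommRingCat.ofHom (Algebra.TensorProduct.includeLeftRingHom (A := Γ(Z₁, ⊤)) (R := Γ(X, U))
    (B := Γ(Z₂, ⊤)))

/-- The inclusion of the second ring. -/
noncomputable def pairInr : Γ(Z₂, ⊤) ⟶ pairRing c₁ h₁ c₂ h₂ :=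
  letI := sectionsAlg c₁ h₁
  letI := sectionsAlg c₂ h₂
  CommRingCat.ofHom (Algebra.TensorProduct.includeRight (A := Γ(Z₁, ⊤)) (R := Γ(X, U))
    (B := Γ(Z₂, ⊤))).toRingHom

/-- The first projection of a pair. -/
noncomputable def pairFst : pairScheme c₁ h₁ c₂ h₂ ⟶ Z₁ := fromRing (pairInl c₁ h₁ c₂ h₂)

/-- The second projection of a pair. -/
noncomputable def pairSnd : pairScheme c₁ h₁ c₂ h₂ ⟶ Z₂ := fromRing (pairInr c₁ h₁ c₂ h₂)

include hU in
theorem pair_condition : pairFst c₁ h₁ c₂ h₂ ≫ c₁ = pairSnd c₁ h₁ c₂ h₂ ≫ c₂ := by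
  let _ := sectionsAlg c₁ h₁
  let _ := sectionsAlg c₂ h₂
  simp only [pairFst, pairSnd, fromRing, Category.assoc]
  rw [eq_SpecMap_fromSpec c₁ hU h₁, eq_SpecMap_fromSpec c₂ hU h₂, ← Spec.map_comp_assoc,
    ← Spec.map_comp_assoc]
  congr 2
  ext a
  exact ((Algebra.TensorProduct.includeLeft (R := Γ(X, U)) (S := Γ(X, U)) (A := Γ(Z₁, ⊤))
    (B := Γ(Z₂, ⊤))).commutes a).trans ((Algebra.TensorProduct.includeRight (R := Γ(X, U))
    (A := Γ(Z₁, ⊤)) (B := Γ(Z₂, ⊤))).commutes a).symm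

theorem pair_le : ⊤ ≤ (pairFst c₁ h₁ c₂ h₂ ≫ c₁) ⁻¹ᵁ U :=
  (pairFst c₁ h₁ c₂ h₂).preimage_mono h₁

/-- The morphism to a pair defined by morphisms to the two pieces. -/
theorem exists_pairLift (g₁ : T ⟶ Z₁) (g₂ : T ⟶ Z₂) (e : g₁ ≫ c₁ = g₂ ≫ c₂) :
    ∃ t : T ⟶ pairScheme c₁ h₁ c₂ h₂,
      t ≫ pairFst c₁ h₁ c₂ h₂ = g₁ ∧ t ≫ pairSnd c₁ h₁ c₂ h₂ = g₂ := by
  let _ := sectionsAlg c₁ h₁
  let _ := sectionsAlg c₂ h₂
  let _ := sectionsAlg (g₁ ≫ c₁) (V := ⊤) (U := U) (g₁.preimage_mono h₁)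
  let φ₁ : Γ(Z₁, ⊤) →ₐ[Γ(X, U)] Γ(T, ⊤) :=
    { g₁.appTop.hom with
      commutes' := fun a => ConcreteCategory.congr_hom (appLE_comp_appTop g₁ c₁ _ rfl h₁) a }
  let φ₂ : Γ(Z₂, ⊤) →ₐ[Γ(X, U)] Γ(T, ⊤) :=
    { g₂.appTop.hom with
      commutes' := fun a => ConcreteCategory.congr_hom (appLE_comp_appTop g₂ c₂ _ e.symm h₂) a }
  let ψ : pairRing c₁ h₁ c₂ h₂ ⟶ Γ(T, ⊤) :=
    CommRingCat.ofHom (Algebra.TensorProduct.productMap φ₁ φ₂).toRingHom
  refine ⟨T.toSpecΓ ≫ Spec.map ψ, ?_, ?_⟩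
  · have h : pairInl c₁ h₁ c₂ h₂ ≫ ψ = g₁.appTop := by
      ext b
      exact Algebra.TensorProduct.productMap_left_apply φ₁ φ₂ b
    rw [pairFst, fromRing, Category.assoc, ← Spec.map_comp_assoc, h,
      ← Scheme.toSpecΓ_naturality_assoc, ← Scheme.isoSpec_hom, Iso.hom_inv_id, Category.comp_id]
  · have h : pairInr c₁ h₁ c₂ h₂ ≫ ψ = g₂.appTop := by
      ext b
      exact Algebra.TensorProduct.productMap_right_apply φ₁ φ₂ b
    rw [pairSnd, fromRing, Category.assoc, ← Spec.map_comp_assoc, h,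
      ← Scheme.toSpecΓ_naturality_assoc, ← Scheme.isoSpec_hom, Iso.hom_inv_id, Category.comp_id]

theorem exists_pair_point (z₁ : Z₁) (z₂ : Z₂) (e : c₁ z₁ = c₂ z₂) :
    ∃ p, pairFst c₁ h₁ c₂ h₂ p = z₁ ∧ pairSnd c₁ h₁ c₂ h₂ p = z₂ := by
  obtain ⟨w, hw₁, hw₂⟩ := Scheme.Pullback.exists_preimage_pullback (f := c₁) (g := c₂) z₁ z₂ e
  obtain ⟨t, ht₁, ht₂⟩ := exists_pairLift c₁ h₁ c₂ h₂ (pullback.fst c₁ c₂) (pullback.snd c₁ c₂)
    pullback.condition
  exact ⟨t w, by rw [← Scheme.Hom.comp_apply, ht₁, hw₁],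
    by rw [← Scheme.Hom.comp_apply, ht₂, hw₂]⟩

include hU in
theorem flat_appLE_of_flat (c : Z₂ ⟶ X) [Flat c] (h : ⊤ ≤ c ⁻¹ᵁ U) :
    (c.appLE U ⊤ h).hom.Flat :=
  HasRingHomProperty.appLE (P := @Flat) c inferInstance ⟨U, hU⟩ ⟨⊤, isAffineOpen_top Z₂⟩ h

include hU in
theorem flat_pairFst [Flat c₂] : Flat (pairFst c₁ h₁ c₂ h₂) := by
  let _ := sectionsAlg c₁ h₁
  let _ := sectionsAlg c₂ h₂
  have : Module.Flat Γ(X, U) Γ(Z₂, ⊤) := flat_appLE_of_flat hU c₂ h₂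
  have h : (pairInl c₁ h₁ c₂ h₂).hom.Flat := by
    change (algebraMap Γ(Z₁, ⊤) (Γ(Z₁, ⊤) ⊗[Γ(X, U)] Γ(Z₂, ⊤))).Flat
    exact RingHom.flat_algebraMap_iff.mpr inferInstance
  have : Flat (Spec.map (pairInl c₁ h₁ c₂ h₂)) :=
    (HasRingHomProperty.Spec_iff (P := @Flat)).mpr h
  exact inferInstanceAs (Flat (Spec.map (pairInl c₁ h₁ c₂ h₂) ≫ Z₁.isoSpec.inv))

end pair

/-- A compatible family of elements over affine flat pieces covering an affine open comes from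
a section of the quasi-coherent module. -/
theorem exists_el_eq_of_compat (N : X.Modules) [N.IsQuasicoherent] {U : X.Opens}
    (hU : IsAffineOpen U) {K : Type u} [Finite K] {Z : K → Scheme.{u}} [∀ k, IsAffine (Z k)]
    (c : ∀ k, Z k ⟶ X) [∀ k, Flat (c k)] (hc : ∀ k, ⊤ ≤ c k ⁻¹ᵁ U)
    (hsurj : ∀ x ∈ U, ∃ k z, c k z = x) (σ : ∀ k, El N (c k))
    (hcompat : ∀ k l, bc (pairFst (c k) (hc k) (c l) (hc l)) (c k) _ rfl (σ k) =
      bc (pairSnd (c k) (hc k) (c l) (hc l)) (c l) _ (pair_condition hU _ _ _ _).symm (σ l)) :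
    ∃ n : Γ(N, U), ∀ k, el (c k) (hc k) n = σ k := by
  letI (k : K) : Algebra Γ(X, U) Γ(Z k, ⊤) := sectionsAlg (c k) (hc k)
  have : ∀ k, Module.Flat Γ(X, U) Γ(Z k, ⊤) := fun k => flat_appLE_of_flat hU (c k) (hc k)
  let ε := fun k => pullSecEquiv (c k) N (hc k) hU (isAffineOpen_top (Z k))
  have hcov : ∀ m : Ideal Γ(X, U), m.IsMaximal →
      ∃ k, ∃ q : Ideal Γ(Z k, ⊤), q.IsPrime ∧ q.comap (algebraMap Γ(X, U) Γ(Z k, ⊤)) = m := by
    intro m hm
    have hmem : hU.fromSpec ⟨m, hm.isPrime⟩ ∈ U := by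
      change hU.fromSpec _ ∈ (U : Set X)
      rw [← hU.range_fromSpec]; exact ⟨_, rfl⟩
    obtain ⟨k, z, hz⟩ := hsurj _ hmem
    refine ⟨k, ((Z k).isoSpec.hom z).asIdeal, ((Z k).isoSpec.hom z).2, ?_⟩
    have h' : hU.fromSpec (Spec.map ((c k).appLE U ⊤ (hc k)) ((Z k).isoSpec.hom z)) =
        hU.fromSpec ⟨m, hm.isPrime⟩ := by
      rw [← hz, ← Scheme.Hom.comp_apply, ← eq_SpecMap_fromSpec (c k) hU (hc k),
        Scheme.Hom.comp_apply, ← Scheme.Hom.comp_apply (Z k).isoSpec.hom, Iso.hom_inv_id]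
      rfl
    exact congrArg PrimeSpectrum.asIdeal (hU.fromSpec.isOpenEmbedding.injective h')
  have hcomp : ∀ k l, LinearMap.lTensor Γ(Z k, ⊤) (TensorProduct.mk Γ(X, U) Γ(Z l, ⊤) Γ(N, U) 1)
      ((ε k).symm (σ k)) = 1 ⊗ₜ (ε l).symm (σ l) := by
    intro k l
    let g₁ := pairFst (c k) (hc k) (c l) (hc l)
    let g₂ := pairSnd (c k) (hc k) (c l) (hc l)
    let q := g₁ ≫ c k
    have hq : ⊤ ≤ q ⁻¹ᵁ U := pair_le _ _ _ _
    letI := sectionsAlg q hq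
    let ρ : (Γ(Z k, ⊤) ⊗[Γ(X, U)] Γ(Z l, ⊤)) →ₐ[Γ(X, U)] Γ(pairScheme (c k) (hc k) (c l) (hc l), ⊤) :=
      { (Scheme.ΓSpecIso (pairRing (c k) (hc k) (c l) (hc l))).inv.hom with
        commutes' := fun a => by
          have h := ConcreteCategory.congr_hom (appLE_comp_appTop g₁ (c k) q rfl (hc k)) a
          rw [show g₁.appTop = _ from fromRing_appTop _] at h
          exact h }
    have hρ : Function.Injective ρ :=
      (ConcreteCategory.bijective_of_isIso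
        (Scheme.ΓSpecIso (pairRing (c k) (hc k) (c l) (hc l))).inv).1
    have hρ' : Function.Bijective ρ :=
      ConcreteCategory.bijective_of_isIso
        (Scheme.ΓSpecIso (pairRing (c k) (hc k) (c l) (hc l))).inv
    let e := (TensorProduct.assoc Γ(X, U) Γ(Z k, ⊤) Γ(Z l, ⊤) Γ(N, U)).symm ≪≫ₗ
      LinearEquiv.rTensor Γ(N, U) (LinearEquiv.ofBijective ρ.toLinearMap hρ')
    let L : Γ(Z k, ⊤) ⊗[Γ(X, U)] (Γ(Z l, ⊤) ⊗[Γ(X, U)] Γ(N, U)) →+ El N q :=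
      (pullSecEquiv q N hq hU (isAffineOpen_top _)).toAddEquiv.toAddMonoidHom.comp
        e.toAddEquiv.toAddMonoidHom
    have hL : Function.Injective L :=
      (pullSecEquiv q N hq hU (isAffineOpen_top _)).injective.comp e.injective
    have Ltmul : ∀ b b' p, L (b ⊗ₜ (b' ⊗ₜ p)) = ρ (b ⊗ₜ b') • el q hq p := fun b b' p => rfl
    have hl : ∀ z, L (LinearMap.lTensor _ (TensorProduct.mk Γ(X, U) Γ(Z l, ⊤) Γ(N, U) 1) z) =
        bc g₁ (c k) q rfl (ε k z) := by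
      intro z
      induction z using TensorProduct.induction_on with
      | zero => rw [map_zero, map_zero, map_zero, bc_zero]
      | tmul b p =>
        rw [LinearMap.lTensor_tmul, TensorProduct.mk_apply, Ltmul]
        refine Eq.trans ?_ (bc_smul g₁ (c k) q rfl b _).symm
        refine Eq.trans ?_ (congrArg _ (bc_el _ _ q _ _ p).symm)
        exact congrArg (· • el q hq p)
          (ConcreteCategory.congr_hom (fromRing_appTop (pairInl (c k) (hc k) (c l) (hc l))) b).symm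
      | add a b ha hb => rw [map_add, map_add, map_add, bc_add, ha, hb]
    have hr : ∀ z, L (1 ⊗ₜ z) =
        bc g₂ (c l) q (pair_condition hU _ _ _ _).symm (ε l z) := by
      intro z
      induction z using TensorProduct.induction_on with
      | zero => rw [tmul_zero, map_zero, map_zero, bc_zero]
      | tmul b p =>
        rw [Ltmul]
        refine Eq.trans ?_ (bc_smul g₂ (c l) q _ b _).symm
        refine Eq.trans ?_ (congrArg _ (bc_el _ _ q _ _ p).symm)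
        exact congrArg (· • el q hq p)
          (ConcreteCategory.congr_hom (fromRing_appTop (pairInr (c k) (hc k) (c l) (hc l))) b).symm
      | add a b ha hb => rw [tmul_add, map_add, map_add, bc_add, ha, hb]
    refine hL ?_
    rw [hl, hr, LinearEquiv.apply_symm_apply, LinearEquiv.apply_symm_apply]
    exact hcompat k l
  obtain ⟨n, hn⟩ := exists_eq_one_tmul_of_compat (A := Γ(X, U)) (B := fun k => Γ(Z k, ⊤))
    (P := Γ(N, U)) hcov (fun k => (ε k).symm (σ k)) hcomp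
  refine ⟨n, fun k => ?_⟩
  have h := congrArg (ε k) (hn k)
  rw [LinearEquiv.apply_symm_apply] at h
  exact (h.trans (one_smul _ _)).symm

end Groth.DescentBase
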