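import Groth.Agent.DescentBase.DDElem
import Groth.Agent.DescentBase.Pieces
import Groth.Agent.PicAux.Sections

/-!
# Fpqc descent of morphisms into a quasi-coherent module
-/

set_option autoImplicit false
set_option backward.isDefEq.respectTransparency.types false

universe u

open CategoryTheory Limits AlgebraicGeometry Opposite TopologicalSpace

namespace Groth.DescentBase

open Groth.QCohMod (res res_res res_self res_app)
open Groth.PicAux (pullSec)

variable {ι : Type u} {S : Scheme.{u}} {X : ι → Scheme.{u}} {f : ∀ i, X i ⟶ S}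

/-- The pullbacks of a section form a compatible family. -/
theorem isCompat_pullSec (N : S.Modules) {U : S.Opens} (n : Γ(N, U)) :
    IsCompat ((Desc.modPF.{u}.toDescentData f).obj N) U (fun i => pullSec (f i) N n) := by
  intro i j T g₁ g₂ h h₁ h₂
  refine (flat_bijective (N := N) (f j) g₂ (g₁ ≫ f i) h.symm).1 ?_
  refine (flat_dEl_ofObj N g₁ g₂ h _ rfl _).trans ?_
  exact (flat_el (f i) g₁ _ rfl h₁ n).trans (flat_el (f j) g₂ _ h.symm h₂ n).symm

theorem pullSec_injective [∀ i, Flat (f i)] (hsurj : ∀ x, ∃ i y, f i y = x) {N : S.Modules}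
    {U : S.Opens} {m n : Γ(N, U)} (h : ∀ i, pullSec (f i) N m = pullSec (f i) N n) : m = n := by
  rw [← sub_eq_zero]
  refine eq_zero_of_pullSec f (fun x _ => hsurj x) (m - n) fun i => ?_
  exact (map_sub _ m n).trans (sub_eq_zero.2 (h i))

theorem exists_mem_range_of_fpqc (hf : Presieve.ofArrows X f ∈ Scheme.fpqcPrecoverage S) (x : S) :
    ∃ i y, f i y = x := by
  obtain ⟨U, hU, hxU, -⟩ := S.isBasis_affineOpens.exists_subset_of_mem_open
    (Set.mem_univ x) isOpen_univ
  obtain ⟨V, hV, rfl⟩ := hU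
  obtain ⟨K, -, Z, p, a, -, -, -, hs⟩ := exists_pieces f hf hV
  obtain ⟨k, z, hz⟩ := hs x hxU
  exact ⟨p k, a k z, by rw [← Scheme.Hom.comp_apply]; exact hz⟩

/-- A compatible family of sections of a quasi-coherent module over an affine open descends. -/
theorem exists_pullSec_eq_of_affine (hf : Presieve.ofArrows X f ∈ Scheme.fpqcPrecoverage S)
    (N : S.Modules) [N.IsQuasicoherent] {U : S.Opens} (hU : IsAffineOpen U)
    {s : ∀ i, Γ((Scheme.Modules.pullback (f i)).obj N, f i ⁻¹ᵁ U)}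
    (hs : IsCompat ((Desc.modPF.{u}.toDescentData f).obj N) U s) :
    ∃ n : Γ(N, U), ∀ i, pullSec (f i) N n = s i := by
  obtain ⟨K, _, Z, p, a, _, _, ha, hsurj⟩ := exists_pieces f hf hU
  let c : ∀ k, Z k ⟶ S := fun k => a k ≫ f (p k)
  have : ∀ k, Flat (c k) := fun k => inferInstanceAs (Flat (a k ≫ f (p k)))
  let σ : ∀ k, El N (c k) := fun k => flat (N := N) (f (p k)) (a k) (c k) rfl (el (a k) (ha k) (s (p k)))
  obtain ⟨n, hn⟩ := exists_el_eq_of_compat N hU c ha hsurj σ fun k l => by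
    set g₁ := pairFst (c k) (ha k) (c l) (ha l)
    set g₂ := pairSnd (c k) (ha k) (c l) (ha l)
    have hh : (g₁ ≫ a k) ≫ f (p k) = (g₂ ≫ a l) ≫ f (p l) := by
      rw [Category.assoc, Category.assoc]
      exact pair_condition hU (c k) (ha k) (c l) (ha l)
    have h₁ : ⊤ ≤ (g₁ ≫ a k) ⁻¹ᵁ f (p k) ⁻¹ᵁ U := g₁.preimage_mono (ha k)
    have h₂ : ⊤ ≤ (g₂ ≫ a l) ⁻¹ᵁ f (p l) ⁻¹ᵁ U := g₂.preimage_mono (ha l)
    refine (flat_bc (N := N) (f (p k)) g₁ (a k) (g₁ ≫ a k) rfl (c k) rfl (g₁ ≫ c k)
      (Category.assoc _ _ _) _).symm.trans ?_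
    refine Eq.trans ?_ (flat_bc (N := N) (f (p l)) g₂ (a l) (g₂ ≫ a l) rfl (c l) rfl (g₁ ≫ c k)
      (hh.symm.trans (Category.assoc _ _ _)) _)
    rw [bc_el, bc_el]
    refine (flat_dEl_ofObj N (g₁ ≫ a k) (g₂ ≫ a l) hh (g₁ ≫ c k) (Category.assoc _ _ _) _).symm.trans ?_
    exact congrArg _ (hs _ _ hh h₁ h₂)
  refine ⟨n, fun i => sub_eq_zero.1 ?_⟩
  refine IsCompat.eq_zero ((isCompat_pullSec (f := f) N n).sub hs) a ha hsurj (fun k => ?_) i
  rw [el_sub, sub_eq_zero]
  exact (flat_bijective (N := N) (f (p k)) (a k) (c k) rfl).1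
    ((flat_el (f (p k)) (a k) (c k) rfl (ha k) n).trans (hn k))

/-- A compatible family of sections of a quasi-coherent module descends. -/
theorem exists_pullSec_eq (hf : Presieve.ofArrows X f ∈ Scheme.fpqcPrecoverage S) (N : S.Modules)
    [N.IsQuasicoherent] {U : S.Opens} {s : ∀ i, Γ((Scheme.Modules.pullback (f i)).obj N, f i ⁻¹ᵁ U)}
    (hs : IsCompat ((Desc.modPF.{u}.toDescentData f).obj N) U s) :
    ∃ n : Γ(N, U), ∀ i, pullSec (f i) N n = s i := by
  have := flat_of_mem_fpqcPrecoverage hf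
  have hinj := exists_mem_range_of_fpqc hf
  let W := {W : S.Opens // IsAffineOpen W ∧ W ≤ U}
  choose n hn using fun W : W => exists_pullSec_eq_of_affine hf N W.2.1 (hs.res W.2.2)
  have hcov : U ≤ ⨆ W : W, W.1 := fun x hx => by
    obtain ⟨_, ⟨V, hV, rfl⟩, hxV, hle⟩ :=
      S.isBasis_affineOpens.exists_subset_of_mem_open hx U.2
    exact Opens.mem_iSup.2 ⟨⟨V, hV, hle⟩, hxV⟩
  obtain ⟨n', hn', -⟩ := PicAux.res_glue (M := N) (fun W : W => W.1) (fun W => W.2.2) hcov n
    fun W W' => pullSec_injective hinj fun i => by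
      rw [← PicAux.res_pullSec, ← PicAux.res_pullSec, hn W, hn W']
      exact (res_res _ _ _ _).trans (res_res _ _ _ _).symm
  refine ⟨n', fun i => ?_⟩
  refine PicAux.res_ext (fun W : W => f i ⁻¹ᵁ W.1) (fun W => (f i).preimage_mono W.2.2)
    (fun y hy => ?_) fun W => ?_
  · obtain ⟨W, hW⟩ := Opens.mem_iSup.1 (hcov (show f i y ∈ U from hy))
    exact Opens.mem_iSup.2 ⟨W, hW⟩
  · rw [PicAux.res_pullSec (f i) N W.2.2, hn' W, hn W]
    rfl

/-- Morphisms into a quasi-coherent module descend along an fpqc family. -/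
theorem toDescentData_map_bijective (hf : Presieve.ofArrows X f ∈ Scheme.fpqcPrecoverage S)
    (M N : S.Modules) [N.IsQuasicoherent] :
    Function.Bijective ((Desc.modPF.{u}.toDescentData f).map : (M ⟶ N) → _) := by
  have := flat_of_mem_fpqcPrecoverage hf
  have hinj := exists_mem_range_of_fpqc hf
  refine ⟨fun φ ψ h => ?_, fun Φ => ?_⟩
  · refine Scheme.Modules.hom_ext φ ψ fun U => ?_
    refine AddCommGrpCat.hom_ext (AddMonoidHom.ext fun m => pullSec_injective hinj fun i => ?_)
    have hi : (Scheme.Modules.pullback (f i)).map φ = (Scheme.Modules.pullback (f i)).map ψ :=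
      congrArg (fun Φ => Φ.hom i) h
    refine (PicAux.pullSec_map (f i) φ m).symm.trans ?_
    rw [hi]
    exact PicAux.pullSec_map (f i) ψ m
  · let φ : ∀ i, (Scheme.Modules.pullback (f i)).obj M ⟶ (Scheme.Modules.pullback (f i)).obj N :=
      fun i => Φ.hom i
    have hex : ∀ (U : S.Opens) (m : Γ(M, U)), ∃ n : Γ(N, U),
        ∀ i, pullSec (f i) N n = (φ i).app (f i ⁻¹ᵁ U) (pullSec (f i) M m) := by
      intro U m
      refine exists_pullSec_eq hf N fun i j T g₁ g₂ h h₁ h₂ => ?_
      refine (congrArg _ (elMap_el (φ i) g₁ h₁ _).symm).trans ?_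
      refine (dEl_elMap Φ g₁ g₂ h _).trans ?_
      exact (congrArg _ (isCompat_pullSec (f := f) M m g₁ g₂ h h₁ h₂)).trans (elMap_el (φ j) g₂ h₂ _)
    choose n hn using hex
    have hadd : ∀ U (m m' : Γ(M, U)), n U (m + m') = n U m + n U m' := fun U m m' => by
      refine pullSec_injective hinj fun i => ?_
      refine (hn _ _ i).trans (Eq.trans ?_ (map_add _ (n U m) (n U m')).symm)
      refine ((congrArg ((φ i).app (f i ⁻¹ᵁ U)) (map_add _ m m')).trans (map_add _ _ _)).trans ?_
      exact congrArg₂ (· + ·) (hn U m i).symm (hn U m' i).symm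
    have hsmul : ∀ U (r : Γ(S, U)) (m : Γ(M, U)), n U (r • m) = r • n U m := fun U r m => by
      refine pullSec_injective hinj fun i => ?_
      rw [hn, PicAux.pullSec_smul, Scheme.Modules.Hom.app_smul, ← hn U m i, PicAux.pullSec_smul]
    have hres : ∀ U V (hVU : V ≤ U) (m : Γ(M, U)), n V (res M hVU m) = res N hVU (n U m) :=
      fun U V hVU m => by
        refine pullSec_injective hinj fun i => ?_
        refine (hn V _ i).trans ?_
        refine Eq.trans ?_ (PicAux.res_pullSec (f i) N hVU (n U m))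
        rw [hn U m i]
        refine Eq.trans ?_ (res_app (φ i) _ _).symm
        exact congrArg _ (PicAux.res_pullSec (f i) M hVU m).symm
    let ψ : M ⟶ N := ⟨{
      app := fun U => ModuleCat.ofHom (X := M.val.obj U) (Y := N.val.obj U)
        { toFun := n U.unop
          map_add' := hadd U.unop
          map_smul' := hsmul U.unop }
      naturality := fun {U V} i => by
        ext m
        exact hres U.unop V.unop (leOfHom i.unop) m }⟩
    refine ⟨ψ, Pseudofunctor.DescentData.hom_ext fun i => ?_⟩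
    change (Scheme.Modules.pullback (f i)).map ψ = φ i
    refine pullback_hom_ext (f i) fun U m => ?_
    exact (PicAux.pullSec_map (f i) ψ m).trans (hn U m i)

end Groth.DescentBase
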