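import Mathlib

/-! Morphisms to a discrete scheme are universally open. -/

set_option autoImplicit false
set_option backward.isDefEq.respectTransparency.types false

open CategoryTheory CategoryTheory.Limits AlgebraicGeometry MorphismProperty

namespace Groth.DescentBase

universe u

/-- Universal openness can be checked after a surjective universally closed base change. -/
theorem universallyOpen_of_surjective_universallyClosed {X Y Y' : Scheme.{u}} (f : X ⟶ Y)
    (e : Y' ⟶ Y) [Surjective e] [UniversallyClosed e] [UniversallyOpen (pullback.snd f e)] :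
    UniversallyOpen f := by
  refine ⟨universally_mk' _ _ fun {T} g _ U hU => ?_⟩
  let h := pullback.fst g e
  have hq : Topology.IsQuotientMap h.base :=
    h.isClosedMap.isQuotientMap h.continuous h.surjective
  let k := pullback.map (pullback.snd g e) (pullback.snd f e) g f
    (pullback.fst g e) (pullback.fst f e) e pullback.condition.symm pullback.condition.symm
  have hsq : IsPullback k (pullback.fst (pullback.snd g e) (pullback.snd f e)) (pullback.fst g f)
      (pullback.fst g e) := by
    have hbig : IsPullback (pullback.snd (pullback.snd g e) (pullback.snd f e) ≫ pullback.fst f e)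
        (pullback.fst (pullback.snd g e) (pullback.snd f e)) f (pullback.snd g e ≫ e) :=
      (IsPullback.of_hasPullback (pullback.snd g e) (pullback.snd f e)).flip.paste_horiz
        (IsPullback.of_hasPullback f e)
    rw [← pullback.condition] at hbig
    refine IsPullback.of_right ?_ (by simp only [k, pullback.map, pullback.lift_fst])
      (IsPullback.of_hasPullback g f).flip
    simpa only [k, pullback.map, pullback.lift_snd] using hbig
  change IsOpen ((pullback.fst g f).base '' U)
  rw [← hq.isOpen_preimage, ← Scheme.image_preimage_eq_of_isPullback hsq]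
  exact (pullback.fst (pullback.snd g e) (pullback.snd f e)).isOpenMap _ (hU.preimage k.continuous)

theorem isOpenMap_pullback_fst_spec (K A B : Type u) [Field K] [CommRing A] [CommRing B]
    [Algebra K A] [Algebra K B] :
    IsOpenMap (pullback.fst (Spec.map (CommRingCat.ofHom (algebraMap K B)))
      (Spec.map (CommRingCat.ofHom (algebraMap K A)))).base := by
  rw [← pullbackSpecIso_hom_fst K B A, Scheme.Hom.comp_base, TopCat.coe_comp]
  refine IsOpenMap.comp ?_ (pullbackSpecIso K B A).hom.isOpenMap
  exact PrimeSpectrum.isOpenMap_comap_algebraMap_tensorProduct_of_field (K := K) (A := B) (B := A)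

/-- Any morphism to the spectrum of a field is universally open. -/
theorem universallyOpen_of_field (K : Type u) [Field K] {X : Scheme.{u}}
    (f : X ⟶ Spec (.of K)) : UniversallyOpen f := by
  wlog hX : ∃ A, X = Spec A generalizing X
  · exact (IsZariskiLocalAtSource.iff_of_openCover (P := @UniversallyOpen) X.affineCover).mpr
      fun i => this _ ⟨_, rfl⟩
  obtain ⟨A, rfl⟩ := hX
  refine ⟨universally_mk' _ _ fun {T} g _ U hU => ?_⟩
  obtain ⟨φ, rfl⟩ := Spec.map_surjective f
  -- cover `T` by affines
  change IsOpen ((pullback.fst g (Spec.map φ)).base '' U)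
  rw [T.affineCover.isOpenCover_opensRange.isOpen_iff_inter]
  intro j
  let a := T.affineCover.f j
  let m : pullback (a ≫ g) (Spec.map φ) ⟶ pullback g (Spec.map φ) :=
    pullback.map _ _ _ _ a (𝟙 _) (𝟙 _) (by simp) (by simp)
  have hsq : IsPullback m (pullback.fst (a ≫ g) (Spec.map φ)) (pullback.fst g (Spec.map φ)) a := by
    refine IsPullback.of_right ?_ (by simp only [m, pullback.map, pullback.lift_fst])
      (IsPullback.of_hasPullback g (Spec.map φ)).flip
    simpa only [m, pullback.map, pullback.lift_snd, Category.comp_id] using
      (IsPullback.of_hasPullback (a ≫ g) (Spec.map φ)).flip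
  have hopen : IsOpenMap (pullback.fst (a ≫ g) (Spec.map φ)).base := by
    obtain ⟨ψ, hψ⟩ : ∃ ψ : (CommRingCat.of K) ⟶ _, Spec.map ψ = (T.affineCover.X j).isoSpec.inv ≫ a ≫ g :=
      Spec.map_surjective _
    algebraize [φ.hom, ψ.hom]
    have h0 := isOpenMap_pullback_fst_spec K A Γ(T.affineCover.X j, ⊤)
    let t : pullback ((T.affineCover.X j).isoSpec.inv ≫ a ≫ g) (Spec.map φ) ⟶
        pullback (a ≫ g) (Spec.map φ) :=
      pullback.map _ _ _ _ (T.affineCover.X j).isoSpec.inv (𝟙 _) (𝟙 _) (by simp) (by simp)
    have h1 : IsOpenMap (pullback.fst ((T.affineCover.X j).isoSpec.inv ≫ a ≫ g) (Spec.map φ)).base := by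
      rw [← hψ]; exact h0
    intro V hV
    have hV' := h1 _ (hV.preimage t.continuous)
    have hts : IsPullback t (pullback.fst ((T.affineCover.X j).isoSpec.inv ≫ a ≫ g) (Spec.map φ))
        (pullback.fst (a ≫ g) (Spec.map φ)) (T.affineCover.X j).isoSpec.inv := by
      refine IsPullback.of_right ?_ (by simp only [t, pullback.map, pullback.lift_fst])
        (IsPullback.of_hasPullback (a ≫ g) (Spec.map φ)).flip
      simpa only [t, pullback.map, pullback.lift_snd, Category.comp_id] using
        (IsPullback.of_hasPullback ((T.affineCover.X j).isoSpec.inv ≫ a ≫ g) (Spec.map φ)).flip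
    rw [Scheme.image_preimage_eq_of_isPullback hts] at hV'
    exact ((T.affineCover.X j).isoSpec.inv.homeomorph.isOpen_preimage).mp hV'
  have h2 := hopen _ (hU.preimage m.continuous)
  rw [Scheme.image_preimage_eq_of_isPullback hsq] at h2
  have h3 : IsOpen (a.base '' (a.base ⁻¹' ((pullback.fst g (Spec.map φ)).base '' U))) :=
    a.isOpenEmbedding.isOpenMap _ h2
  rw [Set.image_preimage_eq_inter_range] at h3
  exact h3

/-- Every morphism to a discrete scheme is universally open. -/
theorem universallyOpen_of_discrete {X Y : Scheme.{u}} (f : X ⟶ Y) [DiscreteTopology Y] :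
    UniversallyOpen f := by
  let U : Y → Y.Opens := fun y => ⟨{y}, isOpen_discrete _⟩
  refine (IsZariskiLocalAtTarget.iff_of_iSup_eq_top (P := @UniversallyOpen) U ?_).mpr fun y => ?_
  · ext z; simp [U]
  let p : U y := ⟨y, rfl⟩
  let e := (U y : Scheme.{u}).fromSpecResidueField p
  have hsub : ∀ z : (U y : Scheme.{u}), z = p := fun z => Subtype.ext z.2
  have : Surjective e := ⟨fun z => by
    have : p ∈ Set.range e.base := by rw [Scheme.range_fromSpecResidueField]; rfl
    rwa [hsub z]⟩
  have : IsClosedImmersion e := IsClosedImmersion.of_isPreimmersion _ (by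
    rw [Set.range_eq_univ.mpr e.surjective]; exact isClosed_univ)
  have : UniversallyOpen (pullback.snd (f ∣_ U y) e) := universallyOpen_of_field _ _
  exact universallyOpen_of_surjective_universallyClosed _ e

end Groth.DescentBase
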