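import Groth.Agent.DescentBase.DDElem
import Groth.Agent.PicAux.Sections

/-!
# The module of compatible families of a descent datum

For a descent datum `D` of modules relative to `f i : X i ⟶ S`, `compatMod D` is the `O_S`-module
of compatible families of sections; it comes with comparison maps `(f i)^* (compatMod D) ⟶ D i`,
which commute with the descent isomorphisms.
-/

set_option autoImplicit false
set_option backward.isDefEq.respectTransparency.types false

universe u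

open CategoryTheory Limits AlgebraicGeometry Opposite TopologicalSpace

namespace Groth.DescentBase

open Groth.QCohMod (res res_res res_self res_app)

variable {ι : Type u} {S : Scheme.{u}} {X : ι → Scheme.{u}} {f : ∀ i, X i ⟶ S}
  {T T' : Scheme.{u}}

/-- The scalars act on elements through the image of the test scheme in the base. -/
theorem el_app_smul {A : Scheme.{u}} (g : T ⟶ A) (a : A ⟶ S) (q : T ⟶ S) (e : g ≫ a = q)
    {N : A.Modules} {U : S.Opens} (h : ⊤ ≤ g ⁻¹ᵁ a ⁻¹ᵁ U) (r : Γ(S, U)) (n : Γ(N, a ⁻¹ᵁ U)) :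
    el g h (a.app U r • n) = q.appLE U ⊤ (by subst e; exact h) r • el g h n := by
  subst e
  rw [el_smul]
  congr 1

theorem appLE_congr_apply {q q' : T ⟶ S} (e : q = q') {U : S.Opens} (h : ⊤ ≤ q ⁻¹ᵁ U)
    (h' : ⊤ ≤ q' ⁻¹ᵁ U) (r : Γ(S, U)) : q.appLE U ⊤ h r = q'.appLE U ⊤ h' r := by
  subst e; rfl

variable (D : Desc.modPF.{u}.DescentData f)

/-- Families of sections over the preimages of `U`. -/
abbrev FamSec (U : S.Opens) : Type u :=
  ∀ i, Γ((Scheme.Modules.pushforward (f i)).obj (dObj D i), U)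

variable {D}

theorem IsCompat.smul {U : S.Opens} (r : Γ(S, U)) {s : FamSec D U} (hs : IsCompat D U s) :
    IsCompat D U (r • s) := by
  intro i j T g₁ g₂ h h₁ h₂
  change dEl D g₁ g₂ h (el g₁ h₁ ((f i).app U r • (show Γ(dObj D i, f i ⁻¹ᵁ U) from s i))) =
    el g₂ h₂ ((f j).app U r • (show Γ(dObj D j, f j ⁻¹ᵁ U) from s j))
  rw [el_app_smul g₁ (f i) (g₁ ≫ f i) rfl h₁, el_app_smul g₂ (f j) (g₁ ≫ f i) h.symm h₂, dEl_smul]
  exact congrArg _ (hs g₁ g₂ h h₁ h₂)

theorem IsCompat.add {U : S.Opens} {s t : FamSec D U} (hs : IsCompat D U s)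
    (ht : IsCompat D U t) : IsCompat D U (s + t) := by
  intro i j T g₁ g₂ h h₁ h₂
  change dEl D g₁ g₂ h (el g₁ h₁
      ((show Γ(dObj D i, f i ⁻¹ᵁ U) from s i) + (show Γ(dObj D i, f i ⁻¹ᵁ U) from t i))) =
    el g₂ h₂ ((show Γ(dObj D j, f j ⁻¹ᵁ U) from s j) + (show Γ(dObj D j, f j ⁻¹ᵁ U) from t j))
  rw [el_add, el_add, dEl_add]
  exact congrArg₂ (· + ·) (hs g₁ g₂ h h₁ h₂) (ht g₁ g₂ h h₁ h₂)

theorem isCompat_zero (U : S.Opens) : IsCompat D U (0 : FamSec D U) := by
  intro i j T g₁ g₂ h h₁ h₂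
  change dEl D g₁ g₂ h (el g₁ h₁ 0) = el g₂ h₂ 0
  rw [el_zero, el_zero, dEl_zero]

/-- Compatibility is local on the base. -/
theorem isCompat_of_local {U : S.Opens} {s : ∀ i, Γ(dObj D i, f i ⁻¹ᵁ U)} {κ : Type u}
    (V : κ → S.Opens) (hV : ∀ k, V k ≤ U) (hcov : U ≤ ⨆ k, V k)
    (h : ∀ k, IsCompat D (V k) (fun i => res _ ((f i).preimage_mono (hV k)) (s i))) :
    IsCompat D U s := by
  intro i j T g₁ g₂ hg h₁ h₂
  rw [← sub_eq_zero]
  refine eq_zero_of_bc (fun k => ((g₁ ≫ f i) ⁻¹ᵁ V k).ι) (fun t => ?_) g₂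
    (fun k => ((g₁ ≫ f i) ⁻¹ᵁ V k).ι ≫ g₂) (fun _ => rfl) _ fun k => ?_
  · obtain ⟨k, hk⟩ := Opens.mem_iSup.1 (hcov (h₁ (Set.mem_univ t)))
    exact ⟨k, ⟨t, hk⟩, rfl⟩
  · have h₁' : ⊤ ≤ (((g₁ ≫ f i) ⁻¹ᵁ V k).ι ≫ g₁) ⁻¹ᵁ f i ⁻¹ᵁ V k :=
      (Scheme.Opens.ι_preimage_self _).ge
    have hg' : (((g₁ ≫ f i) ⁻¹ᵁ V k).ι ≫ g₁) ≫ f i = (((g₁ ≫ f i) ⁻¹ᵁ V k).ι ≫ g₂) ≫ f j := by
      rw [Category.assoc, Category.assoc, hg]
    have := h k _ _ hg' h₁' (le_preimage_of_eq hg' h₁')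
    rw [el_res, el_res] at this
    rw [bc_sub, sub_eq_zero, bc_dEl _ g₁ g₂ hg _ rfl _ rfl, bc_el, bc_el]
    exact this

variable (D) in
/-- The submodule of compatible families. -/
noncomputable def compatSec (U : S.Opens) : Submodule Γ(S, U) (FamSec D U) where
  carrier := {s | IsCompat D U s}
  add_mem' := IsCompat.add
  zero_mem' := isCompat_zero U
  smul_mem' r _ hs := IsCompat.smul r hs

variable (D) in
noncomputable instance (U : S.Opensᵒᵖ) :
    Module (S.ringCatSheaf.obj.obj U) (compatSec D U.unop) :=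
  inferInstanceAs (Module Γ(S, U.unop) (compatSec D U.unop))

variable (D) in
/-- Compatible families as a presheaf of modules. -/
noncomputable def compatPre : PresheafOfModules.{u} S.ringCatSheaf.obj where
  obj U := ModuleCat.of _ (compatSec D U.unop)
  map {U V} h := ModuleCat.ofHom
      (Y := (ModuleCat.restrictScalars (S.ringCatSheaf.obj.map h).hom).obj
        (ModuleCat.of _ (compatSec D V.unop)))
    { toFun := fun s => ⟨fun i =>
          res ((Scheme.Modules.pushforward (f i)).obj (dObj D i)) (leOfHom h.unop) (s.1 i),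
        IsCompat.res (leOfHom h.unop) s.2⟩
      map_add' := fun s t => Subtype.ext (funext fun i => map_add _ (s.1 i) (t.1 i))
      map_smul' := fun r s => Subtype.ext (funext fun i =>
        QCohMod.res_smul ((Scheme.Modules.pushforward (f i)).obj (dObj D i)) (leOfHom h.unop) r
          (s.1 i)) }
  map_id U := by
    ext s
    exact Subtype.ext (funext fun i =>
      res_self ((Scheme.Modules.pushforward (f i)).obj (dObj D i)) (s.1 i))
  map_comp h h' := by
    ext s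
    exact Subtype.ext (funext fun i =>
      (res_res ((Scheme.Modules.pushforward (f i)).obj (dObj D i)) (leOfHom h.unop) (leOfHom h'.unop)
        (s.1 i)).symm)

theorem compatPre_isSheaf :
    Presheaf.IsSheaf (Opens.grothendieckTopology S) (compatPre D).presheaf := by
  change TopCat.Presheaf.IsSheaf (compatPre D).presheaf
  rw [TopCat.Presheaf.isSheaf_iff_isSheafUniqueGluing]
  intro κ V sf hsf
  have hex : ∀ i, ∃! s : Γ((Scheme.Modules.pushforward (f i)).obj (dObj D i), iSup V),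
      ∀ k, res _ (le_iSup V k) s = (sf k).1 i := fun i =>
    TopCat.Sheaf.existsUnique_gluing' (X := S)
      (⟨((Scheme.Modules.pushforward (f i)).obj (dObj D i)).presheaf,
        Scheme.Modules.isSheaf _⟩ : TopCat.Sheaf Ab.{u} S) V (iSup V)
      (fun k => homOfLE (le_iSup V k)) le_rfl (fun k => (sf k).1 i)
      (fun k k' => congrFun (congrArg Subtype.val (hsf k k')) i)
  choose s hs hs' using hex
  have hcompat : IsCompat D (iSup V) s := by
    refine isCompat_of_local V (le_iSup V) le_rfl fun k => ?_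
    have : (fun i => res (dObj D i) ((f i).preimage_mono (le_iSup V k)) (s i)) = (sf k).1 :=
      funext fun i => hs i k
    rw [this]
    exact (sf k).2
  refine ⟨⟨s, hcompat⟩, fun k => Subtype.ext (funext fun i => hs i k), fun t ht => ?_⟩
  exact Subtype.ext (funext fun i => hs' i (t.1 i) fun k =>
    congrFun (congrArg Subtype.val (ht k)) i)

variable (D) in
/-- The module of compatible families. -/
noncomputable def compatMod : S.Modules where
  val := compatPre D
  isSheaf := compatPre_isSheaf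

/-- The underlying family of a section of `compatMod D`. -/
noncomputable def fam {U : S.Opens} (m : Γ(compatMod D, U)) (i : ι) : Γ(dObj D i, f i ⁻¹ᵁ U) :=
  (show compatSec D U from m).1 i

theorem isCompat_fam {U : S.Opens} (m : Γ(compatMod D, U)) : IsCompat D U (fam m) :=
  (show compatSec D U from m).2

theorem fam_ext {U : S.Opens} {m m' : Γ(compatMod D, U)} (h : ∀ i, fam m i = fam m' i) : m = m' :=
  Subtype.ext (funext h)

/-- The section with given family. -/
noncomputable def ofFam {U : S.Opens} (s : ∀ i, Γ(dObj D i, f i ⁻¹ᵁ U)) (hs : IsCompat D U s) :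
    Γ(compatMod D, U) :=
  (⟨s, hs⟩ : compatSec D U)

theorem fam_res {U V : S.Opens} (h : V ≤ U) (m : Γ(compatMod D, U)) (i : ι) :
    fam (res (compatMod D) h m) i = res _ ((f i).preimage_mono h) (fam m i) :=
  rfl

theorem fam_smul {U : S.Opens} (r : Γ(S, U)) (m : Γ(compatMod D, U)) (i : ι) :
    fam (r • m) i = (f i).app U r • fam m i :=
  rfl

variable (D) in
/-- The projection to the pushforward of the `i`-th module. -/
noncomputable def compatProj (i : ι) :
    compatMod D ⟶ (Scheme.Modules.pushforward (f i)).obj (dObj D i) :=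
  ⟨{ app := fun U => ModuleCat.ofHom (X := (compatPre D).obj U)
        (Y := ((Scheme.Modules.pushforward (f i)).obj (dObj D i)).val.obj U)
      { toFun := fun m => (show compatSec D U.unop from m).1 i
        map_add' := fun _ _ => rfl
        map_smul' := fun _ _ => rfl }
     naturality := fun {U V} h => by ext m; rfl }⟩

variable (D) in
/-- The comparison map `(f i)^* (compatMod D) ⟶ D i`. -/
noncomputable def eps (i : ι) :
    (Scheme.Modules.pullback (f i)).obj (compatMod D) ⟶ dObj D i :=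
  ((Scheme.Modules.pullbackPushforwardAdjunction (f i)).homEquiv _ _).symm (compatProj D i)

theorem eps_pullSec (i : ι) {U : S.Opens} (m : Γ(compatMod D, U)) :
    (eps D i).app (f i ⁻¹ᵁ U) (PicAux.pullSec (f i) _ m) = fam m i :=
  congr(($(((Scheme.Modules.pullbackPushforwardAdjunction (f i)).homEquiv_unit _ _ (eps D i)).symm.trans
    (((Scheme.Modules.pullbackPushforwardAdjunction (f i)).homEquiv _ _).apply_symm_apply
      (compatProj D i)))).app U m)

/-- `flat` is natural in the module. -/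
theorem flat_elMap {A B : Scheme.{u}} {N P : A.Modules} (φ : N ⟶ P) (g : B ⟶ A) (h : T ⟶ B)
    (g' : T ⟶ A) (e : h ≫ g = g') (y : El ((Scheme.Modules.pullback g).obj N) h) :
    flat g h g' e (elMap ((Scheme.Modules.pullback g).map φ) h y) = elMap φ g' (flat g h g' e y) := by
  have hnat : (Scheme.Modules.pullback h).map ((Scheme.Modules.pullback g).map φ) ≫
      (pullTo h g g' e P).hom =
      (pullTo h g g' e N).hom ≫ (Scheme.Modules.pullback g').map φ := by
    subst e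
    simp [pullTo, Scheme.Modules.pullbackCongr]
    exact (Scheme.Modules.pullbackComp h g).hom.naturality φ
  exact congr(($hnat).app ⊤ y)

/-- `flat` carries the descent isomorphisms to `dEl`. -/
theorem flat_dHom {i j : ι} (k : T' ⟶ T) (g₁ : T ⟶ X i) (g₂ : T ⟶ X j) (q : T ⟶ S)
    (h₁ : g₁ ≫ f i = q) (h₂ : g₂ ≫ f j = q) (g₁' : T' ⟶ X i) (e₁ : k ≫ g₁ = g₁') (g₂' : T' ⟶ X j)
    (e₂ : k ≫ g₂ = g₂') (h' : g₁' ≫ f i = g₂' ≫ f j)
    (y : El ((Scheme.Modules.pullback g₁).obj (dObj D i)) k) :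
    flat (N := dObj D j) g₂ k g₂' e₂ (elMap (dHom D q g₁ g₂ h₁ h₂) k y) =
      dEl D g₁' g₂' h' (flat (N := dObj D i) g₁ k g₁' e₁ y) := by
  subst h₁
  have e : k ≫ (g₁ ≫ f i) = g₁' ≫ f i := by rw [← e₁, Category.assoc]
  have H : dHom D (g₁' ≫ f i) g₁' g₂' rfl h'.symm =
      (pullTo k g₁ g₁' e₁ (dObj D i)).inv ≫
        (Scheme.Modules.pullback k).map (dHom D (g₁ ≫ f i) g₁ g₂ rfl h₂) ≫
          (pullTo k g₂ g₂' e₂ (dObj D j)).hom := by
    have H0 := (D.pullHom_hom k (g₁ ≫ f i) (g₁' ≫ f i) e g₁ g₂ rfl h₂ g₁' g₂' e₁ e₂).symm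
    refine H0.trans ?_
    rw [← mapComp'_inv_eq_pullTo k g₂ g₂' e₂ (by subst e₂; rfl) (dObj D j),
      ← mapComp'_hom_eq_pullTo k g₁ g₁' e₁ (by subst e₁; rfl) (dObj D i)]
    rfl
  change _ = (dHom D (g₁' ≫ f i) g₁' g₂' rfl h'.symm).app ⊤ _
  rw [H]
  have h1 : (pullTo k g₁ g₁' e₁ (dObj D i)).inv.app ⊤ (flat (N := dObj D i) g₁ k g₁' e₁ y) = y :=
    congr(($((pullTo k g₁ g₁' e₁ (dObj D i)).hom_inv_id)).app ⊤ y)
  simp only [Scheme.Modules.Hom.comp_app, CategoryTheory.comp_apply]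
  rw [h1]
  rfl

/-- The comparison maps commute with the descent isomorphisms. -/
theorem eps_comm {i j : ι} (q : T ⟶ S) (g₁ : T ⟶ X i) (g₂ : T ⟶ X j) (h₁ : g₁ ≫ f i = q)
    (h₂ : g₂ ≫ f j = q) :
    (Scheme.Modules.pullback g₁).map (eps D i) ≫ dHom D q g₁ g₂ h₁ h₂ =
      dHom ((Desc.modPF.{u}.toDescentData f).obj (compatMod D)) q g₁ g₂ h₁ h₂ ≫
        (Scheme.Modules.pullback g₂).map (eps D j) := by
  subst h₁
  refine pullback_hom_ext₂ g₁ (f i) fun U m => ?_
  set V := g₁ ⁻¹ᵁ f i ⁻¹ᵁ U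
  have hV : ⊤ ≤ V.ι ⁻¹ᵁ V := (Scheme.Opens.ι_preimage_self V).ge
  rw [← sub_eq_zero]
  refine eq_zero_of_el (N := (Scheme.Modules.pullback g₂).obj (dObj D j)) (fun _ : Unit => V.ι)
    (fun _ => hV) (fun x hx => ⟨(), ⟨x, hx⟩, rfl⟩) _ fun _ => ?_
  rw [el_sub, sub_eq_zero]
  refine (flat_bijective (N := dObj D j) g₂ V.ι (V.ι ≫ g₂) rfl).1 ?_
  have hh : (V.ι ≫ g₁) ≫ f i = (V.ι ≫ g₂) ≫ f j := by rw [Category.assoc, Category.assoc, h₂]
  have hV₂ : ⊤ ≤ (V.ι ≫ g₂) ⁻¹ᵁ f j ⁻¹ᵁ U := le_preimage_of_eq hh hV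
  set y := PicAux.pullSec g₁ _ (PicAux.pullSec (f i) (compatMod D) m)
  have hL : flat (N := dObj D j) g₂ V.ι (V.ι ≫ g₂) rfl
      (el V.ι hV ((dHom D (g₁ ≫ f i) g₁ g₂ rfl h₂).app V
        (((Scheme.Modules.pullback g₁).map (eps D i)).app V y))) =
      el (V.ι ≫ g₂) hV₂ (fam m j) := by
    rw [← elMap_el, flat_dHom V.ι g₁ g₂ _ rfl h₂ _ rfl _ rfl hh, ← elMap_el, flat_elMap, flat_el,
      elMap_el, eps_pullSec]
    exact isCompat_fam m _ _ hh hV hV₂
  refine hL.trans (Eq.symm ?_)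
  change flat (N := dObj D j) g₂ V.ι (V.ι ≫ g₂) rfl
    (el V.ι hV (((Scheme.Modules.pullback g₂).map (eps D j)).app V
      ((dHom ((Desc.modPF.{u}.toDescentData f).obj (compatMod D)) (g₁ ≫ f i) g₁ g₂ rfl h₂).app V y))) = _
  rw [← elMap_el, flat_elMap]
  refine Eq.trans (congrArg (elMap (eps D j) (V.ι ≫ g₂)) ?_)
    ((elMap_el (eps D j) (V.ι ≫ g₂) hV₂ (PicAux.pullSec (f j) _ m)).trans
      (congrArg (el (V.ι ≫ g₂) hV₂) (eps_pullSec j m)))
  refine (congrArg (flat (N := (Scheme.Modules.pullback (f j)).obj (compatMod D)) g₂ V.ι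
    (V.ι ≫ g₂) rfl) (elMap_el (dHom ((Desc.modPF.{u}.toDescentData f).obj (compatMod D))
      (g₁ ≫ f i) g₁ g₂ rfl h₂) V.ι hV y).symm).trans ?_
  refine (flat_dHom (D := (Desc.modPF.{u}.toDescentData f).obj (compatMod D)) V.ι g₁ g₂ _ rfl h₂
    _ rfl _ rfl hh _).trans ?_
  refine (congrArg _ (flat_el g₁ V.ι _ rfl hV _)).trans ?_
  refine (flat_bijective (N := compatMod D) (f j) (V.ι ≫ g₂) ((V.ι ≫ g₁) ≫ f i) hh.symm).1 ?_
  refine (flat_dEl_ofObj (compatMod D) (V.ι ≫ g₁) (V.ι ≫ g₂) hh _ rfl _).trans ?_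
  exact (flat_el (f i) _ _ rfl _ m).trans (flat_el (f j) _ _ hh.symm hV₂ m).symm

end Groth.DescentBase
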