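import Groth.Agent.DescentBase.Extend
import Groth.Agent.Ega2Proj.IsoAffine
import Mathlib.RingTheory.Flat.Stability

/-!
# Effectivity of fpqc descent data of quasi-coherent modules
-/

set_option autoImplicit false
set_option backward.isDefEq.respectTransparency.types false
set_option linter.unusedSectionVars false

universe u

open CategoryTheory Limits AlgebraicGeometry Opposite TopologicalSpace TensorProduct

namespace Groth.DescentBase

open Groth.QCohMod (res res_res res_self res_app resFun sectionsAlg pullSecEquiv)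
open Groth.PicAux (pullSec)

section pairTensor

variable {S Y Z Z₀ : Scheme.{u}} [IsAffine Z] [IsAffine Z₀] {U : S.Opens}
  (c : Z ⟶ S) (hc : ⊤ ≤ c ⁻¹ᵁ U) (c₀ : Z₀ ⟶ S) (h₀ : ⊤ ≤ c₀ ⁻¹ᵁ U)

/-- The module structure of the sections over the base open on elements. -/
@[reducible]
noncomputable def elModule {N : Y.Modules} (a : Z ⟶ Y) : Module Γ(S, U) (El N a) :=
  Module.compHom _ (c.appLE U ⊤ hc).hom

/-- Elements over a pair of pieces are the base change of elements over the first piece. -/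
theorem exists_pairTensor (N : Y.Modules) [N.IsQuasicoherent] (a : Z ⟶ Y) :
    letI := elModule c hc (N := N) a
    letI := sectionsAlg c₀ h₀
    ∃ Φ : Γ(Z₀, ⊤) ⊗[Γ(S, U)] El N a →+ El N (pairFst c hc c₀ h₀ ≫ a),
      Function.Bijective Φ ∧ ∀ b x, Φ (b ⊗ₜ x) =
        (pairSnd c hc c₀ h₀).appTop b • bc (pairFst c hc c₀ h₀) a _ rfl x := by
  let mA := elModule c hc (N := N) a
  let := sectionsAlg c₀ h₀
  let algB := sectionsAlg c hc
  have : IsScalarTower Γ(S, U) Γ(Z, ⊤) (El N a) := IsScalarTower.of_compHom _ _ _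
  set P₁ := pairFst c hc c₀ h₀
  let algP := sectionsAlg P₁ (U := ⊤) (V := ⊤) le_top
  let e₁ := pullSecEquiv P₁ ((Scheme.Modules.pullback a).obj N) (le_top : (⊤ : _) ≤ P₁ ⁻¹ᵁ ⊤)
    (isAffineOpen_top Z) (isAffineOpen_top _)
  let ρ : (Γ(Z, ⊤) ⊗[Γ(S, U)] Γ(Z₀, ⊤)) →ₐ[Γ(Z, ⊤)] Γ(pairScheme c hc c₀ h₀, ⊤) :=
    { (Scheme.ΓSpecIso (pairRing c hc c₀ h₀)).inv.hom with
      commutes' := fun b => by
        refine Eq.trans ?_ (ConcreteCategory.congr_hom (P₁.appLE_eq_app (U := ⊤)).symm b)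
        exact (ConcreteCategory.congr_hom (fromRing_appTop (pairInl c hc c₀ h₀)) b).symm }
  have hρ : Function.Bijective ρ :=
    ConcreteCategory.bijective_of_isIso (Scheme.ΓSpecIso (pairRing c hc c₀ h₀)).inv
  let E := ((TensorProduct.comm Γ(S, U) Γ(Z₀, ⊤) (El N a)).toAddEquiv.trans
    (AlgebraTensorModule.cancelBaseChange Γ(S, U) Γ(Z, ⊤) Γ(Z, ⊤) (El N a)
      Γ(Z₀, ⊤)).symm.toAddEquiv).trans
    (((TensorProduct.congr (LinearEquiv.refl Γ(Z, ⊤) (El N a))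
      (LinearEquiv.ofBijective ρ.toLinearMap hρ)).trans
      (TensorProduct.comm Γ(Z, ⊤) (El N a) _)).toAddEquiv.trans e₁.toAddEquiv)
  refine ⟨AddMonoidHom.mk' (fun z => flat (N := N) a P₁ (P₁ ≫ a) rfl (E z))
      (fun x y => (congrArg _ (map_add E x y)).trans (map_add _ _ _)),
    (flat_bijective (N := N) a P₁ (P₁ ≫ a) rfl).comp E.bijective, fun b x => ?_⟩
  have h1 : E (b ⊗ₜ x) = ρ (1 ⊗ₜ b) • el P₁ (U := ⊤) le_top
      (show Γ((Scheme.Modules.pullback a).obj N, (⊤ : Z.Opens)) from x) := rfl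
  refine (congrArg (flat (N := N) a P₁ (P₁ ≫ a) rfl) h1).trans ?_
  refine (flat_smul _ _ _ _ _ _).trans ?_
  refine congrArg₂ (· • ·) ?_ ?_
  · exact (ConcreteCategory.congr_hom (fromRing_appTop (pairInr c hc c₀ h₀)) b).symm
  · exact congrArg ((pullTo P₁ a (P₁ ≫ a) rfl N).hom.app ⊤) (res_self _ _)

include hc in
theorem flat_pairSnd (hU : IsAffineOpen U) [Flat c] : Flat (pairSnd c hc c₀ h₀) := by
  let _ := sectionsAlg c hc
  let _ := sectionsAlg c₀ h₀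
  have : Module.Flat Γ(S, U) Γ(Z, ⊤) := flat_appLE_of_flat hU c hc
  have h1 : (Algebra.TensorProduct.comm Γ(S, U) Γ(Z₀, ⊤) Γ(Z, ⊤)).toAlgHom.toRingHom.comp
      (algebraMap Γ(Z₀, ⊤) (Γ(Z₀, ⊤) ⊗[Γ(S, U)] Γ(Z, ⊤))) = (pairInr c hc c₀ h₀).hom := by
    ext b
    rfl
  have h : (pairInr c hc c₀ h₀).hom.Flat := by
    rw [← h1]
    exact RingHom.Flat.comp (RingHom.flat_algebraMap_iff.mpr inferInstance)
      (RingHom.Flat.of_bijective
        (Algebra.TensorProduct.comm Γ(S, U) Γ(Z₀, ⊤) Γ(Z, ⊤)).bijective)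
  have : Flat (Spec.map (pairInr c hc c₀ h₀)) :=
    (HasRingHomProperty.Spec_iff (P := @Flat)).mpr h
  exact inferInstanceAs (Flat (Spec.map (pairInr c hc c₀ h₀) ≫ Z₀.isoSpec.inv))

end pairTensor

theorem piRight_eq_lTensor_proj {A : Type u} [CommRing A] {B : Type u} [AddCommGroup B] [Module A B]
    {K : Type u} [Fintype K] [DecidableEq K] {E : K → Type u} [∀ k, AddCommGroup (E k)]
    [∀ k, Module A (E k)] (z : B ⊗[A] ((k : K) → E k)) (k : K) :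
    TensorProduct.piRight A A B E z k = LinearMap.lTensor B (LinearMap.proj k) z := by
  induction z using TensorProduct.induction_on with
  | zero => simp
  | tmul b x => simp
  | add a b ha hb => rw [map_add, Pi.add_apply, map_add, ha, hb]

variable {ι : Type u} {S : Scheme.{u}} {X : ι → Scheme.{u}} {f : ∀ i, X i ⟶ S}
  {D : Desc.modPF.{u}.DescentData f}

/-- On affine pieces the elements are the base change of the compatible families. -/
theorem exists_bijective_tensor {K : Type u} [Finite K] {Z : K → Scheme.{u}} [∀ k, IsAffine (Z k)]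
    {p : K → ι} (a : ∀ k, Z k ⟶ X (p k)) [∀ k, Flat (a k ≫ f (p k))]
    (hD : ∀ i, (dObj D i).IsQuasicoherent) {U : S.Opens} (hU : IsAffineOpen U)
    (ha : ∀ k, ⊤ ≤ (a k ≫ f (p k)) ⁻¹ᵁ U) (hsurj : ∀ x ∈ U, ∃ k z, (a k ≫ f (p k)) z = x)
    {Z₀ : Scheme.{u}} [IsAffine Z₀] {i₀ : ι} (a₀ : Z₀ ⟶ X i₀) [Flat (a₀ ≫ f i₀)]
    (h₀ : ⊤ ≤ (a₀ ≫ f i₀) ⁻¹ᵁ U) :
    letI := sectionsAlg (a₀ ≫ f i₀) h₀
    ∃ μ : Γ(Z₀, ⊤) ⊗[Γ(S, U)] Γ(compatMod D, U) →+ El (dObj D i₀) a₀,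
      Function.Bijective μ ∧ ∀ b m, μ (b ⊗ₜ m) =
        b • el (U := f i₀ ⁻¹ᵁ U) a₀ h₀ (fam m i₀) := by
  classical
  have := Fintype.ofFinite K
  let c : ∀ k, Z k ⟶ S := fun k => a k ≫ f (p k)
  let P₁ := fun k l => pairFst (c k) (ha k) (c l) (ha l)
  let P₂ := fun k l => pairSnd (c k) (ha k) (c l) (ha l)
  let := sectionsAlg (a₀ ≫ f i₀) h₀
  have hflat₀ : Module.Flat Γ(S, U) Γ(Z₀, ⊤) := flat_appLE_of_flat hU (a₀ ≫ f i₀) h₀
  let m₀ := elModule (a₀ ≫ f i₀) h₀ (N := dObj D i₀) a₀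
  have : IsScalarTower Γ(S, U) Γ(Z₀, ⊤) (El (dObj D i₀) a₀) := IsScalarTower.of_compHom _ _ _
  let m₁ : ∀ k, Module Γ(S, U) (El (dObj D (p k)) (a k)) := fun k => elModule (c k) (ha k) (a k)
  let m₂ : ∀ kl : K × K, Module Γ(S, U) (El (dObj D (p kl.2)) (P₂ kl.1 kl.2 ≫ a kl.2)) :=
    fun kl => elModule (P₁ kl.1 kl.2 ≫ c kl.1) (pair_le _ _ _ _) _
  -- linear maps
  let δ₀ : Γ(compatMod D, U) →ₗ[Γ(S, U)] El (dObj D i₀) a₀ :=
    { toFun := fun m => el (U := f i₀ ⁻¹ᵁ U) a₀ h₀ (fam m i₀)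
      map_add' := fun m m' => el_add _ _ (fam m i₀) (fam m' i₀)
      map_smul' := fun r m => el_app_smul a₀ (f i₀) _ rfl h₀ r (fam m i₀) }
  let δ : Γ(compatMod D, U) →ₗ[Γ(S, U)] ((k : K) → El (dObj D (p k)) (a k)) :=
    LinearMap.pi fun k =>
      { toFun := fun m => el (U := f (p k) ⁻¹ᵁ U) (a k) (ha k) (fam m (p k))
        map_add' := fun m m' => el_add _ _ (fam m (p k)) (fam m' (p k))
        map_smul' := fun r m => el_app_smul (a k) (f (p k)) _ rfl (ha k) r (fam m (p k)) }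
  have hP : ∀ k l, (P₁ k l ≫ a k) ≫ f (p k) = (P₂ k l ≫ a l) ≫ f (p l) := fun k l => by
    rw [Category.assoc, Category.assoc]; exact pair_condition hU _ _ _ _
  let L₁ : ∀ kl : K × K, El (dObj D (p kl.1)) (a kl.1) →ₗ[Γ(S, U)]
      El (dObj D (p kl.2)) (P₂ kl.1 kl.2 ≫ a kl.2) := fun kl =>
    { toFun := fun x => dEl D (P₁ kl.1 kl.2 ≫ a kl.1) (P₂ kl.1 kl.2 ≫ a kl.2) (hP _ _)
        (bc (P₁ kl.1 kl.2) (a kl.1) _ rfl x)
      map_add' := fun x y => (congrArg _ (bc_add _ _ _ _ x y)).trans (dEl_add _ _ _ _ _)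
      map_smul' := fun r x => by
        refine (congrArg (dEl D _ _ _) (bc_smul (P₁ kl.1 kl.2) (a kl.1) _ rfl _ x)).trans ?_
        refine (dEl_smul _ _ _ _ _).trans ?_
        exact congrArg (· • _)
          (appTop_appLE_apply (P₁ kl.1 kl.2) (c kl.1) _ rfl (ha kl.1) (pair_le _ _ _ _) r) }
  let L₂ : ∀ kl : K × K, El (dObj D (p kl.2)) (a kl.2) →ₗ[Γ(S, U)]
      El (dObj D (p kl.2)) (P₂ kl.1 kl.2 ≫ a kl.2) := fun kl =>
    { toFun := fun x => bc (P₂ kl.1 kl.2) (a kl.2) _ rfl x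
      map_add' := fun x y => bc_add _ _ _ _ x y
      map_smul' := fun r x => by
        refine (bc_smul (P₂ kl.1 kl.2) (a kl.2) _ rfl _ x).trans ?_
        exact congrArg (· • _) (appTop_appLE_apply (P₂ kl.1 kl.2) (c kl.2) _
          (pair_condition hU _ _ _ _).symm (ha kl.2) (pair_le _ _ _ _) r) }
  let d : ((k : K) → El (dObj D (p k)) (a k)) →ₗ[Γ(S, U)]
      ((kl : K × K) → El (dObj D (p kl.2)) (P₂ kl.1 kl.2 ≫ a kl.2)) :=
    LinearMap.pi fun kl => L₁ kl ∘ₗ LinearMap.proj kl.1 - L₂ kl ∘ₗ LinearMap.proj kl.2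
  have hδapp : ∀ (m : Γ(compatMod D, U)) (k : K),
      δ m k = el (U := f (p k) ⁻¹ᵁ U) (a k) (ha k) (fam m (p k)) := fun _ _ => rfl
  have hdapp : ∀ (x : (k : K) → El (dObj D (p k)) (a k)) (kl : K × K), d x kl =
      dEl D (P₁ kl.1 kl.2 ≫ a kl.1) (P₂ kl.1 kl.2 ≫ a kl.2) (hP kl.1 kl.2)
        (bc (P₁ kl.1 kl.2) (a kl.1) _ rfl (x kl.1)) -
      bc (P₂ kl.1 kl.2) (a kl.2) _ rfl (x kl.2) := fun _ _ => rfl
  have hδinj : Function.Injective δ := by
    refine (injective_iff_map_eq_zero _).mpr fun m hm => fam_ext fun i => ?_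
    refine (isCompat_fam m).eq_zero a ha hsurj (fun k => ?_) i
    rw [← hδapp, hm]
    rfl
  have hex : Function.Exact δ d := by
    intro x
    refine ⟨fun hx => ?_, ?_⟩
    · have ht : PieceCompat a ha hU x := by
        intro k l
        have h := hdapp x (k, l)
        rw [hx] at h
        exact sub_eq_zero.1 h.symm
      obtain ⟨s, hs, hst⟩ := exists_compat_extension hD hsurj ht
      refine ⟨ofFam s hs, funext fun k => ?_⟩
      rw [hδapp]
      exact hst k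
    · rintro ⟨m, rfl⟩
      refine funext fun kl => ?_
      rw [hdapp, hδapp, hδapp, bc_el, bc_el, Pi.zero_apply, sub_eq_zero]
      exact isCompat_fam m _ _ _ _ _
  -- base change of elements
  have := hD i₀
  have hΦ : ∀ k, ∃ Φ : Γ(Z₀, ⊤) ⊗[Γ(S, U)] El (dObj D (p k)) (a k) →+
      El (dObj D (p k)) (pairFst (c k) (ha k) (a₀ ≫ f i₀) h₀ ≫ a k),
      Function.Bijective Φ ∧ ∀ b x, Φ (b ⊗ₜ x) = (pairSnd (c k) (ha k) (a₀ ≫ f i₀) h₀).appTop b •
        bc (pairFst (c k) (ha k) (a₀ ≫ f i₀) h₀) (a k) _ rfl x := fun k =>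
    have := hD (p k)
    exists_pairTensor (c k) (ha k) (a₀ ≫ f i₀) h₀ (dObj D (p k)) (a k)
  have hΨ : ∀ kl : K × K, ∃ Φ : Γ(Z₀, ⊤) ⊗[Γ(S, U)]
        El (dObj D (p kl.2)) (P₂ kl.1 kl.2 ≫ a kl.2) →+
      El (dObj D (p kl.2)) (pairFst (P₁ kl.1 kl.2 ≫ c kl.1) (pair_le _ _ _ _) (a₀ ≫ f i₀) h₀ ≫
        P₂ kl.1 kl.2 ≫ a kl.2),
      Function.Bijective Φ ∧ ∀ b x, Φ (b ⊗ₜ x) =
        (pairSnd (P₁ kl.1 kl.2 ≫ c kl.1) (pair_le _ _ _ _) (a₀ ≫ f i₀) h₀).appTop b •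
          bc (pairFst (P₁ kl.1 kl.2 ≫ c kl.1) (pair_le _ _ _ _) (a₀ ≫ f i₀) h₀) _ _ rfl x :=
    fun kl =>
    have := hD (p kl.2)
    exists_pairTensor (P₁ kl.1 kl.2 ≫ c kl.1) (pair_le _ _ _ _) (a₀ ≫ f i₀) h₀ (dObj D (p kl.2)) _
  choose Φ hΦb hΦt using hΦ
  choose Ψ hΨb hΨt using hΨ
  let μ : Γ(Z₀, ⊤) ⊗[Γ(S, U)] Γ(compatMod D, U) →ₗ[Γ(Z₀, ⊤)] El (dObj D i₀) a₀ :=
    LinearMap.liftBaseChange Γ(Z₀, ⊤) δ₀
  let R₁ := fun k => pairFst (c k) (ha k) (a₀ ≫ f i₀) h₀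
  let R₂ := fun k => pairSnd (c k) (ha k) (a₀ ≫ f i₀) h₀
  have hR : ∀ k, (R₂ k ≫ a₀) ≫ f i₀ = (R₁ k ≫ a k) ≫ f (p k) := fun k => by
    rw [Category.assoc, Category.assoc]; exact (pair_condition hU _ _ _ _).symm
  -- the components of `δ` against `μ`
  have hcomp : ∀ z k, Φ k (LinearMap.lTensor _ (LinearMap.proj k) (LinearMap.lTensor _ δ z)) =
      dEl D (R₂ k ≫ a₀) (R₁ k ≫ a k) (hR k) (bc (R₂ k) a₀ _ rfl (μ z)) := by
    intro z k
    induction z using TensorProduct.induction_on with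
    | zero => simp only [map_zero, bc_zero, dEl_zero]
    | tmul b m =>
      rw [LinearMap.lTensor_tmul, LinearMap.lTensor_tmul, hΦt]
      change _ = dEl D _ _ _ (bc (R₂ k) a₀ _ rfl (b • el (U := f i₀ ⁻¹ᵁ U) a₀ h₀ (fam m i₀)))
      rw [bc_smul, dEl_smul]
      refine congrArg _ ?_
      change bc _ _ _ _ (el (U := f (p k) ⁻¹ᵁ U) (a k) (ha k) (fam m (p k))) = _
      rw [bc_el, bc_el]
      exact (isCompat_fam m _ _ _ _ _).symm
    | add x y hx hy => simp only [map_add, bc_add, dEl_add, hx, hy]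
  refine ⟨μ.toAddMonoidHom, ⟨?_, ?_⟩, fun b m => rfl⟩
  · refine (injective_iff_map_eq_zero μ).mpr fun z hz => ?_
    refine Module.Flat.lTensor_preserves_injective_linearMap (M := Γ(Z₀, ⊤)) δ hδinj ?_
    rw [map_zero]
    refine (TensorProduct.piRight Γ(S, U) Γ(S, U) Γ(Z₀, ⊤) _).injective (funext fun k => ?_)
    rw [piRight_eq_lTensor_proj, map_zero, Pi.zero_apply]
    refine (hΦb k).1 ?_
    rw [hcomp z k, hz, bc_zero, dEl_zero, map_zero]
  · intro y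
    choose w hw using fun k =>
      (hΦb k).2 (dEl D (R₂ k ≫ a₀) (R₁ k ≫ a k) (hR k) (bc (R₂ k) a₀ _ rfl y))
    let z := (TensorProduct.piRight Γ(S, U) Γ(S, U) Γ(Z₀, ⊤)
      fun k => El (dObj D (p k)) (a k)).symm w
    have hz : ∀ k, LinearMap.lTensor _ (LinearMap.proj k) z = w k := fun k => by
      rw [← piRight_eq_lTensor_proj]
      exact congrFun (LinearEquiv.apply_symm_apply _ w) k
    have hdz : LinearMap.lTensor Γ(Z₀, ⊤) d z = 0 := by
      refine (TensorProduct.piRight Γ(S, U) Γ(S, U) Γ(Z₀, ⊤) _).injective (funext fun kl => ?_)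
      rw [piRight_eq_lTensor_proj, map_zero, Pi.zero_apply, ← LinearMap.comp_apply,
        ← LinearMap.lTensor_comp, LinearMap.proj_pi, LinearMap.lTensor_sub, LinearMap.sub_apply,
        LinearMap.lTensor_comp, LinearMap.lTensor_comp, LinearMap.comp_apply, LinearMap.comp_apply,
        hz, hz, sub_eq_zero]
      refine (hΨb kl).1 ?_
      obtain ⟨k, l⟩ := kl
      set Q₁ := pairFst (P₁ k l ≫ c k) (pair_le _ _ _ _) (a₀ ≫ f i₀) h₀
      set Q₂ := pairSnd (P₁ k l ≫ c k) (pair_le _ _ _ _) (a₀ ≫ f i₀) h₀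
      have hQ : Q₁ ≫ P₁ k l ≫ c k = Q₂ ≫ a₀ ≫ f i₀ := pair_condition hU _ _ _ _
      have hQl : (Q₁ ≫ P₂ k l) ≫ c l = Q₂ ≫ a₀ ≫ f i₀ := by
        rw [Category.assoc, ← pair_condition hU (c k) (ha k) (c l) (ha l)]
        exact hQ
      obtain ⟨uk, uk₁, uk₂⟩ := exists_pairLift (c k) (ha k) (a₀ ≫ f i₀) h₀ (Q₁ ≫ P₁ k l) Q₂
        ((Category.assoc _ _ _).trans hQ)
      obtain ⟨ul, ul₁, ul₂⟩ := exists_pairLift (c l) (ha l) (a₀ ≫ f i₀) h₀ (Q₁ ≫ P₂ k l) Q₂ hQl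
      have k₁ : uk ≫ R₁ k ≫ a k = Q₁ ≫ P₁ k l ≫ a k :=
        (Category.assoc _ _ _).symm.trans ((congrArg (· ≫ a k) uk₁).trans (Category.assoc _ _ _))
      have k₂ : uk ≫ R₂ k ≫ a₀ = Q₂ ≫ a₀ :=
        (Category.assoc _ _ _).symm.trans (congrArg (· ≫ a₀) uk₂)
      have l₁ : ul ≫ R₁ l ≫ a l = Q₁ ≫ P₂ k l ≫ a l :=
        (Category.assoc _ _ _).symm.trans ((congrArg (· ≫ a l) ul₁).trans (Category.assoc _ _ _))
      have l₂ : ul ≫ R₂ l ≫ a₀ = Q₂ ≫ a₀ :=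
        (Category.assoc _ _ _).symm.trans (congrArg (· ≫ a₀) ul₂)
      have hkl : (Q₁ ≫ P₁ k l ≫ a k) ≫ f (p k) = (Q₁ ≫ P₂ k l ≫ a l) ≫ f (p l) :=
        (Category.assoc _ _ _).trans ((congrArg (Q₁ ≫ ·) (hP k l)).trans (Category.assoc _ _ _).symm)
      have hL₁ : ∀ v, Ψ (k, l) (LinearMap.lTensor _ (L₁ (k, l)) v) =
          dEl D (Q₁ ≫ P₁ k l ≫ a k) (Q₁ ≫ P₂ k l ≫ a l) hkl
            (bc uk (R₁ k ≫ a k) _ k₁ (Φ k v)) := by
        intro v
        induction v using TensorProduct.induction_on with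
        | zero => simp only [map_zero, bc_zero, dEl_zero]
        | tmul b x =>
          rw [LinearMap.lTensor_tmul, hΨt, hΦt, bc_smul, dEl_smul, ← CommRingCat.comp_apply,
            ← Scheme.Hom.comp_appTop, uk₂]
          refine congrArg _ ?_
          change bc Q₁ (P₂ k l ≫ a l) _ rfl (dEl D _ _ (hP k l) (bc (P₁ k l) (a k) _ rfl x)) = _
          rw [bc_dEl Q₁ _ _ (hP k l) _ rfl _ rfl,
            bc_bc Q₁ (P₁ k l) _ rfl (a k) _ rfl _ rfl (Category.assoc _ _ _),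
            bc_bc uk (R₁ k) _ uk₁ (a k) _ rfl _ k₁ (Category.assoc _ _ _)]
        | add x y hx hy => simp only [map_add, bc_add, dEl_add, hx, hy]
      have hL₂ : ∀ v, Ψ (k, l) (LinearMap.lTensor _ (L₂ (k, l)) v) =
          bc ul (R₁ l ≫ a l) _ l₁ (Φ l v) := by
        intro v
        induction v using TensorProduct.induction_on with
        | zero => simp only [map_zero, bc_zero]
        | tmul b x =>
          rw [LinearMap.lTensor_tmul, hΨt, hΦt, bc_smul, ← CommRingCat.comp_apply,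
            ← Scheme.Hom.comp_appTop, ul₂]
          refine congrArg _ ?_
          change bc Q₁ (P₂ k l ≫ a l) _ rfl (bc (P₂ k l) (a l) _ rfl x) = _
          rw [bc_bc Q₁ (P₂ k l) _ rfl (a l) _ rfl _ rfl (Category.assoc _ _ _),
            bc_bc ul (R₁ l) _ ul₁ (a l) _ rfl _ l₁ (Category.assoc _ _ _)]
        | add x y hx hy => simp only [map_add, bc_add, hx, hy]
      rw [hL₁, hL₂, hw, hw, bc_dEl uk _ _ (hR k) _ k₂ _ k₁, bc_dEl ul _ _ (hR l) _ l₂ _ l₁,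
        bc_bc uk (R₂ k) _ uk₂ a₀ _ rfl _ k₂ rfl, bc_bc ul (R₂ l) _ ul₂ a₀ _ rfl _ l₂ rfl,
        dEl_comp]
    obtain ⟨v, hv⟩ := (Module.Flat.lTensor_exact Γ(Z₀, ⊤) hex z).mp hdz
    refine ⟨v, sub_eq_zero.1 ?_⟩
    have : ∀ k, Flat (R₂ k) := fun k => flat_pairSnd (c k) (ha k) (a₀ ≫ f i₀) h₀ hU
    refine eq_zero_of_bc R₂ (fun t => ?_) a₀ (fun k => R₂ k ≫ a₀) (fun _ => rfl) _ fun k => ?_
    · obtain ⟨k, u, hu⟩ := hsurj _ (h₀ (Set.mem_univ t))
      obtain ⟨w, -, hw⟩ := exists_pair_point (c k) (ha k) (a₀ ≫ f i₀) h₀ u t hu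
      exact ⟨k, w, hw⟩
    · refine dEl_injective _ (R₁ k ≫ a k) (hR k) ?_
      rw [dEl_zero, bc_sub, dEl_sub, sub_eq_zero]
      exact (hcomp v k).symm.trans (by rw [hv, hz, hw])

/-- The comparison maps are isomorphisms. -/
theorem isIso_eps (hf : Presieve.ofArrows X f ∈ Scheme.fpqcPrecoverage S)
    (hD : ∀ i, (dObj D i).IsQuasicoherent) (i : ι) : IsIso (eps D i) := by
  have := isQCoh_compatMod hf hD
  have := hD i
  have := flat_of_mem_fpqcPrecoverage hf i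
  have hex : ∀ x : X i, ∃ (U : S.Opens) (W : (X i).Opens),
      IsAffineOpen U ∧ IsAffineOpen W ∧ x ∈ W ∧ W ≤ f i ⁻¹ᵁ U := fun x => by
    obtain ⟨_, ⟨U, hU, rfl⟩, hxU, -⟩ := S.isBasis_affineOpens.exists_subset_of_mem_open
      (Set.mem_univ (f i x)) isOpen_univ
    obtain ⟨_, ⟨W, hW, rfl⟩, hxW, hle⟩ :=
      (X i).isBasis_affineOpens.exists_subset_of_mem_open (show x ∈ f i ⁻¹ᵁ U from hxU)
        (f i ⁻¹ᵁ U).2
    exact ⟨U, W, hU, hW, hxW, hle⟩
  choose U W hU hW hxW hWU using hex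
  refine Ega2Proj.isIso_of_affine_cover (eps D i) W hW
    (eq_top_iff.2 fun x _ => Opens.mem_iSup.2 ⟨x, hxW x⟩) fun x => ?_
  obtain ⟨K, _, Z, p, a, _, _, ha, hsurj⟩ := exists_pieces f hf (hU x)
  have : IsAffine (W x) := hW x
  set j := (W x).ι
  have hj : ⊤ ≤ j ⁻¹ᵁ W x := (Scheme.Opens.ι_preimage_self (W x)).ge
  have h₀ : ⊤ ≤ (j ≫ f i) ⁻¹ᵁ U x := hj.trans (j.preimage_mono (hWU x))
  obtain ⟨μ, hμ, hμt⟩ := exists_bijective_tensor a hD (hU x) ha hsurj j h₀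
  let := sectionsAlg (j ≫ f i) h₀
  have hjinj : ∀ {N : (X i).Modules}, Function.Injective (el (N := N) j hj) := by
    intro N m n hmn
    rw [← sub_eq_zero]
    refine eq_zero_of_el (fun _ : Unit => j) (fun _ => hj) (fun y hy => ⟨(), ⟨y, hy⟩, rfl⟩) _
      fun _ => ?_
    rw [el_sub, hmn, sub_self]
  let E := pullSecEquiv (j ≫ f i) (compatMod D) h₀ (hU x) (isAffineOpen_top _)
  have hfb := flat_bijective (N := compatMod D) (f i) j (j ≫ f i) rfl
  have hμE : ∀ z y, flat (N := compatMod D) (f i) j (j ≫ f i) rfl y = E z →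
      elMap (eps D i) j y = μ z := by
    intro z
    induction z using TensorProduct.induction_on with
    | zero =>
      intro y hy
      have : y = 0 := hfb.1 ((hy.trans (map_zero E)).trans (map_zero _).symm)
      rw [this, map_zero]
      exact map_zero _
    | tmul b m =>
      intro y hy
      have : y = b • el (U := f i ⁻¹ᵁ U x) j h₀ (pullSec (f i) (compatMod D) m) := by
        refine hfb.1 (hy.trans ?_)
        rw [flat_smul, flat_el (f i) j _ rfl h₀ m]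
        rfl
      rw [this, hμt]
      refine (Scheme.Modules.Hom.app_smul _ _ _).trans (congrArg _ ?_)
      exact (elMap_el (eps D i) (U := f i ⁻¹ᵁ U x) j h₀ _).trans (congrArg _ (eps_pullSec i m))
    | add z z' hz hz' =>
      intro y hy
      obtain ⟨y₁, hy₁⟩ := hfb.2 (E z)
      obtain ⟨y₂, hy₂⟩ := hfb.2 (E z')
      have : y = y₁ + y₂ := hfb.1 (hy.trans (by
        rw [map_add, ← hy₁, ← hy₂]; exact (map_add _ _ _).symm))
      rw [this, map_add, ← hz y₁ hy₁, ← hz' y₂ hy₂]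
      exact map_add _ _ _
  have hEl : Function.Bijective (elMap (eps D i) j) := by
    refine ⟨fun y y' h => ?_, fun y => ?_⟩
    · obtain ⟨z, hz⟩ := E.surjective (flat (N := compatMod D) (f i) j (j ≫ f i) rfl y)
      obtain ⟨z', hz'⟩ := E.surjective (flat (N := compatMod D) (f i) j (j ≫ f i) rfl y')
      rw [hμE z y hz.symm, hμE z' y' hz'.symm] at h
      exact hfb.1 (hz.symm.trans ((congrArg E (hμ.1 h)).trans hz'))
    · obtain ⟨z, rfl⟩ := hμ.2 y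
      obtain ⟨y', hy'⟩ := hfb.2 (E z)
      exact ⟨y', hμE z y' hy'⟩
  refine ⟨fun s t h => hjinj (hEl.1 ?_), fun t => ?_⟩
  · rw [elMap_el, elMap_el, h]
  · obtain ⟨y, hy⟩ := hEl.2 (el j hj t)
    obtain ⟨s, rfl⟩ := exists_el_eq (W x) y
    exact ⟨s, hjinj ((elMap_el _ _ _ _).symm.trans hy)⟩

/-- Fpqc descent data of quasi-coherent modules are effective. -/
theorem exists_toDescentData_iso (hf : Presieve.ofArrows X f ∈ Scheme.fpqcPrecoverage S)
    (D : Desc.modPF.{u}.DescentData f) (hD : ∀ i, (D.obj i : (X i).Modules).IsQuasicoherent) :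
    ∃ M : S.Modules, M.IsQuasicoherent ∧
      Nonempty ((Desc.modPF.{u}.toDescentData f).obj M ≅ D) := by
  have : ∀ i, IsIso (eps D i) := fun i => isIso_eps (D := D) hf hD i
  refine ⟨compatMod D, isQCoh_compatMod hf hD, ⟨Pseudofunctor.DescentData.isoMk
    (fun i => @asIso _ _ _ _ (eps D i) (this i)) fun T q i j g₁ g₂ h₁ h₂ => ?_⟩⟩
  exact eps_comm q g₁ g₂ h₁ h₂

end Groth.DescentBase
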