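import Groth.Agent.DescentBase.QCohHom
import Groth.Agent.DescentBase.CompatMod
import Groth.Agent.Pi1FPDesc.Basic
import Groth.Agent.Flatmor4.FpqcSubterminal
import Groth.Agent.PropsBasic.LocFree
import Groth.Agent.LocFree.Affine
import Groth.Agent.QCohMod.PullbackQCoh
import Groth.Agent.S1130

/-!
# Fpqc descent of properties of modules
-/

set_option autoImplicit false
set_option backward.isDefEq.respectTransparency false
set_option linter.style.haveILetI false

universe u

open CategoryTheory Limits AlgebraicGeometry TopologicalSpace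
open scoped TensorProduct

namespace Groth.DescentBase.QCohFpqc

open Groth.QCohMod (stalk pullStalkEquiv stalkAlg)

variable {X X' : Scheme.{u}}

/-- Flatness of a stalk descends along a flat morphism. -/
theorem flat_stalk_of_pullback (g : X' ⟶ X) [Flat g] (F : X.Modules) (y : X')
    (h : Module.Flat (X'.presheaf.stalk y) (((Scheme.Modules.pullback g).obj F).presheaf.stalk y)) :
    Module.Flat (X.presheaf.stalk (g y)) (F.presheaf.stalk (g y)) := by
  letI := stalkAlg g y
  haveI := Groth.Flatmor4.faithfullyFlat_stalk g y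
  haveI : Module.Flat (X'.presheaf.stalk y)
      (X'.presheaf.stalk y ⊗[X.presheaf.stalk (g y)] F.presheaf.stalk (g y)) :=
    Module.Flat.of_linearEquiv (pullStalkEquiv g F y)
  exact Module.Flat.of_flat_tensorProduct _ _ (X'.presheaf.stalk y)

theorem isFinLocFree_of_pullback (g : X' ⟶ X) [QuasiCompact g] [Flat g] [Surjective g]
    (F : X.Modules) [F.IsQuasicoherent]
    (h : FlatMod.IsFinLocFree ((Scheme.Modules.pullback g).obj F)) : FlatMod.IsFinLocFree F := by
  haveI : ((Scheme.Modules.pullback g).obj F).IsQuasicoherent := KTheory.LocFree.isQCoh h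
  obtain ⟨hfp, hfree⟩ := (Groth.PropsBasic.LocFree.isFinLocFree_iff _).1 h
  have hFP := Groth.Pi1FPDesc.isFP_of_pullback g F hfp
  refine Groth.LocFree.isFinLocFree_of_flat (fun x => ?_) fun x => ?_
  · obtain ⟨U, hU, hx⟩ := Groth.QCohMod.exists_affine_mem x
    exact ⟨U, hU, hx, Groth.PropsBasic.FPSections.finitePresentation_sections F hFP hU⟩
  · obtain ⟨y, rfl⟩ := g.surjective x
    haveI := hfree y
    exact flat_stalk_of_pullback g F y inferInstance

/-- Being of finite type is invariant under isomorphisms. -/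
theorem isFT_of_iso {M N : X.Modules} [M.IsQuasicoherent] [N.IsQuasicoherent] (e : M ≅ N)
    (hM : CohB1.IsFT M) : CohB1.IsFT N := by
  refine Groth.QCohMod.isFT_of_affine_cover N fun x => ?_
  obtain ⟨U, hU, hx⟩ := Groth.QCohMod.exists_affine_mem x
  haveI := Groth.QCohMod.finite_sections M hM hU
  refine ⟨U, hU, hx, Module.Finite.of_surjective
    ({ toFun := fun m => e.hom.app U m
       map_add' := map_add (e.hom.app U).hom
       map_smul' := fun r m => Scheme.Modules.Hom.app_smul e.hom r m } :
      Γ(M, U) →ₗ[Γ(X, U)] Γ(N, U)) fun n => ⟨e.inv.app U n, ?_⟩⟩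
  show (e.inv ≫ e.hom).app U n = n
  rw [e.inv_hom_id]
  rfl

/-- A quasi-coherent module on `Spec A` has finite sections if its pull back along a faithfully flat
`A → B` is of finite type. -/
theorem finite_of_pullback_specMap {A B : CommRingCat.{u}} (φ : A ⟶ B) [Flat (Spec.map φ)]
    [Surjective (Spec.map φ)] (G : (Spec A).Modules) [G.IsQuasicoherent]
    (h : CohB1.IsFT ((Scheme.Modules.pullback (Spec.map φ)).obj G)) :
    Module.Finite A (moduleSpecΓFunctor.obj G : ModuleCat A) := by
  haveI := (isQuasicoherent_iff_isIso_fromTildeΓ G).1 ‹_›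
  let M : ModuleCat A := moduleSpecΓFunctor.obj G
  have hff : φ.hom.FaithfullyFlat :=
    (RingHom.FaithfullyFlat.iff_flat_and_comap_surjective).2
      ⟨HasRingHomProperty.Spec_iff.1 ‹Flat (Spec.map φ)›, ‹Surjective (Spec.map φ)›.surj⟩
  have hT : CohB1.IsFT (tilde ((ModuleCat.extendScalars φ.hom).obj M)) :=
    isFT_of_iso ((Scheme.Modules.pullback (Spec.map φ)).mapIso (asIso G.fromTildeΓ).symm ≪≫
      (Groth.PropsBasic2.TildePullback.iso φ).app M) h
  have hBM := (Groth.PropsBasic.FPSections.isFT_tilde_iff _).1 hT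
  letI := φ.hom.toAlgebra
  haveI : Module.FaithfullyFlat A B := hff
  haveI : Module.Finite B (B ⊗[A] M) := hBM
  exact Module.Finite.of_finite_tensorProduct_of_faithfullyFlat (R := A) (M := M) B

/-- The sections over an affine open of a quasi-coherent module are finite if its pull back along an
fpqc morphism is of finite type. -/
theorem finite_sections_of_pullback (g : X' ⟶ X) [Flat g] [Surjective g] [QuasiCompact g]
    (F : X.Modules) [F.IsQuasicoherent] (h : CohB1.IsFT ((Scheme.Modules.pullback g).obj F))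
    {U : X.Opens} (hU : IsAffineOpen U) : Module.Finite Γ(X, U) Γ(F, U) := by
  obtain ⟨X', f, _, _, _, -⟩ := Groth.Pi1Desc.exists_affine_over g hU
  let a : Spec Γ(X', ⊤) ⟶ X' := X'.isoSpec.inv
  let p : Spec Γ(X', ⊤) ⟶ Spec Γ(X, U) := a ≫ (f ≫ g ∣_ U) ≫ hU.isoSpec.hom
  let φ : Γ(X, U) ⟶ Γ(X', ⊤) := Spec.preimage p
  have hp : Spec.map φ = p := Spec.map_preimage p
  haveI : Flat (Spec.map φ) := by rw [hp]; infer_instance
  haveI : Surjective (Spec.map φ) := by rw [hp]; infer_instance
  have hfac : (a ≫ f ≫ (g ⁻¹ᵁ U).ι) ≫ g = Spec.map φ ≫ hU.fromSpec := by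
    rw [hp]
    simp only [p, Category.assoc, IsAffineOpen.isoSpec_hom_fromSpec, morphismRestrict_ι]
  haveI := IsAffineOpen.isOpenImmersion_fromSpec hU
  let G : (Spec Γ(X, U)).Modules := F.restrict hU.fromSpec
  haveI : G.IsQuasicoherent := Scheme.Modules.isQuasicoherent_restrictFunctor hU.fromSpec F
  let e : (Scheme.Modules.pullback (a ≫ f ≫ (g ⁻¹ᵁ U).ι)).obj ((Scheme.Modules.pullback g).obj F) ≅
      (Scheme.Modules.pullback (Spec.map φ)).obj G :=
    (Scheme.Modules.pullbackComp _ g).app F ≪≫ (Scheme.Modules.pullbackCongr hfac).app F ≪≫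
      ((Scheme.Modules.pullbackComp (Spec.map φ) hU.fromSpec).app F).symm ≪≫
      (Scheme.Modules.pullback (Spec.map φ)).mapIso
        ((Scheme.Modules.restrictFunctorIsoPullback hU.fromSpec).app F).symm
  haveI := finite_of_pullback_specMap φ G
    (isFT_of_iso e (Groth.QCohMod.isFT_pullback _ _ h))
  let e' : (moduleSpecΓFunctor.obj G : ModuleCat Γ(X, U)) ≃ₗ[Γ(X, U)] Γ(F, U) :=
    { Groth.QCohMod.topEquiv hU F with
      map_smul' := fun r x => by
        have := Groth.QCohMod.secEquiv_smul hU F ⊤ (Groth.QCohMod.image_top_fromSpec hU) le_rfl r x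
        rw [Groth.QCohMod.resFun_self] at this
        exact this }
  exact Module.Finite.equiv e'

/-- Finite type descends along fpqc morphisms. -/
theorem isFT_of_pullback (g : X' ⟶ X) [Flat g] [Surjective g] [QuasiCompact g]
    (F : X.Modules) [F.IsQuasicoherent] (h : CohB1.IsFT ((Scheme.Modules.pullback g).obj F)) :
    CohB1.IsFT F :=
  Groth.QCohMod.isFT_of_affine_cover F fun x =>
    let ⟨U, hU, hx⟩ := Groth.QCohMod.exists_affine_mem x
    ⟨U, hU, hx, finite_sections_of_pullback g F h hU⟩

/-- A single flat surjective quasi-compact morphism is an fpqc covering family. -/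
theorem mem_fpqcPrecoverage (f : X' ⟶ X) [Flat f] [Surjective f] [QuasiCompact f] :
    Presieve.ofArrows (fun _ : PUnit.{u + 1} => X') (fun _ => f) ∈ Scheme.fpqcPrecoverage X := by
  rw [Presieve.ofArrows_pUnit]
  exact Scheme.Hom.singleton_mem_fpqcPrecoverage f

/-- Quasi-coherence descends along fpqc morphisms. -/
theorem isQCoh_of_pullback (f : X' ⟶ X) [Flat f] [Surjective f] [QuasiCompact f] (M : X.Modules)
    (h : ((Scheme.Modules.pullback f).obj M).IsQuasicoherent) : M.IsQuasicoherent := by
  have hf := mem_fpqcPrecoverage f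
  obtain ⟨N, hN, ⟨e⟩⟩ := Groth.Agent.S1130.result (fun _ : PUnit.{u + 1} => f) hf
    ((Desc.modPF.{u}.toDescentData (fun _ : PUnit.{u + 1} => f)).obj M) fun _ => h
  obtain ⟨u, hu⟩ := (Groth.DescentBase.toDescentData_map_bijective hf M N).2 e.inv
  have hiso : IsIso ((Scheme.Modules.pullback f).map u) := by
    have h1 : (Scheme.Modules.pullback f).map u = e.inv.hom PUnit.unit :=
      congrArg (fun Φ => Φ.hom PUnit.unit) hu
    rw [h1]
    exact ⟨e.hom.hom PUnit.unit, congrArg (fun Φ => Φ.hom PUnit.unit) e.inv_hom_id,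
      congrArg (fun Φ => Φ.hom PUnit.unit) e.hom_inv_id⟩
  haveI : IsIso u := Groth.QCohMod.isIso_of_stalk u fun x => by
    obtain ⟨y, rfl⟩ := f.surjective x
    rw [ConcreteCategory.isIso_iff_bijective]
    exact Groth.Flatmor4.stalk_bijective_of_pullback f u y (ConcreteCategory.bijective_of_isIso _)
  exact (SheafOfModules.isQuasicoherent (R := X.ringCatSheaf)).prop_of_iso (asIso u).symm hN

end Groth.DescentBase.QCohFpqc
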