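import Groth.Agent.QCohMod.PullbackSections
import Mathlib.AlgebraicGeometry.Morphisms.Flat
import Mathlib.RingTheory.Flat.FaithfullyFlat.Basic

/-!
# Elements of a module over a test scheme

For an `O_X`-module `N` and `g : T ⟶ X`, `El N g` is the module of global sections of `g^*N`.
`el` sends a section of `N` over an open containing the image of `g` to it, `bc` is base change
along `T' ⟶ T`, `flat` is the transitivity of inverse images. All coherence between them is
deduced from `pullback_hom_ext`: a morphism out of an inverse image is determined by the images of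
the pulled back sections.
-/

set_option autoImplicit false
set_option backward.isDefEq.respectTransparency.types false

universe u

open CategoryTheory Limits AlgebraicGeometry Opposite TopologicalSpace TensorProduct

namespace Groth.DescentBase

open Groth.QCohMod (res res_res res_self res_app res_smul resFun germ germ_res pullGerm
  pullGerm_germ stalkAlg pullStalkHom pullStalkHom_tmul pullStalkHom_bijective)
open Groth.PicAux (pullSec pullSec_comp pullSec_smul res_pullSec pullSec_map restrictIso_pullSec)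

variable {X Y Z S T T' T'' : Scheme.{u}}

/-- A morphism out of `g^*M` is determined on pulled back sections. -/
theorem pullback_hom_ext (g : Y ⟶ X) {M : X.Modules} {P : Y.Modules}
    {φ ψ : (Scheme.Modules.pullback g).obj M ⟶ P}
    (h : ∀ (U : X.Opens) (m : Γ(M, U)),
      φ.app (g ⁻¹ᵁ U) (pullSec g M m) = ψ.app (g ⁻¹ᵁ U) (pullSec g M m)) : φ = ψ := by
  refine ((Scheme.Modules.pullbackPushforwardAdjunction g).homEquiv M P).injective ?_
  rw [Adjunction.homEquiv_unit, Adjunction.homEquiv_unit]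
  ext U : 1
  exact AddCommGrpCat.hom_ext (AddMonoidHom.ext fun m => h U m)

/-- A morphism out of `k^*h^*M` is determined on twice pulled back sections. -/
theorem pullback_hom_ext₂ (k : T ⟶ Y) (h : Y ⟶ X) {M : X.Modules} {P : T.Modules}
    {φ ψ : (Scheme.Modules.pullback k).obj ((Scheme.Modules.pullback h).obj M) ⟶ P}
    (H : ∀ (U : X.Opens) (m : Γ(M, U)),
      φ.app (k ⁻¹ᵁ h ⁻¹ᵁ U) (pullSec k _ (pullSec h M m)) =
        ψ.app (k ⁻¹ᵁ h ⁻¹ᵁ U) (pullSec k _ (pullSec h M m))) : φ = ψ := by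
  refine ((Scheme.Modules.pullbackPushforwardAdjunction k).homEquiv _ P).injective ?_
  rw [Adjunction.homEquiv_unit, Adjunction.homEquiv_unit]
  exact pullback_hom_ext h fun U m => H U m

/-- A morphism out of `k^*h^*g^*M` is determined on thrice pulled back sections. -/
theorem pullback_hom_ext₃ (k : T ⟶ Y) (h : Y ⟶ X) (g : X ⟶ S) {M : S.Modules} {P : T.Modules}
    {φ ψ : (Scheme.Modules.pullback k).obj ((Scheme.Modules.pullback h).obj
      ((Scheme.Modules.pullback g).obj M)) ⟶ P}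
    (H : ∀ (U : S.Opens) (m : Γ(M, U)),
      φ.app (k ⁻¹ᵁ h ⁻¹ᵁ g ⁻¹ᵁ U) (pullSec k _ (pullSec h _ (pullSec g M m))) =
        ψ.app (k ⁻¹ᵁ h ⁻¹ᵁ g ⁻¹ᵁ U) (pullSec k _ (pullSec h _ (pullSec g M m)))) : φ = ψ := by
  refine ((Scheme.Modules.pullbackPushforwardAdjunction k).homEquiv _ P).injective ?_
  rw [Adjunction.homEquiv_unit, Adjunction.homEquiv_unit]
  exact pullback_hom_ext₂ h g fun U m => H U m

/-- Transitivity of inverse images along a commutative triangle. -/
noncomputable def pullTo (h : T' ⟶ T) (g : T ⟶ X) (g' : T' ⟶ X) (e : h ≫ g = g') (N : X.Modules) :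
    (Scheme.Modules.pullback h).obj ((Scheme.Modules.pullback g).obj N) ≅
      (Scheme.Modules.pullback g').obj N :=
  (Scheme.Modules.pullbackComp h g).app N ≪≫ (Scheme.Modules.pullbackCongr e).app N

theorem pullTo_pullSec (h : T' ⟶ T) (g : T ⟶ X) (g' : T' ⟶ X) (e : h ≫ g = g') (N : X.Modules)
    {U : X.Opens} (n : Γ(N, U)) :
    (pullTo h g g' e N).hom.app (h ⁻¹ᵁ g ⁻¹ᵁ U) (pullSec h _ (pullSec g N n)) =
      res _ (by subst e; exact le_rfl) (pullSec g' N n) := by
  subst e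
  refine Eq.trans ?_ (res_self _ _).symm
  have h1 : (pullTo h g (h ≫ g) rfl N).hom = (Scheme.Modules.pullbackComp h g).hom.app N := by
    simp [pullTo, Scheme.Modules.pullbackCongr]
  rw [h1]
  exact pullSec_comp h g N n

theorem pullTo_assoc (k : T'' ⟶ T') (h : T' ⟶ T) (k' : T'' ⟶ T) (e₁ : k ≫ h = k') (g : T ⟶ X)
    (g' : T' ⟶ X) (e₂ : h ≫ g = g') (g'' : T'' ⟶ X) (e₃ : k ≫ g' = g'') (e₄ : k' ≫ g = g'')
    (N : X.Modules) :
    (Scheme.Modules.pullback k).map (pullTo h g g' e₂ N).hom ≫ (pullTo k g' g'' e₃ N).hom =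
      (pullTo k h k' e₁ _).hom ≫ (pullTo k' g g'' e₄ N).hom := by
  subst e₁ e₂ e₃
  refine pullback_hom_ext₃ k h g fun U m => ?_
  have L : ((Scheme.Modules.pullback k).map (pullTo h g (h ≫ g) rfl N).hom).app
      (k ⁻¹ᵁ h ⁻¹ᵁ g ⁻¹ᵁ U) (pullSec k _ (pullSec h _ (pullSec g N m))) =
      pullSec k _ (pullSec (h ≫ g) N m) :=
    (pullSec_map k _ _).trans
      (congrArg _ ((pullTo_pullSec h g (h ≫ g) rfl N m).trans (res_self _ _)))
  have R : (pullTo k h (k ≫ h) rfl ((Scheme.Modules.pullback g).obj N)).hom.app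
      (k ⁻¹ᵁ h ⁻¹ᵁ g ⁻¹ᵁ U) (pullSec k _ (pullSec h _ (pullSec g N m))) =
      pullSec (k ≫ h) _ (pullSec g N m) :=
    (pullTo_pullSec k h (k ≫ h) rfl _ (pullSec g N m)).trans (res_self _ _)
  exact ((congrArg _ L).trans ((pullTo_pullSec k (h ≫ g) (k ≫ h ≫ g) rfl N m).trans
    (res_self _ _))).trans
    ((congrArg _ R).trans ((pullTo_pullSec (k ≫ h) g (k ≫ h ≫ g) e₄ N m).trans
      (res_self _ _))).symm

/-- Elements of `N` over a test scheme. -/
abbrev El (N : X.Modules) (g : T ⟶ X) : Type u := Γ((Scheme.Modules.pullback g).obj N, (⊤ : T.Opens))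

/-- The element defined by a section over an open containing the image. -/
noncomputable def el {N : X.Modules} (g : T ⟶ X) {U : X.Opens} (hU : ⊤ ≤ g ⁻¹ᵁ U)
    (n : Γ(N, U)) : El N g :=
  res _ hU (pullSec g N n)

/-- Base change of elements. -/
noncomputable def bc {N : X.Modules} (h : T' ⟶ T) (g : T ⟶ X) (g' : T' ⟶ X) (e : h ≫ g = g')
    (x : El N g) : El N g' :=
  (pullTo h g g' e N).hom.app ⊤ (pullSec h _ x)

/-- Functoriality of elements in the module. -/
noncomputable def elMap {N P : X.Modules} (φ : N ⟶ P) (g : T ⟶ X) (x : El N g) : El P g :=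
  ((Scheme.Modules.pullback g).map φ).app ⊤ x

/-- Elements of an inverse image are elements of the module. -/
noncomputable def flat {N : S.Modules} (a : X ⟶ S) (g : T ⟶ X) (c : T ⟶ S) (e : g ≫ a = c)
    (x : El ((Scheme.Modules.pullback a).obj N) g) : El N c :=
  (pullTo g a c e N).hom.app ⊤ x

variable {N P : X.Modules} {U V : X.Opens}

theorem el_res (g : T ⟶ X) (hV : ⊤ ≤ g ⁻¹ᵁ V) (hVU : V ≤ U) (n : Γ(N, U)) :
    el g hV (res N hVU n) = el g (hV.trans (g.preimage_mono hVU)) n :=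
  (congrArg (res _ hV) (res_pullSec g N hVU n).symm).trans (res_res _ _ _ _)

theorem elMap_el (φ : N ⟶ P) (g : T ⟶ X) (hU : ⊤ ≤ g ⁻¹ᵁ U) (n : Γ(N, U)) :
    elMap φ g (el g hU n) = el g hU (φ.app U n) :=
  (res_app _ hU _).symm.trans (congrArg (res _ hU) (pullSec_map g φ n))

theorem bc_el (h : T' ⟶ T) (g : T ⟶ X) (g' : T' ⟶ X) (e : h ≫ g = g') (hU : ⊤ ≤ g ⁻¹ᵁ U)
    (n : Γ(N, U)) :
    bc h g g' e (el g hU n) = el g' (by subst e; exact h.preimage_mono hU) n := by
  subst e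
  refine (congrArg ((pullTo h g _ rfl N).hom.app ⊤) (res_pullSec h _ hU (pullSec g N n)).symm).trans ?_
  refine ((res_app (pullTo h g _ rfl N).hom (h.preimage_mono hU) _).symm).trans ?_
  refine (congrArg (res _ _) (pullTo_pullSec h g _ rfl N n)).trans ?_
  exact res_res _ _ _ _

theorem flat_el {N : S.Modules} (a : X ⟶ S) (g : T ⟶ X) (c : T ⟶ S) (e : g ≫ a = c)
    {U : S.Opens} (hU : ⊤ ≤ g ⁻¹ᵁ a ⁻¹ᵁ U) (n : Γ(N, U)) :
    flat a g c e (el g hU (pullSec a N n)) = el c (by subst e; exact hU) n := by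
  subst e
  refine ((res_app (pullTo g a _ rfl N).hom hU _).symm).trans ?_
  exact (congrArg (res _ hU) (pullTo_pullSec g a _ rfl N n)).trans (res_res _ _ _ _)

theorem bc_bc (k : T'' ⟶ T') (h : T' ⟶ T) (k' : T'' ⟶ T) (e₁ : k ≫ h = k') (g : T ⟶ X)
    (g' : T' ⟶ X) (e₂ : h ≫ g = g') (g'' : T'' ⟶ X) (e₃ : k ≫ g' = g'') (e₄ : k' ≫ g = g'')
    (x : El N g) : bc k g' g'' e₃ (bc h g g' e₂ x) = bc k' g g'' e₄ x := by
  have H := congr(($(pullTo_assoc k h k' e₁ g g' e₂ g'' e₃ e₄ N)).app ⊤ (pullSec k _ (pullSec h _ x)))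
  simp only [Scheme.Modules.Hom.comp_app, CategoryTheory.comp_apply] at H
  refine Eq.trans ?_ (H.trans ?_)
  · exact congrArg ((pullTo k g' g'' e₃ N).hom.app ⊤) (pullSec_map k (pullTo h g g' e₂ N).hom
      (U := ⊤) (pullSec h _ x)).symm
  · refine congrArg ((pullTo k' g g'' e₄ N).hom.app ⊤) ((pullTo_pullSec k h k' e₁ _ x).trans ?_)
    exact res_self _ _

theorem flat_bc {N : S.Modules} (a : X ⟶ S) (h : T' ⟶ T) (g : T ⟶ X) (g' : T' ⟶ X)
    (e : h ≫ g = g') (c : T ⟶ S) (ec : g ≫ a = c) (c' : T' ⟶ S) (ec' : g' ≫ a = c')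
    (x : El ((Scheme.Modules.pullback a).obj N) g) :
    flat a g' c' ec' (bc h g g' e x) =
      bc h c c' (by rw [← ec, ← ec', ← e, Category.assoc]) (flat a g c ec x) := by
  have H := congr(($(pullTo_assoc h g g' e a c ec c' (by rw [← ec, ← ec', ← e, Category.assoc])
    ec' N)).app ⊤ (pullSec h _ x))
  simp only [Scheme.Modules.Hom.comp_app, CategoryTheory.comp_apply] at H
  refine H.symm.trans ?_
  exact congrArg _ (pullSec_map h (pullTo g a c ec N).hom (U := ⊤) x)

theorem elMap_bc (φ : N ⟶ P) (h : T' ⟶ T) (g : T ⟶ X) (g' : T' ⟶ X) (e : h ≫ g = g')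
    (x : El N g) : elMap φ g' (bc h g g' e x) = bc h g g' e (elMap φ g x) := by
  have hnat : (Scheme.Modules.pullback h).map ((Scheme.Modules.pullback g).map φ) ≫
      (pullTo h g g' e P).hom =
      (pullTo h g g' e N).hom ≫ (Scheme.Modules.pullback g').map φ := by
    subst e
    simp [pullTo, Scheme.Modules.pullbackCongr]
    exact (Scheme.Modules.pullbackComp h g).hom.naturality φ
  have H := congr(($hnat).app ⊤ (pullSec h _ x))
  simp only [Scheme.Modules.Hom.comp_app, CategoryTheory.comp_apply] at H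
  refine H.symm.trans ?_
  exact congrArg _ (pullSec_map h ((Scheme.Modules.pullback g).map φ) (U := ⊤) x)

theorem el_add (g : T ⟶ X) (hU : ⊤ ≤ g ⁻¹ᵁ U) (m n : Γ(N, U)) :
    el g hU (m + n) = el g hU m + el g hU n :=
  (congrArg (res _ hU) (map_add _ m n)).trans (map_add _ _ _)

theorem el_sub (g : T ⟶ X) (hU : ⊤ ≤ g ⁻¹ᵁ U) (m n : Γ(N, U)) :
    el g hU (m - n) = el g hU m - el g hU n :=
  (congrArg (res _ hU) (map_sub _ m n)).trans (map_sub _ _ _)

theorem el_zero (g : T ⟶ X) (hU : ⊤ ≤ g ⁻¹ᵁ U) : el g hU (0 : Γ(N, U)) = 0 :=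
  (congrArg (res _ hU) (map_zero _)).trans (map_zero _)

theorem el_smul (g : T ⟶ X) (hU : ⊤ ≤ g ⁻¹ᵁ U) (r : Γ(X, U)) (n : Γ(N, U)) :
    el g hU (r • n) = g.appLE U ⊤ hU r • el g hU n :=
  QCohMod.res_pullSec_smul g N hU r n

theorem bc_add (h : T' ⟶ T) (g : T ⟶ X) (g' : T' ⟶ X) (e : h ≫ g = g') (x y : El N g) :
    bc h g g' e (x + y) = bc h g g' e x + bc h g g' e y :=
  (congrArg _ (map_add _ x y)).trans (map_add _ _ _)

theorem bc_sub (h : T' ⟶ T) (g : T ⟶ X) (g' : T' ⟶ X) (e : h ≫ g = g') (x y : El N g) :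
    bc h g g' e (x - y) = bc h g g' e x - bc h g g' e y :=
  (congrArg _ (map_sub _ x y)).trans (map_sub _ _ _)

theorem bc_zero (h : T' ⟶ T) (g : T ⟶ X) (g' : T' ⟶ X) (e : h ≫ g = g') :
    bc h g g' e (0 : El N g) = 0 :=
  (congrArg ((pullTo h g g' e N).hom.app ⊤) (map_zero _)).trans (map_zero _)

theorem bc_smul (h : T' ⟶ T) (g : T ⟶ X) (g' : T' ⟶ X) (e : h ≫ g = g') (r : Γ(T, ⊤))
    (x : El N g) : bc h g g' e (r • x) = h.appTop r • bc h g g' e x := by
  rw [bc, pullSec_smul]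
  exact Scheme.Modules.Hom.app_smul _ _ _

theorem flat_smul {N : S.Modules} (a : X ⟶ S) (g : T ⟶ X) (c : T ⟶ S) (e : g ≫ a = c)
    (r : Γ(T, ⊤)) (x : El ((Scheme.Modules.pullback a).obj N) g) :
    flat a g c e (r • x) = r • flat a g c e x :=
  Scheme.Modules.Hom.app_smul _ _ _

theorem flat_bijective {N : S.Modules} (a : X ⟶ S) (g : T ⟶ X) (c : T ⟶ S) (e : g ≫ a = c) :
    Function.Bijective (flat (N := N) a g c e) :=
  ConcreteCategory.bijective_of_isIso ((pullTo g a c e N).hom.app ⊤)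

/-- A germ killed by a flat inverse image is zero. -/
theorem germ_eq_zero_of_pullSec (g : Y ⟶ X) [Flat g] (M : X.Modules) {U : X.Opens} (y : Y)
    (hy : g y ∈ U) (m : Γ(M, U))
    (h : germ ((Scheme.Modules.pullback g).obj M) y (show y ∈ g ⁻¹ᵁ U from hy) (pullSec g M m) = 0) :
    germ M (g y) hy m = 0 := by
  let _ := stalkAlg g y
  have : Module.Flat (X.presheaf.stalk (g y)) (Y.presheaf.stalk y) := Flat.stalkMap g y
  have : IsLocalHom (algebraMap (X.presheaf.stalk (g y)) (Y.presheaf.stalk y)) :=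
    inferInstanceAs (IsLocalHom (g.stalkMap y).hom)
  have : Module.FaithfullyFlat (X.presheaf.stalk (g y)) (Y.presheaf.stalk y) :=
    Module.FaithfullyFlat.of_flat_of_isLocalHom
  have h1 : pullStalkHom g M y (1 ⊗ₜ germ M (g y) hy m) = 0 := by
    rw [pullStalkHom_tmul, one_smul, pullGerm_germ]
    exact h
  rw [map_eq_zero_iff _ (pullStalkHom_bijective g M y).1] at h1
  exact Module.FaithfullyFlat.tensorProduct_mk_injective _ (h1.trans (tmul_zero _ _).symm)

/-- Sections are detected by the germs. -/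
theorem eq_zero_of_germ (M : X.Modules) {U : X.Opens} (m : Γ(M, U))
    (h : ∀ x (hx : x ∈ U), germ M x hx m = 0) : m = 0 :=
  TopCat.Presheaf.section_ext (⟨M.presheaf, M.isSheaf⟩ : TopCat.Sheaf Ab.{u} X) U m 0
    fun x hx => (h x hx).trans (map_zero _).symm

/-- Sections are detected by a flat family covering the open. -/
theorem eq_zero_of_pullSec {κ : Type*} {Y : κ → Scheme.{u}} (g : ∀ k, Y k ⟶ X) [∀ k, Flat (g k)]
    (hsurj : ∀ x ∈ U, ∃ k y, g k y = x) (n : Γ(N, U)) (h : ∀ k, pullSec (g k) N n = 0) :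
    n = 0 := by
  refine eq_zero_of_germ N n fun x hx => ?_
  obtain ⟨k, y, rfl⟩ := hsurj x hx
  exact germ_eq_zero_of_pullSec (g k) N y hx n (by rw [h k, map_zero])

/-- Sections are detected by elements over a flat family covering the open. -/
theorem eq_zero_of_el {κ : Type*} {Y : κ → Scheme.{u}} (g : ∀ k, Y k ⟶ X) [∀ k, Flat (g k)]
    (hU : ∀ k, ⊤ ≤ g k ⁻¹ᵁ U) (hsurj : ∀ x ∈ U, ∃ k y, g k y = x) (n : Γ(N, U))
    (h : ∀ k, el (g k) (hU k) n = 0) : n = 0 := by
  refine eq_zero_of_germ N n fun x hx => ?_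
  obtain ⟨k, y, rfl⟩ := hsurj x hx
  refine germ_eq_zero_of_pullSec (g k) N y hx n ?_
  rw [← germ_res _ (hU k) y trivial]
  exact (congrArg _ (h k)).trans (map_zero _)

/-- Elements are detected by a flat covering family of the test scheme. -/
theorem eq_zero_of_bc {κ : Type*} {T' : κ → Scheme.{u}} (h : ∀ k, T' k ⟶ T) [∀ k, Flat (h k)]
    (hsurj : ∀ t, ∃ k t', h k t' = t) (g : T ⟶ X) (g' : ∀ k, T' k ⟶ X)
    (e : ∀ k, h k ≫ g = g' k) (x : El N g) (hx : ∀ k, bc (h k) g (g' k) (e k) x = 0) : x = 0 :=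
  eq_zero_of_pullSec h (fun t _ => hsurj t) x fun k =>
    (ConcreteCategory.bijective_of_isIso ((pullTo (h k) g (g' k) (e k) N).hom.app ⊤)).1
      ((hx k).trans (map_zero _).symm)

/-- Over an open subscheme every element comes from a section. -/
theorem exists_el_eq (W : X.Opens) (x : El N W.ι) :
    ∃ n : Γ(N, W), el W.ι (Scheme.Opens.ι_preimage_self W).ge n = x := by
  set φ := (Scheme.Modules.restrictFunctorIsoPullback W.ι).hom.app N
  obtain ⟨y, hy⟩ := (ConcreteCategory.bijective_of_isIso (φ.app ⊤)).2 x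
  have hle : W ≤ W.ι ''ᵁ ⊤ := (Scheme.Opens.ι_image_top W).ge
  refine ⟨res N hle y, ?_⟩
  rw [el, ← restrictIso_pullSec]
  refine (res_app φ _ _).trans ?_
  rw [← hy]
  refine congrArg _ ?_
  have : ∀ {W' W'' : X.Opens} (a : W' ≤ W.ι ''ᵁ ⊤) (b : W'' ≤ W') (c : W.ι ''ᵁ ⊤ ≤ W'')
      (z : Γ(N, W.ι ''ᵁ ⊤)), res N c (res N b (res N a z)) = z := fun a b c z => by
    rw [res_res, res_res]; exact res_self N z
  exact this _ _ (W.ι.image_mono (Scheme.Opens.ι_preimage_self W).ge) y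

end Groth.DescentBase
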