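import Groth.Agent.EtCd.AcycCriterion
import Groth.Agent.EtCd.LTorsionRpush
import Groth.Agent.EtaleBase.PushStalkFinite
import Groth.Agent.EtaleBase.PushEssImage
import Groth.Agent.SiteCohomology.HigherDirectImage
import Groth.Agent.SiteCohomology.AcyclicImage
import Groth.Agent.SiteCohomology.AbPullback
import Groth.Agent.EtaleBase.RpushExact
import Groth.Agent.EtaleBase.BaseChange0

/-!
# Units and higher direct images: étale-local and finite base change
-/

set_option autoImplicit false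
set_option synthInstance.maxHeartbeats 400000
set_option backward.isDefEq.respectTransparency.types false
set_option linter.style.haveILetI false

universe u

open CategoryTheory CategoryTheory.Limits AlgebraicGeometry Opposite
open Groth.EtaleBase

namespace Groth.DescentBase.AcyclicLocal

/-- Units are invertible and higher direct images vanish up to degree `n`. -/
def P (L : Set ℕ) (n : ℕ) {A B : Scheme.{u}} (f : A ⟶ B) : Prop :=
  ∀ F : EtCoh.Ab B, EtAcyc.IsLTorsion L F → IsIso ((EtCoh.pullPushAdj f).unit.app F) ∧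
    ∀ q : ℕ, 1 ≤ q → q ≤ n → IsZero ((EtCoh.Rpush f q).obj ((EtCoh.pull f).obj F))

theorem compN_of_P {L : Set ℕ} {n : ℕ} {A B : Scheme.{u}} {f : A ⟶ B} (h : P L n f) :
    EtAcyc.CompN f L n :=
  Groth.EtCdCriterion.compN_of_criterion f n h

theorem isLTorsion_push {L : Set ℕ} {A B : Scheme.{u}} (f : A ⟶ B) [QuasiCompact f] [QuasiSeparated f]
    {F : EtCoh.Ab A} (hF : EtAcyc.IsLTorsion L F) : EtAcyc.IsLTorsion L ((EtCoh.push f).obj F) := by
  have : PreservesLimitsOfSize.{0, 0} (EtCoh.push f) := (EtCoh.pullPushAdj f).rightAdjoint_preservesLimits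
  have : PreservesFiniteLimits (EtCoh.push f) := PreservesLimitsOfSize.preservesFiniteLimits _
  exact Groth.EtCd.isLTorsion_of_iso ((EtCoh.push f).rightDerivedZeroIsoSelf.app F)
    (Groth.EtCdLTorsionRpush.isLTorsion_Rpush f hF 0)

theorem isZero_of_exists_stalk {V : Scheme.{u}} (G : EtCoh.Ab V)
    (h : ∀ s : V, ∃ (Ω : Type u) (_ : Field Ω) (_ : IsSepClosed Ω) (ξ : Spec (CommRingCat.of Ω) ⟶ V),
      ξ.base default = s ∧ Subsingleton ((EtCoh.stalk ξ).obj G)) : IsZero G := by
  haveI : IsIso (0 : G ⟶ G) := isIso_of_exists_stalk _ fun s => by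
    obtain ⟨Ω, i₁, i₂, ξ, hξ, hs⟩ := h s
    exact ⟨Ω, i₁, i₂, ξ, hξ, fun a b _ => Subsingleton.elim a b, fun b => ⟨b, Subsingleton.elim _ _⟩⟩
  exact (IsZero.iff_id_eq_zero _).2 ((isIsoZeroEquiv _ _).1 ‹_›).1

section Local

variable {V : Scheme.{u}} {κ : Type u} {U : κ → Scheme.{u}} (j : ∀ k, U k ⟶ V)
  (hj : ∀ v : V, ∃ (k : κ) (a : U k), (j k).base a = v)

include hj in
theorem isIso_of_cover {A B : EtCoh.Ab V} (φ : A ⟶ B) (h : ∀ k, IsIso ((EtCoh.pull (j k)).map φ)) : IsIso φ := by
  refine isIso_of_exists_stalk φ fun s => ?_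
  obtain ⟨k, a, rfl⟩ := hj s
  haveI := h k
  refine ⟨_, inferInstance, inferInstance, geomPoint a ≫ j k, ?_, ?_⟩
  · rw [Scheme.Hom.comp_apply, geomPoint_apply]
  · haveI : IsIso ((EtCoh.stalk (geomPoint a ≫ j k)).map φ) :=
      (NatIso.isIso_map_iff (stalkPullIso (j k) (geomPoint a)) φ).2 (inferInstanceAs
        (IsIso ((EtCoh.stalk (geomPoint a)).map ((EtCoh.pull (j k)).map φ))))
    exact ConcreteCategory.bijective_of_isIso _

include hj in
theorem isZero_of_cover (G : EtCoh.Ab V) (h : ∀ k, IsZero ((EtCoh.pull (j k)).obj G)) : IsZero G := by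
  haveI : IsIso (0 : G ⟶ G) := isIso_of_cover j hj _ fun k => by
    rw [Functor.map_zero]
    exact ⟨0, (h k).eq_of_src _ _, (h k).eq_of_src _ _⟩
  exact (IsZero.iff_id_eq_zero _).2 ((isIsoZeroEquiv _ _).1 ‹_›).1

include hj in
/-- `P` is local in the étale topology. -/
theorem P_of_cover [∀ k, AlgebraicGeometry.Etale (j k)] {L : Set ℕ} {n : ℕ} {A : Scheme.{u}} (f : A ⟶ V)
    (h : ∀ k, P L n (pullback.snd f (j k))) : P L n f := by
  intro F hF
  refine ⟨isIso_of_cover j hj _ fun k => ?_, fun q h1 h2 => isZero_of_cover j hj _ fun k => ?_⟩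
  · obtain ⟨θ, hθ⟩ := Groth.EtCdCriterion.exists_unit_restrict f (j k) F
    haveI := (h k _ (Groth.EtCdAcycComp.isLTorsion_pull (j k) hF)).1
    haveI := Groth.EtCdCriterion.isIso_baseChange0_etale f (j k) ((EtCoh.pull f).obj F)
    haveI : IsIso ((EtCoh.pull (j k)).map ((EtCoh.pullPushAdj f).unit.app F) ≫
        EtCoh.baseChange0 f (j k) (pullback.snd f (j k)) (pullback.fst f (j k)) pullback.condition
          ((EtCoh.pull f).obj F)) := by
      rw [hθ]
      infer_instance
    exact IsIso.of_isIso_comp_right _ (EtCoh.baseChange0 f (j k) (pullback.snd f (j k)) (pullback.fst f (j k))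
      pullback.condition ((EtCoh.pull f).obj F))
  · obtain ⟨θ, -⟩ := Groth.EtCdCriterion.exists_unit_restrict f (j k) F
    haveI := Groth.EtCdCriterion.isIso_bcQ_etale f (j k) ((EtCoh.pull f).obj F) q
    exact ((h k _ (Groth.EtCdAcycComp.isLTorsion_pull (j k) hF)).2 q h1 h2).of_iso
      (asIso (EtBC.bcQ f (j k) (pullback.snd f (j k)) (pullback.fst f (j k)) pullback.condition q
        ((EtCoh.pull f).obj F)) ≪≫ (EtCoh.Rpush (pullback.snd f (j k)) q).mapIso θ.symm)

end Local

section Finite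

variable {A B A' B' : Scheme.{u}} (f : A ⟶ B) (p : B' ⟶ B) [IsFinite p] (f' : A' ⟶ B') (p' : A' ⟶ A)

theorem stalk_eq_zero_of_push {Ω : Type u} [Field Ω] [IsAlgClosed Ω] (ξ : Spec (CommRingCat.of Ω) ⟶ B')
    (G : EtCoh.Ab B') (h : IsZero ((EtCoh.push p).obj G)) (a : (EtCoh.stalk ξ).obj G) : a = 0 := by
  classical
  obtain ⟨V, s', σ, hσ⟩ := exists_germ_push_values p (ξ ≫ p) G (Pi.single ⟨ξ, rfl⟩ a)
  have h' := (hσ ⟨ξ, rfl⟩).trans (Pi.single_eq_same _ _)
  have hz : IsZero (G.obj.obj (op ((EtCoh.bc p).obj V))) :=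
    Functor.map_isZero (sheafToPresheaf B.smallEtaleTopology AddCommGrpCat.{u + 1} ⋙ (evaluation _ _).obj (op V)) h
  haveI := AddCommGrpCat.subsingleton_of_isZero hz
  rw [← h', Subsingleton.elim σ 0, map_zero]

theorem geomPoint_alg (s : B') :
    (Spec.map (CommRingCat.ofHom (algebraMap (B'.residueField s) (AlgebraicClosure (B'.residueField s)))) ≫
      B'.fromSpecResidueField s).base default = s := by
  rw [Scheme.Hom.comp_apply, Scheme.fromSpecResidueField_apply]

theorem isZero_of_push (G : EtCoh.Ab B') (h : IsZero ((EtCoh.push p).obj G)) : IsZero G :=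
  isZero_of_exists_stalk G fun s =>
    ⟨AlgebraicClosure (B'.residueField s), inferInstance, inferInstance,
      Spec.map (CommRingCat.ofHom (algebraMap (B'.residueField s) (AlgebraicClosure (B'.residueField s)))) ≫
        B'.fromSpecResidueField s,
      geomPoint_alg s,
      ⟨fun a b => (stalk_eq_zero_of_push p _ G h a).trans (stalk_eq_zero_of_push p _ G h b).symm⟩⟩

variable (hsq : IsPullback p' f' f p)

include hsq in
/-- `P` passes to finite base change. -/
theorem P_of_finite {L : Set ℕ} {n : ℕ} (h : P L n f) : P L n f' := by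
  haveI : IsFinite p' := MorphismProperty.of_isPullback hsq.flip ‹IsFinite p›
  intro F hF
  have hpF : EtAcyc.IsLTorsion L ((EtCoh.push p).obj F) := isLTorsion_push p hF
  obtain ⟨hu, hR⟩ := h _ hpF
  haveI := Groth.EtaleBase.isIso_baseChange0 p f p' f' hsq.flip F
  have hunit : (EtCoh.pullPushAdj f).unit.app ((EtCoh.push p).obj F) ≫
      (EtCoh.push f).map (EtCoh.baseChange0 p f p' f' hsq.flip.w F) =
      (EtCoh.push p).map ((EtCoh.pullPushAdj f').unit.app F) ≫ (EtCoh.pushComp p f').hom.app _ ≫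
        (EtCoh.pushCongr hsq.flip.w).hom.app _ ≫ (EtCoh.pushComp f p').inv.app _ :=
    ((EtCoh.pullPushAdj f).homEquiv_unit _ _ _).symm.trans (Equiv.apply_symm_apply _ _)
  haveI : IsIso ((EtCoh.push p).map ((EtCoh.pullPushAdj f').unit.app F)) := by
    haveI : IsIso ((EtCoh.push p).map ((EtCoh.pullPushAdj f').unit.app F) ≫ (EtCoh.pushComp p f').hom.app _ ≫
        (EtCoh.pushCongr hsq.flip.w).hom.app _ ≫ (EtCoh.pushComp f p').inv.app _) := by
      rw [← hunit]
      infer_instance
    exact IsIso.of_isIso_comp_right _ ((EtCoh.pushComp p f').hom.app _ ≫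
        (EtCoh.pushCongr hsq.flip.w).hom.app _ ≫ (EtCoh.pushComp f p').inv.app _)
  have hpl : ∀ {C D : Scheme.{u}} (g : C ⟶ D), PreservesFiniteLimits (EtCoh.push g) := fun g =>
    haveI : PreservesLimitsOfSize.{0, 0} (EtCoh.push g) := (EtCoh.pullPushAdj g).rightAdjoint_preservesLimits
    PreservesLimitsOfSize.preservesFiniteLimits _
  haveI := hpl p
  haveI := hpl p'
  haveI := hpl f
  haveI := hpl f'
  haveI := push_preservesEpimorphisms p
  haveI := (EtCoh.push p).preservesHomology_of_preservesEpis_and_kernels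
  haveI : PreservesFiniteColimits (EtCoh.push p) :=
    Functor.preservesFiniteColimits_of_preservesHomology (EtCoh.push p)
  refine ⟨?_, fun q h1 h2 => ?_⟩
  · let u' := (EtCoh.pullPushAdj f').unit.app F
    have hk : IsZero (kernel u') := isZero_of_push p _
      ((isZero_kernel_of_mono ((EtCoh.push p).map u')).of_iso (PreservesKernel.iso (EtCoh.push p) u'))
    have hc : IsZero (cokernel u') := isZero_of_push p _
      ((isZero_cokernel_of_epi ((EtCoh.push p).map u')).of_iso (PreservesCokernel.iso (EtCoh.push p) u'))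
    haveI : Mono u' := Preadditive.mono_of_kernel_zero (hk.eq_of_src _ _)
    haveI : Epi u' := Preadditive.epi_of_cokernel_zero (hc.eq_of_tgt _ _)
    exact isIso_of_mono_of_epi u'
  · refine isZero_of_push p _ ?_
    obtain ⟨e₁⟩ := Groth.SiteCohomology.nonempty_rightDerived_comp_exact (EtCoh.push f') (EtCoh.push p)
      (EtCoh.push p' ⋙ EtCoh.push f) (EtCoh.pushComp f p' ≪≫ EtCoh.pushCongr hsq.w ≪≫ (EtCoh.pushComp p f').symm)
      ((EtCoh.pull f').obj F) q
    obtain ⟨e₂⟩ := Groth.SiteCohomology.nonempty_rightDerived_comp_of_acyclic (EtCoh.push p') (EtCoh.push f)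
      (fun I hI => haveI := hI; Injective.injective_of_adjoint (EtCoh.pullPushAdj p') I)
      ((EtCoh.pull f').obj F) (fun k => Groth.EtaleBase.isZero_Rpush p' _ (k + 1) (by omega)) q
    exact (hR q h1 h2).of_iso (e₁.symm ≪≫ e₂.symm ≪≫
      (EtCoh.Rpush f q).mapIso (asIso (EtCoh.baseChange0 p f p' f' hsq.flip.w F)).symm)

end Finite

end Groth.DescentBase.AcyclicLocal
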