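import Groth.Agent.EtCd.AcycCriterion
import Groth.Agent.DescentBase.AcyclicLocal
import Groth.Agent.EtaleBase.DisjointGlue

/-!
# Acyclicity checked on affine étale schemes
-/

set_option autoImplicit false
set_option synthInstance.maxHeartbeats 400000
set_option backward.isDefEq.respectTransparency.types false
set_option linter.style.haveILetI false

universe u

open CategoryTheory CategoryTheory.Limits CategoryTheory.Abelian AlgebraicGeometry Opposite
open Groth.EtaleBase Groth.EtCdCriterion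

namespace Groth.DescentBase.AcyclicAffine

variable {P V : Scheme.{u}} (f : P ⟶ V)

/-- Maps bijective on the sections over affine étale schemes are isomorphisms. -/
theorem isIso_of_affine {A B : EtCoh.Ab V} (φ : A ⟶ B)
    (h : ∀ W : V.Etale, IsAffine W.left → Function.Bijective (φ.hom.app (op W))) : IsIso φ := by
  refine (Sheaf.isLocallyBijective_iff_isIso φ).1 ⟨⟨fun {W} x y e => ?_⟩, ⟨fun {W} t => ?_⟩⟩
  · obtain ⟨W⟩ := W
    refine mem_topology_iff _ |>.2 fun a => ?_
    obtain ⟨_, ⟨O, hO, rfl⟩, haO, -⟩ := W.left.isBasis_affineOpens.exists_subset_of_mem_open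
      (Set.mem_univ a) isOpen_univ
    refine ⟨openObj W O, openHom W O, ⟨a, haO⟩, ?_, rfl⟩
    refine (h (openObj W O) hO).1 ?_
    rw [NatTrans.naturality_apply φ.hom, NatTrans.naturality_apply φ.hom, e]
  · refine mem_topology_iff _ |>.2 fun a => ?_
    obtain ⟨_, ⟨O, hO, rfl⟩, haO, -⟩ := W.left.isBasis_affineOpens.exists_subset_of_mem_open
      (Set.mem_univ a) isOpen_univ
    refine ⟨openObj W O, openHom W O, ⟨a, haO⟩, ?_, rfl⟩
    obtain ⟨r, hr⟩ := (h (openObj W O) hO).2 (B.obj.map (openHom W O).op t)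
    exact ⟨r, hr⟩

/-- Maps bijective on global sections after restriction along every affine étale scheme are isomorphisms. -/
theorem isIso_of_bijective_restrict_affine {V : Scheme.{u}} {A B : EtCoh.Ab V} (φ : A ⟶ B)
    (h : ∀ W : V.Etale, IsAffine W.left → Function.Bijective fun z : EtCoh.const W.left ℤ ⟶ (EtCoh.pull W.hom).obj A =>
      z ≫ (EtCoh.pull W.hom).map φ) : IsIso φ := by
  refine isIso_of_affine φ fun W hW => ?_
  haveI : AlgebraicGeometry.Etale W.hom := W.prop
  haveI := InjCoh.jCont W.hom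
  let e := pullRestrIso W.hom
  let evA := EtLimit.Resn.ev (Y := W.left) ((EtShriek.restrAlong W.hom).obj A)
  let evB := EtLimit.Resn.ev (Y := W.left) ((EtShriek.restrAlong W.hom).obj B)
  have h1 : Function.Bijective
      (((EtShriek.restrAlong W.hom).map φ).hom.app (op (EtCoh.top W.left))) := by
    have h2 : Function.Bijective fun z : EtCoh.const W.left ℤ ⟶ (EtShriek.restrAlong W.hom).obj A =>
        z ≫ (EtShriek.restrAlong W.hom).map φ := by
      have : (fun z : EtCoh.const W.left ℤ ⟶ (EtShriek.restrAlong W.hom).obj A =>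
          z ≫ (EtShriek.restrAlong W.hom).map φ) =
          (fun z => z ≫ e.hom.app B) ∘ (fun z => z ≫ (EtCoh.pull W.hom).map φ) ∘
            (fun z => z ≫ e.inv.app A) := funext fun z => by
        show _ = ((z ≫ e.inv.app A) ≫ (EtCoh.pull W.hom).map φ) ≫ e.hom.app B
        rw [Category.assoc, Category.assoc, e.hom.naturality φ, e.inv_hom_id_app_assoc]
      rw [this]
      exact ((e.app B).homToEquiv).bijective.comp ((h W hW).comp (e.app A).symm.homToEquiv.bijective)
    have : ⇑(((EtShriek.restrAlong W.hom).map φ).hom.app (op (EtCoh.top W.left))) =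
        evB ∘ (fun z => z ≫ (EtShriek.restrAlong W.hom).map φ) ∘ evA.symm := funext fun a => by
      show _ = evB (evA.symm a ≫ (EtShriek.restrAlong W.hom).map φ)
      exact (congrArg _ (evA.apply_symm_apply a).symm).trans
        (EtLimit.Resn.ev_comp (evA.symm a) ((EtShriek.restrAlong W.hom).map φ)).symm
    rw [this]
    exact evB.bijective.comp (h2.comp evA.symm.bijective)
  haveI : IsIso (φ.hom.app (op ((EtShriek.compEtale W.hom).obj (EtCoh.top W.left)))) :=
    (ConcreteCategory.isIso_iff_bijective _).2 h1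
  let ι : (EtShriek.compEtale W.hom).obj (EtCoh.top W.left) ≅ W :=
    (MorphismProperty.Comma.forgetFullyFaithful _ _ _).preimageIso
      (Over.isoMk (Iso.refl _) rfl)
  exact (ConcreteCategory.isIso_iff_bijective _).1 ((NatTrans.isIso_app_iff_of_iso φ.hom ι.op).2 inferInstance)

/-- `CompN` for every affine étale base change of `f`. -/
def GoodAff (L : Set ℕ) (n : ℕ) {P V : Scheme.{u}} (f : P ⟶ V) : Prop :=
  ∀ (U : Scheme.{u}) [IsAffine U] (j : U ⟶ V) [AlgebraicGeometry.Etale j], EtAcyc.CompN (pullback.snd f j) L n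

variable {U : Scheme.{u}} (j : U ⟶ V) [AlgebraicGeometry.Etale j]

theorem GoodAff.restrict {L : Set ℕ} {n : ℕ} {f : P ⟶ V} (h : GoodAff L n f) :
    GoodAff L n (pullback.snd f j) := by
  intro U' _ k _
  rw [← pullbackLeftPullbackSndIso_hom_snd f j k,
    Groth.EtCdAcycComp.compN_comp_iff _ _ (Groth.EtCdAcycComp.compN_of_isIso _ L n)]
  exact h U' (k ≫ j)

/-- Acyclicity makes the units invertible. -/
theorem GoodAff.isIso_unit {L : Set ℕ} {n : ℕ} {f : P ⟶ V} (h : GoodAff L n f) (F : EtCoh.Ab V)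
    (hF : EtAcyc.IsLTorsion L F) : IsIso ((EtCoh.pullPushAdj f).unit.app F) := by
  refine isIso_of_bijective_restrict_affine _ fun W hW => ?_
  haveI : AlgebraicGeometry.Etale W.hom := W.prop
  let f' := pullback.snd f W.hom
  let F' := (EtCoh.pull W.hom).obj F
  have hc := ((h W.left W.hom) F' (Groth.EtCdAcycComp.isLTorsion_pull _ hF)).1 0 (Nat.zero_le _)
  have h0 : Function.Bijective fun x : EtCoh.H W.left F' 0 =>
      x.comp (Ext.mk₀ ((EtCoh.pullPushAdj f').unit.app F')) (add_zero 0) := by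
    refine (Function.Bijective.of_comp_iff'
      (Groth.EtCdLeray.HofPush_zero_bijective f' ((EtCoh.pull f').obj F')) _).1 ?_
    rw [show (EtLim.HofPush f' ((EtCoh.pull f').obj F') 0) ∘ (fun x : EtCoh.H W.left F' 0 =>
      x.comp (Ext.mk₀ ((EtCoh.pullPushAdj f').unit.app F')) (add_zero 0)) = EtCore.Hpull f' F' 0 from
      funext fun x => (Hpull_eq_HofPush f' F' 0 x).symm]
    exact hc
  have h1 : Function.Bijective fun z : EtCoh.const W.left ℤ ⟶ F' =>
      z ≫ (EtCoh.pullPushAdj f').unit.app F' := by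
    constructor
    · intro a b hab
      refine (Ext.mk₀_bijective _ _).1 (h0.1 ?_)
      show (Ext.mk₀ a).comp _ _ = (Ext.mk₀ b).comp _ _
      rw [Ext.mk₀_comp_mk₀, Ext.mk₀_comp_mk₀]
      exact congrArg Ext.mk₀ hab
    · intro b
      obtain ⟨a, ha⟩ := h0.2 (Ext.mk₀ b)
      obtain ⟨a, rfl⟩ := (Ext.mk₀_bijective _ _).2 a
      exact ⟨a, (Ext.mk₀_bijective _ _).1 ((Ext.mk₀_comp_mk₀ _ _).symm.trans ha)⟩
  obtain ⟨θ, hθ⟩ := exists_unit_restrict f W.hom F
  haveI := isIso_baseChange0_etale f W.hom ((EtCoh.pull f).obj F)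
  let bc := asIso (EtCoh.baseChange0 f W.hom f' (pullback.fst f W.hom) pullback.condition
    ((EtCoh.pull f).obj F))
  have he : (EtCoh.pull W.hom).map ((EtCoh.pullPushAdj f).unit.app F) =
      (EtCoh.pullPushAdj f').unit.app F' ≫ ((EtCoh.push f').mapIso θ ≪≫ bc.symm).hom := by
    rw [← cancel_mono bc.hom]
    simp only [Iso.trans_hom, Functor.mapIso_hom, Iso.symm_hom, Category.assoc, Iso.inv_hom_id,
      Category.comp_id]
    exact hθ
  rw [he]
  simp only [← Category.assoc]
  exact (((EtCoh.push f').mapIso θ ≪≫ bc.symm).homToEquiv).bijective.comp h1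

/-- Acyclicity kills the higher direct images. -/
theorem isZero_Rpush_of_goodAff {L : Set ℕ} {n : ℕ} : ∀ (q : ℕ), 1 ≤ q → q ≤ n →
    ∀ {P V : Scheme.{u}} (f : P ⟶ V), GoodAff L n f → ∀ F : EtCoh.Ab V, EtAcyc.IsLTorsion L F →
      IsZero ((EtCoh.Rpush f q).obj ((EtCoh.pull f).obj F)) := by
  intro q
  induction q using Nat.strong_induction_on with
  | _ q ih =>
    intro hq hqn P V f h F hF
    obtain ⟨k, rfl⟩ := Nat.exists_eq_succ_of_ne_zero (by omega : q ≠ 0)
    have hzero : ∀ (W : V.Etale) (_ : IsAffine W.left) (x : EtCoh.const W.left ℤ ⟶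
        (EtCoh.pull W.hom).obj ((EtCoh.Rpush f (k + 1)).obj ((EtCoh.pull f).obj F))), x = 0 := by
      intro W hW x
      haveI : AlgebraicGeometry.Etale W.hom := W.prop
      let f' := pullback.snd f W.hom
      let F' := (EtCoh.pull W.hom).obj F
      have hF' : EtAcyc.IsLTorsion L F' := Groth.EtCdAcycComp.isLTorsion_pull _ hF
      have h' : GoodAff L n f' := h.restrict W.hom
      haveI := h'.isIso_unit F' hF'
      have hH := HofPush_of_compN f' (h W.left W.hom) F' hF'
      have hR : ∀ j, 1 ≤ j → j ≤ k → IsZero ((EtCoh.Rpush f' j).obj ((EtCoh.pull f').obj F')) :=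
        fun j h1 h2 => ih j (by omega) h1 (by omega) f' h' F' hF'
      have hi : Function.Injective (EtLim.HofPush f' ((EtCoh.pull f').obj F') (k + 2)) := by
        rcases Nat.lt_or_ge (k + 1) n with hk | hk
        · exact (hH.1 (k + 2) (by omega)).1
        · obtain rfl : n = k + 1 := by omega
          exact hH.2
      obtain ⟨θ, -⟩ := exists_unit_restrict f W.hom F
      haveI := isIso_bcQ_etale f W.hom ((EtCoh.pull f).obj F) (k + 1)
      let e := asIso (EtBC.bcQ f W.hom f' (pullback.fst f W.hom) pullback.condition (k + 1)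
          ((EtCoh.pull f).obj F)) ≪≫ (EtCoh.Rpush f' (k + 1)).mapIso θ.symm
      rw [← cancel_mono e.hom, zero_comp]
      exact Groth.EtCdLeray.hom_const_Rpush_eq_zero f' k _ hR (hH.1 (k + 1) (by omega)).2 hi _
    haveI : IsIso (0 : (EtCoh.Rpush f (k + 1)).obj ((EtCoh.pull f).obj F) ⟶
        (EtCoh.Rpush f (k + 1)).obj ((EtCoh.pull f).obj F)) := by
      refine isIso_of_bijective_restrict_affine _ fun W hW => ⟨fun a b _ => ?_, fun b => ⟨0, ?_⟩⟩
      · rw [hzero W hW a, hzero W hW b]
      · rw [hzero W hW b]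
        simp
    exact (IsZero.iff_id_eq_zero _).2 ((isIsoZeroEquiv _ _).1 ‹_›).1

/-- The criterion. -/
theorem P_of_goodAff {L : Set ℕ} {n : ℕ} {A B : Scheme.{u}} {g : A ⟶ B} (h : GoodAff L n g) :
    AcyclicLocal.P L n g :=
  fun F hF => ⟨h.isIso_unit F hF, fun q h1 h2 => isZero_Rpush_of_goodAff q h1 h2 g h F hF⟩

end Groth.DescentBase.AcyclicAffine
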