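import Groth.Agent.DescentBase.ClosedImmSh
import Mathlib.CategoryTheory.Adjunction.Whiskering
import Mathlib.CategoryTheory.Adjunction.FullyFaithful
import Mathlib.CategoryTheory.Adjunction.Opposites
import Mathlib.CategoryTheory.MorphismProperty.OverAdjunction

/-!
# Direct images of étale sheaves of sets along open immersions and immersions are fully faithful
-/

set_option autoImplicit false
set_option backward.isDefEq.respectTransparency.types false

universe u

open CategoryTheory CategoryTheory.Limits AlgebraicGeometry Opposite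

namespace Groth.DescentBase.OpenImmSh

variable {X Y : Scheme.{u}}

/-- Postcomposition with an étale morphism, on small étale sites. -/
noncomputable abbrev etPost (j : X ⟶ Y) [hj : Etale j] : X.Etale ⥤ Y.Etale :=
  MorphismProperty.Over.map (P := EtCoh.etaleMP) ⊤ (f := j) hj

/-- Postcomposition with an étale monomorphism is fully faithful. -/
noncomputable def etPostFF (j : X ⟶ Y) [Etale j] [Mono j] : (etPost j).FullyFaithful where
  preimage {U V} g := MorphismProperty.Over.homMk g.left (by
    rw [← cancel_mono j, Category.assoc]; exact MorphismProperty.Over.w g)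
  map_preimage g := MorphismProperty.Over.Hom.ext rfl
  preimage_map g := MorphismProperty.Over.Hom.ext rfl

/-- Direct image along an open immersion is fully faithful. -/
theorem pushSh_fullyFaithful (j : X ⟶ Y) [IsOpenImmersion j] :
    (EtDesc.pushSh j).Full ∧ (EtDesc.pushSh j).Faithful := by
  have hj : Etale j := inferInstance
  let adj : etPost j ⊣ EtCoh.bc j := MorphismProperty.Over.mapPullbackAdj EtCoh.etaleMP.{u} ⊤ j hj trivial
  haveI : (etPost j).Full := (etPostFF j).full
  haveI : (etPost j).Faithful := (etPostFF j).faithful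
  haveI : IsIso adj.unit := Adjunction.unit_isIso_of_L_fully_faithful adj
  let adjP := adj.op.whiskerLeft (Type (u + 1))
  haveI : IsIso adj.op.counit := by
    haveI : ∀ U, IsIso (adj.op.counit.app U) := fun U => by
      show IsIso ((adj.unit.app U.unop).op)
      infer_instance
    exact NatIso.isIso_of_isIso_app _
  haveI : IsIso adjP.counit := by
    haveI : ∀ P, IsIso (adjP.counit.app P) := fun P => by
      show IsIso ((Functor.associator _ _ _).inv ≫ Functor.whiskerRight adj.op.counit P ≫ (Functor.leftUnitor _).hom)
      infer_instance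
    exact NatIso.isIso_of_isIso_app _
  haveI : ((Functor.whiskeringLeft _ _ (Type (u + 1))).obj (EtCoh.bc j).op).Full :=
    adjP.fullyFaithfulROfIsIsoCounit.full
  haveI : ((Functor.whiskeringLeft _ _ (Type (u + 1))).obj (EtCoh.bc j).op).Faithful :=
    adjP.fullyFaithfulROfIsIsoCounit.faithful
  let e : EtDesc.pushSh j ⋙ sheafToPresheaf _ _ ≅
      sheafToPresheaf _ _ ⋙ (Functor.whiskeringLeft _ _ (Type (u + 1))).obj (EtCoh.bc j).op := Iso.refl _
  haveI : (EtDesc.pushSh j ⋙ sheafToPresheaf _ _).Full := Functor.Full.of_iso e.symm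
  haveI : (EtDesc.pushSh j ⋙ sheafToPresheaf _ _).Faithful := Functor.Faithful.of_iso e.symm
  exact ⟨Functor.Full.of_comp_faithful (EtDesc.pushSh j) (sheafToPresheaf _ _),
    Functor.Faithful.of_comp (EtDesc.pushSh j) (sheafToPresheaf _ _)⟩

/-- For an immersion the counit of inverse and direct image of sheaves of sets is invertible. -/
theorem isIso_counit_of_isImmersion (f : X ⟶ Y) [IsImmersion f] (F : EtDesc.Sh X) :
    IsIso ((EtDesc.adjSh f).counit.app F) := by
  let i := f.liftCoborder
  let j := f.coborderRange.ι
  have hfac : i ≫ j = f := f.liftCoborder_ι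
  haveI : IsIso (EtDesc.adjSh i).counit := by
    haveI : ∀ G, IsIso ((EtDesc.adjSh i).counit.app G) := fun G => isIso_counitSh i G
    exact NatIso.isIso_of_isIso_app _
  haveI := (EtDesc.adjSh i).fullyFaithfulROfIsIsoCounit.full
  haveI := (EtDesc.adjSh i).fullyFaithfulROfIsIsoCounit.faithful
  haveI := (pushSh_fullyFaithful j).1
  haveI := (pushSh_fullyFaithful j).2
  haveI : (EtDesc.pushSh (i ≫ j)).Full := Functor.Full.of_iso (EtDesc.pushCompSh j i)
  haveI : (EtDesc.pushSh (i ≫ j)).Faithful := Functor.Faithful.of_iso (EtDesc.pushCompSh j i)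
  revert F
  rw [← hfac]
  intro F
  haveI : IsIso (EtDesc.adjSh (i ≫ j)).counit := Adjunction.counit_isIso_of_R_fully_faithful _
  infer_instance

end Groth.DescentBase.OpenImmSh
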