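import Mathlib
import Groth.Prelude.Def_SGA4b
import Groth.Agent.EtaleBase.PullStalk

/-! Stalks of étale sheaves of sets. -/

set_option autoImplicit false
set_option backward.isDefEq.respectTransparency.types false

open CategoryTheory CategoryTheory.Limits AlgebraicGeometry Opposite

namespace Groth.DescentBase

universe u

variable {X Y : Scheme.{u}}

/-- The stalk functor of sheaves of sets at a geometric point. -/
noncomputable abbrev shStalk {Ω : Type u} [Field Ω] [IsSepClosed Ω]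
    (ξ : Spec (CommRingCat.of Ω) ⟶ X) : EtDesc.Sh X ⥤ Type (u + 1) :=
  (Scheme.pointSmallEtale ξ).sheafFiber (A := Type (u + 1))

noncomputable def shStalkPullIso (f : X ⟶ Y) {Ω : Type u} [Field Ω] [IsSepClosed Ω]
    (ξ : Spec (CommRingCat.of Ω) ⟶ X) : shStalk (ξ ≫ f) ≅ EtDesc.pullSh f ⋙ shStalk ξ :=
  ({ hom := (Groth.EtaleBase.comapPointIso f ξ).hom.sheafFiber
     inv := (Groth.EtaleBase.comapPointIso f ξ).inv.sheafFiber
     hom_inv_id := by rw [← GrothendieckTopology.Point.Hom.sheafFiber_comp, Iso.inv_hom_id,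
       GrothendieckTopology.Point.Hom.sheafFiber_id]
     inv_hom_id := by rw [← GrothendieckTopology.Point.Hom.sheafFiber_comp, Iso.hom_inv_id,
       GrothendieckTopology.Point.Hom.sheafFiber_id] } :
    (Scheme.pointSmallEtale (ξ ≫ f)).sheafFiber (A := Type (u + 1)) ≅
      ((Scheme.pointSmallEtale ξ).comap (EtCoh.bc f) (EtCoh.coverPreserving_bc f)).sheafFiber) ≪≫
    GrothendieckTopology.Point.sheafFiberComapIso _ (EtCoh.bc f) (EtCoh.coverPreserving_bc f) _

instance forget_preservesSmallFilteredColimits :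
    PreservesFilteredColimitsOfSize.{u, u} (forget (Type (u + 1))) :=
  preservesFilteredColimitsOfSize_of_univLE.{u + 1, u + 1, u, u} _

instance ab5OfSize_small : AB5OfSize.{u, u} (Type (u + 1)) :=
  AB5OfSize_shrink.{u, u, u + 1, u + 1} _

section

variable {Ω : Type u} [Field Ω] [IsSepClosed Ω] (ξ : Spec (CommRingCat.of Ω) ⟶ X)

/-- The germ of a section at a lift of a geometric point. -/
noncomputable abbrev shGerm (F : EtDesc.Sh X) (U : X.Etale)
    (t : (Scheme.pointSmallEtale ξ).fiber.obj U) : F.obj.obj (op U) ⟶ (shStalk ξ).obj F :=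
  (Scheme.pointSmallEtale ξ).toPresheafFiber U t F.obj

theorem shGerm_map {F G : EtDesc.Sh X} (φ : F ⟶ G) (U : X.Etale)
    (t : (Scheme.pointSmallEtale ξ).fiber.obj U) (σ : F.obj.obj (op U)) :
    (shStalk ξ).map φ (shGerm ξ F U t σ) = shGerm ξ G U t (φ.hom.app _ σ) :=
  (Scheme.pointSmallEtale ξ).toPresheafFiber_naturality_apply φ.hom U t σ

theorem shGerm_surjective (F : EtDesc.Sh X) (a : (shStalk ξ).obj F) :
    ∃ (U : X.Etale) (t : (Scheme.pointSmallEtale ξ).fiber.obj U) (σ : F.obj.obj (op U)),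
      shGerm ξ F U t σ = a :=
  (Scheme.pointSmallEtale ξ).toPresheafFiber_jointly_surjective (P := F.obj) a

theorem shGerm_eq_iff (F : EtDesc.Sh X) (U : X.Etale)
    (t : (Scheme.pointSmallEtale ξ).fiber.obj U) (σ σ' : F.obj.obj (op U)) :
    shGerm ξ F U t σ = shGerm ξ F U t σ' ↔
      ∃ (V : X.Etale) (g : V ⟶ U) (s : (Scheme.pointSmallEtale ξ).fiber.obj V),
        (Scheme.pointSmallEtale ξ).fiber.map g s = t ∧ F.obj.map g.op σ = F.obj.map g.op σ' :=
  (Scheme.pointSmallEtale ξ).toPresheafFiber_eq_iff' (P := F.obj) U t σ σ'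

end

theorem injective_of_stalks {F G : EtDesc.Sh X} (φ : F ⟶ G)
    (h : ∀ s : X, ∃ (Ω : Type u) (_ : Field Ω) (_ : IsSepClosed Ω) (ξ : Spec (CommRingCat.of Ω) ⟶ X),
      ξ.base default = s ∧ Function.Injective ((shStalk ξ).map φ)) (U : X.Etaleᵒᵖ) :
    Function.Injective (φ.hom.app U) := by
  intro σ σ' hσ
  let R : Sieve U.unop :=
    { arrows := fun V g => F.obj.map g.op σ = F.obj.map g.op σ'
      downward_closed := fun {V W g} hg h => by
        rw [op_comp, Functor.map_comp_apply, Functor.map_comp_apply, hg] }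
  have hR : R ∈ X.smallEtaleTopology U.unop := by
    rw [Groth.EtaleBase.mem_topology_iff]
    intro u
    obtain ⟨Ω, _, _, ξ, hξ, hinj⟩ := h (U.unop.hom.base u)
    obtain ⟨t, ht⟩ := Groth.EtaleBase.exists_fiber_of_point ξ U.unop u hξ.symm
    have h0 : shGerm ξ F U.unop t σ = shGerm ξ F U.unop t σ' :=
      hinj (by rw [shGerm_map, shGerm_map, hσ])
    obtain ⟨V, g, s, hs, hz⟩ := (shGerm_eq_iff _ F U.unop t σ σ').1 h0
    refine ⟨V, g, (Scheme.pointSmallEtaleFiberObjToPreimage _ rfl s).1, hz, ?_⟩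
    subst hs
    exact ht
  exact (((isSheaf_iff_isSheaf_of_type _ _).mp F.property).isSeparated _ hR).ext fun V g hg => hg

theorem isLocallySurjective_of_stalks {F G : EtDesc.Sh X} (φ : F ⟶ G)
    (h : ∀ s : X, ∃ (Ω : Type u) (_ : Field Ω) (_ : IsSepClosed Ω) (ξ : Spec (CommRingCat.of Ω) ⟶ X),
      ξ.base default = s ∧ Function.Surjective ((shStalk ξ).map φ)) :
    Sheaf.IsLocallySurjective φ := by
  refine ⟨fun {U} σ => (Groth.EtaleBase.mem_topology_iff _).mpr fun u => ?_⟩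
  obtain ⟨Ω, _, _, ξ, hξ, hsur⟩ := h (U.hom.base u)
  obtain ⟨t, ht⟩ := Groth.EtaleBase.exists_fiber_of_point ξ U u hξ.symm
  obtain ⟨a, ha⟩ := hsur (shGerm ξ G U t σ)
  obtain ⟨V, s, τ, rfl⟩ := shGerm_surjective _ F a
  rw [shGerm_map] at ha
  let Φ := Scheme.pointSmallEtale ξ
  obtain ⟨W₀, pm, qm, -⟩ := IsCofilteredOrEmpty.cone_objs (C := Φ.fiber.Elements)
    (Functor.elementsMk _ V s) (Functor.elementsMk _ U t)
  obtain ⟨W, w⟩ := W₀
  let p : W ⟶ V := pm.1
  let q : W ⟶ U := qm.1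
  have hp : Φ.fiber.map p w = s := pm.2
  have hq : Φ.fiber.map q w = t := qm.2
  have key : shGerm ξ G W w (φ.hom.app _ (F.obj.map p.op τ)) = shGerm ξ G W w (G.obj.map q.op σ) := by
    change Φ.toPresheafFiber W w G.obj _ = Φ.toPresheafFiber W w G.obj _
    rw [NatTrans.naturality_apply φ.hom p.op τ, Φ.toPresheafFiber_w_apply,
      Φ.toPresheafFiber_w_apply]
    erw [hp, hq]
    exact ha
  obtain ⟨Z, r, z, hz, heq⟩ := (shGerm_eq_iff _ G W w _ _).1 key
  refine ⟨Z, r ≫ q, (Scheme.pointSmallEtaleFiberObjToPreimage _ rfl z).1,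
    ⟨F.obj.map r.op (F.obj.map p.op τ), ?_⟩, ?_⟩
  · rw [NatTrans.naturality_apply φ.hom r.op, heq, op_comp, Functor.map_comp]
    rfl
  · subst hz
    refine Eq.trans ?_ ht
    erw [← hq]
    rfl

theorem mono_of_stalks {F G : EtDesc.Sh X} (φ : F ⟶ G)
    (h : ∀ s : X, ∃ (Ω : Type u) (_ : Field Ω) (_ : IsSepClosed Ω) (ξ : Spec (CommRingCat.of Ω) ⟶ X),
      ξ.base default = s ∧ Function.Injective ((shStalk ξ).map φ)) : Mono φ :=
  Sheaf.mono_of_injective φ (injective_of_stalks φ h)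

theorem epi_of_stalks {F G : EtDesc.Sh X} (φ : F ⟶ G)
    (h : ∀ s : X, ∃ (Ω : Type u) (_ : Field Ω) (_ : IsSepClosed Ω) (ξ : Spec (CommRingCat.of Ω) ⟶ X),
      ξ.base default = s ∧ Function.Surjective ((shStalk ξ).map φ)) : Epi φ :=
  haveI := isLocallySurjective_of_stalks φ h
  inferInstance

theorem mono_iff_stalks {F G : EtDesc.Sh X} (v : F ⟶ G) :
    Mono v ↔ ∀ (Ω : Type u) [Field Ω] [IsSepClosed Ω] (ξ : Spec (CommRingCat.of Ω) ⟶ X),
      Function.Injective ((shStalk ξ).map v) :=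
  ⟨fun _ Ω _ _ ξ => (mono_iff_injective _).mp inferInstance,
    fun h => mono_of_stalks v fun s => ⟨_, _, _, _, Groth.EtaleBase.geomPoint_apply s default, h _ _⟩⟩

theorem epi_iff_stalks {F G : EtDesc.Sh X} (v : F ⟶ G) :
    Epi v ↔ ∀ (Ω : Type u) [Field Ω] [IsSepClosed Ω] (ξ : Spec (CommRingCat.of Ω) ⟶ X),
      Function.Surjective ((shStalk ξ).map v) :=
  ⟨fun _ Ω _ _ ξ => (epi_iff_surjective _).mp inferInstance,
    fun h => epi_of_stalks v fun s => ⟨_, _, _, _, Groth.EtaleBase.geomPoint_apply s default, h _ _⟩⟩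

theorem pullSh_faithful_reflects (f : X ⟶ Y) [Surjective f] :
    (EtDesc.pullSh f).Faithful ∧ (EtDesc.pullSh f).ReflectsIsomorphisms := by
  have hs : ∀ y : Y, ∃ x : X, (Groth.EtaleBase.geomPoint x ≫ f).base default = y := fun y => by
    obtain ⟨x, rfl⟩ := f.surjective y
    exact ⟨x, by rw [Scheme.Hom.comp_apply, Groth.EtaleBase.geomPoint_apply]⟩
  have hr : (EtDesc.pullSh f).ReflectsIsomorphisms := by
    refine ⟨fun {F G} φ hφ => ?_⟩
    have h : ∀ x : X, Function.Bijective ((shStalk (Groth.EtaleBase.geomPoint x ≫ f)).map φ) := fun x =>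
      (isIso_iff_bijective _).mp ((NatIso.isIso_map_iff
        (shStalkPullIso f (Groth.EtaleBase.geomPoint x)) φ).mpr
          (inferInstanceAs (IsIso ((shStalk _).map ((EtDesc.pullSh f).map φ)))))
    haveI := mono_of_stalks φ fun y => by
      obtain ⟨x, hx⟩ := hs y
      exact ⟨_, _, _, _, hx, (h x).1⟩
    haveI := epi_of_stalks φ fun y => by
      obtain ⟨x, hx⟩ := hs y
      exact ⟨_, _, _, _, hx, (h x).2⟩
    exact isIso_of_mono_of_epi φ
  refine ⟨⟨fun {F G} a b hab => ?_⟩, hr⟩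
  -- the equalizer of `a` and `b` is an isomorphism as it is one on the stalks
  have hst : ∀ x : X, (shStalk (Groth.EtaleBase.geomPoint x ≫ f)).map a =
      (shStalk (Groth.EtaleBase.geomPoint x ≫ f)).map b := fun x => by
    have e := shStalkPullIso f (Groth.EtaleBase.geomPoint x)
    rw [← cancel_mono (e.hom.app G), e.hom.naturality, e.hom.naturality, Functor.comp_map,
      Functor.comp_map, hab]
  haveI : Epi (equalizer.ι a b) := epi_of_stalks _ fun y => by
    obtain ⟨x, hx⟩ := hs y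
    refine ⟨SeparableClosure (X.residueField x), inferInstance, inferInstance,
      Groth.EtaleBase.geomPoint x ≫ f, hx, ?_⟩
    intro z
    have hl := isLimitOfHasEqualizerOfPreservesLimit
      (shStalk (Groth.EtaleBase.geomPoint x ≫ f)) a b
    obtain ⟨l, hl'⟩ := Fork.IsLimit.lift' hl (𝟙 _) (by rw [Category.id_comp, Category.id_comp, hst x])
    exact ⟨l z, congrArg (fun m => m z) hl'⟩
  exact (cancel_epi (equalizer.ι a b)).mp (equalizer.condition a b)

end Groth.DescentBase
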