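import Groth.Agent.DescentBase.HpullPrimaryMain
import Groth.Agent.DescentBase.AcyclicAffine
import Groth.Agent.EtaleBase.BCZero.Basic
import Groth.Agent.EtCd.GeomFibre
import Groth.Agent.S3510
import Groth.Agent.S8534

/-!
# Acyclicity from constant coefficients on quasi-finite covers
-/

set_option autoImplicit false
set_option synthInstance.maxHeartbeats 400000
set_option backward.isDefEq.respectTransparency.types false
set_option linter.style.haveILetI false

universe u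

open CategoryTheory CategoryTheory.Limits CategoryTheory.Abelian AlgebraicGeometry Opposite
open Groth.EtaleBase Groth.EtaleDeep.Cons Groth.DescentBase.HpullReduce

namespace Groth.DescentBase.AcyclicConst

variable {X Y : Scheme.{u}}

/-- A constructible sheaf killed by a multiple splits off the primary parts. -/
theorem exists_split_coprime [CompactSpace X] [QuasiSeparatedSpace X] {C : EtCoh.Ab X}
    (hC : EtPBC.IsConstructible C) (a b : ℕ) (hab : a.Coprime b) (h : (a * b) • 𝟙 C = 0) :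
    ∃ (D : Fin 2 → EtCoh.Ab X) (π : ∀ l, C ⟶ D l) (s : ∀ l, D l ⟶ C), ∑ l, π l ≫ s l = 𝟙 C ∧
      (∀ l, EtPBC.IsConstructible (D l)) ∧ a • 𝟙 (D 0) = 0 ∧ b • 𝟙 (D 1) = 0 := by
  obtain ⟨u, v, huv⟩ := (Int.isCoprime_iff_nat_coprime (a := (a : ℤ)) (b := (b : ℤ))).2 (by simpa using hab)
  let D : Fin 2 → EtCoh.Ab X := ![cokernel (a • 𝟙 C), cokernel (b • 𝟙 C)]
  have hz : ∀ w : ℤ, (w * (a * b : ℕ)) • 𝟙 C = 0 := fun w => by rw [mul_smul, natCast_zsmul, h, smul_zero]
  let π0 : C ⟶ cokernel (a • 𝟙 C) := cokernel.π _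
  let π1 : C ⟶ cokernel (b • 𝟙 C) := cokernel.π _
  let s0 : cokernel (a • 𝟙 C) ⟶ C := cokernel.desc _ ((v * b : ℤ) • 𝟙 C) (by
    rw [Preadditive.nsmul_comp, Category.id_comp, ← natCast_zsmul, smul_smul]
    convert hz v using 2
    push_cast
    ring)
  let s1 : cokernel (b • 𝟙 C) ⟶ C := cokernel.desc _ ((u * a : ℤ) • 𝟙 C) (by
    rw [Preadditive.nsmul_comp, Category.id_comp, ← natCast_zsmul, smul_smul]
    convert hz u using 2
    push_cast
    ring)
  refine ⟨D, Fin.cases π0 (Fin.cases π1 (fun i => i.elim0)), Fin.cases s0 (Fin.cases s1 (fun i => i.elim0)), ?_, ?_,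
    nsmul_id_cokernel a, nsmul_id_cokernel b⟩
  · rw [Fin.sum_univ_two]
    show π0 ≫ s0 + π1 ≫ s1 = _
    simp only [π0, π1, s0, s1, cokernel.π_desc]
    rw [← add_smul, add_comm, huv, one_smul]
  · exact Fin.cases (isConstructible_cokernel _ hC hC)
      (Fin.cases (isConstructible_cokernel _ hC hC) (fun i => i.elim0))

/-- Quotients killed by an `L`-number suffice for maps into `L`-torsion sheaves. -/
theorem exists_L_quotient [CompactSpace X] [QuasiSeparatedSpace X] {L : Set ℕ} {C F : EtCoh.Ab X}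
    (hC : EtPBC.IsConstructible C) (hF : EtAcyc.IsLTorsion L F) (g : C ⟶ F) :
    ∃ (C' : EtCoh.Ab X) (π : C ⟶ C') (g' : C' ⟶ F) (m : ℕ), π ≫ g' = g ∧
      EtPBC.IsConstructible C' ∧ EtAcyc.PrimesIn L m ∧ m • 𝟙 C' = 0 := by
  obtain ⟨N, hN, hNC⟩ := exists_nsmul_id hC
  obtain ⟨a, b, rfl, ha, hb⟩ := Groth.EtCdLTorsionRpush.exists_decomp (L := L) N hN
  have hb0 : 0 < b := Nat.pos_of_mul_pos_left hN
  haveI := Groth.EtCdLTorsionRpush.isIso_nsmul hF hb0 hb
  have h0 : a • g = 0 := by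
    rw [← cancel_mono (b • 𝟙 F), zero_comp, Preadditive.comp_nsmul, Category.comp_id, smul_smul, mul_comm,
      ← Category.id_comp g, ← Preadditive.nsmul_comp, hNC, zero_comp]
  exact ⟨cokernel (a • 𝟙 C), cokernel.π _,
    cokernel.desc _ g (by rw [Preadditive.nsmul_comp, Category.id_comp, h0]), a, cokernel.π_desc _ _ _,
    isConstructible_cokernel _ hC hC, ha, nsmul_id_cokernel a⟩

section Qcqs

variable [CompactSpace X] [QuasiSeparatedSpace X] [CompactSpace Y] [QuasiSeparatedSpace Y]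
  (i : Y ⟶ X) [PreservesFiniteLimits (EtCoh.pull i)]

theorem inj_of_factor {F : EtCoh.Ab X} (hFt : EtCoh.IsTorsion F) (q : ℕ)
    (h : ∀ C : EtCoh.Ab X, EtPBC.IsConstructible C → ∀ g : C ⟶ F,
      ∃ (C' : EtCoh.Ab X) (π : C ⟶ C') (g' : C' ⟶ F), π ≫ g' = g ∧ Inj i C' q) : Inj i F q := by
  obtain ⟨hc⟩ := nonempty_isColimit_presCocone hFt
  haveI := Groth.FlatMor2.ColimCoh.Etale.preservesColimitsOfShape_HF X (PresCat F) q
  haveI := Groth.FlatMor2.ColimCoh.Etale.preservesColimitsOfShape_HF Y (PresCat F) q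
  haveI := preserves_pull i (PresCat F)
  refine (injective_iff_map_eq_zero _).2 fun x hx => ?_
  obtain ⟨P, y, hy⟩ := Types.jointly_surjective _
    (isColimitOfPreserves (EtCoh.HF X q ⋙ CategoryTheory.forget AddCommGrpCat.{u + 1}) hc) x
  change (EtCoh.HF X q).obj ((presDiag F).obj P) at y
  change pushH ((presCocone F).ι.app P) q y = x at hy
  let z₀ : (presDiag F ⋙ EtCoh.pull i ⋙ EtCoh.HF Y q ⋙ CategoryTheory.forget AddCommGrpCat.{u + 1}).obj P :=
    (0 : (EtCoh.HF Y q).obj ((EtCoh.pull i).obj ((presDiag F).obj P)))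
  let z : (presDiag F ⋙ EtCoh.pull i ⋙ EtCoh.HF Y q ⋙ CategoryTheory.forget AddCommGrpCat.{u + 1}).obj P :=
    EtCore.Hpull i ((presDiag F).obj P) q y
  obtain ⟨Q, f, f', e⟩ := (Types.FilteredColimit.isColimit_eq_iff _
    (isColimitOfPreserves (EtCoh.pull i ⋙ EtCoh.HF Y q ⋙ CategoryTheory.forget AddCommGrpCat.{u + 1}) hc)
    (xi := z) (xj := z₀)).1 (by
      show pushH ((EtCoh.pull i).map ((presCocone F).ι.app P)) q (EtCore.Hpull i _ q y) =
        pushH ((EtCoh.pull i).map ((presCocone F).ι.app P)) q 0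
      rw [map_zero, ← Hpull_pushH]
      exact (congrArg (EtCore.Hpull i F q) hy).trans hx)
  have e' : pushH ((EtCoh.pull i).map ((presDiag F).map f)) q (EtCore.Hpull i _ q y) = 0 :=
    e.trans (map_zero (pushH ((EtCoh.pull i).map ((presDiag F).map f')) q))
  obtain ⟨C', π, g', hg', hC'⟩ :=
    h _ (isConstructible_presDiag Q) ((presCocone F).ι.app Q : (presDiag F).obj Q ⟶ F)
  have h0 : pushH π q (pushH ((presDiag F).map f) q y) = 0 :=
    hC' (by rw [Hpull_pushH, Hpull_pushH, e', map_zero, map_zero])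
  refine hy.symm.trans ?_
  rw [← (presCocone F).w f]
  refine (pushH_comp _ _ q y).trans ?_
  rw [← hg']
  refine (pushH_comp π g' q _).trans ?_
  rw [h0]
  exact map_zero _

theorem surj_of_factor {F : EtCoh.Ab X} (hFt : EtCoh.IsTorsion F) (q : ℕ)
    (h : ∀ C : EtCoh.Ab X, EtPBC.IsConstructible C → ∀ g : C ⟶ F,
      ∃ (C' : EtCoh.Ab X) (π : C ⟶ C') (g' : C' ⟶ F), π ≫ g' = g ∧ Surj i C' q) : Surj i F q := by
  obtain ⟨hc⟩ := nonempty_isColimit_presCocone hFt
  haveI := Groth.FlatMor2.ColimCoh.Etale.preservesColimitsOfShape_HF Y (PresCat F) q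
  haveI := preserves_pull i (PresCat F)
  intro x
  obtain ⟨P, y, hy⟩ := Types.jointly_surjective _
    (isColimitOfPreserves (EtCoh.pull i ⋙ EtCoh.HF Y q ⋙ CategoryTheory.forget AddCommGrpCat.{u + 1}) hc) x
  change (EtCoh.HF Y q).obj ((EtCoh.pull i).obj ((presDiag F).obj P)) at y
  obtain ⟨C', π, g', hg', hC'⟩ :=
    h _ (isConstructible_presDiag P) ((presCocone F).ι.app P : (presDiag F).obj P ⟶ F)
  obtain ⟨z, hz⟩ := hC' (pushH ((EtCoh.pull i).map π) q y)
  refine ⟨pushH g' q z, (Hpull_pushH i _ q z).trans ?_⟩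
  rw [hz, ← pushH_comp, ← Functor.map_comp, hg']
  exact hy

/-- Comparison for `L`-torsion sheaves from cyclic coefficients on finite covers. -/
theorem compN_of_constants {L : Set ℕ} (n : ℕ)
    (h : ∀ ℓ : ℕ, ℓ.Prime → ℓ ∈ L → ∀ (X' : Scheme.{u}) (p : X' ⟶ X) [IsFinite p]
      [LocallyOfFinitePresentation p]
      [PreservesFiniteLimits (EtCoh.pull (pullback.fst p i))] (ν : ℕ),
      Function.Injective (EtCore.Hpull (pullback.fst p i) (EtCoh.const X' (ZMod (ℓ ^ ν))) 0) ∧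
      ∀ q ≤ n, Function.Surjective (EtCore.Hpull (pullback.fst p i) (EtCoh.const X' (ZMod (ℓ ^ ν))) q)) :
    EtAcyc.CompN i L n := by
  have key : ∀ m : ℕ, EtAcyc.PrimesIn L m → ∀ C : EtCoh.Ab X, EtPBC.IsConstructible C → m • 𝟙 C = 0 →
      ∀ q ≤ n + 1, Inj i C q ∧ (q ≤ n → Surj i C q) := by
    intro m
    induction m using Nat.strong_induction_on with
    | _ m ih =>
      intro hm C hC hmC q hq
      by_cases h1 : m = 1
      · subst h1
        rw [one_smul] at hmC
        exact ⟨inj_of_split i (ι := PEmpty.{1}) (G := fun l => l.elim) (fun l => l.elim) (fun l => l.elim)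
          (by rw [hmC]; simp) (fun l => l.elim),
          fun _ => surj_of_split i (ι := PEmpty.{1}) (G := fun l => l.elim) (fun l => l.elim) (fun l => l.elim)
          (by rw [hmC]; simp) (fun l => l.elim)⟩
      obtain ⟨ℓ, hℓ, hℓm⟩ := Nat.exists_prime_and_dvd h1
      have hℓL := hm.2 ℓ hℓ hℓm
      obtain ⟨a, m', hm', rfl⟩ := Nat.exists_eq_pow_mul_and_not_dvd hm.1.ne' ℓ hℓ.ne_one
      have ha : 0 < a := by
        rcases Nat.eq_zero_or_pos a with rfl | ha
        · rw [pow_zero, one_mul] at hℓm; exact absurd hℓm hm'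
        · exact ha
      have hm'0 : 0 < m' := Nat.pos_of_mul_pos_left hm.1
      have hlt : m' < ℓ ^ a * m' := lt_mul_of_one_lt_left hm'0 (Nat.one_lt_pow ha.ne' hℓ.one_lt)
      obtain ⟨D, π, s, hπs, hD, hD0, hD1⟩ := exists_split_coprime hC _ _
        (((Nat.Prime.coprime_iff_not_dvd hℓ).2 hm').pow_left a) hmC
      have hparts : ∀ l, Inj i (D l) q ∧ (q ≤ n → Surj i (D l) q) := by
        refine Fin.cases ?_ (Fin.cases ?_ (fun l => l.elim0))
        · exact comparison i hℓ n (fun X' p _ _ _ ν => h ℓ hℓ hℓL X' p ν) q hq _ (primary_of_nsmul_id hD0)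
        · exact ih m' hlt ⟨hm'0, fun p hp hd => hm.2 p hp (dvd_mul_of_dvd_right hd _)⟩ _ (hD 1) hD1 q hq
      exact ⟨inj_of_split i π s hπs fun l => (hparts l).1,
        fun hqn => surj_of_split i π s hπs fun l => (hparts l).2 hqn⟩
  intro F hF _
  have hFt := Groth.EtCdLTorsionRpush.isTorsion_of_isLTorsion hF
  have hinj : ∀ q ≤ n + 1, Inj i F q := fun q hq => inj_of_factor i hFt q fun C hC g => by
    obtain ⟨C', π, g', m, hg, hC', hm, hmC⟩ := exists_L_quotient hC hF g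
    exact ⟨C', π, g', hg, (key m hm C' hC' hmC q hq).1⟩
  refine ⟨fun q hq => ⟨hinj q (by omega), surj_of_factor i hFt q fun C hC g => ?_⟩, hinj _ le_rfl⟩
  obtain ⟨C', π, g', m, hg, hC', hm, hmC⟩ := exists_L_quotient hC hF g
  exact ⟨C', π, g', hg, (key m hm C' hC' hmC q (by omega)).2 hq⟩

end Qcqs

/-- Pullback along a surjective morphism is injective in degree zero. -/
theorem injective_Hpull_zero (h : Y ⟶ X) [Surjective h] [PreservesFiniteLimits (EtCoh.pull h)] (F : EtCoh.Ab X) :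
    Function.Injective (EtCore.Hpull h F 0) := by
  refine (injective_iff_map_eq_zero _).2 fun x hx => ?_
  obtain ⟨z, rfl⟩ := (Ext.mk₀_bijective _ _).2 x
  rw [BCZero.Hpull_mk₀, ← Ext.mk₀_zero] at hx
  have h1 : (EtCoh.pull h).map z = 0 := by
    have h2 := (Ext.mk₀_bijective _ _).1 hx
    rwa [← cancel_epi ((EtCore.pullConst h ℤ).inv), comp_zero]
  have hz : z = 0 := by
    haveI : IsIso (kernel.ι z) := by
      refine AcyclicLocal.isIso_of_cover (κ := PUnit.{u + 1}) (fun _ => h)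
        (fun v => ⟨⟨⟩, h.surjective v⟩) _ fun _ => ?_
      haveI : IsIso (kernel.ι ((EtCoh.pull h).map z)) :=
        ⟨kernel.lift _ (𝟙 _) (by rw [Category.id_comp, h1]),
          by rw [← cancel_mono (kernel.ι _)]; simp, kernel.lift_ι _ _ _⟩
      rw [show (EtCoh.pull h).map (kernel.ι z) =
        (PreservesKernel.iso (EtCoh.pull h) z).hom ≫ kernel.ι ((EtCoh.pull h).map z) by simp]
      infer_instance
    rw [← cancel_epi (kernel.ι z), comp_zero, kernel.condition]
  rw [hz, Ext.mk₀_zero]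

/-- The criterion, forward direction: surjectivity on quasi-finite covers. -/
theorem P_of_isAcyclicN (g : X ⟶ Y) {L : Set ℕ} {n : ℕ} (hg : EtAcyc.IsAcyclicN g L n)
    {Y' : Scheme.{u}} (i : Y' ⟶ Y) [LocallyQuasiFinite i] [LocallyOfFiniteType i] :
    AcyclicLocal.P L n (pullback.snd g i) := by
  have hx : ∀ x : Y', ∃ (V : Scheme.{u}) (j : V ⟶ Y') (_ : AlgebraicGeometry.Etale j) (v : V),
      j.base v = x ∧ ∃ (U : Scheme.{u}) (h : U ⟶ Y) (_ : AlgebraicGeometry.Etale h) (p : V ⟶ U) (_ : IsFinite p),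
        p ≫ h = j ≫ i := by
    intro x
    obtain ⟨_, ⟨U₀, hU₀, rfl⟩, hxU, -⟩ := Y'.isBasis_affineOpens.exists_subset_of_mem_open
      (Set.mem_univ x) isOpen_univ
    revert hU₀ hxU
    generalize (U₀ : Y'.Opens) = O
    intro hU₀ hxU
    haveI : IsAffine (Scheme.Opens.toScheme (X := Y') O) := hU₀
    let i₀ : (Scheme.Opens.toScheme (X := Y') O) ⟶ Y := (Scheme.Opens.ι (X := Y') O) ≫ i
    haveI : IsSeparated i₀ := inferInstance
    obtain ⟨U, h, hh, -, V, W, v, -, hfin, hv⟩ :=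
      exists_etale_isCompl_of_quasiFiniteAt i₀ (s := i₀.base ⟨x, hxU⟩) rfl (Scheme.Hom.quasiFiniteAt i₀ _)
    refine ⟨V.toScheme, V.ι ≫ pullback.fst i₀ h ≫ (Scheme.Opens.ι (X := Y') O), inferInstance, v, ?_,
      U, h, hh, V.ι ≫ pullback.snd i₀ h, hfin, ?_⟩
    · rw [Scheme.Hom.comp_apply, Scheme.Hom.comp_apply]
      exact (congrArg (Scheme.Opens.ι (X := Y') O).base hv).trans rfl
    · simp only [Category.assoc, ← pullback.condition]
      rfl
  choose V j hj v hv U h hh p hp hw using hx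
  refine AcyclicLocal.P_of_cover j (fun x => ⟨x, v x, hv x⟩) _ fun x => ?_
  haveI := hp x
  haveI := hh x
  let W : Y.Etale := Scheme.Etale.mk (h x)
  have hP : AcyclicLocal.P L n (pullback.fst (h x) g) :=
    (Groth.Agent.S3510.result g L n).1 hg W
  have hbig : IsPullback (pullback.fst (pullback.snd g i) (j x) ≫ pullback.fst g i)
      (pullback.snd (pullback.snd g i) (j x)) g (p x ≫ h x) := by
    rw [hw x]
    exact (IsPullback.of_hasPullback (pullback.snd g i) (j x)).paste_horiz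
      (IsPullback.of_hasPullback g i)
  let p' := pullback.lift (pullback.snd (pullback.snd g i) (j x) ≫ p x)
    (pullback.fst (pullback.snd g i) (j x) ≫ pullback.fst g i)
    ((Category.assoc _ _ _).trans hbig.w.symm) (f := h x) (g := g)
  refine AcyclicLocal.P_of_finite (pullback.fst (h x) g) (p x) (pullback.snd (pullback.snd g i) (j x)) p' ?_ hP
  refine IsPullback.of_right ?_ (pullback.lift_fst _ _ _) (IsPullback.of_hasPullback (h x) g).flip |>.flip |>.flip
  rw [pullback.lift_snd]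
  exact hbig

/-- The criterion, backward direction. -/
theorem isAcyclicN_of_constants (g : X ⟶ Y) [QuasiCompact g] [QuasiSeparated g] {L : Set ℕ} {n : ℕ}
    (hs : Function.Surjective g.base)
    (h : ∀ (Y' : Scheme.{u}) (i : Y' ⟶ Y) [LocallyQuasiFinite i] [LocallyOfFiniteType i] (ℓ : ℕ), ℓ.Prime → ℓ ∈ L →
      ∀ (ν : ℕ), 1 ≤ ν → ∀ [PreservesFiniteLimits (EtCoh.pull (pullback.snd g i))] (q : ℕ), q ≤ n →
        Function.Surjective (EtCore.Hpull (pullback.snd g i) (EtCoh.const Y' (ZMod (ℓ ^ ν))) q)) :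
    EtAcyc.IsAcyclicN g L n := by
  haveI : Surjective g := ⟨hs⟩
  intro V
  refine AcyclicLocal.compN_of_P (AcyclicAffine.P_of_goodAff fun U hU j _ => ?_)
  haveI : AlgebraicGeometry.Etale V.hom := V.prop
  let e := pullbackSymmetry (EtAcyc.prj g V) j ≪≫ pullbackRightPullbackFstIso V.hom g j
  have he : e.hom ≫ pullback.fst (j ≫ V.hom) g = pullback.snd (EtAcyc.prj g V) j := by
    simp [e]
  rw [← he, Groth.EtCdAcycComp.compN_comp_iff _ _ (Groth.EtCdAcycComp.compN_of_isIso _ L n)]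
  haveI : CompactSpace ↥(pullback (j ≫ V.hom) g) :=
    QuasiCompact.compactSpace_of_compactSpace (pullback.fst (j ≫ V.hom) g)
  haveI : QuasiSeparatedSpace ↥(pullback (j ≫ V.hom) g) :=
    quasiSeparatedSpace_of_quasiSeparated (pullback.fst (j ≫ V.hom) g)
  refine compN_of_constants (pullback.fst (j ≫ V.hom) g) n fun ℓ hℓ hℓL X' p _ _ _ ν =>
    ⟨injective_Hpull_zero _ _, fun q hq => ?_⟩
  rcases Nat.eq_zero_or_pos ν with rfl | hν
  · have hz : 𝟙 (EtCoh.const X' (ZMod (ℓ ^ 0))) = 0 := by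
      have := nsmul_id_const X' (ℓ ^ 0)
      rw [pow_zero] at this ⊢
      rw [one_smul] at this
      exact this
    exact surj_of_split _ (ι := PEmpty.{1}) (G := fun l => l.elim) (fun l => l.elim) (fun l => l.elim)
      (by rw [hz]; simp) (fun l => l.elim)
  let e' := pullbackRightPullbackFstIso (j ≫ V.hom) g p ≪≫ pullbackSymmetry (p ≫ (j ≫ V.hom)) g
  have he' : e'.hom ≫ pullback.snd g (p ≫ (j ≫ V.hom)) = pullback.fst p (pullback.fst (j ≫ V.hom) g) := by
    simp [e']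
  have h1 := h X' (p ≫ (j ≫ V.hom)) ℓ hℓ hℓL ν hν q hq
  suffices hm : ∀ (m : pullback p (pullback.fst (j ≫ V.hom) g) ⟶ X') (_ : e'.hom ≫ pullback.snd g (p ≫ (j ≫ V.hom)) = m)
      [PreservesFiniteLimits (EtCoh.pull m)],
      Function.Surjective (EtCore.Hpull m (EtCoh.const X' (ZMod (ℓ ^ ν))) q) from hm _ he'
  intro m hm _
  subst hm
  intro y
  have h2 := (Groth.EtaleBase.InjCoh.Hpull_bijective_univHomeo e'.hom
    ((EtCoh.pull (pullback.snd g (p ≫ (j ≫ V.hom)))).obj (EtCoh.const X' (ZMod (ℓ ^ ν)))) q).2.comp h1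
  obtain ⟨y', hy'⟩ := ((Groth.EtCdCriterion.bijective_postcomp_isIso
    ((EtCore.pullComp e'.hom (pullback.snd g (p ≫ (j ≫ V.hom)))).inv.app (EtCoh.const X' (ZMod (ℓ ^ ν)))) q).2.comp h2) y
  exact ⟨y', (Groth.EtCdAcycComp.Hpull_comp _ _ _ q y').trans hy'⟩

end Groth.DescentBase.AcyclicConst
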