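import Groth.Agent.DescentBase.PushShInt
import Mathlib.CategoryTheory.Adjunction.FullyFaithful

/-!
Direct images of etale sheaves of sets along closed immersions.
-/

set_option autoImplicit false
set_option backward.isDefEq.respectTransparency.types false

universe u

open CategoryTheory CategoryTheory.Limits AlgebraicGeometry Opposite

namespace Groth.DescentBase

variable {X Y : Scheme.{u}}

/-- An algebraically closed geometric point over a point. -/
noncomputable abbrev acPoint (x : X) :
    Spec (CommRingCat.of (AlgebraicClosure (X.residueField x))) ⟶ X :=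
  Spec.map (CommRingCat.ofHom (algebraMap (X.residueField x) (AlgebraicClosure (X.residueField x)))) ≫
    X.fromSpecResidueField x

lemma acPoint_apply (x : X) (a : Spec (CommRingCat.of (AlgebraicClosure (X.residueField x)))) :
    (acPoint x).base a = x := Scheme.fromSpecResidueField_apply x _

/-- Isomorphisms are detected on algebraically closed geometric points. -/
lemma isIso_of_acPoints {F G : EtDesc.Sh X} (φ : F ⟶ G)
    (h : ∀ x : X, Function.Bijective ((shStalk (acPoint x)).map φ)) : IsIso φ := by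
  have := mono_of_stalks φ fun x => ⟨_, _, inferInstance, acPoint x, acPoint_apply x _, (h x).1⟩
  have := epi_of_stalks φ fun x => ⟨_, _, inferInstance, acPoint x, acPoint_apply x _, (h x).2⟩
  exact isIso_of_mono_of_epi φ

/-- The stalk of a direct image is a point outside the closed image. -/
theorem unique_stalk_push_of_notMem (f : X ⟶ Y) [IsIntegralHom f] {Ω : Type u} [Field Ω] [IsAlgClosed Ω]
    (η : Spec (CommRingCat.of Ω) ⟶ Y) (hη : η.base default ∉ Set.range f.base) (F : EtDesc.Sh X) :
    Nonempty (Unique ((shStalk η).obj ((EtDesc.pushSh f).obj F))) := by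
  have hno : ∀ ξ : Spec (CommRingCat.of Ω) ⟶ X, ξ ≫ f ≠ η := fun ξ h =>
    hη ⟨ξ.base default, by rw [← Scheme.Hom.comp_apply, h]⟩
  obtain ⟨t₀⟩ : Nonempty ((Scheme.pointSmallEtale η).fiber.obj (EtCoh.top Y)) :=
    ⟨Over.homMk η (Category.comp_id _)⟩
  let O : Y.Opens := ⟨(Set.range f.base)ᶜ, f.isClosedMap.isClosed_range.isOpen_compl⟩
  let W : Y.Etale := Scheme.Etale.mk O.ι
  obtain ⟨l, hl, -⟩ := Scheme.exists_fac_of_etale_of_isSepClosed O.ι η
    (⟨η.base default, hη⟩ : O) rfl
  let t : (Scheme.pointSmallEtale η).fiber.obj W := Over.homMk l hl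
  have : IsEmpty ↥((EtCoh.bc f).obj W).left := ⟨fun (z : ↥(pullback O.ι f)) =>
    ((pullback.fst O.ι f).base z).2 ⟨(pullback.snd O.ι f).base z, by
      rw [← Scheme.Hom.comp_apply, ← pullback.condition]; rfl⟩⟩
  obtain ⟨σ, -⟩ := exists_glue_disjoint F (T := (EtCoh.bc f).obj W)
    (fun a : PEmpty.{u + 1} => a.elim) (fun a => a.elim) (fun a => a.elim)
    (fun x => isEmptyElim x) (fun a => a.elim)
  refine ⟨{ default := shGerm η ((EtDesc.pushSh f).obj F) W t σ, uniq := fun a => ?_ }⟩
  obtain ⟨V, s, τ, rfl⟩ := shGerm_surjective η _ a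
  exact shGerm_push_eq f η F V W s t τ σ fun ξ h => absurd h (hno ξ)

lemma unique_stalk_terminal {Ω : Type u} [Field Ω] [IsSepClosed Ω] (ξ : Spec (CommRingCat.of Ω) ⟶ X) :
    Nonempty (Unique ((shStalk ξ).obj (⊤_ (EtDesc.Sh X)))) :=
  ⟨(Types.isTerminalEquivUnique _)
    ((terminalIsTerminal (C := EtDesc.Sh X)).isTerminalObj (shStalk ξ))⟩

variable {U : Scheme.{u}} (i : Y ⟶ X) [IsClosedImmersion i] (j : U ⟶ X) [IsOpenImmersion j]
  (hU : Set.range j.base = (Set.range i.base)ᶜ)

include hU in
theorem closedImm_essImage (F : EtDesc.Sh X) :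
    (EtDesc.pushSh i).essImage F ↔ IsIso (terminal.from ((EtDesc.pullSh j).obj F)) := by
  constructor
  · rintro ⟨G, ⟨e⟩⟩
    refine isIso_of_acPoints _ fun z => ?_
    have hnm : (acPoint z ≫ j).base default ∉ Set.range i.base := by
      have h1 : (acPoint z ≫ j).base default ∈ Set.range j.base := by
        rw [Scheme.Hom.comp_apply]; exact ⟨_, rfl⟩
      rw [hU] at h1
      exact h1
    obtain ⟨hu⟩ := unique_stalk_push_of_notMem i (acPoint z ≫ j) hnm G
    obtain ⟨ht⟩ := unique_stalk_terminal (acPoint z)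
    let e' : (shStalk (acPoint z ≫ j)).obj ((EtDesc.pushSh i).obj G) ≅
        (shStalk (acPoint z)).obj ((EtDesc.pullSh j).obj F) :=
      (shStalk (acPoint z ≫ j)).mapIso e ≪≫ (shStalkPullIso j (acPoint z)).app F
    refine ⟨fun a b _ => ?_, fun b => ⟨e'.hom hu.default, ?_⟩⟩
    · exact e'.toEquiv.symm.injective ((hu.uniq _).trans (hu.uniq _).symm)
    · exact (ht.uniq _).trans (ht.uniq _).symm
  · intro h
    let u := (EtDesc.adjSh i).unit.app F
    suffices IsIso u from ⟨_, ⟨(asIso u).symm⟩⟩
    refine isIso_of_acPoints u fun x => ?_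
    by_cases hx : x ∈ Set.range i.base
    · obtain ⟨y, hy⟩ := hx
      obtain ⟨l, hl, -⟩ := Groth.EtaleBase.exists_lift_point i (acPoint x) y
        (hy.trans (acPoint_apply x _).symm)
      rw [← hl]
      have hc := isIso_counitSh i ((EtDesc.pullSh i).obj F)
      have : IsIso ((EtDesc.pullSh i).map u) :=
        IsIso.of_isIso_fac_right (h := 𝟙 _) ((EtDesc.adjSh i).left_triangle_components F)
      exact (isIso_iff_bijective _).1 ((NatIso.isIso_map_iff (shStalkPullIso i l) u).2
        (inferInstanceAs (IsIso ((shStalk l).map ((EtDesc.pullSh i).map u)))))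
    · have hnm : (acPoint x).base default ∉ Set.range i.base := by rwa [acPoint_apply]
      obtain ⟨hu⟩ := unique_stalk_push_of_notMem i (acPoint x) hnm ((EtDesc.pullSh i).obj F)
      obtain ⟨z, hz⟩ : x ∈ Set.range j.base := by rw [hU]; exact hx
      obtain ⟨l, hl, -⟩ := Scheme.exists_fac_of_etale_of_isSepClosed j (acPoint x) z
        (hz.trans (acPoint_apply x _).symm)
      obtain ⟨ht⟩ := unique_stalk_terminal l
      have hi : IsIso ((shStalk l).map (terminal.from ((EtDesc.pullSh j).obj F))) := inferInstance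
      have hb := (isIso_iff_bijective _).1 hi
      let e' : (shStalk l).obj ((EtDesc.pullSh j).obj F) ≅ (shStalk (acPoint x)).obj F :=
        ((shStalkPullIso j l).app F).symm ≪≫ eqToIso (by rw [hl])
      have hF : ∀ a b : (shStalk (acPoint x)).obj F, a = b := fun a b =>
        e'.toEquiv.symm.injective (hb.1 ((ht.uniq _).trans (ht.uniq _).symm))
      obtain ⟨a₀, -⟩ := hb.2 ht.default
      exact ⟨fun a b _ => hF a b, fun b => ⟨e'.hom a₀, (hu.uniq _).trans (hu.uniq _).symm⟩⟩

end Groth.DescentBase
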