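import Groth.Agent.DescentBase.PushShInt
import Groth.Agent.DescentBase.ClosedImmSh
import Groth.Agent.EtaleBase.BaseChange0
import Groth.Prelude.Def_EtBCD

/-!
Base change in degree zero for sheaves of sets along integral morphisms.
-/

set_option autoImplicit false
set_option backward.isDefEq.respectTransparency.types false

universe u

open CategoryTheory CategoryTheory.Limits AlgebraicGeometry Opposite

namespace Groth.DescentBase

open Groth.EtaleBase (openObj openHom fiberPoint fiberPoint_map isOpenMap_left pushLift pushLift_map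
  exists_pushLift fiber_bc_ext bcSq bcSq_fst exists_etale_nbhd_section_point sigmaPiece sigmaPieceHom
  sigmaPieceHom_comp sigmaPiece_disjoint iSup_sigmaPiece exists_descend)

variable {X Y X' Y' : Scheme.{u}}

/-- Equal germs of a direct image have equal values. -/
lemma values_eq_of_shGerm_eq (f : X ⟶ Y) {Ω : Type u} [Field Ω] [IsSepClosed Ω]
    (η : Spec (CommRingCat.of Ω) ⟶ Y) (F : EtDesc.Sh X)
    (V₁ V₂ : Y.Etale) (s₁ : (Scheme.pointSmallEtale η).fiber.obj V₁)
    (s₂ : (Scheme.pointSmallEtale η).fiber.obj V₂)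
    (σ₁ : F.obj.obj (op ((EtCoh.bc f).obj V₁))) (σ₂ : F.obj.obj (op ((EtCoh.bc f).obj V₂)))
    (h0 : shGerm η ((EtDesc.pushSh f).obj F) V₁ s₁ σ₁ = shGerm η ((EtDesc.pushSh f).obj F) V₂ s₂ σ₂)
    (ξ : Spec (CommRingCat.of Ω) ⟶ X) (h : ξ ≫ f = η) :
    shGerm ξ F ((EtCoh.bc f).obj V₁) (pushLift f ξ h V₁ s₁) σ₁ =
      shGerm ξ F ((EtCoh.bc f).obj V₂) (pushLift f ξ h V₂ s₂) σ₂ := by
  subst h
  rw [← shEvPush_germ, ← shEvPush_germ, h0]

section square

variable (f : X ⟶ Y) (g : Y' ⟶ Y) (f' : X' ⟶ Y') (g' : X' ⟶ X) (w : g' ≫ f = f' ≫ g)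


omit f g f' g' w in
lemma pushComp_hom_app {A B C : Scheme.{u}} (a : A ⟶ B) (b : C ⟶ A) (G : EtDesc.Sh C) (V : B.Etale) :
    ((EtDesc.pushCompSh a b).hom.app G).hom.app (op V) =
      G.obj.map ((MorphismProperty.Over.pullbackComp (P := EtCoh.etaleMP) (Q := ⊤) b a).hom.app V).op := by
  refine (Category.id_comp _).trans rfl

omit f g f' g' w in
lemma pushComp_inv_app {A B C : Scheme.{u}} (a : A ⟶ B) (b : C ⟶ A) (G : EtDesc.Sh C) (V : B.Etale) :
    ((EtDesc.pushCompSh a b).inv.app G).hom.app (op V) =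
      G.obj.map ((MorphismProperty.Over.pullbackComp (P := EtCoh.etaleMP) (Q := ⊤) b a).inv.app V).op := by
  refine (Category.comp_id _).trans rfl

omit f g f' g' w in
lemma pushCongr_hom_app {A B : Scheme.{u}} {a b : A ⟶ B} (e : a = b) (G : EtDesc.Sh A) (V : B.Etale) :
    ((EtBC.pushCongrSh e).hom.app G).hom.app (op V) =
      G.obj.map ((MorphismProperty.Over.pullbackCongr (P := EtCoh.etaleMP) (Q := ⊤) e).inv.app V).op :=
  rfl

set_option backward.isDefEq.respectTransparency.types false in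
/-- The base change map on sections coming from the inverse image. -/
lemma baseChange0_unit (F : EtDesc.Sh X) (V : Y.Etale) (σ : F.obj.obj (op ((EtCoh.bc f).obj V))) :
    (EtBC.baseChange0Sh f g f' g' w F).hom.app (op ((EtCoh.bc g).obj V))
        (((EtDesc.adjSh g).unit.app ((EtDesc.pushSh f).obj F)).hom.app (op V) σ) =
      ((EtDesc.pullSh g').obj F).obj.map (bcSq f g f' g' w V).op
        (((EtDesc.adjSh g').unit.app F).hom.app (op ((EtCoh.bc f).obj V)) σ) := by
  have h := Equiv.apply_symm_apply ((EtDesc.adjSh g).homEquiv ((EtDesc.pushSh f).obj F)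
      ((EtDesc.pushSh f').obj ((EtDesc.pullSh g').obj F)))
    ((EtDesc.pushSh f).map ((EtDesc.adjSh g').unit.app F) ≫ (EtDesc.pushCompSh f g').hom.app _ ≫
      (EtBC.pushCongrSh w).hom.app _ ≫ (EtDesc.pushCompSh g f').inv.app _)
  rw [Adjunction.homEquiv_unit] at h
  have h2 : ((EtBC.baseChange0Sh f g f' g' w F).hom.app (op ((EtCoh.bc g).obj V)))
      (((EtDesc.adjSh g).unit.app ((EtDesc.pushSh f).obj F)).hom.app (op V) σ) =
      (((EtDesc.pushCompSh g f').inv.app ((EtDesc.pullSh g').obj F)).hom.app (op V))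
        ((((EtBC.pushCongrSh w).hom.app ((EtDesc.pullSh g').obj F)).hom.app (op V))
          ((((EtDesc.pushCompSh f g').hom.app ((EtDesc.pullSh g').obj F)).hom.app (op V))
            (((EtDesc.adjSh g').unit.app F).hom.app (op ((EtCoh.bc f).obj V)) σ))) :=
    by
      have h3 := congrArg (fun ν : (EtDesc.pushSh f).obj F ⟶ _ => ν.hom.app (op V)) h
      exact congrArg (fun k => k σ) h3
  refine h2.trans ?_
  rw [pushComp_hom_app, pushComp_inv_app, pushCongr_hom_app]
  unfold bcSq
  erw [op_comp, Functor.map_comp, op_comp, Functor.map_comp]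
  rfl

end square

section main

variable (f : X ⟶ Y) (g : Y' ⟶ Y) (f' : X' ⟶ Y') (g' : X' ⟶ X)
  (hsq : IsPullback g' f' f g) (F : EtDesc.Sh X) {Ω : Type u} [Field Ω] [IsAlgClosed Ω]
  (η' : Spec (CommRingCat.of Ω) ⟶ Y')

set_option backward.isDefEq.respectTransparency.types false in
lemma value_baseChange0 (V : Y.Etale) (s : (Scheme.pointSmallEtale (η' ≫ g)).fiber.obj V)
    (σ : F.obj.obj (op ((EtCoh.bc f).obj V))) (ξ' : Spec (CommRingCat.of Ω) ⟶ X') (h' : ξ' ≫ f' = η')
    (h : (ξ' ≫ g') ≫ f = η' ≫ g) :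
    shGerm ξ' ((EtDesc.pullSh g').obj F) ((EtCoh.bc f').obj ((EtCoh.bc g).obj V))
        (pushLift f' ξ' h' _ (pushLift g η' rfl V s))
        (((EtDesc.pullSh g').obj F).obj.map (bcSq f g f' g' hsq.w V).op
          (((EtDesc.adjSh g').unit.app F).hom.app (op ((EtCoh.bc f).obj V)) σ)) =
      (shStalkPullIso g' ξ').hom.app F
        (shGerm (ξ' ≫ g') F ((EtCoh.bc f).obj V) (pushLift f (ξ' ≫ g') h V s) σ) := by
  rw [shStalkPullIso_germ]
  refine ((Scheme.pointSmallEtale ξ').toPresheafFiber_w_apply (bcSq f g f' g' hsq.w V) _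
    ((EtDesc.pullSh g').obj F).obj _).trans ?_
  refine congrArg (fun t => shGerm ξ' ((EtDesc.pullSh g').obj F) _ t
    (((EtDesc.adjSh g').unit.app F).hom.app (op ((EtCoh.bc f).obj V)) σ)) ?_
  apply fiber_bc_ext
  apply pullback.hom_ext
  · show ((pushLift f' ξ' h' _ (pushLift g η' rfl V s)).left ≫ (bcSq f g f' g' hsq.w V).left) ≫
      pullback.fst (pullback.snd V.hom f) g' ≫ pullback.fst V.hom f = _
    rw [Category.assoc]
    erw [bcSq_fst]
    refine (Category.assoc _ _ _).symm.trans ?_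
    refine ((congrArg (· ≫ pullback.fst V.hom g) (pullback.lift_fst _ _ _)).trans
      (pullback.lift_fst _ _ _)).trans ?_
    exact ((congrArg (· ≫ pullback.fst V.hom f) (pullback.lift_fst _ _ _)).trans
      (pullback.lift_fst _ _ _)).symm
  · exact ((Category.assoc _ _ _).trans ((congrArg (_ ≫ ·) pullback.condition).trans
      ((Category.assoc _ _ _).symm.trans (congrArg (· ≫ g') (Over.w
        ((Scheme.pointSmallEtale ξ').fiber.map (bcSq f g f' g' hsq.w V)
          (pushLift f' ξ' h' _ (pushLift g η' rfl V s)))))))).trans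
      ((Category.assoc _ _ _).trans ((congrArg (_ ≫ ·) pullback.condition).trans
        ((Category.assoc _ _ _).symm.trans (congrArg (· ≫ g')
          (Over.w (pushLift g' ξ' rfl _ (pushLift f (ξ' ≫ g') h V s))))))).symm

set_option backward.isDefEq.respectTransparency.types false in
lemma stalk_baseChange0_germ (V : Y.Etale) (s : (Scheme.pointSmallEtale (η' ≫ g)).fiber.obj V)
    (σ : F.obj.obj (op ((EtCoh.bc f).obj V))) :
    (shStalk η').map (EtBC.baseChange0Sh f g f' g' hsq.w F)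
        ((shStalkPullIso g η').hom.app _ (shGerm (η' ≫ g) ((EtDesc.pushSh f).obj F) V s σ)) =
      shGerm η' ((EtDesc.pushSh f').obj ((EtDesc.pullSh g').obj F)) ((EtCoh.bc g).obj V)
        (pushLift g η' rfl V s)
        (((EtDesc.pullSh g').obj F).obj.map (bcSq f g f' g' hsq.w V).op
          (((EtDesc.adjSh g').unit.app F).hom.app (op ((EtCoh.bc f).obj V)) σ)) := by
  rw [shStalkPullIso_germ, shGerm_map, baseChange0_unit]

lemma injective_stalk_baseChange0 [IsIntegralHom f] :
    Function.Injective ((shStalk η').map (EtBC.baseChange0Sh f g f' g' hsq.w F)) := by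
  intro a b hab
  obtain ⟨a₀, rfl⟩ : ∃ a₀, (shStalkPullIso g η').hom.app ((EtDesc.pushSh f).obj F) a₀ = a :=
    ((isIso_iff_bijective ((shStalkPullIso g η').hom.app _)).1 inferInstance).2 a
  obtain ⟨b₀, rfl⟩ : ∃ b₀, (shStalkPullIso g η').hom.app ((EtDesc.pushSh f).obj F) b₀ = b :=
    ((isIso_iff_bijective ((shStalkPullIso g η').hom.app _)).1 inferInstance).2 b
  obtain ⟨V₁, s₁, σ₁, rfl⟩ := shGerm_surjective _ _ a₀
  obtain ⟨V₂, s₂, σ₂, rfl⟩ := shGerm_surjective _ _ b₀
  rw [stalk_baseChange0_germ f g f' g' hsq, stalk_baseChange0_germ f g f' g' hsq] at hab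
  rw [shGerm_push_eq f (η' ≫ g) F V₁ V₂ s₁ s₂ σ₁ σ₂]
  intro ξ hξ
  obtain ⟨ξ', h1, h2⟩ : ∃ ξ', ξ' ≫ g' = ξ ∧ ξ' ≫ f' = η' :=
    ⟨hsq.lift ξ η' hξ, hsq.lift_fst _ _ _, hsq.lift_snd _ _ _⟩
  subst h1
  have h0 := values_eq_of_shGerm_eq f' η' _ _ _ _ _ _ _ hab ξ' h2
  rw [value_baseChange0 f g f' g' hsq F η' V₁ s₁ σ₁ ξ' h2 hξ,
    value_baseChange0 f g f' g' hsq F η' V₂ s₂ σ₂ ξ' h2 hξ] at h0
  exact ((isIso_iff_bijective ((shStalkPullIso g' ξ').hom.app F)).1 inferInstance).1 h0

set_option backward.isDefEq.respectTransparency.types false in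
/-- Sections of an inverse image are, near all points over a geometric point, pullbacks of one
section. -/
lemma exists_uniform_representative [IsIntegralHom f']
    (W' : Y'.Etale) (s' : (Scheme.pointSmallEtale η').fiber.obj W')
    (σ' : ((EtDesc.pullSh g').obj F).obj.obj (op ((EtCoh.bc f').obj W'))) :
    ∃ (W : Y'.Etale) (j : W ⟶ W') (s : (Scheme.pointSmallEtale η').fiber.obj W)
      (U : X.Etale) (τ : F.obj.obj (op U)) (Q : (EtCoh.bc f').obj W ⟶ (EtCoh.bc g').obj U),
      (Scheme.pointSmallEtale η').fiber.map j s = s' ∧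
      ((EtDesc.pullSh g').obj F).obj.map ((EtCoh.bc f').map j).op σ' =
        ((EtDesc.pullSh g').obj F).obj.map Q.op
          (((EtDesc.adjSh g').unit.app F).hom.app (op U) τ) := by
  classical
  let G := (EtDesc.pullSh g').obj F
  let B' := (EtCoh.bc f').obj W'
  let fV : B'.left ⟶ W'.left := pullback.fst W'.hom f'
  have : IsIntegralHom fV := MorphismProperty.pullback_fst W'.hom f' ‹_›
  let Z : Set B'.left := fV.base ⁻¹' {fiberPoint η' s'}
  -- local representatives at each point of the fibre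
  have loc : ∀ z : Z, ∃ (Wz : X'.Etale) (p : Wz ⟶ B') (U : X.Etale) (τ : F.obj.obj (op U))
      (q : Wz ⟶ (EtCoh.bc g').obj U), (z : B'.left) ∈ Set.range p.left.base ∧
      G.obj.map p.op σ' = G.obj.map q.op (((EtDesc.adjSh g').unit.app F).hom.app (op U) τ) := by
    intro z
    obtain ⟨ξ', h', hz⟩ := exists_pushLift f' η' W' s' z.1 z.2
    obtain ⟨c, hc⟩ := ((isIso_iff_bijective ((shStalkPullIso g' ξ').hom.app F)).1
      inferInstance).2 (shGerm ξ' G B' (pushLift f' ξ' h' W' s') σ')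
    obtain ⟨U, l, τ, rfl⟩ := shGerm_surjective _ F c
    rw [shStalkPullIso_germ] at hc
    let Φ := Scheme.pointSmallEtale ξ'
    obtain ⟨W₀, pm, qm, -⟩ := IsCofilteredOrEmpty.cone_objs (C := Φ.fiber.Elements)
      (Functor.elementsMk _ B' (pushLift f' ξ' h' W' s'))
      (Functor.elementsMk _ ((EtCoh.bc g').obj U) (pushLift g' ξ' rfl U l))
    obtain ⟨W₁, w⟩ := W₀
    let p : W₁ ⟶ B' := pm.1
    let q : W₁ ⟶ (EtCoh.bc g').obj U := qm.1
    have hp : Φ.fiber.map p w = pushLift f' ξ' h' W' s' := pm.2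
    have hq : Φ.fiber.map q w = pushLift g' ξ' rfl U l := qm.2
    have key : shGerm ξ' G W₁ w (G.obj.map p.op σ') =
        shGerm ξ' G W₁ w (G.obj.map q.op (((EtDesc.adjSh g').unit.app F).hom.app (op U) τ)) := by
      change Φ.toPresheafFiber W₁ w G.obj _ = Φ.toPresheafFiber W₁ w G.obj _
      rw [Φ.toPresheafFiber_w_apply, Φ.toPresheafFiber_w_apply]
      erw [hp, hq]
      exact hc.symm
    obtain ⟨W₂, r, w₂, hw₂, heq⟩ := (shGerm_eq_iff _ G W₁ w _ _).1 key
    refine ⟨W₂, r ≫ p, U, τ, r ≫ q, ⟨fiberPoint ξ' w₂, ?_⟩, ?_⟩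
    · rw [← fiberPoint_map ξ' (r ≫ p) w₂, Functor.map_comp]
      show fiberPoint ξ' (Φ.fiber.map p (Φ.fiber.map r w₂)) = _
      rw [hw₂, hp, hz]
    · simpa only [op_comp, Functor.map_comp, ConcreteCategory.comp_apply] using heq
  choose Wz p U τ q hp heq using loc
  have hcpt : IsCompact Z := by
    rw [show Z = fV.base ⁻¹' {fiberPoint η' s'} from rfl, ← Scheme.Hom.range_fiberι fV _]
    exact isCompact_range (fV.fiberι _).continuous
  obtain ⟨S, hS⟩ := hcpt.elim_finite_subcover (fun z : Z => Set.range (p z).left.base)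
    (fun z => (isOpenMap_left (p z)).isOpen_range) (fun z hz => Set.mem_iUnion.2 ⟨⟨z, hz⟩, hp _⟩)
  let π : (∐ fun z : S => (Wz z.1).left) ⟶ B'.left := Sigma.desc fun z => (p z.1).left
  have : Etale π := IsZariskiLocalAtSource.sigmaDesc fun z => (inferInstance : Etale (p z.1).left)
  obtain ⟨V', v', hv', k₀, t', hk₀, ht', -⟩ := exists_etale_nbhd_section_point fV π s'.left
    (fun x hx => by
      obtain ⟨z, hz, hxz⟩ := Set.mem_iUnion₂.1 (hS (show x ∈ Z from hx))
      obtain ⟨a, rfl⟩ := hxz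
      exact ⟨(Sigma.ι (fun z : S => (Wz z.1).left) ⟨z, hz⟩).base a, by
        rw [← Scheme.Hom.comp_apply, Sigma.ι_desc]⟩)
    none (by simp)
  let W : Y'.Etale := Scheme.Etale.mk (v' ≫ W'.hom)
  let j : W ⟶ W' := MorphismProperty.Over.homMk v' rfl
  let B := (EtCoh.bc f').obj W
  let s : (Scheme.pointSmallEtale η').fiber.obj W :=
    Over.homMk t' (by
      show t' ≫ v' ≫ W'.hom = η'
      rw [← Category.assoc, ht']
      exact Over.w s')
  let l : B.left ⟶ pullback fV v' :=
    pullback.lift ((EtCoh.bc f').map j).left (pullback.fst (v' ≫ W'.hom) f') (pullback.lift_fst _ _ _)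
  let k : B.left ⟶ ∐ fun z : S => (Wz z.1).left := l ≫ k₀
  have hk : k ≫ π = ((EtCoh.bc f').map j).left := by
    rw [Category.assoc, hk₀]
    exact pullback.lift_fst _ _ _
  let P := sigmaPiece (fun z : S => (Wz z.1).left) k
  let r : ∀ z : S, openObj B (P z) ⟶ Wz z.1 := fun z =>
    MorphismProperty.Over.homMk (sigmaPieceHom (fun z : S => (Wz z.1).left) k z) (by
      have h1 := sigmaPieceHom_comp (fun z : S => (Wz z.1).left) k (fun z => (p z.1).left) z
      rw [hk] at h1
      exact (congrArg (sigmaPieceHom _ k z ≫ ·) (Over.w (p z.1).hom).symm).trans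
        (((Category.assoc _ _ _).symm.trans ((congrArg (· ≫ B'.hom) h1).trans (Category.assoc _ _ _))).trans
          (congrArg ((P z).ι ≫ ·) (Over.w ((EtCoh.bc f').map j).hom))))
  have hr : ∀ z : S, r z ≫ p z.1 = openHom B (P z) ≫ (EtCoh.bc f').map j := fun z => by
    refine MorphismProperty.Over.Hom.ext ?_
    have h1 := sigmaPieceHom_comp (fun z : S => (Wz z.1).left) k (fun z => (p z.1).left) z
    rw [hk] at h1
    exact h1
  -- the disjoint union of the representatives
  let Uh : (∐ fun z : S => (U z.1).left) ⟶ X := Sigma.desc fun z : S => (U z.1).hom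
  have : Etale Uh := IsZariskiLocalAtSource.sigmaDesc fun z => (inferInstance : Etale (U z.1).hom)
  let Ut : X.Etale := Scheme.Etale.mk Uh
  let O : S → Ut.left.Opens := fun z => (Sigma.ι (fun z : S => (U z.1).left) z).opensRange
  let u : ∀ z : S, openObj Ut (O z) ⟶ U z.1 := fun z =>
    MorphismProperty.Over.homMk (Sigma.ι (fun z : S => (U z.1).left) z).isoOpensRange.inv (by
      rw [Iso.inv_comp_eq]
      show (U z.1).hom = (Sigma.ι (fun z : S => (U z.1).left) z).isoOpensRange.hom ≫ (O z).ι ≫ Uh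
      exact ((Category.assoc _ _ _).symm.trans ((congrArg (· ≫ Uh)
        (Scheme.Hom.isoOpensRange_hom_ι _)).trans (Sigma.ι_desc _ _))).symm)
  let uT : ∀ z : S, U z.1 ⟶ Ut := fun z =>
    MorphismProperty.Over.homMk (Sigma.ι (fun z : S => (U z.1).left) z)
      (Sigma.ι_desc (fun z : S => (U z.1).hom) z)
  obtain ⟨τt, hτt⟩ := exists_glue_disjoint' Ut O
    (fun a b hab => disjoint_opensRange_sigmaι (fun z : S => (U z.1).left) a b hab)
    (eq_top_iff.2 fun x _ => by
      obtain ⟨z, a, ha⟩ := (sigmaOpenCover fun z : S => (U z.1).left).exists_eq x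
      exact TopologicalSpace.Opens.mem_iSup.2 ⟨z, a, ha⟩)
    F fun z => F.obj.map (u z).op (τ z.1)
  have huT : ∀ z : S, F.obj.map (uT z).op τt = τ z.1 := by
    intro z
    let ι' : U z.1 ⟶ openObj Ut (O z) :=
      MorphismProperty.Over.homMk (Sigma.ι (fun z : S => (U z.1).left) z).isoOpensRange.hom (by
        exact (Category.assoc _ _ _).symm.trans ((congrArg (· ≫ Uh)
          (Scheme.Hom.isoOpensRange_hom_ι _)).trans (Sigma.ι_desc _ _)))
    have e1 : ι' ≫ openHom Ut (O z) = uT z :=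
      MorphismProperty.Over.Hom.ext (Scheme.Hom.isoOpensRange_hom_ι (Sigma.ι (fun z : S => (U z.1).left) z))
    have e2 : ι' ≫ u z = 𝟙 _ := MorphismProperty.Over.Hom.ext (Iso.hom_inv_id _)
    rw [← e1, op_comp, Functor.map_comp, ConcreteCategory.comp_apply, hτt,
      ← ConcreteCategory.comp_apply, ← Functor.map_comp, ← op_comp, e2, op_id,
      CategoryTheory.Functor.map_id]
    rfl
  let m : (∐ fun z : S => (Wz z.1).left) ⟶ Ut.left :=
    Sigma.desc fun z => ((q z.1).left ≫ pullback.fst (U z.1).hom g') ≫ Sigma.ι (fun z : S => (U z.1).left) z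
  have hm : m ≫ Uh = (π ≫ B'.hom) ≫ g' := by
    refine Sigma.hom_ext _ _ fun z => ?_
    simp only [m, π, Uh, Sigma.ι_desc_assoc, Category.assoc]
    exact (congrArg ((q z.1).left ≫ ·) ((congrArg (pullback.fst (U z.1).hom g' ≫ ·)
        (Sigma.ι_desc (fun z : S => (U z.1).hom) z)).trans pullback.condition)).trans
      ((Category.assoc _ _ _).symm.trans ((congrArg (· ≫ g') ((Over.w (q z.1).hom).trans
        (Over.w (p z.1).hom).symm)).trans (Category.assoc _ _ _)))
  let Q : B ⟶ (EtCoh.bc g').obj Ut :=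
    MorphismProperty.Over.homMk (pullback.lift (k ≫ m) B.hom (by
      show (k ≫ m) ≫ Uh = B.hom ≫ g'
      rw [Category.assoc, hm, ← Category.assoc, ← Category.assoc, hk]
      exact congrArg (· ≫ g') (Over.w ((EtCoh.bc f').map j).hom))) (pullback.lift_snd _ _ _)
  have hQ : ∀ z : S, openHom B (P z) ≫ Q = r z ≫ q z.1 ≫ (EtCoh.bc g').map (uT z) := by
    intro z
    refine MorphismProperty.Over.Hom.ext (pullback.hom_ext ?_ ?_)
    · have h1 := sigmaPieceHom_comp (fun z : S => (Wz z.1).left) k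
        (fun z => ((q z.1).left ≫ pullback.fst (U z.1).hom g') ≫ Sigma.ι (fun z : S => (U z.1).left) z) z
      refine (Category.assoc _ _ _).trans ((congrArg ((P z).ι ≫ ·) (pullback.lift_fst _ _ _)).trans
        (h1.symm.trans ?_))
      show _ = (sigmaPieceHom _ k z ≫ (q z.1).left ≫ ((EtCoh.bc g').map (uT z)).left) ≫ _
      simp only [Category.assoc]
      exact congrArg (fun m => sigmaPieceHom _ k z ≫ (q z.1).left ≫ m) (pullback.lift_fst _ _ _).symm
    · exact (Over.w (openHom B (P z) ≫ Q).hom).trans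
        (Over.w (r z ≫ q z.1 ≫ (EtCoh.bc g').map (uT z)).hom).symm
  refine ⟨W, j, s, Ut, τt, Q, Over.OverMorphism.ext ht', ?_⟩
  refine ext_disjoint' B P (iSup_sigmaPiece _ _) G _ _ fun z => ?_
  rw [← ConcreteCategory.comp_apply, ← G.obj.map_comp, ← op_comp, ← hr,
    ← ConcreteCategory.comp_apply, ← G.obj.map_comp, ← op_comp, hQ]
  simp only [op_comp, Functor.map_comp, ConcreteCategory.comp_apply]
  rw [heq]
  congr 2
  have := NatTrans.naturality_apply ((EtDesc.adjSh g').unit.app F).hom (uT z).op τt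
  exact (congrArg _ (huT z)).symm.trans this

set_option backward.isDefEq.respectTransparency.types false in
lemma surjective_stalk_baseChange0 [IsIntegralHom f] :
    Function.Surjective ((shStalk η').map (EtBC.baseChange0Sh f g f' g' hsq.w F)) := by
  intro b
  have : IsIntegralHom f' := MorphismProperty.of_isPullback hsq ‹_›
  obtain ⟨W', s', σ', rfl⟩ := shGerm_surjective η' _ b
  obtain ⟨W, j, s, U, τ, Q, hs, hQ⟩ := exists_uniform_representative f' g' F η' W' s' σ'
  let sq : IsPullback (pullback.snd W.hom f' ≫ g') (pullback.fst W.hom f') f (W.hom ≫ g) :=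
    (IsPullback.of_hasPullback W.hom f').flip.paste_horiz hsq
  let q₁ : pullback f (W.hom ≫ g) ⟶ U.left :=
    sq.isoPullback.inv ≫ Q.left ≫ pullback.fst U.hom g'
  have hq₁ : q₁ ≫ U.hom = pullback.fst f (W.hom ≫ g) := by
    refine ((Category.assoc _ _ _).trans (congrArg (sq.isoPullback.inv ≫ ·) ?_)).trans
      sq.isoPullback_inv_fst
    exact (Category.assoc _ _ _).trans ((congrArg (Q.left ≫ ·) pullback.condition).trans
      ((Category.assoc _ _ _).symm.trans (congrArg (· ≫ g') (Over.w Q.hom))))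
  obtain ⟨V₀, v, hv, h, tV, hh, htV, hagree⟩ := exists_descend f U.hom (W.hom ≫ g) (η' ≫ g) s.left
    (by rw [← Category.assoc]; exact congrArg (· ≫ g) (Over.w s)) q₁ hq₁
  let V : Y.Etale := Scheme.Etale.mk v
  let hU : (EtCoh.bc f).obj V ⟶ U := MorphismProperty.Over.homMk ((pullbackSymmetry v f).hom ≫ h) (by
    exact (Category.assoc _ _ _).trans
      ((congrArg ((pullbackSymmetry v f).hom ≫ ·) hh).trans (pullbackSymmetry_hom_comp_fst v f)))
  let t : (Scheme.pointSmallEtale (η' ≫ g)).fiber.obj V := Over.homMk tV htV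
  refine ⟨(shStalkPullIso g η').hom.app _
    (shGerm (η' ≫ g) ((EtDesc.pushSh f).obj F) V t (F.obj.map hU.op τ)), ?_⟩
  rw [stalk_baseChange0_germ f g f' g' hsq, ← hs]
  refine Eq.trans ?_ ((Scheme.pointSmallEtale η').toPresheafFiber_w_apply j s
    ((EtDesc.pushSh f').obj ((EtDesc.pullSh g').obj F)).obj σ')
  refine shGerm_push_eq f' η' _ _ _ _ _ _ _ fun ξ' h' => ?_
  have hh' : (ξ' ≫ g') ≫ f = η' ≫ g := by rw [Category.assoc, hsq.w, reassoc_of% h']
  refine (value_baseChange0 f g f' g' hsq F η' V t _ ξ' h' hh').trans ?_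
  show _ = shGerm ξ' _ _ (pushLift f' ξ' h' W s)
    (((EtDesc.pullSh g').obj F).obj.map ((EtCoh.bc f').map j).op σ')
  rw [hQ]
  refine Eq.trans ?_ ((Scheme.pointSmallEtale ξ').toPresheafFiber_w_apply Q (pushLift f' ξ' h' W s)
    ((EtDesc.pullSh g').obj F).obj (((EtDesc.adjSh g').unit.app F).hom.app (op U) τ)).symm
  rw [show shGerm (ξ' ≫ g') F ((EtCoh.bc f).obj V) (pushLift f (ξ' ≫ g') hh' V t) (F.obj.map hU.op τ) =
    shGerm (ξ' ≫ g') F U ((Scheme.pointSmallEtale (ξ' ≫ g')).fiber.map hU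
      (pushLift f (ξ' ≫ g') hh' V t)) τ from
    (Scheme.pointSmallEtale (ξ' ≫ g')).toPresheafFiber_w_apply hU _ F.obj τ, shStalkPullIso_germ]
  refine congrArg (fun a => shGerm ξ' ((EtDesc.pullSh g').obj F) _ a
    (((EtDesc.adjSh g').unit.app F).hom.app (op U) τ)) (fiber_bc_ext g' U ξ' _ _ ?_)
  refine (pullback.lift_fst _ _ _).trans ?_
  have key := hagree ((pushLift f (ξ' ≫ g') hh' V t).left ≫ (pullbackSymmetry v f).hom)
    ((pushLift f' ξ' h' W s).left ≫ sq.isoPullback.hom)
    ((((Category.assoc _ _ _).trans ((congrArg (_ ≫ ·) (pullbackSymmetry_hom_comp_fst v f)).trans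
      (pullback.lift_snd _ _ _))).trans
      (((Category.assoc _ _ _).symm.trans (congrArg (· ≫ g') (pullback.lift_snd _ _ _)))).symm).trans
      (((Category.assoc _ _ _).trans (congrArg (_ ≫ ·) sq.isoPullback_hom_fst))).symm)
    ((Category.assoc _ _ _).trans ((congrArg (_ ≫ ·) (pullbackSymmetry_hom_comp_snd v f)).trans
      (pullback.lift_fst _ _ _)))
    ((Category.assoc _ _ _).trans ((congrArg (_ ≫ ·) sq.isoPullback_hom_snd).trans
      (pullback.lift_fst _ _ _)))
  rw [Category.assoc, Category.assoc] at key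
  exact key.trans ((congrArg ((pushLift f' ξ' h' W s).left ≫ ·)
    (Iso.hom_inv_id_assoc sq.isoPullback _)).trans (Category.assoc _ _ _).symm)

include hsq in
omit η' [Field Ω] [IsAlgClosed Ω] in
/-- Base change in degree zero along integral morphisms. -/
theorem isIso_baseChange0Sh [IsIntegralHom f] : IsIso (EtBC.baseChange0Sh f g f' g' hsq.w F) :=
  isIso_of_acPoints _ fun y =>
    ⟨injective_stalk_baseChange0 f g f' g' hsq F (acPoint y),
      surjective_stalk_baseChange0 f g f' g' hsq F (acPoint y)⟩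

end main

end Groth.DescentBase
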