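import Groth.Agent.DescentBase.FlasqueKilled
import Groth.Prelude.Def_EtBC2

/-!
# Comparison conditions along a base change
-/

set_option autoImplicit false
set_option synthInstance.maxHeartbeats 400000
set_option backward.isDefEq.respectTransparency.types false
set_option linter.style.haveILetI false

universe u

open CategoryTheory CategoryTheory.Limits CategoryTheory.Abelian AlgebraicGeometry Opposite
open Groth.EtaleBase Groth.DescentBase.HpullReduce Groth.DescentBase.AcyclicConst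

namespace Groth.DescentBase.BcAcyclic

variable {X Y Xb Yb : Scheme.{u}} {h : Y ⟶ X} {p : Xb ⟶ X} {hb : Yb ⟶ Xb} {pY : Yb ⟶ Y}

theorem isLTorsion_of_nsmul {Z : Scheme.{u}} {L : Set ℕ} {F : EtCoh.Ab Z} {m : ℕ} (hm : EtAcyc.PrimesIn L m)
    (h : m • 𝟙 F = 0) : EtAcyc.IsLTorsion L F := fun U s x =>
  ⟨U, 𝟙 U, m, ⟨x, rfl⟩, hm, by
    have h1 := nsmul_app (𝟙 F) m U (F.obj.map (𝟙 U).op s)
    rw [h] at h1
    exact h1.symm⟩

variable (w : hb ≫ p = pY ≫ h) {L : Set ℕ} {n : ℕ}
  (hbc : ∀ Fb : EtCoh.Ab Xb, EtAcyc.IsLTorsion L Fb →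
      (∀ i : ℕ, i ≤ n → IsIso (EtBC.bcQ p h pY hb w i Fb)) ∧ Mono (EtBC.bcQ p h pY hb w (n + 1) Fb))

include hbc in
theorem isIso_baseChange0 {Fb : EtCoh.Ab Xb} (hF : EtAcyc.IsLTorsion L Fb) :
    IsIso (EtCoh.baseChange0 p h pY hb w Fb) := by
  haveI := (hbc Fb hF).1 0 (Nat.zero_le _)
  have : PreservesLimitsOfSize.{0, 0} (EtCoh.push p) := (EtCoh.pullPushAdj p).rightAdjoint_preservesLimits
  have : PreservesFiniteLimits (EtCoh.push p) := PreservesLimitsOfSize.preservesFiniteLimits _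
  have : PreservesLimitsOfSize.{0, 0} (EtCoh.push pY) := (EtCoh.pullPushAdj pY).rightAdjoint_preservesLimits
  have : PreservesFiniteLimits (EtCoh.push pY) := PreservesLimitsOfSize.preservesFiniteLimits _
  haveI : IsIso ((EtCoh.pull h).map ((EtCoh.push p).toRightDerivedZero.app Fb) ≫
      EtBC.bcQ p h pY hb w 0 Fb) := inferInstance
  exact IsIso.of_isIso_fac_right (EtBC.bcQ_zero_compat p h pY hb w Fb).symm

variable {K : EtCoh.Ab Xb}
  (hK : ∀ (W : Xb.Etale) (q : ℕ), 0 < q → Subsingleton (EtCoh.H W.left ((EtCoh.pull W.hom).obj K) q))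

include hK in
theorem isZero_Rpush_flasque (q : ℕ) (hq : 0 < q) : IsZero ((EtCoh.Rpush p q).obj K) := by
  obtain ⟨r, rfl⟩ : ∃ r, q = r + 1 := ⟨q - 1, by omega⟩
  exact EtLimit.isZero_Rpush_of_flasque p K hK r

include hK in
theorem subsingleton_H_flasque (q : ℕ) (hq : 0 < q) : Subsingleton (EtCoh.H Xb K q) := by
  have h0 := hK (EtCoh.top Xb) q hq
  haveI : IsIso (EtCoh.top Xb).hom := inferInstanceAs (IsIso (𝟙 Xb))
  exact @Function.Injective.subsingleton _ _ _
    (Groth.EtaleBase.InjCoh.Hpull_bijective_univHomeo (EtCoh.top Xb).hom K q).1 h0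

include hbc hK in
theorem isZero_Rpush_pull [PreservesFiniteLimits (EtCoh.pull hb)] (hKL : EtAcyc.IsLTorsion L K) (j : ℕ)
    (h1 : 1 ≤ j) (h2 : j ≤ n) : IsZero ((EtCoh.Rpush pY j).obj ((EtCoh.pull hb).obj K)) := by
  haveI := (hbc K hKL).1 j h2
  exact (Functor.map_isZero (EtCoh.pull h) (isZero_Rpush_flasque hK j (by omega))).of_iso
    (asIso (EtBC.bcQ p h pY hb w j K)).symm

variable [PreservesFiniteLimits (EtCoh.pull hb)] [PreservesFiniteLimits (EtCoh.pull h)]
  [PreservesFiniteLimits (EtCoh.pull p)] [PreservesFiniteLimits (EtCoh.pull pY)]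

include w in
theorem square (F : EtCoh.Ab Xb) (q : ℕ) :
    ⇑(EtCore.Hpull hb F q) ∘ ⇑(EtLim.HofPush p F q) =
      (⇑(EtLim.HofPush pY ((EtCoh.pull hb).obj F) q) ∘
        ⇑((EtCoh.HF Y q).map (EtCoh.baseChange0 p h pY hb w F))) ∘
        ⇑(EtCore.Hpull h ((EtCoh.push p).obj F) q) := funext fun ζ =>
  Groth.Agent.S14389.result p h pY hb w F q ζ

variable (hh : EtAcyc.CompN h L n) [QuasiCompact p] [QuasiSeparated p]

include hbc hh in
theorem bijective_zero {F : EtCoh.Ab Xb} (hF : EtAcyc.IsLTorsion L F) :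
    Function.Bijective (EtCore.Hpull hb F 0) := by
  haveI := isIso_baseChange0 w hbc hF
  have h1 := ((hh _ (AcyclicLocal.isLTorsion_push p hF)).1 0 (Nat.zero_le _))
  refine (Function.Bijective.of_comp_iff _ (Groth.EtCdLeray.HofPush_zero_bijective p F)).1 ?_
  rw [square w F 0]
  exact ((Groth.EtCdLeray.HofPush_zero_bijective pY _).comp (ConcreteCategory.bijective_of_isIso
    ((EtCoh.HF Y 0).map (EtCoh.baseChange0 p h pY hb w F)))).comp h1

include hbc hh hK in
theorem bijective_flasque (hKL : EtAcyc.IsLTorsion L K) (q : ℕ) (hq : q ≤ n) :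
    Function.Bijective (EtCore.Hpull hb K q) := by
  haveI := isIso_baseChange0 w hbc hKL
  refine (Function.Bijective.of_comp_iff _
    (Groth.EtaleBase.InjCoh.HofPush_bijective p K (isZero_Rpush_flasque hK) q)).1 ?_
  rw [square w K q]
  exact (((Groth.EtCdLeray.HofPush_of_vanishing pY n _ (isZero_Rpush_pull w hbc hK hKL)).1 q hq).comp
    (ConcreteCategory.bijective_of_isIso
      ((EtCoh.HF Y q).map (EtCoh.baseChange0 p h pY hb w K)))).comp ((hh _ (AcyclicLocal.isLTorsion_push p hKL)).1 q hq)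

include hbc hh in
/-- The base change of a comparison condition. -/
theorem compN_baseChange [CompactSpace Xb] [QuasiSeparatedSpace Xb] [CompactSpace Yb] [QuasiSeparatedSpace Yb] :
    EtAcyc.CompN hb L n := by
  have key : ∀ q, q ≤ n + 1 → ∀ (F : EtCoh.Ab Xb) (m : ℕ), EtAcyc.PrimesIn L m → m • 𝟙 F = 0 →
      Inj hb F q ∧ (q ≤ n → Surj hb F q) := by
    intro q
    induction q using Nat.strong_induction_on with
    | _ q ih =>
      intro hq
      have hcok : ∀ {F G : EtCoh.Ab Xb} (u : F ⟶ G) {m : ℕ}, m • 𝟙 G = 0 → m • 𝟙 (cokernel u) = 0 :=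
        fun u m hG => by
          rw [← cancel_epi (cokernel.π u), comp_zero, Preadditive.comp_nsmul, Category.comp_id,
            ← Category.id_comp (cokernel.π u), ← Preadditive.nsmul_comp, hG, zero_comp]
      have hinj : ∀ (F : EtCoh.Ab Xb) (m : ℕ), EtAcyc.PrimesIn L m → m • 𝟙 F = 0 → Inj hb F q := by
        intro F m hm hF
        cases q with
        | zero => exact (bijective_zero w hbc hh (isLTorsion_of_nsmul hm hF)).1
        | succ r =>
          obtain ⟨K, u, hu, hKm, hK⟩ := FlasqueKilled.exists_flasque_mono F m hm.1 hF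
          refine (injective_iff_map_eq_zero _).2 fun x hx => ?_
          haveI := subsingleton_H_flasque hK (r + 1) r.succ_pos
          exact inj_succ_of_effaced hb u x (Subsingleton.elim _ _)
            (bijective_flasque w hbc hK hh (isLTorsion_of_nsmul hm hKm) r (by omega)).2
            (ih r r.lt_succ_self (by omega) _ m hm (hcok u hKm)).1 hx
      refine fun F m hm hF => ⟨hinj F m hm hF, fun hqn => ?_⟩
      obtain ⟨K, u, hu, hKm, hK⟩ := FlasqueKilled.exists_flasque_mono F m hm.1 hF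
      exact surj_of_mono hb u (bijective_flasque w hbc hK hh (isLTorsion_of_nsmul hm hKm) q hqn).2
        (hinj _ m hm (hcok u hKm)) fun r hr => (ih r (by omega) (by omega) _ m hm (hcok u hKm)).2 (by omega)
  intro F hF _
  have hFt := Groth.EtCdLTorsionRpush.isTorsion_of_isLTorsion hF
  have hinj : ∀ q ≤ n + 1, Inj hb F q := fun q hq => inj_of_factor hb hFt q fun C hC g => by
    obtain ⟨C', π, g', m, hg, -, hm, hmC⟩ := exists_L_quotient hC hF g
    exact ⟨C', π, g', hg, (key q hq C' m hm hmC).1⟩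
  refine ⟨fun q hq => ⟨hinj q (by omega), surj_of_factor hb hFt q fun C hC g => ?_⟩, hinj _ le_rfl⟩
  obtain ⟨C', π, g', m, hg, -, hm, hmC⟩ := exists_L_quotient hC hF g
  exact ⟨C', π, g', hg, (key q (by omega) C' m hm hmC).2 hq⟩

end Groth.DescentBase.BcAcyclic
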