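import Groth.Agent.DescentBase.BcAcyclic

/-!
# Classes coming from below after a surjective base change
-/

set_option autoImplicit false
set_option synthInstance.maxHeartbeats 400000
set_option backward.isDefEq.respectTransparency.types false
set_option linter.style.haveILetI false

universe u

open CategoryTheory CategoryTheory.Limits CategoryTheory.Abelian AlgebraicGeometry Opposite
open Groth.EtaleBase Groth.EtaleDeep.Cons Groth.DescentBase.HpullReduce

namespace Groth.DescentBase.BcDescent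

variable {X Y Xb Yb : Scheme.{u}} {h : Y ⟶ X} {p : Xb ⟶ X} {hb : Yb ⟶ Xb} {pY : Yb ⟶ Y}

/-- Relative pullback of a pulled back class. -/
theorem HpullVia_Hpull {A B C : Scheme.{u}} (g : A ⟶ B) (f : B ⟶ C) (t : A ⟶ C) (w : g ≫ f = t)
    [PreservesFiniteLimits (EtCoh.pull g)] [PreservesFiniteLimits (EtCoh.pull f)]
    [PreservesFiniteLimits (EtCoh.pull t)] (F : EtCoh.Ab C) (q : ℕ) (y : EtCoh.H C F q) :
    EtCore.HpullVia g f t w F q (EtCore.Hpull f F q y) = EtCore.Hpull t F q y := by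
  subst w
  rw [Groth.EtCdAcycComp.Hpull_comp g f F q y]
  show (EtCore.Hpull g _ q (EtCore.Hpull f F q y)).comp (Ext.mk₀ ((EtCore.pullComp g f).inv.app F ≫
    (EtCore.pullCongr (rfl : g ≫ f = g ≫ f)).hom.app F)) (add_zero q) = _
  simp [EtCore.pullCongr]

/-- The coefficient map of a relative pullback. -/
noncomputable abbrev viaMap {A B C : Scheme.{u}} (g : A ⟶ B) (f : B ⟶ C) (t : A ⟶ C) (w : g ≫ f = t)
    (F : EtCoh.Ab C) : (EtCoh.pull g).obj ((EtCoh.pull f).obj F) ⟶ (EtCoh.pull t).obj F :=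
  (((EtCore.pullComp g f).symm ≪≫ EtCore.pullCongr w).app F).hom

theorem HpullVia_eq {A B C : Scheme.{u}} (g : A ⟶ B) (f : B ⟶ C) (t : A ⟶ C) (w : g ≫ f = t)
    [PreservesFiniteLimits (EtCoh.pull g)] (F : EtCoh.Ab C) (q : ℕ) (y : EtCoh.H B ((EtCoh.pull f).obj F) q) :
    EtCore.HpullVia g f t w F q y = pushH (viaMap g f t w F) q (EtCore.Hpull g _ q y) := rfl

theorem HpullVia_natural {A B C : Scheme.{u}} (g : A ⟶ B) (f : B ⟶ C) (t : A ⟶ C) (w : g ≫ f = t)
    [PreservesFiniteLimits (EtCoh.pull g)] {F G : EtCoh.Ab C} (φ : F ⟶ G) (q : ℕ)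
    (y : EtCoh.H B ((EtCoh.pull f).obj F) q) :
    EtCore.HpullVia g f t w G q (pushH ((EtCoh.pull f).map φ) q y) =
      pushH ((EtCoh.pull t).map φ) q (EtCore.HpullVia g f t w F q y) := by
  rw [HpullVia_eq, HpullVia_eq, Hpull_pushH, ← pushH_comp, ← pushH_comp]
  refine congrArg (fun m => pushH m q (EtCore.Hpull g _ q y)) ?_
  exact ((EtCore.pullComp g f).symm ≪≫ EtCore.pullCongr w).hom.naturality φ

theorem pushH_HpullVia_pushH {A B C : Scheme.{u}} (g : A ⟶ B) (f : B ⟶ C) (t : A ⟶ C) (w : g ≫ f = t)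
    [PreservesFiniteLimits (EtCoh.pull g)] {D E G : EtCoh.Ab C} (a : D ⟶ E) (φ : E ⟶ G) (q : ℕ)
    (y : EtCoh.H B ((EtCoh.pull f).obj D) q) :
    pushH ((EtCoh.pull t).map φ) q (EtCore.HpullVia g f t w E q (pushH ((EtCoh.pull f).map a) q y)) =
      EtCore.HpullVia g f t w G q (pushH ((EtCoh.pull f).map (a ≫ φ)) q y) := by
  rw [← HpullVia_natural, ← pushH_comp, ← Functor.map_comp]

/-- The defining property of `pullCongr`. -/
theorem homEquiv_pullCongr {A C : Scheme.{u}} {a b : A ⟶ C} (w : a = b) (F : EtCoh.Ab C) {M : EtCoh.Ab A}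
    (φ : (EtCoh.pull a).obj F ⟶ M) :
    (EtCoh.pullPushAdj b).homEquiv _ _ ((EtCore.pullCongr w).inv.app F ≫ φ) =
      (EtCoh.pullPushAdj a).homEquiv _ _ φ ≫ (EtCoh.pushCongr w).hom.app M := by
  rw [Adjunction.homEquiv_unit, Adjunction.homEquiv_unit, Functor.map_comp, ← Category.assoc,
    ← Groth.EtCdCriterion.unit_pushCongr w F, Category.assoc, Category.assoc]
  exact congrArg (_ ≫ ·) ((EtCoh.pushCongr w).hom.naturality φ).symm

/-- The two coefficient maps on the fibre product agree. -/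
theorem coeff_eq (w : hb ≫ p = pY ≫ h) (F : EtCoh.Ab X) {K : EtCoh.Ab Xb} (j : (EtCoh.pull p).obj F ⟶ K) :
    ((EtCoh.pullPushAdj pY).homEquiv _ _).symm
        ((EtCoh.pull h).map ((EtCoh.pullPushAdj p).homEquiv _ _ j) ≫ EtCoh.baseChange0 p h pY hb w K) =
      viaMap pY h (pY ≫ h) rfl F ≫ (EtCore.pullCongr w).inv.app F ≫ (EtCore.pullComp hb p).hom.app F ≫
        (EtCoh.pull hb).map j := by
  rw [Equiv.symm_apply_eq]
  apply ((EtCoh.pullPushAdj h).homEquiv _ _).injective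
  refine (cancel_mono ((EtCoh.pushComp h pY).hom.app _)).1 ?_
  have hR : viaMap pY h (pY ≫ h) rfl F = (EtCore.pullComp pY h).inv.app F := by
    simp [viaMap, EtCore.pullCongr]
  rw [hR, Groth.DescentBase.homEquiv_pullComp pY h F, homEquiv_pullCongr,
    ← Groth.DescentBase.homEquiv_pullComp hb p F, Iso.inv_hom_id_app_assoc]
  rw [Adjunction.homEquiv_naturality_left]
  show ((EtCoh.pullPushAdj p).homEquiv _ _ j ≫ (EtCoh.pullPushAdj h).homEquiv _ _
    (((EtCoh.pullPushAdj h).homEquiv _ _).symm _)) ≫ _ = _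
  rw [Equiv.apply_symm_apply]
  have h1 : (EtCoh.pullPushAdj hb).homEquiv _ _ ((EtCoh.pull hb).map j) =
      j ≫ (EtCoh.pullPushAdj hb).unit.app K := by
    rw [Adjunction.homEquiv_unit]
    exact ((EtCoh.pullPushAdj hb).unit.naturality j).symm
  rw [h1, Adjunction.homEquiv_naturality_right]
  simp only [Category.assoc, Iso.inv_hom_id_app]
  erw [Category.comp_id]

theorem mono_of_map_surjective {A B : Scheme.{u}} (f : A ⟶ B) [Surjective f]
    [PreservesFiniteLimits (EtCoh.pull f)] {F G : EtCoh.Ab B} (φ : F ⟶ G)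
    [Mono ((EtCoh.pull f).map φ)] : Mono φ := by
  refine Preadditive.mono_of_kernel_zero (IsZero.eq_of_src ?_ _ _)
  refine AcyclicLocal.isZero_of_cover (κ := PUnit.{u + 1}) (fun _ => f) (fun v => ⟨⟨⟩, f.surjective v⟩) _ fun _ => ?_
  exact (isZero_kernel_of_mono ((EtCoh.pull f).map φ)).of_iso (PreservesKernel.iso (EtCoh.pull f) φ)

theorem mono_unit {A B : Scheme.{u}} (f : A ⟶ B) [Surjective f] [PreservesFiniteLimits (EtCoh.pull f)]
    (F : EtCoh.Ab B) : Mono ((EtCoh.pullPushAdj f).unit.app F) := by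
  haveI : Mono ((EtCoh.pull f).map ((EtCoh.pullPushAdj f).unit.app F)) :=
    SplitMono.mono ⟨_, (EtCoh.pullPushAdj f).left_triangle_components F⟩
  exact mono_of_map_surjective f _

theorem HofPush_pushH {A B : Scheme.{u}} (f : A ⟶ B) [PreservesFiniteLimits (EtCoh.pull f)]
    {G : EtCoh.Ab B} {M : EtCoh.Ab A} (φ : G ⟶ (EtCoh.push f).obj M) (q : ℕ) (z : EtCoh.H B G q) :
    EtLim.HofPush f M q (pushH φ q z) =
      pushH (((EtCoh.pullPushAdj f).homEquiv _ _).symm φ) q (EtCore.Hpull f G q z) := by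
  show pushH ((EtCoh.pullPushAdj f).counit.app _) q (EtCore.Hpull f _ q _) = _
  rw [Hpull_pushH, ← pushH_comp, Adjunction.homEquiv_counit]

/-- Abstract shape of `viaMap`. -/
abbrev gvia {C C' D : Type*} [Category C] [Category C'] [Category D] {P : C ⥤ C'} {Q : C' ⥤ D}
    {A T : C ⥤ D} (e : A ≅ P ⋙ Q) (c : A ≅ T) (F : C) : Q.obj (P.obj F) ⟶ T.obj F :=
  ((e.symm ≪≫ c).app F).hom

theorem gvia_cancel {C C' D : Type*} [Category C] [Category C'] [Category D] {P : C ⥤ C'} {Q : C' ⥤ D}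
    {A T : C ⥤ D} (e : A ≅ P ⋙ Q) (c : A ≅ T) (F : C) {K : C'} (j : P.obj F ⟶ K) :
    gvia e c F ≫ c.inv.app F ≫ e.hom.app F ≫ Q.map j = Q.map j := by
  simp [gvia]

theorem viaMap_comp (w : hb ≫ p = pY ≫ h) (F : EtCoh.Ab X) {K : EtCoh.Ab Xb}
    (j : (EtCoh.pull p).obj F ⟶ K) :
    viaMap hb p (pY ≫ h) w F ≫ (EtCore.pullCongr w).inv.app F ≫ (EtCore.pullComp hb p).hom.app F ≫
      (EtCoh.pull hb).map j = (EtCoh.pull hb).map j :=
  gvia_cancel (EtCore.pullComp hb p) (EtCore.pullCongr w) F j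

theorem hofPush_eq_zero (w : hb ≫ p = pY ≫ h) [PreservesFiniteLimits (EtCoh.pull hb)]
    [PreservesFiniteLimits (EtCoh.pull pY)] (q : ℕ) {F : EtCoh.Ab X} {K : EtCoh.Ab Xb}
    (j : (EtCoh.pull p).obj F ⟶ K)
    (ξ : EtCoh.H Y ((EtCoh.pull h).obj F) q) (xb : EtCoh.H Xb ((EtCoh.pull p).obj F) q)
    (he : EtCore.HpullVia hb p (pY ≫ h) w F q xb = EtCore.HpullVia pY h (pY ≫ h) rfl F q ξ)
    (hxb : pushH j q xb = 0) :
    EtLim.HofPush pY ((EtCoh.pull hb).obj K) q (pushH (EtCoh.baseChange0 p h pY hb w K) q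
      (pushH ((EtCoh.pull h).map ((EtCoh.pullPushAdj p).homEquiv _ _ j)) q ξ)) = 0 := by
  rw [← pushH_comp, HofPush_pushH, coeff_eq w F j]
  refine (pushH_comp (viaMap pY h (pY ≫ h) rfl F) _ q _).trans ?_
  rw [← HpullVia_eq, ← he, HpullVia_eq, ← pushH_comp, viaMap_comp, ← Hpull_pushH, hxb, map_zero]

theorem nsmul_push {A B : Scheme.{u}} (f : A ⟶ B) {K : EtCoh.Ab A} {m : ℕ} (h : m • 𝟙 K = 0) :
    m • 𝟙 ((EtCoh.push f).obj K) = 0 := by
  rw [← CategoryTheory.Functor.map_id, ← Functor.map_nsmul, h, Functor.map_zero]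

variable (w : hb ≫ p = pY ≫ h) {L : Set ℕ} {n : ℕ}
  (hbc : ∀ Fb : EtCoh.Ab Xb, EtAcyc.IsLTorsion L Fb →
      (∀ i : ℕ, i ≤ n → IsIso (EtBC.bcQ p h pY hb w i Fb)) ∧ Mono (EtBC.bcQ p h pY hb w (n + 1) Fb))
  [PreservesFiniteLimits (EtCoh.pull hb)] [PreservesFiniteLimits (EtCoh.pull h)]
  [PreservesFiniteLimits (EtCoh.pull p)] [PreservesFiniteLimits (EtCoh.pull pY)]
  [Surjective p] (hh : EtAcyc.CompN h L n)

include hbc hh in
theorem mem_range_killed {F : EtCoh.Ab X} {m : ℕ} (hm : EtAcyc.PrimesIn L m) (hF : m • 𝟙 F = 0)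
    (ξ : EtCoh.H Y ((EtCoh.pull h).obj F) (n + 1)) (xb : EtCoh.H Xb ((EtCoh.pull p).obj F) (n + 1))
    (he : EtCore.HpullVia hb p (pY ≫ h) w F (n + 1) xb = EtCore.HpullVia pY h (pY ≫ h) rfl F (n + 1) ξ) :
    ξ ∈ Set.range (EtCore.Hpull h F (n + 1)) := by
  have hF' : m • 𝟙 ((EtCoh.pull p).obj F) = 0 := by
    rw [← CategoryTheory.Functor.map_id, ← Functor.map_nsmul, hF, Functor.map_zero]
  obtain ⟨K, j, hj, hKm, hK⟩ := FlasqueKilled.exists_flasque_mono _ m hm.1 hF'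
  have hKL := BcAcyclic.isLTorsion_of_nsmul (L := L) hm hKm
  let u := (EtCoh.pullPushAdj p).homEquiv _ _ j
  haveI := mono_unit p F
  haveI : Mono u := by
    show Mono ((EtCoh.pullPushAdj p).homEquiv _ _ j)
    rw [Adjunction.homEquiv_unit]
    infer_instance
  haveI := BcAcyclic.isIso_baseChange0 w hbc hKL
  let bc := EtCoh.baseChange0 p h pY hb w K
  let z := pushH ((EtCoh.pull h).map u) (n + 1) ξ
  haveI := BcAcyclic.subsingleton_H_flasque hK (n + 1) n.succ_pos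
  have h0 : EtLim.HofPush pY ((EtCoh.pull hb).obj K) (n + 1) (pushH bc (n + 1) z) = 0 :=
    hofPush_eq_zero w (n + 1) j ξ xb he (Subsingleton.elim _ _)
  have h1 : pushH bc (n + 1) z = 0 :=
    (Groth.EtCdLeray.HofPush_of_vanishing pY n _ (BcAcyclic.isZero_Rpush_pull w hbc hK hKL)).2
      (h0.trans (map_zero _).symm)
  have h2 : z = 0 := (Groth.EtCdCriterion.bijective_postcomp_isIso bc (n + 1)).1
    (h1.trans (map_zero (pushH bc (n + 1))).symm)
  exact Groth.EtCd.mem_range_Hpull_succ h n hh u (BcAcyclic.isLTorsion_of_nsmul hm (nsmul_push p hKm)) ξ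
    ⟨0, (map_zero _).trans h2.symm⟩

include hbc hh in
/-- The descent criterion. -/
theorem mem_range_iff [CompactSpace X] [QuasiSeparatedSpace X] [CompactSpace Y] [QuasiSeparatedSpace Y]
    [CompactSpace Xb] [QuasiSeparatedSpace Xb] [CompactSpace Yb] [QuasiSeparatedSpace Yb]
    [QuasiCompact p] [QuasiSeparated p] [PreservesFiniteLimits (EtCoh.pull (pY ≫ h))]
    {F : EtCoh.Ab X} (hF : EtAcyc.IsLTorsion L F) (ξ : EtCoh.H Y ((EtCoh.pull h).obj F) (n + 1)) :
    ξ ∈ Set.range (EtCore.Hpull h F (n + 1)) ↔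
      EtCore.HpullVia pY h (pY ≫ h) rfl F (n + 1) ξ ∈
        Set.range (EtCore.HpullVia hb p (pY ≫ h) w F (n + 1)) := by
  constructor
  · rintro ⟨x, rfl⟩
    exact ⟨EtCore.Hpull p F (n + 1) x,
      (HpullVia_Hpull hb p _ w F (n + 1) x).trans (HpullVia_Hpull pY h _ rfl F (n + 1) x).symm⟩
  · rintro ⟨xb, he⟩
    have hFt := Groth.EtCdLTorsionRpush.isTorsion_of_isLTorsion hF
    obtain ⟨hc⟩ := nonempty_isColimit_presCocone hFt
    haveI := Groth.FlatMor2.ColimCoh.Etale.preservesColimitsOfShape_HF Y (PresCat F) (n + 1)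
    haveI := Groth.FlatMor2.ColimCoh.Etale.preservesColimitsOfShape_HF Xb (PresCat F) (n + 1)
    haveI := Groth.FlatMor2.ColimCoh.Etale.preservesColimitsOfShape_HF Yb (PresCat F) (n + 1)
    haveI := preserves_pull h (PresCat F)
    haveI := preserves_pull p (PresCat F)
    haveI := preserves_pull (pY ≫ h) (PresCat F)
    obtain ⟨P₁, y₁, hy₁⟩ := Types.jointly_surjective _
      (isColimitOfPreserves (EtCoh.pull h ⋙ EtCoh.HF Y (n + 1) ⋙ CategoryTheory.forget AddCommGrpCat.{u + 1}) hc) ξ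
    obtain ⟨P₂, y₂, hy₂⟩ := Types.jointly_surjective _
      (isColimitOfPreserves (EtCoh.pull p ⋙ EtCoh.HF Xb (n + 1) ⋙ CategoryTheory.forget AddCommGrpCat.{u + 1}) hc) xb
    change (EtCoh.HF Y (n + 1)).obj ((EtCoh.pull h).obj ((presDiag F).obj P₁)) at y₁
    change (EtCoh.HF Xb (n + 1)).obj ((EtCoh.pull p).obj ((presDiag F).obj P₂)) at y₂
    change pushH ((EtCoh.pull h).map ((presCocone F).ι.app P₁)) (n + 1) y₁ = ξ at hy₁
    change pushH ((EtCoh.pull p).map ((presCocone F).ι.app P₂)) (n + 1) y₂ = xb at hy₂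
    let P := IsFiltered.max P₁ P₂
    let a₁ := (presDiag F).map (IsFiltered.leftToMax P₁ P₂)
    let a₂ := (presDiag F).map (IsFiltered.rightToMax P₁ P₂)
    let e₁ := EtCore.HpullVia pY h (pY ≫ h) rfl _ (n + 1) (pushH ((EtCoh.pull h).map a₁) (n + 1) y₁)
    let e₂ := EtCore.HpullVia hb p (pY ≫ h) w _ (n + 1) (pushH ((EtCoh.pull p).map a₂) (n + 1) y₂)
    let T := presDiag F ⋙ EtCoh.pull (pY ≫ h) ⋙ EtCoh.HF Yb (n + 1) ⋙ CategoryTheory.forget AddCommGrpCat.{u + 1}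
    have heq : pushH ((EtCoh.pull (pY ≫ h)).map ((presCocone F).ι.app P)) (n + 1) e₂ =
        pushH ((EtCoh.pull (pY ≫ h)).map ((presCocone F).ι.app P)) (n + 1) e₁ := by
      refine (pushH_HpullVia_pushH hb p _ w a₂ _ (n + 1) y₂).trans ?_
      refine Eq.trans ?_ (pushH_HpullVia_pushH pY h _ rfl a₁ _ (n + 1) y₁).symm
      rw [show a₂ ≫ (presCocone F).ι.app P = (presCocone F).ι.app P₂ from (presCocone F).w _,
        show a₁ ≫ (presCocone F).ι.app P = (presCocone F).ι.app P₁ from (presCocone F).w _]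
      refine (congrArg _ hy₂).trans (he.trans (congrArg _ hy₁).symm)
    obtain ⟨Q, f, hQ⟩ := (Types.FilteredColimit.isColimit_eq_iff'
      (isColimitOfPreserves (EtCoh.pull (pY ≫ h) ⋙ EtCoh.HF Yb (n + 1) ⋙
        CategoryTheory.forget AddCommGrpCat.{u + 1}) hc) (i := P) (e₂ : T.obj P) (e₁ : T.obj P)).1 heq
    change pushH ((EtCoh.pull (pY ≫ h)).map ((presDiag F).map f)) (n + 1) e₂ =
      pushH ((EtCoh.pull (pY ≫ h)).map ((presDiag F).map f)) (n + 1) e₁ at hQ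
    obtain ⟨C', π, g', m, hg, -, hm, hmC⟩ := AcyclicConst.exists_L_quotient (isConstructible_presDiag Q) hF
      ((presCocone F).ι.app Q : (presDiag F).obj Q ⟶ F)
    let b := (presDiag F).map f ≫ π
    obtain ⟨x, hx⟩ := mem_range_killed w hbc hh hm hmC
      (pushH ((EtCoh.pull h).map (a₁ ≫ b)) (n + 1) y₁) (pushH ((EtCoh.pull p).map (a₂ ≫ b)) (n + 1) y₂) (by
        have hQ' := congrArg (pushH ((EtCoh.pull (pY ≫ h)).map π) (n + 1)) hQ
        rw [← pushH_comp, ← pushH_comp, ← Functor.map_comp] at hQ'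
        exact ((pushH_HpullVia_pushH hb p _ w a₂ b (n + 1) y₂).symm.trans hQ').trans
          (pushH_HpullVia_pushH pY h _ rfl a₁ b (n + 1) y₁))
    refine ⟨pushH g' (n + 1) x, (Hpull_pushH h g' (n + 1) x).trans ?_⟩
    rw [hx, ← pushH_comp, ← Functor.map_comp]
    refine Eq.trans ?_ hy₁
    refine congrArg (fun r => pushH ((EtCoh.pull h).map r) (n + 1) y₁) ?_
    simp only [a₁, b, Category.assoc, hg]
    erw [(presCocone F).w f, (presCocone F).w (IsFiltered.leftToMax P₁ P₂)]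

end Groth.DescentBase.BcDescent
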