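import Groth.Agent.DescentBase.BcQComplex
import Mathlib.CategoryTheory.Abelian.Injective.Extend

/-!
The cohomology sheaves of the base change morphism of a single sheaf are the base change morphisms in each degree.
-/

set_option autoImplicit false
set_option synthInstance.maxHeartbeats 400000
set_option backward.isDefEq.respectTransparency false
set_option linter.style.haveILetI false

universe u

open CategoryTheory CategoryTheory.Limits AlgebraicGeometry
open Groth.EtaleBase Groth.EtaleBase.EtLimit Groth.DescentBase.MapExtend Groth.DescentBase.BcQComplex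

namespace Groth.DescentBase.BcMapHomology

attribute [local instance] HasDerivedCategory.standard Groth.EtaleBase.BCD.preservesFiniteLimits_push

local notation "emb" => ComplexShape.embeddingUpNat

variable {X S X' S' : Scheme.{u}} (f : X ⟶ S) (g : S' ⟶ S) (f' : X' ⟶ S') (g' : X' ⟶ X)
  (w : g' ≫ f = f' ≫ g) [PreservesFiniteLimits (EtCoh.pull g')] (F : EtCoh.Ab X)

/-- The transposed comparison of resolutions. -/
noncomputable def φN :
    ((EtCoh.pull g').mapHomologicalComplex (ComplexShape.up ℕ)).obj (injectiveResolution F).cocomplex ⟶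
      (injectiveResolution ((EtCoh.pull g').obj F)).cocomplex where
  f k := ((EtCoh.pullPushAdj g').homEquiv _ _).symm ((resUnit g' F).f k)
  comm' i j _ := BCD.symm_comp_of_sq (EtCoh.pullPushAdj g') ((resUnit g' F).comm i j)

instance quasiIso_φN : QuasiIso (φN g' F) := by
  let P := (EtCoh.pull g').mapHomologicalComplex (ComplexShape.up ℕ)
  let s := (HomologicalComplex.singleMapHomologicalComplex (EtCoh.pull g') (ComplexShape.up ℕ) 0).inv.app F ≫
    P.map (injectiveResolution F).ι
  have hs : s ≫ φN g' F = (injectiveResolution ((EtCoh.pull g').obj F)).ι := by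
    apply HomologicalComplex.from_single_hom_ext
    simp only [s, HomologicalComplex.comp_f, Category.assoc]
    have h := (resUnitHom g' F).comm_ε
    refine (congrArg (_ ≫ ·) (h.trans (Category.id_comp _))).trans ?_
    simp [HomologicalComplex.singleMapHomologicalComplex]
    rfl
  haveI : QuasiIso s := inferInstance
  haveI : QuasiIso (s ≫ φN g' F) := hs ▸ inferInstance
  exact quasiIso_of_comp_left s _

/-- The comparison of extended resolutions. -/
noncomputable def φZ :
    ((EtCoh.pull g').mapHomologicalComplex (ComplexShape.up ℤ)).obj (injectiveResolution F).cochainComplex ⟶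
      (injectiveResolution ((EtCoh.pull g').obj F)).cochainComplex :=
  (mapExtendIso (EtCoh.pull g') emb (injectiveResolution F).cocomplex).hom ≫
    HomologicalComplex.extendMap (φN g' F) emb

instance quasiIso_φZ : QuasiIso (φZ g' F) := by
  haveI : QuasiIso (HomologicalComplex.extendMap (φN g' F) emb) :=
    (HomologicalComplex.quasiIso_extendMap_iff _ _).2 inferInstance
  unfold φZ
  infer_instance

variable [PreservesFiniteLimits (EtCoh.pull g)]

/-- The identification of the source. -/
noncomputable def leftIso :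
    ((EtCoh.pull g).mapHomologicalComplex (ComplexShape.up ℤ)).obj
        (((EtCoh.push f).mapHomologicalComplex (ComplexShape.up ℤ)).obj (injectiveResolution F).cochainComplex) ≅
      (((EtCoh.pull g).mapHomologicalComplex (ComplexShape.up ℕ)).obj (pushCx f (injectiveResolution F))).extend emb :=
  ((EtCoh.pull g).mapHomologicalComplex (ComplexShape.up ℤ)).mapIso
      (mapExtendIso (EtCoh.push f) emb (injectiveResolution F).cocomplex) ≪≫
    mapExtendIso (EtCoh.pull g) emb (pushCx f (injectiveResolution F))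

theorem squareMap_f (k : ℕ) :
    (EtBC.pushToPushPull f g f' g' w).app ((injectiveResolution F).cocomplex.X k) ≫
        (EtCoh.push g).map ((EtCoh.push f').map ((φN g' F).f k)) = (squareMap f g f' g' w F).f k := by
  let α := (EtCoh.pushComp f g' ≪≫ EtCoh.pushCongr w ≪≫ (EtCoh.pushComp g f').symm).hom
  have h1 : (EtCoh.pullPushAdj g').unit.app _ ≫ (EtCoh.push g').map ((φN g' F).f k) = (resUnit g' F).f k :=
    ((EtCoh.pullPushAdj g').homEquiv_unit _ _ _).symm.trans (Equiv.apply_symm_apply _ _)
  show _ = (EtCoh.push f).map ((resUnit g' F).f k) ≫ α.app _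
  rw [← h1, Functor.map_comp, Category.assoc]
  refine Eq.trans ?_ (congrArg (_ ≫ ·) (α.naturality ((φN g' F).f k)).symm)
  simp [EtBC.pushToPushPull, α]
  rfl

theorem cxMap_step {i : ℤ} {k : ℕ} (hk : (ComplexShape.embeddingUpNat).f k = i) :
    ((EtBC.pushToPushPull f g f' g' w).app ((injectiveResolution F).cochainComplex.X i) ≫
        (EtCoh.push g).map ((EtCoh.push f').map ((φZ g' F).f i))) ≫
      (EtCoh.push g).map ((EtCoh.push f').map
        (HomologicalComplex.extendXIso (injectiveResolution ((EtCoh.pull g').obj F)).cocomplex emb hk).hom) =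
    (EtCoh.push f).map (HomologicalComplex.extendXIso (injectiveResolution F).cocomplex emb hk).hom ≫
      (squareMap f g f' g' w F).f k := by
  rw [← squareMap_f f g f' g' w F k]
  refine Eq.trans ?_ (((Category.assoc _ _ _).symm.trans (congrArg (· ≫ _) ((EtBC.pushToPushPull f g f' g' w).naturality
    (HomologicalComplex.extendXIso (injectiveResolution F).cocomplex emb hk).hom))).trans (Category.assoc _ _ _)).symm
  refine (Category.assoc _ _ _).trans (congrArg (_ ≫ ·) ?_)
  show _ = (EtCoh.push g).map ((EtCoh.push f').map _) ≫ (EtCoh.push g).map ((EtCoh.push f').map _)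
  rw [← Functor.map_comp, ← Functor.map_comp, ← Functor.map_comp, ← Functor.map_comp]
  refine congrArg _ (congrArg _ ?_)
  simp [φZ, mapExtendIso_hom_f _ _ _ hk, HomologicalComplex.extendMap_f _ _ hk]

theorem cxMap_extend :
    BCD.cxMap f g f' g' w (φZ g' F) ≫
        (mapExtendIso (EtCoh.push f') emb (injectiveResolution ((EtCoh.pull g').obj F)).cocomplex).hom =
      (leftIso f g F).hom ≫ HomologicalComplex.extendMap (νMap f g f' g' w F) emb := by
  ext i : 1
  by_cases hi : ∃ k : ℕ, (k : ℤ) = i
  · obtain ⟨k, hk⟩ := hi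
    have hk' : (ComplexShape.embeddingUpNat).f k = i := hk
    simp only [HomologicalComplex.comp_f, leftIso, Iso.trans_hom, Functor.mapIso_hom,
      Functor.mapHomologicalComplex_map_f, mapExtendIso_hom_f _ _ _ hk', HomologicalComplex.extendMap_f _ _ hk',
      Functor.map_comp, Category.assoc, Iso.inv_hom_id_assoc]
    show ((EtCoh.pullPushAdj g).homEquiv _ _).symm _ ≫ _ ≫ _ = _
    refine (Category.assoc _ _ _).symm.trans ((congrArg (· ≫ _)
      (((EtCoh.pullPushAdj g).homEquiv_naturality_right_symm _ _).symm.trans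
        ((congrArg _ (cxMap_step f g f' g' w F hk')).trans
          ((EtCoh.pullPushAdj g).homEquiv_naturality_left_symm _ _)))).trans ?_)
    · refine (Category.assoc _ _ _).trans (congrArg (_ ≫ ·) ?_)
      exact ((Category.assoc _ _ _).symm.trans ((congrArg (· ≫ _) (((EtCoh.pull g).map_comp _ _).symm.trans
        ((congrArg _ (Iso.inv_hom_id _)).trans ((EtCoh.pull g).map_id _)))).trans (Category.id_comp _))).symm
  · exact IsZero.eq_of_tgt (HomologicalComplex.isZero_extend_X _ _ i fun k hk => hi ⟨k, hk⟩) _ _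

/-- Homology of the comparison of extended complexes. -/
theorem nonempty_arrowIso_cxMap (q : ℕ) :
    Nonempty (Arrow.mk (HomologicalComplex.homologyMap (BCD.cxMap f g f' g' w (φZ g' F)) (q : ℤ)) ≅
      Arrow.mk (EtBC.bcQ f g f' g' w q F)) := by
  obtain ⟨e⟩ := nonempty_arrowIso f g f' g' w F q
  let a : Arrow.mk (BCD.cxMap f g f' g' w (φZ g' F)) ≅
      Arrow.mk (HomologicalComplex.extendMap (νMap f g f' g' w F) emb) :=
    Arrow.isoMk (leftIso f g F) (mapExtendIso (EtCoh.push f') emb _) (cxMap_extend f g f' g' w F).symm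
  refine ⟨(HomologicalComplex.homologyFunctor _ _ (q : ℤ)).mapArrow.mapIso a ≪≫ ?_ ≪≫ e⟩
  exact Arrow.isoMk (HomologicalComplex.extendHomologyIso _ emb (j := q) rfl)
    (HomologicalComplex.extendHomologyIso _ emb (j := q) rfl)
    (HomologicalComplex.extendHomologyIso_hom_naturality (νMap f g f' g' w F) emb (j := q) rfl).symm

variable [DCoh.HasRpushEt X f] [DCoh.HasRpushEt X' f'] [DCoh.HasRpushEt S' g]
  (adj : EtBC.pullD g ⊣ DCoh.RpushEt S' g)

/-- The base change morphism of a single sheaf in the derived category, on complexes. -/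
theorem nonempty_arrowIso_Q :
    Nonempty (Arrow.mk (EtBC.bcMap f g f' g' w adj (EtBC.single X F)) ≅
      Arrow.mk (DerivedCategory.Q.map (BCD.cxMap f g f' g' w (φZ g' F)))) := by
  let R := injectiveResolution F
  let R' := injectiveResolution ((EtCoh.pull g').obj F)
  haveI : R.cochainComplex.IsKInjective := CochainComplex.isKInjective_of_injective _ 0
  haveI : R'.cochainComplex.IsKInjective := CochainComplex.isKInjective_of_injective _ 0
  let qt := HomotopyCategory.quotient (EtCoh.Ab X) (ComplexShape.up ℤ)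
  let L := DerivedCategory.Qh.obj (qt.obj R.cochainComplex)
  haveI : IsIso (DerivedCategory.Q.map R.ι') := (DerivedCategory.isIso_Q_map_iff_quasiIso (EtCoh.Ab X) _).2 inferInstance
  let eK : L ≅ EtBC.single X F :=
    (DerivedCategory.quotientCompQhIso (EtCoh.Ab X)).app R.cochainComplex ≪≫ (asIso (DerivedCategory.Q.map R.ι')).symm
  let bK := EtBC.bcMap f g f' g' w adj (EtBC.single X F)
  let bL := EtBC.bcMap f g f' g' w adj L
  let b₀ := EtBC.bcMap f g f' g' w (BCD.adj₀ g) L
  have hn : (EtBC.pullD g).map ((DCoh.RpushEt X f).map eK.hom) ≫ bK =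
      bL ≫ (DCoh.RpushEt X' f').map ((EtBC.pullD g').map eK.hom) := by
    simp only [bK, bL, EtBC.bcMap]
    rw [← Adjunction.homEquiv_naturality_left_symm, ← Adjunction.homEquiv_naturality_right_symm]
    exact congrArg (adj.homEquiv _ _).symm ((EtBC.bcAdj f g f' g' w).naturality eK.hom)
  have hu : bL = (adj.leftAdjointUniq (BCD.adj₀ g)).hom.app _ ≫ b₀ := by
    apply (adj.homEquiv _ _).injective
    rw [Adjunction.homEquiv_naturality_right, Adjunction.homEquiv_leftAdjointUniq_hom_app]
    refine (Equiv.apply_symm_apply _ _).trans ?_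
    exact (((BCD.adj₀ g).homEquiv_unit _ _ _).symm.trans (Equiv.apply_symm_apply _ _)).symm
  let a₁ : Arrow.mk bL ≅ Arrow.mk bK :=
    Arrow.isoMk ((EtBC.pullD g).mapIso ((DCoh.RpushEt X f).mapIso eK))
      ((DCoh.RpushEt X' f').mapIso ((EtBC.pullD g').mapIso eK)) hn
  let a₂ : Arrow.mk bL ≅ Arrow.mk b₀ :=
    Arrow.isoMk ((adj.leftAdjointUniq (BCD.adj₀ g)).app _) (Iso.refl _) (hu.symm.trans (Category.comp_id _).symm)
  have hfac := BCD.bcMap_adj₀_fac f g f' g' w (φZ g' F)
  haveI := SiteCohomology.EtPushComp.isIso_unit_app f R.cochainComplex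
  haveI := SiteCohomology.EtPushComp.isIso_unit_app f' R'.cochainComplex
  haveI : IsIso (DerivedCategory.Qh.map ((HomotopyCategory.quotient (EtCoh.Ab X') (ComplexShape.up ℤ)).map (φZ g' F))) :=
    (DerivedCategory.isIso_Qh_map_iff _).2 ((HomotopyCategory.quotient_map_mem_quasiIso_iff _).2
      ((HomologicalComplex.mem_quasiIso_iff _).2 inferInstance))
  let C := (EtCoh.pull g).mapDerivedCategoryFactorsh.app
    (((EtCoh.push f).mapHomotopyCategory (ComplexShape.up ℤ)).obj (qt.obj R.cochainComplex))
  let A := (EtBC.pullD g).map ((BCD.β f).app (qt.obj R.cochainComplex))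
  let B := (DCoh.RpushEt X' f').map (BCD.resMap g' (φZ g' F))
  let E := (BCD.β f').app ((HomotopyCategory.quotient (EtCoh.Ab X') (ComplexShape.up ℤ)).obj R'.cochainComplex)
  haveI : IsIso A := inferInstance
  haveI : IsIso B := inferInstance
  haveI : IsIso E := inferInstance
  let a₃ : Arrow.mk b₀ ≅ Arrow.mk (DerivedCategory.Qh.map
      ((HomotopyCategory.quotient (EtCoh.Ab S') (ComplexShape.up ℤ)).map (BCD.cxMap f g f' g' w (φZ g' F)))) :=
    Arrow.isoMk ((asIso A).symm ≪≫ C) (asIso B ≪≫ (asIso E).symm) (by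
      show (inv A ≫ C.hom) ≫ _ = b₀ ≫ B ≫ inv E
      rw [Category.assoc, IsIso.inv_comp_eq, ← cancel_mono E]
      simp only [Category.assoc, IsIso.inv_hom_id, Category.comp_id]
      exact hfac.symm)
  let a₄ : Arrow.mk (DerivedCategory.Qh.map
      ((HomotopyCategory.quotient (EtCoh.Ab S') (ComplexShape.up ℤ)).map (BCD.cxMap f g f' g' w (φZ g' F)))) ≅
      Arrow.mk (DerivedCategory.Q.map (BCD.cxMap f g f' g' w (φZ g' F))) :=
    Arrow.isoMk ((DerivedCategory.quotientCompQhIso _).app _) ((DerivedCategory.quotientCompQhIso _).app _)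
      (DerivedCategory.quotientCompQhIso_hom_naturality _).symm
  exact ⟨a₁.symm ≪≫ a₂ ≪≫ a₃ ≪≫ a₄⟩

theorem nonempty_arrowIso_homology (i : ℤ) :
    Nonempty (Arrow.mk ((DerivedCategory.homologyFunctor (EtCoh.Ab S') i).map
        (EtBC.bcMap f g f' g' w adj (EtBC.single X F))) ≅
      Arrow.mk (HomologicalComplex.homologyMap (BCD.cxMap f g f' g' w (φZ g' F)) i)) := by
  obtain ⟨e⟩ := nonempty_arrowIso_Q f g f' g' w F adj
  exact ⟨(DerivedCategory.homologyFunctor (EtCoh.Ab S') i).mapArrow.mapIso e ≪≫
    Arrow.isoMk ((DerivedCategory.homologyFunctorFactors _ i).app _) ((DerivedCategory.homologyFunctorFactors _ i).app _)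
      (DerivedCategory.homologyFunctorFactors_hom_naturality _ i).symm⟩

/-- The cohomology sheaves of the base change morphism of a sheaf. -/
theorem nonempty_arrowIso_bcQ (q : ℕ) :
    Nonempty (Arrow.mk ((DerivedCategory.homologyFunctor (EtCoh.Ab S') (q : ℤ)).map
        (EtBC.bcMap f g f' g' w adj (EtBC.single X F))) ≅ Arrow.mk (EtBC.bcQ f g f' g' w q F)) := by
  obtain ⟨a⟩ := nonempty_arrowIso_homology f g f' g' w F adj q
  obtain ⟨b⟩ := nonempty_arrowIso_cxMap f g f' g' w F q
  exact ⟨a ≪≫ b⟩

theorem isIso_homology_iff (q : ℕ) :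
    IsIso ((DerivedCategory.homologyFunctor (EtCoh.Ab S') (q : ℤ)).map
        (EtBC.bcMap f g f' g' w adj (EtBC.single X F))) ↔ IsIso (EtBC.bcQ f g f' g' w q F) := by
  obtain ⟨a⟩ := nonempty_arrowIso_bcQ f g f' g' w F adj q
  exact (MorphismProperty.isomorphisms (EtCoh.Ab S')).arrow_mk_iso_iff a

theorem mono_homology_iff (q : ℕ) :
    Mono ((DerivedCategory.homologyFunctor (EtCoh.Ab S') (q : ℤ)).map
        (EtBC.bcMap f g f' g' w adj (EtBC.single X F))) ↔ Mono (EtBC.bcQ f g f' g' w q F) := by
  obtain ⟨a⟩ := nonempty_arrowIso_bcQ f g f' g' w F adj q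
  exact (MorphismProperty.monomorphisms (EtCoh.Ab S')).arrow_mk_iso_iff a

/-- In negative degrees the morphism is invertible. -/
theorem isIso_homology_of_neg (i : ℤ) (hi : i < 0) :
    IsIso ((DerivedCategory.homologyFunctor (EtCoh.Ab S') i).map
        (EtBC.bcMap f g f' g' w adj (EtBC.single X F))) := by
  obtain ⟨a⟩ := nonempty_arrowIso_homology f g f' g' w F adj i
  refine ((MorphismProperty.isomorphisms (EtCoh.Ab S')).arrow_mk_iso_iff a).2 ?_
  have hz : ∀ {K : CochainComplex (EtCoh.Ab S') ℤ} {M : CochainComplex (EtCoh.Ab S') ℕ}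
      (_ : K ≅ M.extend emb), IsZero (K.homology i) := fun {K M} e => by
    haveI : CochainComplex.IsStrictlyGE (M.extend emb) 0 := inferInstance
    exact (CochainComplex.isZero_of_isGE (M.extend emb) 0 i hi).of_iso
      ((HomologicalComplex.homologyFunctor _ _ i).mapIso e)
  exact isIso_of_source_target_iso_zero _ (hz (leftIso f g F)).isoZero
    (hz (mapExtendIso (EtCoh.push f') emb _)).isoZero

end Groth.DescentBase.BcMapHomology
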