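import Groth.Agent.DescentBase.MapExtend
import Groth.Agent.EtaleBase.BCD.Stalk
import Groth.Agent.EtaleBase.Limit.StalkCycle

/-!
The base change morphism in degree `q` computed on complexes.
-/

set_option autoImplicit false
set_option backward.isDefEq.respectTransparency false
set_option linter.style.haveILetI false

universe u

open CategoryTheory CategoryTheory.Limits AlgebraicGeometry
open Groth.EtaleBase Groth.EtaleBase.EtLimit Groth.DescentBase.MapExtend

namespace Groth.DescentBase.BcQComplex

attribute [local instance] Groth.EtaleBase.BCD.preservesFiniteLimits_push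

variable {X S X' S' : Scheme.{u}} (f : X ⟶ S) (g : S' ⟶ S) (f' : X' ⟶ S') (g' : X' ⟶ X)
  (w : g' ≫ f = f' ≫ g) [PreservesFiniteLimits (EtCoh.pull g')] (F : EtCoh.Ab X)

/-- The transposed morphism of complexes of direct images. -/
noncomputable def νMap :
    ((EtCoh.pull g).mapHomologicalComplex (ComplexShape.up ℕ)).obj (pushCx f (injectiveResolution F)) ⟶
      pushCx f' (injectiveResolution ((EtCoh.pull g').obj F)) where
  f k := ((EtCoh.pullPushAdj g).homEquiv _ _).symm ((squareMap f g f' g' w F).f k)
  comm' i j _ := BCD.symm_comp_of_sq (EtCoh.pullPushAdj g) ((squareMap f g f' g' w F).comm i j)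

variable [PreservesFiniteLimits (EtCoh.pull g)]

theorem cyclesMap_νMap (q : ℕ) :
    RDer.cyclesComparison (EtCoh.pull g) (pushCx f (injectiveResolution F)) q ≫
        ((EtCoh.pullPushAdj g).homEquiv _ _).symm
          (HomologicalComplex.cyclesMap (squareMap f g f' g' w F) q ≫
            RDer.cyclesComparison (EtCoh.push g)
              (pushCx f' (injectiveResolution ((EtCoh.pull g').obj F))) q) =
      HomologicalComplex.cyclesMap (νMap f g f' g' w F) q := by
  let K' := pushCx f' (injectiveResolution ((EtCoh.pull g').obj F))
  refine (cancel_mono (K'.iCycles q)).1 ?_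
  rw [Category.assoc, ← Adjunction.homEquiv_naturality_right_symm, Category.assoc,
    RDer.cyclesComparison_i, HomologicalComplex.cyclesMap_i, HomologicalComplex.cyclesMap_i]
  erw [Adjunction.homEquiv_naturality_left_symm]
  exact (Category.assoc _ _ _).symm.trans (congrArg (· ≫ _) (RDer.cyclesComparison_i (EtCoh.pull g) _ q))

theorem homologyComparison_bcQ (q : ℕ) :
    RDer.homologyComparison (EtCoh.pull g) (pushCx f (injectiveResolution F)) q ≫
        (EtCoh.pull g).map ((injectiveResolution F).isoRightDerivedObj (EtCoh.push f) q).inv ≫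
          EtBC.bcQ f g f' g' w q F =
      HomologicalComplex.homologyMap (νMap f g f' g' w F) q ≫
        ((injectiveResolution ((EtCoh.pull g').obj F)).isoRightDerivedObj (EtCoh.push f') q).inv := by
  refine (cancel_epi (HomologicalComplex.homologyπ _ q)).1 ?_
  rw [RDer.homologyπ_homologyComparison_assoc, ← Functor.map_comp_assoc,
    HomologicalComplex.homologyπ_naturality_assoc]
  unfold EtBC.bcQ
  rw [← Adjunction.homEquiv_naturality_left_symm, π_bcQAdj f g f' g' w F q,
    ← cyclesMap_νMap f g f' g' w F q, Category.assoc,
    ← Adjunction.homEquiv_naturality_right_symm, Category.assoc]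

/-- The base change morphism is the map on homology of `νMap`. -/
theorem nonempty_arrowIso (q : ℕ) :
    Nonempty (Arrow.mk (HomologicalComplex.homologyMap (νMap f g f' g' w F) q) ≅
      Arrow.mk (EtBC.bcQ f g f' g' w q F)) := by
  haveI := isIso_homologyComparison (EtCoh.pull g) (pushCx f (injectiveResolution F)) q
  refine ⟨Arrow.isoMk (asIso (RDer.homologyComparison (EtCoh.pull g) (pushCx f (injectiveResolution F)) q) ≪≫
    (EtCoh.pull g).mapIso ((injectiveResolution F).isoRightDerivedObj (EtCoh.push f) q).symm)
    ((injectiveResolution ((EtCoh.pull g').obj F)).isoRightDerivedObj (EtCoh.push f') q).symm ?_⟩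
  exact (Category.assoc _ _ _).trans (homologyComparison_bcQ f g f' g' w F q)

end Groth.DescentBase.BcQComplex
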