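import Groth.Agent.DescentBase.PushShInt

/-!
Descent of sections of etale sheaves of sets along universally submersive morphisms.
-/

set_option autoImplicit false
set_option backward.isDefEq.respectTransparency.types false

universe u

open CategoryTheory CategoryTheory.Limits AlgebraicGeometry Opposite

namespace Groth.DescentBase.UnivSubm

open Groth.EtaleBase (openObj openHom fiberPoint fiberPoint_map exists_fiber_lift isOpenMap_left
  pushLift pushLift_map pushLift_fst bcFiberEquiv mem_topology_iff geomPoint geomPoint_apply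
  exists_geomPoint_lift)

variable {X' X : Scheme.{u}} (f : X' ⟶ X) (G : EtDesc.Sh X)

lemma iso_inv_hom {A B : Type (u + 1)} (e : A ≅ B) (b : B) : e.hom (e.inv b) = b :=
  ConcreteCategory.congr_hom e.inv_hom_id b

lemma iso_hom_inv {A B : Type (u + 1)} (e : A ≅ B) (a : A) : e.inv (e.hom a) = a :=
  ConcreteCategory.congr_hom e.hom_inv_id a

section val

variable {Ω : Type u} [Field Ω] [IsSepClosed Ω] {η : Spec (CommRingCat.of Ω) ⟶ X}
  (ξ : Spec (CommRingCat.of Ω) ⟶ X') (h : ξ ≫ f = η)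

/-- The stalks of `G` at a geometric point and of `f^* G` at a point over it. -/
noncomputable def pt : (shStalk η).obj G ≅ (shStalk ξ).obj ((EtDesc.pullSh f).obj G) :=
  eqToIso (congrArg (fun e => (shStalk e).obj G) h.symm) ≪≫ (shStalkPullIso f ξ).app G

lemma pt_germ (U : X.Etale) (t : (Scheme.pointSmallEtale η).fiber.obj U) (σ : G.obj.obj (op U)) :
    (pt f G ξ h).hom (shGerm η G U t σ) =
      shGerm ξ ((EtDesc.pullSh f).obj G) ((EtCoh.bc f).obj U) (pushLift f ξ h U t)
        (((EtDesc.adjSh f).unit.app G).hom.app (op U) σ) := by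
  subst h
  simp only [pt, eqToIso_refl, Iso.refl_trans, Iso.app_hom]
  exact shStalkPullIso_germ f ξ G U t σ

lemma pt_inv_hom (a : (shStalk ξ).obj ((EtDesc.pullSh f).obj G)) :
    (pt f G ξ h).hom ((pt f G ξ h).inv a) = a :=
  iso_inv_hom (pt f G ξ h) a

lemma pt_hom_inv (a : (shStalk η).obj G) : (pt f G ξ h).inv ((pt f G ξ h).hom a) = a :=
  iso_hom_inv (pt f G ξ h) a

/-- The value in the stalk at `η` of a section of `f^* G` at a point over `η`. -/
noncomputable def val (U : X.Etale) (t : (Scheme.pointSmallEtale η).fiber.obj U)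
    (s : ((EtDesc.pullSh f).obj G).obj.obj (op ((EtCoh.bc f).obj U))) : (shStalk η).obj G :=
  (pt f G ξ h).inv
    (shGerm ξ ((EtDesc.pullSh f).obj G) ((EtCoh.bc f).obj U) (pushLift f ξ h U t) s)

lemma val_unit (U : X.Etale) (t : (Scheme.pointSmallEtale η).fiber.obj U) (σ : G.obj.obj (op U)) :
    val f G ξ h U t (((EtDesc.adjSh f).unit.app G).hom.app (op U) σ) = shGerm η G U t σ := by
  rw [val, ← pt_germ, pt_hom_inv]

lemma val_map {U V : X.Etale} (g : V ⟶ U) (t : (Scheme.pointSmallEtale η).fiber.obj V)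
    (s : ((EtDesc.pullSh f).obj G).obj.obj (op ((EtCoh.bc f).obj U))) :
    val f G ξ h V t (((EtDesc.pullSh f).obj G).obj.map ((EtCoh.bc f).map g).op s) =
      val f G ξ h U ((Scheme.pointSmallEtale η).fiber.map g t) s := by
  refine congrArg (pt f G ξ h).inv ?_
  refine ((Scheme.pointSmallEtale ξ).toPresheafFiber_w_apply ((EtCoh.bc f).map g) _
    ((EtDesc.pullSh f).obj G).obj s).trans ?_
  exact congrArg (fun a => shGerm ξ ((EtDesc.pullSh f).obj G) ((EtCoh.bc f).obj U) a s)
    (pushLift_map f ξ h g t)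

lemma mem_agreeSet_iff (U : X.Etale) (t : (Scheme.pointSmallEtale η).fiber.obj U)
    (s : ((EtDesc.pullSh f).obj G).obj.obj (op ((EtCoh.bc f).obj U))) (σ : G.obj.obj (op U)) :
    fiberPoint ξ (pushLift f ξ h U t) ∈ agreeSet ((EtDesc.pullSh f).obj G) ((EtCoh.bc f).obj U) s
        (((EtDesc.adjSh f).unit.app G).hom.app (op U) σ) ↔
      val f G ξ h U t s = shGerm η G U t σ := by
  rw [← shGerm_eq_iff_mem, ← pt_germ, val]
  constructor
  · intro e
    rw [e, pt_hom_inv]
  · intro e
    rw [← e, pt_inv_hom]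

lemma fst_fiberPoint (U : X.Etale) (t : (Scheme.pointSmallEtale η).fiber.obj U) :
    (pullback.fst U.hom f).base (fiberPoint ξ (pushLift f ξ h U t)) = fiberPoint η t := by
  exact congrArg (fun m : Spec (CommRingCat.of Ω) ⟶ U.left => m.base default)
    (pullback.lift_fst _ _ _)

end val

/-- A section of `f^* G` whose values at geometric points do not depend on the lift. -/
def Compat (U : X.Etale) (s : ((EtDesc.pullSh f).obj G).obj.obj (op ((EtCoh.bc f).obj U))) : Prop :=
  ∀ ⦃Ω : Type u⦄ [Field Ω] [IsSepClosed Ω] (η : Spec (CommRingCat.of Ω) ⟶ X)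
    (t : (Scheme.pointSmallEtale η).fiber.obj U) (ξ₁ ξ₂ : Spec (CommRingCat.of Ω) ⟶ X')
    (h₁ : ξ₁ ≫ f = η) (h₂ : ξ₂ ≫ f = η), val f G ξ₁ h₁ U t s = val f G ξ₂ h₂ U t s

lemma Compat.map {U V : X.Etale} (g : V ⟶ U)
    {s : ((EtDesc.pullSh f).obj G).obj.obj (op ((EtCoh.bc f).obj U))} (hs : Compat f G U s) :
    Compat f G V (((EtDesc.pullSh f).obj G).obj.map ((EtCoh.bc f).map g).op s) := by
  intro Ω _ _ η t ξ₁ ξ₂ h₁ h₂
  rw [val_map, val_map]
  exact hs η _ ξ₁ ξ₂ h₁ h₂

lemma compat_unit (U : X.Etale) (σ : G.obj.obj (op U)) :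
    Compat f G U (((EtDesc.adjSh f).unit.app G).hom.app (op U) σ) := by
  intro Ω _ _ η t ξ₁ ξ₂ h₁ h₂
  rw [val_unit, val_unit]

/-- Every point of a base change is the point of a lifted geometric point. -/
lemma exists_point (U : X.Etale) (y : ((EtCoh.bc f).obj U).left) :
    ∃ (Ω : Type u) (_ : Field Ω) (_ : IsSepClosed Ω) (ξ : Spec (CommRingCat.of Ω) ⟶ X')
      (t : (Scheme.pointSmallEtale (ξ ≫ f)).fiber.obj U),
      fiberPoint ξ (pushLift f ξ rfl U t) = y := by
  obtain ⟨t', ht'⟩ := exists_geomPoint_lift ((EtCoh.bc f).obj U) y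
  refine ⟨_, inferInstance, inferInstance, geomPoint _, bcFiberEquiv f _ U t', ?_⟩
  rw [show pushLift f (geomPoint _) rfl U (bcFiberEquiv f _ U t') = t' from
    (bcFiberEquiv f _ U).symm_apply_apply t']
  exact ht'

variable (hf : EtDesc.IsUnivSubmersive f)

include hf in
lemma isQuotientMap_fst (U : X.Etale) : Topology.IsQuotientMap (pullback.fst U.hom f).base := by
  have h := (hf U.left U.hom).2.comp
    (Scheme.homeoOfIso (pullbackSymmetry U.hom f)).isQuotientMap
  have e : ((pullback.fst U.hom f).base : _ → _) =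
      (pullback.snd f U.hom).base ∘ (Scheme.homeoOfIso (pullbackSymmetry U.hom f)) :=
    congrArg (fun m : pullback U.hom f ⟶ U.left => (m.base : _ → _))
      (pullbackSymmetry_hom_comp_snd U.hom f).symm
  rw [e]
  exact h

include hf in
/-- Sections are determined by their inverse images. -/
theorem unit_injective (U : X.Etale) :
    Function.Injective (((EtDesc.adjSh f).unit.app G).hom.app (op U)) := by
  intro σ τ e
  refine shSection_ext G U σ τ fun u => ?_
  obtain ⟨y, rfl⟩ := (isQuotientMap_fst f hf U).surjective u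
  obtain ⟨Ω, _, _, ξ, t, rfl⟩ := exists_point f U y
  rw [fst_fiberPoint, ← shGerm_eq_iff_mem, ← val_unit f G ξ rfl U t σ,
    ← val_unit f G ξ rfl U t τ, e]

include hf in
/-- Compatible sections descend locally. -/
lemma exists_local (U : X.Etale) (s : ((EtDesc.pullSh f).obj G).obj.obj (op ((EtCoh.bc f).obj U)))
    (hs : Compat f G U s) (u : U.left) :
    ∃ (V : X.Etale) (g : V ⟶ U) (v : V.left), g.left.base v = u ∧ ∃ τ : G.obj.obj (op V),
      ((EtDesc.adjSh f).unit.app G).hom.app (op V) τ =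
        ((EtDesc.pullSh f).obj G).obj.map ((EtCoh.bc f).map g).op s := by
  obtain ⟨y, rfl⟩ := (isQuotientMap_fst f hf U).surjective u
  obtain ⟨Ω, _, _, ξ, t, rfl⟩ := exists_point f U y
  rw [fst_fiberPoint]
  obtain ⟨V₀, t₀, σ₀, hσ₀⟩ := shGerm_surjective (ξ ≫ f) G (val f G ξ rfl U t s)
  obtain ⟨W₀, pm, qm, -⟩ := IsCofilteredOrEmpty.cone_objs
    (C := (Scheme.pointSmallEtale (ξ ≫ f)).fiber.Elements)
    (Functor.elementsMk _ V₀ t₀) (Functor.elementsMk _ U t)
  obtain ⟨W, w⟩ := W₀
  let p : W ⟶ V₀ := pm.1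
  let q : W ⟶ U := qm.1
  have hp : (Scheme.pointSmallEtale (ξ ≫ f)).fiber.map p w = t₀ := pm.2
  have hq : (Scheme.pointSmallEtale (ξ ≫ f)).fiber.map q w = t := qm.2
  let σ := G.obj.map p.op σ₀
  let sW := ((EtDesc.pullSh f).obj G).obj.map ((EtCoh.bc f).map q).op s
  let W' := agreeSet ((EtDesc.pullSh f).obj G) ((EtCoh.bc f).obj W) sW
    (((EtDesc.adjSh f).unit.app G).hom.app (op W) σ)
  have h0 : fiberPoint ξ (pushLift f ξ rfl W w) ∈ W' := by
    refine (mem_agreeSet_iff f G ξ rfl W w sW σ).2 ?_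
    rw [val_map, hq, ← hσ₀, ← hp]
    exact ((Scheme.pointSmallEtale (ξ ≫ f)).toPresheafFiber_w_apply p w G.obj σ₀).symm
  have hsat : ∀ y₁ y₂ : ↥(pullback W.hom f),
      (pullback.fst W.hom f).base y₁ = (pullback.fst W.hom f).base y₂ → y₁ ∈ W' → y₂ ∈ W' := by
    intro y₁ y₂ he hy₁
    obtain ⟨z, rfl, rfl⟩ := Scheme.Pullback.exists_preimage_pullback
      (f := pullback.fst W.hom f) (g := pullback.fst W.hom f) y₁ y₂ he
    let ζ := geomPoint z
    let l₁ := ζ ≫ pullback.fst (pullback.fst W.hom f) (pullback.fst W.hom f)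
    let l₂ := ζ ≫ pullback.snd (pullback.fst W.hom f) (pullback.fst W.hom f)
    have hl : l₁ ≫ pullback.fst W.hom f = l₂ ≫ pullback.fst W.hom f := by
      simp only [l₁, l₂, Category.assoc, pullback.condition]
    let η := (l₁ ≫ pullback.fst W.hom f) ≫ W.hom
    let t' : (Scheme.pointSmallEtale η).fiber.obj W := Over.homMk (l₁ ≫ pullback.fst W.hom f) rfl
    have h₁ : (l₁ ≫ pullback.snd W.hom f) ≫ f = η := by
      simp only [η, Category.assoc, pullback.condition]
    have h₂ : (l₂ ≫ pullback.snd W.hom f) ≫ f = η := by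
      simp only [η, hl]
      simp only [Category.assoc, pullback.condition]
    have e₁ : (pushLift f _ h₁ W t').left = l₁ :=
      pullback.hom_ext (pullback.lift_fst _ _ _) (pullback.lift_snd _ _ _)
    have e₂ : (pushLift f _ h₂ W t').left = l₂ :=
      pullback.hom_ext ((pullback.lift_fst _ _ _).trans hl) (pullback.lift_snd _ _ _)
    have p₁ : fiberPoint _ (pushLift f _ h₁ W t') =
        (pullback.fst (pullback.fst W.hom f) (pullback.fst W.hom f)).base z := by
      refine (congrArg (fun m : Spec (CommRingCat.of _) ⟶ pullback W.hom f => m.base default) e₁).trans ?_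
      exact congrArg _ (geomPoint_apply z _)
    have p₂ : fiberPoint _ (pushLift f _ h₂ W t') =
        (pullback.snd (pullback.fst W.hom f) (pullback.fst W.hom f)).base z := by
      refine (congrArg (fun m : Spec (CommRingCat.of _) ⟶ pullback W.hom f => m.base default) e₂).trans ?_
      exact congrArg _ (geomPoint_apply z _)
    rw [← p₂]
    rw [← p₁] at hy₁
    refine (mem_agreeSet_iff f G _ h₂ W t' sW σ).2 ?_
    exact ((hs.map f G q) η t' _ _ h₂ h₁).trans ((mem_agreeSet_iff f G _ h₁ W t' sW σ).1 hy₁)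
  let O : W.left.Opens := ⟨(pullback.fst W.hom f).base '' W', by
    refine (isQuotientMap_fst f hf W).isOpen_preimage.1 ?_
    have hE : (pullback.fst W.hom f).base ⁻¹' ((pullback.fst W.hom f).base '' W') = W' := by
      ext y
      exact ⟨fun ⟨y', hy', e⟩ => hsat y' y e hy', fun hy => ⟨y, hy, rfl⟩⟩
    exact hE.symm ▸ isOpen_agreeSet ((EtDesc.pullSh f).obj G) ((EtCoh.bc f).obj W) sW _⟩
  have hw : fiberPoint (ξ ≫ f) w ∈ O :=
    ⟨_, h0, fst_fiberPoint f ξ rfl W w⟩
  refine ⟨openObj W O, openHom W O ≫ q, (⟨fiberPoint (ξ ≫ f) w, hw⟩ : ↥O), ?_,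
    G.obj.map (openHom W O).op σ, ?_⟩
  · show q.left.base (fiberPoint (ξ ≫ f) w) = fiberPoint (ξ ≫ f) t
    rw [← hq, fiberPoint_map]
  · refine (NatTrans.naturality_apply ((EtDesc.adjSh f).unit.app G).hom (openHom W O).op σ).trans ?_
    rw [Functor.map_comp, op_comp, Functor.map_comp_apply]
    refine ((map_eq_iff_range_subset ((EtDesc.pullSh f).obj G) ((EtCoh.bc f).map (openHom W O))
      sW (((EtDesc.adjSh f).unit.app G).hom.app (op W) σ)).2 ?_).symm
    rintro _ ⟨y', rfl⟩
    have : (pullback.fst W.hom f).base (((EtCoh.bc f).map (openHom W O)).left.base y') ∈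
        (pullback.fst W.hom f).base '' W' := by
      have e : ((EtCoh.bc f).map (openHom W O)).left ≫ pullback.fst W.hom f =
          pullback.fst (openObj W O).hom f ≫ O.ι := pullback.lift_fst _ _ _
      refine (congrArg (fun m : _ ⟶ W.left => m.base y') e).symm ▸ ?_
      exact ((pullback.fst (openObj W O).hom f).base y').2
    obtain ⟨y'', hy'', e⟩ := this
    exact hsat _ _ e hy''

include hf in
/-- Compatible sections of an inverse image descend. -/
theorem exists_descent (U : X.Etale)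
    (s : ((EtDesc.pullSh f).obj G).obj.obj (op ((EtCoh.bc f).obj U))) (hs : Compat f G U s) :
    ∃ σ : G.obj.obj (op U), ((EtDesc.adjSh f).unit.app G).hom.app (op U) σ = s := by
  let φ := ((EtDesc.adjSh f).unit.app G).hom
  let S' := (EtDesc.pullSh f).obj G
  let R : Sieve U :=
    { arrows := fun V g => ∃ τ, φ.app (op V) τ = S'.obj.map ((EtCoh.bc f).map g).op s
      downward_closed := fun {V W g} ⟨τ, hτ⟩ h => ⟨G.obj.map h.op τ, by
        refine (NatTrans.naturality_apply φ h.op τ).trans ((congrArg _ hτ).trans ?_)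
        rw [Functor.map_comp, op_comp, Functor.map_comp_apply]
        rfl⟩ }
  have hR : R ∈ X.smallEtaleTopology U := by
    rw [mem_topology_iff]
    intro u
    obtain ⟨V, g, v, hv, hτ⟩ := exists_local f G hf U s hs u
    exact ⟨V, g, v, hτ, hv⟩
  let x : Presieve.FamilyOfElements G.obj R.arrows := fun V g hg => hg.choose
  have hx : ∀ {V : X.Etale} (g : V ⟶ U) (hg : R g),
      φ.app (op V) (x g hg) = S'.obj.map ((EtCoh.bc f).map g).op s := fun g hg => hg.choose_spec
  have hc : x.Compatible := by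
    intro V₁ V₂ Z a₁ a₂ g₁ g₂ h₁ h₂ e
    apply unit_injective f G hf
    refine (NatTrans.naturality_apply φ a₁.op _).trans
      (Eq.trans ?_ (NatTrans.naturality_apply φ a₂.op _).symm)
    rw [hx g₁ h₁, hx g₂ h₂]
    show S'.obj.map ((EtCoh.bc f).map a₁).op (S'.obj.map ((EtCoh.bc f).map g₁).op s) =
      S'.obj.map ((EtCoh.bc f).map a₂).op (S'.obj.map ((EtCoh.bc f).map g₂).op s)
    rw [← Functor.map_comp_apply, ← Functor.map_comp_apply, ← op_comp, ← op_comp,
      ← Functor.map_comp, ← Functor.map_comp, e]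
  have hG := ((isSheaf_iff_isSheaf_of_type _ _).mp G.property) R hR
  refine ⟨hG.amalgamate x hc, shSection_ext S' _ _ _ fun y => ?_⟩
  obtain ⟨Ω, _, _, ξ, t, rfl⟩ := exists_point f U y
  obtain ⟨V, g, v, hg, hv⟩ := (mem_topology_iff R).1 hR (fiberPoint (ξ ≫ f) t)
  obtain ⟨w, hw, -⟩ := exists_fiber_lift (ξ ≫ f) g t v hv
  rw [← shGerm_eq_iff_mem, ← hw, ← pushLift_map f ξ rfl g w]
  refine ((Scheme.pointSmallEtale ξ).toPresheafFiber_w_apply ((EtCoh.bc f).map g) _
    S'.obj _).symm.trans (Eq.trans ?_ ((Scheme.pointSmallEtale ξ).toPresheafFiber_w_apply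
      ((EtCoh.bc f).map g) _ S'.obj s))
  refine congrArg (shGerm ξ S' _ _) ?_
  refine (NatTrans.naturality_apply φ g.op _).symm.trans ?_
  exact (congrArg (φ.app (op V)) (hG.valid_glue hc g hg)).trans (hx g hg)

end Groth.DescentBase.UnivSubm
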