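import Groth.Agent.DescentBase.PushPullPoints
import Groth.Agent.DescentBase.ClosedImmSh

/-!
The augmented Čech object `F → a_* a^* F` of an integral morphism and its contraction at
geometric points.
-/

set_option autoImplicit false
set_option backward.isDefEq.respectTransparency.types false

universe u

open CategoryTheory CategoryTheory.Limits AlgebraicGeometry Opposite Simplicial

namespace Groth.DescentBase.PushPull

open Groth.EtaleBase

variable {X Y : Scheme.{u}}

/-- The powers of a scheme over `Y`. -/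
noncomputable abbrev fibPow (f : X ⟶ Y) (n : ℕ) : Scheme.{u} :=
  widePullback Y (fun _ : Fin n => X) (fun _ => f)

lemma isPullback_cons (f : X ⟶ Y) (n : ℕ) :
    IsPullback (WidePullback.π (fun _ : Fin (n + 1) => f) 0)
      (WidePullback.lift (WidePullback.base (fun _ : Fin (n + 1) => f))
        (fun i : Fin n => WidePullback.π (fun _ : Fin (n + 1) => f) i.succ)
        (fun i => WidePullback.π_arrow (fun _ : Fin (n + 1) => f) i.succ) :
          fibPow f (n + 1) ⟶ fibPow f n)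
      f (WidePullback.base (fun _ : Fin n => f)) := by
  refine ⟨⟨by rw [WidePullback.π_arrow, WidePullback.lift_base]⟩, ⟨PullbackCone.IsLimit.mk _
    (fun c => WidePullback.lift (c.fst ≫ f) (Fin.cases c.fst fun i => c.snd ≫ WidePullback.π _ i)
      (fun i => ?_)) (fun c => ?_) (fun c => ?_) (fun c m hm hm' => ?_)⟩⟩
  · induction i using Fin.cases with
    | zero => simp
    | succ i => simp [c.condition]
  · exact WidePullback.lift_π _ _ _ _ _
  · apply WidePullback.hom_ext
    · intro i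
      rw [Category.assoc, WidePullback.lift_π, WidePullback.lift_π]
      rfl
    · rw [Category.assoc, WidePullback.lift_base, WidePullback.lift_base]
      exact c.condition
  · apply WidePullback.hom_ext
    · intro i
      rw [WidePullback.lift_π]
      induction i using Fin.cases with
      | zero => exact hm
      | succ i =>
        show _ = c.snd ≫ _
        rw [← hm', Category.assoc, WidePullback.lift_π]
    · rw [WidePullback.lift_base, ← hm, Category.assoc, WidePullback.π_arrow]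

instance isIntegralHom_base (f : X ⟶ Y) [IsIntegralHom f] (n : ℕ) :
    IsIntegralHom (WidePullback.base (fun _ : Fin n => f)) := by
  induction n with
  | zero =>
    have : IsIso (WidePullback.base (fun _ : Fin 0 => f)) := by
      refine ⟨WidePullback.lift (𝟙 Y) (fun i => i.elim0) (fun i => i.elim0), ?_, ?_⟩
      · apply WidePullback.hom_ext
        · intro i; exact i.elim0
        · rw [Category.assoc, WidePullback.lift_base, Category.comp_id, Category.id_comp]
      · exact WidePullback.lift_base _ _ _ _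
    infer_instance
  | succ n ih =>
    have h := MorphismProperty.of_isPullback (P := @IsIntegralHom) (isPullback_cons f n).flip ih
    rw [← WidePullback.π_arrow (fun _ : Fin (n + 1) => f) 0]
    exact MorphismProperty.comp_mem @IsIntegralHom _ _ h ‹_›

lemma map_ext {G H : EtCoh.Ab Y} {φ ψ : G ⟶ H}
    (h : ∀ (Ω : Type u) [Field Ω] [IsAlgClosed Ω] (η : Spec (CommRingCat.of Ω) ⟶ Y)
      (x : (EtCoh.stalk η).obj G), (EtCoh.stalk η).map φ x = (EtCoh.stalk η).map ψ x) : φ = ψ := by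
  ext ⟨U⟩ σ
  refine sub_eq_zero.1 (section_eq_zero_of_germs H U _ fun u => ?_)
  let K := AlgebraicClosure (U.left.residueField u)
  let l : Spec (CommRingCat.of K) ⟶ U.left :=
    Spec.map (CommRingCat.ofHom (algebraMap (U.left.residueField u) K)) ≫
      U.left.fromSpecResidueField u
  let ξ := l ≫ U.hom
  let t : (Scheme.pointSmallEtale ξ).fiber.obj U := Over.homMk l rfl
  have h0 : germ ξ H U t ((φ.hom.app (op U)) σ - (ψ.hom.app (op U)) σ) = 0 := by
    rw [map_sub, ← germ_map ξ φ U t σ, ← germ_map ξ ψ U t σ, h K ξ _, sub_self]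
  obtain ⟨V, g, w, hw, hz⟩ := (germ_eq_zero_iff ξ H U t _).1 h0
  refine ⟨V, g, ⟨w.left.base (default : ↥(Spec (CommRingCat.of K))), ?_⟩, hz⟩
  have e : w.left ≫ g.left = l := congrArg (fun a => a.left) hw
  refine (congrArg (fun a : Spec (CommRingCat.of K) ⟶ U.left => a.base default) e).trans ?_
  exact Scheme.fromSpecResidueField_apply u _

variable (F : EtCoh.Ab Y)

theorem res_id (a : X ⟶ Y) [IsIntegralHom a] : res F (𝟙 X) a a (Category.id_comp a) = 𝟙 _ := by
  refine map_ext fun Ω _ _ η x => value_ext F a fun ξ hξ => ?_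
  rw [value_res F (𝟙 X) a a _ ξ hξ ((congrArg (· ≫ a) (Category.comp_id ξ)).trans hξ) x,
    CategoryTheory.Functor.map_id]
  exact value_congr F a (Category.comp_id ξ) _ hξ x

theorem res_comp {A B C : Scheme.{u}} (g : A ⟶ B) (h : B ⟶ C) (a : A ⟶ Y) (b : B ⟶ Y) (c : C ⟶ Y)
    [IsIntegralHom a] (wg : g ≫ b = a) (wh : h ≫ c = b) (w : (g ≫ h) ≫ c = a) :
    res F (g ≫ h) c a w = res F h c b wh ≫ res F g b a wg := by
  refine map_ext fun Ω _ _ η x => value_ext F a fun ξ hξ => ?_
  have h1 : (ξ ≫ g) ≫ b = η := (Category.assoc _ _ _).trans ((congrArg (ξ ≫ ·) wg).trans hξ)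
  have h2 : ((ξ ≫ g) ≫ h) ≫ c = η := (Category.assoc _ _ _).trans ((congrArg (_ ≫ ·) wh).trans h1)
  rw [value_res F (g ≫ h) c a w ξ hξ
    ((congrArg (· ≫ c) (Category.assoc _ _ _).symm).trans h2) x, Functor.map_comp,
    ConcreteCategory.comp_apply, value_res F g b a wg ξ hξ h1, value_res F h c b wh _ h1 h2]
  exact value_congr F c (Category.assoc _ _ _).symm _ h2 x

theorem unit_res {A B : Scheme.{u}} (g : A ⟶ B) (a : A ⟶ Y) (b : B ⟶ Y) [IsIntegralHom a]
    (w : g ≫ b = a) :
    (EtCoh.pullPushAdj b).unit.app F ≫ res F g b a w = (EtCoh.pullPushAdj a).unit.app F := by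
  refine map_ext fun Ω _ _ η x => value_ext F a fun ξ hξ => ?_
  have h1 : (ξ ≫ g) ≫ b = η := (Category.assoc _ _ _).trans ((congrArg (ξ ≫ ·) w).trans hξ)
  rw [Functor.map_comp, ConcreteCategory.comp_apply]
  refine (value_res F g b a w ξ hξ h1 _).trans ?_
  exact (value_unit F b (ξ ≫ g) h1 x).trans (value_unit F a ξ hξ x).symm

variable (f : X ⟶ Y)

/-- The projection of a fibre power to the base. -/
noncomputable abbrev pbase (n : SimplexCategory) : fibPow f (n.len + 1) ⟶ Y :=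
  WidePullback.base (fun _ : Fin (n.len + 1) => f)

/-- The simplicial maps of the fibre powers. -/
noncomputable def pmap {m n : SimplexCategory} (θ : m ⟶ n) :
    fibPow f (n.len + 1) ⟶ fibPow f (m.len + 1) :=
  WidePullback.lift (pbase f n) (fun i => WidePullback.π (fun _ : Fin (n.len + 1) => f) (θ.toOrderHom i))
    (fun _ => WidePullback.π_arrow _ _)

@[reassoc]
lemma pmap_base {m n : SimplexCategory} (θ : m ⟶ n) : pmap f θ ≫ pbase f m = pbase f n :=
  WidePullback.lift_base _ _ _ _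

@[reassoc]
lemma pmap_π {m n : SimplexCategory} (θ : m ⟶ n) (i : Fin (m.len + 1)) :
    pmap f θ ≫ WidePullback.π (fun _ : Fin (m.len + 1) => f) i =
      WidePullback.π (fun _ : Fin (n.len + 1) => f) (θ.toOrderHom i) :=
  WidePullback.lift_π _ _ _ _ _

lemma pmap_id (n : SimplexCategory) : pmap f (𝟙 n) = 𝟙 _ := by
  apply WidePullback.hom_ext
  · intro i
    rw [pmap_π, Category.id_comp]
    rfl
  · rw [Category.id_comp]
    exact pmap_base f _

lemma pmap_comp {k m n : SimplexCategory} (θ : k ⟶ m) (θ' : m ⟶ n) :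
    pmap f (θ ≫ θ') = pmap f θ' ≫ pmap f θ := by
  apply WidePullback.hom_ext
  · intro i
    rw [pmap_π, Category.assoc, pmap_π, pmap_π]
    rfl
  · rw [Category.assoc]
    exact (pmap_base f _).trans ((congrArg (pmap f θ' ≫ ·) (pmap_base f θ)).trans (pmap_base f _)).symm

lemma res_congr {A B : Scheme.{u}} {g g' : A ⟶ B} (e : g = g') (b : B ⟶ Y) (a : A ⟶ Y)
    (w : g ≫ b = a) : res F g b a w = res F g' b a (e ▸ w) := by
  subst e
  rfl

variable [IsIntegralHom f]

/-- The object of the Čech object in a given degree. -/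
noncomputable def cechObj (n : SimplexCategory) : EtCoh.Ab Y := P F (pbase f n)

/-- The maps of the Čech object. -/
noncomputable def cechMap {m n : SimplexCategory} (θ : m ⟶ n) : cechObj F f m ⟶ cechObj F f n :=
  res F (pmap f θ) (pbase f m) (pbase f n) (pmap_base f θ)

lemma cechMap_id (n : SimplexCategory) : cechMap F f (𝟙 n) = 𝟙 (cechObj F f n) :=
  (res_congr F (pmap_id f n) _ _ _).trans (res_id F (pbase f n))

lemma cechMap_comp {k m n : SimplexCategory} (θ : k ⟶ m) (θ' : m ⟶ n) :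
    cechMap F f (θ ≫ θ') = cechMap F f θ ≫ cechMap F f θ' :=
  (res_congr F (pmap_comp f θ θ') (pbase f k) (pbase f n) (pmap_base f (θ ≫ θ'))).trans
    (res_comp F (pmap f θ') (pmap f θ) (pbase f n) (pbase f m) (pbase f k) (pmap_base f θ')
      (pmap_base f θ) _)

/-- The augmentation of the Čech object. -/
noncomputable def cechUnit (n : SimplexCategory) : F ⟶ cechObj F f n :=
  (EtCoh.pullPushAdj (pbase f n)).unit.app F

lemma cechUnit_map {m n : SimplexCategory} (θ : m ⟶ n) :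
    cechUnit F f m ≫ cechMap F f θ = cechUnit F f n :=
  unit_res F (pmap f θ) (pbase f n) (pbase f m) (pmap_base f θ)

/-- The augmented Čech object of the sheaves `a_* a^* F`. -/
noncomputable def cech : SimplicialObject.Augmented (EtCoh.Ab Y)ᵒᵖ where
  left :=
    { obj := fun n => op (cechObj F f n.unop)
      map := fun {m n} θ => (cechMap F f θ.unop).op
      map_id := fun n => congrArg Quiver.Hom.op (cechMap_id F f n.unop)
      map_comp := fun {k m n} θ θ' => congrArg Quiver.Hom.op (cechMap_comp F f θ'.unop θ.unop) }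
  right := op F
  hom :=
    { app := fun n => (cechUnit F f n.unop).op
      naturality := fun m n θ => (congrArg Quiver.Hom.op (cechUnit_map F f θ.unop)).trans
        (Category.comp_id _).symm }

section contraction

variable {Ω : Type u} [Field Ω] [IsAlgClosed Ω] {η : Spec (CommRingCat.of Ω) ⟶ Y}
variable (l : Spec (CommRingCat.of Ω) ⟶ X) (hl : l ≫ f = η)

/-- Prepending the point `l` on the fibre over the geometric point. -/
noncomputable def consMap (n : ℕ) :
    pullback (pbase f ⦋n⦌) η ⟶ fibPow f (⦋n + 1⦌.len + 1) :=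
  WidePullback.lift (pullback.snd (pbase f ⦋n⦌) η ≫ η)
    (fun i => Fin.cases (motive := fun _ => pullback (pbase f ⦋n⦌) η ⟶ X)
      (pullback.snd (pbase f ⦋n⦌) η ≫ l)
      (fun j => pullback.fst (pbase f ⦋n⦌) η ≫ WidePullback.π (fun _ : Fin (⦋n⦌.len + 1) => f) j) i)
    (fun i => by
      induction i using Fin.cases with
      | zero =>
        show (_ ≫ l) ≫ f = _
        rw [Category.assoc, hl]
      | succ j =>
        show (_ ≫ _) ≫ f = _
        rw [Category.assoc, WidePullback.π_arrow]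
        exact pullback.condition)

omit [IsIntegralHom f] in
lemma consMap_base (n : ℕ) :
    consMap f l hl n ≫ pbase f ⦋n + 1⦌ = pullback.fst (pbase f ⦋n⦌) η ≫ pbase f ⦋n⦌ :=
  (WidePullback.lift_base _ _ _ _).trans pullback.condition.symm

/-- Prepending the point `l` to a point of a fibre power. -/
noncomputable def consPt {n : ℕ} (ξ : Spec (CommRingCat.of Ω) ⟶ fibPow f (⦋n⦌.len + 1))
    (h : ξ ≫ pbase f ⦋n⦌ = η) : Spec (CommRingCat.of Ω) ⟶ fibPow f (⦋n + 1⦌.len + 1) :=
  pullback.lift ξ (𝟙 _) (h.trans (Category.id_comp η).symm) ≫ consMap f l hl n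

omit [IsIntegralHom f] in
lemma consPt_base {n : ℕ} (ξ : Spec (CommRingCat.of Ω) ⟶ fibPow f (⦋n⦌.len + 1))
    (h : ξ ≫ pbase f ⦋n⦌ = η) : consPt f l hl ξ h ≫ pbase f ⦋n + 1⦌ = η := by
  rw [consPt, Category.assoc]
  refine (congrArg (_ ≫ ·) (consMap_base f l hl n)).trans ?_
  rw [pullback.lift_fst_assoc]
  exact h

omit [IsIntegralHom f] in
lemma consPt_π_zero {n : ℕ} (ξ : Spec (CommRingCat.of Ω) ⟶ fibPow f (⦋n⦌.len + 1))
    (h : ξ ≫ pbase f ⦋n⦌ = η) :
    consPt f l hl ξ h ≫ WidePullback.π (fun _ : Fin (⦋n + 1⦌.len + 1) => f) 0 = l := by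
  rw [consPt, Category.assoc, consMap, WidePullback.lift_π]
  exact (pullback.lift_snd_assoc _ _ _ l).trans (Category.id_comp l)

omit [IsIntegralHom f] in
lemma consPt_π_succ {n : ℕ} (ξ : Spec (CommRingCat.of Ω) ⟶ fibPow f (⦋n⦌.len + 1))
    (h : ξ ≫ pbase f ⦋n⦌ = η) (j : Fin (n + 1)) :
    consPt f l hl ξ h ≫ WidePullback.π (fun _ : Fin (⦋n + 1⦌.len + 1) => f) j.succ =
      ξ ≫ WidePullback.π (fun _ : Fin (⦋n⦌.len + 1) => f) j := by
  rw [consPt, Category.assoc, consMap, WidePullback.lift_π]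
  exact pullback.lift_fst_assoc _ _ _ _

lemma exists_contr (n : ℕ) :
    ∃ h : (EtCoh.stalk η).obj (P F (pbase f ⦋n + 1⦌)) →+ (EtCoh.stalk η).obj (P F (pbase f ⦋n⦌)),
      ∀ x (ξ : Spec (CommRingCat.of Ω) ⟶ fibPow f (⦋n⦌.len + 1)) (hξ : ξ ≫ pbase f ⦋n⦌ = η),
        value F (pbase f ⦋n⦌) ξ hξ (h x) =
          value F (pbase f ⦋n + 1⦌) (consPt f l hl ξ hξ) (consPt_base f l hl ξ hξ) x := by
  choose h hh using exists_value_eq F (η := η) (pbase f ⦋n + 1⦌) (pbase f ⦋n⦌)
    (consMap f l hl n) (consMap_base f l hl n)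
  refine ⟨AddMonoidHom.mk' h fun x y => value_ext F _ fun ξ hξ => ?_,
    fun x ξ hξ => hh x ξ hξ (consPt_base f l hl ξ hξ)⟩
  rw [map_add, hh x ξ hξ (consPt_base f l hl ξ hξ), hh y ξ hξ (consPt_base f l hl ξ hξ),
    hh (x + y) ξ hξ (consPt_base f l hl ξ hξ), map_add]

/-- The contraction of the stalk of the Čech object. -/
noncomputable def contr (n : ℕ) :
    (EtCoh.stalk η).obj (P F (pbase f ⦋n + 1⦌)) ⟶ (EtCoh.stalk η).obj (P F (pbase f ⦋n⦌)) :=
  AddCommGrpCat.ofHom (exists_contr F f l hl n).choose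

lemma value_contr (n : ℕ) (x : (EtCoh.stalk η).obj (P F (pbase f ⦋n + 1⦌)))
    (ξ : Spec (CommRingCat.of Ω) ⟶ fibPow f (⦋n⦌.len + 1)) (hξ : ξ ≫ pbase f ⦋n⦌ = η) :
    value F (pbase f ⦋n⦌) ξ hξ (contr F f l hl n x) =
      value F (pbase f ⦋n + 1⦌) (consPt f l hl ξ hξ) (consPt_base f l hl ξ hξ) x :=
  (exists_contr F f l hl n).choose_spec x ξ hξ

/-- The point of the zeroth fibre power given by `l`. -/
noncomputable def zeroPt : Spec (CommRingCat.of Ω) ⟶ fibPow f (⦋0⦌.len + 1) :=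
  WidePullback.lift η (fun _ => l) (fun _ => hl)

omit [IsIntegralHom f] in
lemma zeroPt_base : zeroPt f l hl ≫ pbase f ⦋0⦌ = η := WidePullback.lift_base _ _ _ _

omit [IsIntegralHom f] in
lemma pmap_pt {m n : SimplexCategory} (θ : m ⟶ n) (ξ : Spec (CommRingCat.of Ω) ⟶ fibPow f (n.len + 1))
    (h : ξ ≫ pbase f n = η) : (ξ ≫ pmap f θ) ≫ pbase f m = η := by
  rw [Category.assoc, pmap_base]
  exact h

omit [IsIntegralHom f] in
lemma consPt_δ₁ (ξ : Spec (CommRingCat.of Ω) ⟶ fibPow f (⦋0⦌.len + 1)) (h : ξ ≫ pbase f ⦋0⦌ = η) :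
    consPt f l hl ξ h ≫ pmap f (SimplexCategory.δ (1 : Fin 2)) = zeroPt f l hl := by
  apply WidePullback.hom_ext
  · intro i
    obtain rfl : i = 0 := Fin.fin_one_eq_zero i
    rw [Category.assoc, pmap_π, zeroPt, WidePullback.lift_π]
    exact consPt_π_zero f l hl ξ h
  · exact (pmap_pt f _ _ (consPt_base f l hl ξ h)).trans (zeroPt_base f l hl).symm

omit [IsIntegralHom f] in
lemma consPt_δ₀ {n : ℕ} (ξ : Spec (CommRingCat.of Ω) ⟶ fibPow f (⦋n⦌.len + 1))
    (h : ξ ≫ pbase f ⦋n⦌ = η) :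
    consPt f l hl ξ h ≫ pmap f (SimplexCategory.δ (0 : Fin (n + 2))) = ξ := by
  apply WidePullback.hom_ext
  · intro i
    rw [Category.assoc, pmap_π]
    exact consPt_π_succ f l hl ξ h i
  · exact (pmap_pt f _ _ (consPt_base f l hl ξ h)).trans h.symm

omit [IsIntegralHom f] in
lemma consPt_pmap_succ {m n : ℕ} (θ : ⦋m⦌ ⟶ ⦋n⦌) (θ' : ⦋m + 1⦌ ⟶ ⦋n + 1⦌)
    (h0 : θ'.toOrderHom 0 = 0)
    (hs : ∀ i : Fin (m + 1), θ'.toOrderHom i.succ = (θ.toOrderHom i : Fin (n + 1)).succ)
    (ξ : Spec (CommRingCat.of Ω) ⟶ fibPow f (⦋n⦌.len + 1)) (h : ξ ≫ pbase f ⦋n⦌ = η) :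
    consPt f l hl ξ h ≫ pmap f θ' = consPt f l hl (ξ ≫ pmap f θ) (pmap_pt f θ ξ h) := by
  apply WidePullback.hom_ext
  · intro i
    rw [Category.assoc, pmap_π]
    induction i using Fin.cases with
    | zero => rw [h0, consPt_π_zero, consPt_π_zero]
    | succ j =>
      rw [hs, consPt_π_succ, consPt_π_succ, Category.assoc, pmap_π]
  · exact (pmap_pt f _ _ (consPt_base f l hl ξ h)).trans (consPt_base f l hl _ _).symm

lemma contr_res {m n : ℕ} (θ : ⦋m⦌ ⟶ ⦋n⦌) (θ' : ⦋m + 1⦌ ⟶ ⦋n + 1⦌)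
    (h0 : θ'.toOrderHom 0 = 0)
    (hs : ∀ i : Fin (m + 1), θ'.toOrderHom i.succ = (θ.toOrderHom i : Fin (n + 1)).succ)
    (x : (EtCoh.stalk η).obj (P F (pbase f ⦋m + 1⦌))) :
    contr F f l hl n ((EtCoh.stalk η).map (res F (pmap f θ') _ _ (pmap_base f θ')) x) =
      (EtCoh.stalk η).map (res F (pmap f θ) _ _ (pmap_base f θ)) (contr F f l hl m x) := by
  refine value_ext F _ fun ξ hξ => ?_
  rw [value_contr]
  refine (value_res F _ _ _ (pmap_base f θ') _ _ (pmap_pt f θ' _ (consPt_base f l hl ξ hξ)) x).trans ?_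
  refine Eq.trans ?_ (value_res F _ _ _ (pmap_base f θ) ξ hξ (pmap_pt f θ ξ hξ) _).symm
  rw [value_contr]
  exact value_congr F _ (consPt_pmap_succ f l hl θ θ' h0 hs ξ hξ) _ _ x

/-- The value at the point given by `l`. -/
noncomputable def contrZero : (EtCoh.stalk η).obj (cechObj F f ⦋0⦌) ⟶ (EtCoh.stalk η).obj F :=
  value F (pbase f ⦋0⦌) (zeroPt f l hl) (zeroPt_base f l hl)

/-- The contraction of the stalk of the Čech object. -/
noncomputable def contrSucc (n : ℕ) :
    (EtCoh.stalk η).obj (cechObj F f ⦋n + 1⦌) ⟶ (EtCoh.stalk η).obj (cechObj F f ⦋n⦌) :=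
  contr F f l hl n

lemma unit_contrZero :
    (EtCoh.stalk η).map (cechUnit F f ⦋0⦌) ≫ contrZero F f l hl = 𝟙 _ :=
  AddCommGrpCat.hom_ext (AddMonoidHom.ext fun m =>
    value_unit F (pbase f ⦋0⦌) (zeroPt f l hl) (zeroPt_base f l hl) m)

lemma contrZero_unit :
    (EtCoh.stalk η).map (cechMap F f (SimplexCategory.δ (1 : Fin 2))) ≫ contrSucc F f l hl 0 =
      contrZero F f l hl ≫ (EtCoh.stalk η).map (cechUnit F f ⦋0⦌) := by
  refine AddCommGrpCat.hom_ext (AddMonoidHom.ext fun x => value_ext F (pbase f ⦋0⦌) fun ξ hξ => ?_)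
  refine (value_contr F f l hl 0 _ ξ hξ).trans ?_
  refine Eq.trans ?_ (value_unit F (pbase f ⦋0⦌) ξ hξ _).symm
  refine (value_res F _ _ _ (pmap_base f (SimplexCategory.δ (1 : Fin 2))) _ _
    (pmap_pt f _ _ (consPt_base f l hl ξ hξ)) x).trans ?_
  exact value_congr F _ (consPt_δ₁ f l hl ξ hξ) _ _ x

lemma δ₀_contrSucc (n : ℕ) :
    (EtCoh.stalk η).map (cechMap F f (SimplexCategory.δ (0 : Fin (n + 2)))) ≫ contrSucc F f l hl n =
      𝟙 _ := by
  refine AddCommGrpCat.hom_ext (AddMonoidHom.ext fun x => value_ext F (pbase f ⦋n⦌) fun ξ hξ => ?_)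
  refine (value_contr F f l hl n _ ξ hξ).trans ?_
  refine (value_res F _ _ _ (pmap_base f (SimplexCategory.δ (0 : Fin (n + 2)))) _ _
    (pmap_pt f _ _ (consPt_base f l hl ξ hξ)) x).trans ?_
  exact value_congr F _ (consPt_δ₀ f l hl ξ hξ) _ _ x

lemma map_contrSucc {m n : ℕ} (θ : ⦋m⦌ ⟶ ⦋n⦌) (θ' : ⦋m + 1⦌ ⟶ ⦋n + 1⦌)
    (h0 : θ'.toOrderHom 0 = 0)
    (hs : ∀ i : Fin (m + 1), θ'.toOrderHom i.succ = (θ.toOrderHom i : Fin (n + 1)).succ) :
    (EtCoh.stalk η).map (cechMap F f θ') ≫ contrSucc F f l hl n =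
      contrSucc F f l hl m ≫ (EtCoh.stalk η).map (cechMap F f θ) :=
  AddCommGrpCat.hom_ext (AddMonoidHom.ext fun x => contr_res F f l hl θ θ' h0 hs x)

/-- The stalk of the Čech object. -/
noncomputable def cechAt (η : Spec (CommRingCat.of Ω) ⟶ Y) :
    SimplicialObject.Augmented AddCommGrpCat.{u + 1}ᵒᵖ :=
  ((SimplicialObject.Augmented.whiskering _ _).obj (EtCoh.stalk η).op).obj (cech F f)

lemma cechAt_map {m n : SimplexCategoryᵒᵖ} (θ : m ⟶ n) :
    (cechAt F f η).left.map θ = ((EtCoh.stalk η).map (cechMap F f θ.unop)).op := by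
  simp [cechAt, cech, SimplicialObject.Augmented.whiskering, SimplicialObject.Augmented.whiskeringObj, SimplicialObject.whiskering]

lemma cechAt_δ (n : ℕ) (i : Fin (n + 2)) :
    (cechAt F f η).left.δ i = ((EtCoh.stalk η).map (cechMap F f (SimplexCategory.δ i))).op :=
  cechAt_map F f (SimplexCategory.δ i).op

lemma cechAt_σ (n : ℕ) (i : Fin (n + 1)) :
    (cechAt F f η).left.σ i = ((EtCoh.stalk η).map (cechMap F f (SimplexCategory.σ i))).op :=
  cechAt_map F f (SimplexCategory.σ i).op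

lemma cechAt_hom_app (n : SimplexCategoryᵒᵖ) :
    (cechAt F f η).hom.app n = ((EtCoh.stalk η).map (cechUnit F f n.unop)).op := by
  simp [cechAt, cech, SimplicialObject.Augmented.whiskering, SimplicialObject.Augmented.whiskeringObj, SimplicialObject.whiskering]

/-- The contraction as an extra degeneracy. -/
noncomputable def extraDegeneracy :
    SimplicialObject.Augmented.ExtraDegeneracy (cechAt F f η) where
  s' := (contrZero F f l hl).op
  s n := (contrSucc F f l hl n).op
  s'_comp_ε := Eq.trans (congrArg ((contrZero F f l hl).op ≫ ·) (cechAt_hom_app F f (op ⦋0⦌)))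
    (congrArg Quiver.Hom.op (unit_contrZero F f l hl))
  s₀_comp_δ₁ := Eq.trans (congrArg ((contrSucc F f l hl 0).op ≫ ·) (cechAt_δ F f 0 1))
    (Eq.trans (congrArg Quiver.Hom.op (contrZero_unit F f l hl))
      (congrArg (· ≫ (contrZero F f l hl).op) (cechAt_hom_app F f (op ⦋0⦌))).symm)
  s_comp_δ₀ n := Eq.trans (congrArg ((contrSucc F f l hl n).op ≫ ·) (cechAt_δ F f n 0))
    (congrArg Quiver.Hom.op (δ₀_contrSucc F f l hl n))
  s_comp_δ n i := Eq.trans (congrArg ((contrSucc F f l hl (n + 1)).op ≫ ·) (cechAt_δ F f (n + 1) i.succ))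
    (Eq.trans (congrArg Quiver.Hom.op (map_contrSucc F f l hl (SimplexCategory.δ i)
      (SimplexCategory.δ i.succ) (Fin.succ_succAbove_zero i) (Fin.succ_succAbove_succ i)))
      (congrArg (· ≫ (contrSucc F f l hl n).op) (cechAt_δ F f n i)).symm)
  s_comp_σ n i := Eq.trans (congrArg ((contrSucc F f l hl n).op ≫ ·) (cechAt_σ F f (n + 1) i.succ))
    (Eq.trans (congrArg Quiver.Hom.op (map_contrSucc F f l hl (SimplexCategory.σ i)
      (SimplexCategory.σ i.succ) (Fin.predAbove_right_zero (i := Fin.succ i))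
      (fun j => Fin.succ_predAbove_succ i j)))
      (congrArg (· ≫ (contrSucc F f l hl (n + 1)).op) (cechAt_σ F f n i)).symm)

end contraction

end Groth.DescentBase.PushPull
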