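import Groth.Agent.DescentBase.CechPushPull
import Groth.Agent.CohDescent.ResolutionSS
import Groth.Agent.EtaleBase.InjCoh
import Groth.Agent.EtaleBase.RpushExact

/-!
The descent spectral sequence of an integral surjective morphism.
-/

set_option autoImplicit false
set_option backward.isDefEq.respectTransparency.types false

universe u

open CategoryTheory CategoryTheory.Limits CategoryTheory.Abelian AlgebraicGeometry Opposite Simplicial
  AlgebraicTopology

namespace Groth.DescentBase.PushPull

open Groth.EtaleBase

section homology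

variable {C D : Type*} [Category C] [Category D] [Abelian C] [Abelian D] (G : C ⥤ D)
  [G.Additive] [G.PreservesHomology] {ι : Type*} {c : ComplexShape ι}

/-- An exact functor turns quasi-isomorphisms at a degree into isomorphisms of homology. -/
lemma isIso_map_homologyMap {K L : HomologicalComplex C c} (φ : K ⟶ L) (i : ι)
    [QuasiIsoAt ((G.mapHomologicalComplex c).map φ) i] :
    IsIso (G.map (HomologicalComplex.homologyMap φ i)) := by
  have h : IsIso (ShortComplex.homologyMap (G.mapShortComplex.map
      ((HomologicalComplex.shortComplexFunctor C c i).map φ))) :=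
    inferInstanceAs (IsIso (HomologicalComplex.homologyMap ((G.mapHomologicalComplex c).map φ) i))
  have e := ShortComplex.mapHomologyIso_hom_naturality
    ((HomologicalComplex.shortComplexFunctor C c i).map φ) G
  exact IsIso.of_isIso_fac_left (hh := IsIso.comp_isIso' h inferInstance) e.symm

/-- The alternating complex commutes with additive functors. -/
noncomputable def mapAltIso (S : SimplicialObject C) :
    (G.mapHomologicalComplex _).obj (AlternatingFaceMapComplex.obj S) ≅
      AlternatingFaceMapComplex.obj (S ⋙ G) :=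
  HomologicalComplex.Hom.isoOfComponents (fun _ => Iso.refl _) (by
    rintro i j (rfl : j + 1 = i)
    refine (Category.id_comp _).trans (Eq.trans ?_ (Category.comp_id _).symm)
    rw [Functor.mapHomologicalComplex_obj_d, AlternatingFaceMapComplex.obj_d_eq,
      AlternatingFaceMapComplex.obj_d_eq]
    refine Eq.trans ?_ (Functor.map_sum G _ _).symm
    refine Finset.sum_congr rfl fun k _ => ?_
    rw [Functor.map_zsmul]
    rfl)

lemma mapAlt_ε (A : SimplicialObject.Augmented C)
    [QuasiIso (AlternatingFaceMapComplex.ε.app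
      (((SimplicialObject.Augmented.whiskering C D).obj G).obj A))] :
    QuasiIso ((G.mapHomologicalComplex _).map (AlternatingFaceMapComplex.ε.app A)) := by
  let e2 := (HomologicalComplex.singleMapHomologicalComplex G (ComplexShape.down ℕ) 0).app A.right
  have key : (G.mapHomologicalComplex _).map (AlternatingFaceMapComplex.ε.app A) ≫ e2.hom =
      (mapAltIso G A.left).hom ≫ AlternatingFaceMapComplex.ε.app
        (((SimplicialObject.Augmented.whiskering C D).obj G).obj A) := by
    apply HomologicalComplex.to_single_hom_ext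
    simp [e2, mapAltIso, SimplicialObject.Augmented.whiskering,
      SimplicialObject.Augmented.whiskeringObj, SimplicialObject.whiskering]
    exact (Category.comp_id _).trans (Category.id_comp _).symm
  have : QuasiIso ((G.mapHomologicalComplex _).map (AlternatingFaceMapComplex.ε.app A) ≫ e2.hom) := by
    rw [key]
    exact @quasiIso_comp _ _ _ _ _ _ _ _ _ _ _ _ _ inferInstance ‹_›
  exact quasiIso_of_comp_right _ e2.hom

end homology

variable {X Y : Scheme.{u}} (F : EtCoh.Ab Y) (f : X ⟶ Y) [IsIntegralHom f] [Surjective f]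

instance stalk_op_preservesHomology {Ω : Type u} [Field Ω] [IsSepClosed Ω]
    (η : Spec (CommRingCat.of Ω) ⟶ Y) : (EtCoh.stalk η).op.PreservesHomology := by
  have : PreservesFiniteColimits (EtCoh.stalk η) := inferInstance
  have : PreservesFiniteLimits (EtCoh.stalk η).op := preservesFiniteLimits_op _
  have : PreservesFiniteColimits (EtCoh.stalk η).op := preservesFiniteColimits_op _
  infer_instance

lemma quasiIso_ε_stalk {Ω : Type u} [Field Ω] [IsAlgClosed Ω] (η : Spec (CommRingCat.of Ω) ⟶ Y) :
    QuasiIso (AlternatingFaceMapComplex.ε.app (cechAt F f η)) := by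
  obtain ⟨z, hz⟩ := f.surjective (η.base default)
  obtain ⟨l, hl, -⟩ := exists_lift_point f η z hz
  exact inferInstanceAs (QuasiIso (extraDegeneracy F f l hl).homotopyEquiv.hom)

theorem quasiIso_ε : QuasiIso (AlternatingFaceMapComplex.ε.app (cech F f)) := by
  rw [quasiIso_iff]
  intro i
  rw [quasiIsoAt_iff_isIso_homologyMap]
  suffices IsIso (HomologicalComplex.homologyMap (AlternatingFaceMapComplex.ε.app (cech F f)) i).unop from
    (isIso_unop_iff _).1 this
  refine isIso_of_exists_stalk _ fun y => ?_
  let η := acPoint y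
  refine ⟨_, inferInstance, inferInstance, η, acPoint_apply y _, ?_⟩
  have : QuasiIso (AlternatingFaceMapComplex.ε.app
      (((SimplicialObject.Augmented.whiskering _ _).obj (EtCoh.stalk η).op).obj (cech F f))) :=
    quasiIso_ε_stalk F f η
  have := mapAlt_ε (EtCoh.stalk η).op (cech F f)
  have h := isIso_map_homologyMap (EtCoh.stalk η).op (AlternatingFaceMapComplex.ε.app (cech F f)) i
  exact (ConcreteCategory.isIso_iff_bijective _).1 ((isIso_op_iff _).1 h)

/-- A single complex in the opposite category is a single complex. -/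
noncomputable def singleUnopIso (A : EtCoh.Ab Y) :
    ((ChainComplex.single₀ (EtCoh.Ab Y)ᵒᵖ).obj (op A)).unop ≅
      (HomologicalComplex.single (EtCoh.Ab Y) (ComplexShape.up ℕ) 0).obj A :=
  HomologicalComplex.Hom.isoOfComponents
    (fun i => if h : i = 0 then
        eqToIso (by subst h; rfl) ≪≫ (HomologicalComplex.singleObjXSelf (ComplexShape.up ℕ) 0 A).symm ≪≫
          eqToIso (by subst h; rfl)
      else (HomologicalComplex.isZero_single_obj_X (ComplexShape.down ℕ) 0 (op A) i h).unop.iso
        (HomologicalComplex.isZero_single_obj_X _ _ _ _ h))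
    (fun i j hij => (HomologicalComplex.isZero_single_obj_X (ComplexShape.up ℕ) 0 A j
      (fun h => absurd hij (by simp; lia))).eq_of_tgt _ _)

/-- The Čech complex of sheaves. -/
noncomputable def cechCx : CochainComplex (EtCoh.Ab Y) ℕ :=
  (AlternatingFaceMapComplex.obj (SimplicialObject.Augmented.drop.obj (cech F f))).unop

theorem exists_resolution :
    ∃ (η : (HomologicalComplex.single (EtCoh.Ab Y) (ComplexShape.up ℤ) 0).obj F ⟶
      (cechCx F f).extend ComplexShape.embeddingUpNat), QuasiIso η := by
  have := quasiIso_ε F f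
  let ψ : (HomologicalComplex.single (EtCoh.Ab Y) (ComplexShape.up ℕ) 0).obj F ⟶ cechCx F f :=
    (singleUnopIso F).inv ≫
      (HomologicalComplex.unopFunctor (EtCoh.Ab Y) (ComplexShape.down ℕ)).map
        (AlternatingFaceMapComplex.ε.app (cech F f)).op
  have : QuasiIso ((HomologicalComplex.unopFunctor (EtCoh.Ab Y) (ComplexShape.down ℕ)).map
      (AlternatingFaceMapComplex.ε.app (cech F f)).op) :=
    (HomologicalComplex.quasiIso_unopFunctor_map_iff _).2 ‹_›
  have : QuasiIso ψ := by
    exact @quasiIso_comp _ _ _ _ _ _ _ _ _ _ _ _ _ inferInstance ‹_›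
  have : QuasiIso (HomologicalComplex.extendMap ψ ComplexShape.embeddingUpNat) :=
    (HomologicalComplex.quasiIso_extendMap_iff ψ _).2 ‹_›
  exact ⟨(HomologicalComplex.extendSingleIso ComplexShape.embeddingUpNat F 0 0 rfl).inv ≫
    HomologicalComplex.extendMap ψ ComplexShape.embeddingUpNat, inferInstance⟩

theorem exists_descent_spectralSequence :
    ∃ (E : CohomologicalSpectralSequence AddCommGrpCat.{u + 1} 1)
      (a : SpSeq.Abutment E (fun n : ℤ =>
        if 0 ≤ n then AddCommGrpCat.of (EtCoh.H Y F n.toNat) else AddCommGrpCat.of PUnit.{u + 2})),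
      (∀ n, a.IsFinite n) ∧ SpSeq.IsBounded E ∧
      ∀ p q : ℤ, Nonempty ((E.page 1 le_rfl).X (p, q) ≅
        (if 0 ≤ p ∧ 0 ≤ q then
          AddCommGrpCat.of (EtCoh.H (widePullback Y (fun _ : Fin (p.toNat + 1) => X) (fun _ => f))
            ((EtCoh.pull (WidePullback.base (fun _ : Fin (p.toNat + 1) => f) :
              widePullback Y (fun _ : Fin (p.toNat + 1) => X) (fun _ => f) ⟶ Y)).obj F) q.toNat)
         else AddCommGrpCat.of PUnit.{u + 2})) := by
  obtain ⟨η, hη⟩ := exists_resolution F f
  have : CochainComplex.IsStrictlyGE ((cechCx F f).extend ComplexShape.embeddingUpNat) 0 := inferInstance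
  obtain ⟨E, a, ha, hb, hE⟩ := Groth.Agent.CohDescent.exists_resolution_spectralSequence
    (EtCoh.const Y ℤ) F ((cechCx F f).extend ComplexShape.embeddingUpNat) η
  refine ⟨E, a, ha, hb, fun p q => ?_⟩
  obtain ⟨e⟩ := hE p q
  refine ⟨e ≪≫ ?_⟩
  by_cases h : 0 ≤ p ∧ 0 ≤ q
  · rw [if_pos h, if_pos h]
    have hp : ComplexShape.embeddingUpNat.f p.toNat = p := Int.toNat_of_nonneg h.1
    let i := (cechCx F f).extendXIso ComplexShape.embeddingUpNat hp
    have := isIntegralHom_base f (p.toNat + 1)
    let e1 : Ext (EtCoh.const Y ℤ) (((cechCx F f).extend ComplexShape.embeddingUpNat).X p) q.toNat ≃+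
        Ext (EtCoh.const Y ℤ) (P F (pbase f ⦋p.toNat⦌)) q.toNat :=
      ((extFunctorObj (EtCoh.const Y ℤ) q.toNat).mapIso i).addCommGroupIsoToAddEquiv
    let e2 := AddEquiv.ofBijective _ (InjCoh.HofPush_bijective (pbase f ⦋p.toNat⦌)
      ((EtCoh.pull (pbase f ⦋p.toNat⦌)).obj F) (fun k hk => isZero_Rpush _ _ k hk) q.toNat)
    exact AddEquiv.toAddCommGrpIso (e1.trans e2)
  · rw [if_neg h, if_neg h]

end Groth.DescentBase.PushPull
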