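import Groth.Agent.DescentBase.BcDescent

/-!
# Descent of the comparison condition along a surjective morphism
-/

set_option autoImplicit false
set_option synthInstance.maxHeartbeats 400000
set_option backward.isDefEq.respectTransparency.types false
set_option linter.style.haveILetI false

universe u

open CategoryTheory CategoryTheory.Limits CategoryTheory.Abelian AlgebraicGeometry Opposite
open Groth.EtaleBase Groth.EtaleDeep.Cons Groth.DescentBase.HpullReduce Groth.DescentBase.BcDescent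
open Groth.EtCdAcycComp Groth.EtCd Groth.DescentBase.AcyclicConst

namespace Groth.DescentBase.CompNDescent

theorem pushH_injective_zero {Z : Scheme.{u}} {F G : EtCoh.Ab Z} (u : F ⟶ G) [Mono u] :
    Function.Injective (pushH u 0) := by
  intro x y hxy
  obtain ⟨a, rfl⟩ := Ext.addEquiv₀.symm.surjective x
  obtain ⟨b, rfl⟩ := Ext.addEquiv₀.symm.surjective y
  change (Ext.mk₀ a).comp (Ext.mk₀ u) (add_zero 0) = (Ext.mk₀ b).comp (Ext.mk₀ u) (add_zero 0) at hxy
  rw [Ext.mk₀_comp_mk₀, Ext.mk₀_comp_mk₀] at hxy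
  exact congrArg Ext.addEquiv₀.symm ((cancel_mono u).1 (Ext.addEquiv₀.symm.injective hxy))

theorem injective_Hpull_zero {A B : Scheme.{u}} (p : A ⟶ B) [Surjective p]
    [PreservesFiniteLimits (EtCoh.pull p)] (F : EtCoh.Ab B) : Function.Injective (EtCore.Hpull p F 0) := by
  refine (injective_iff_map_eq_zero _).2 fun x hx => ?_
  haveI := mono_unit p F
  refine pushH_injective_zero ((EtCoh.pullPushAdj p).unit.app F) ?_
  refine Eq.trans ?_ (map_zero _).symm
  refine (Groth.EtCdLeray.HofPush_zero_bijective p ((EtCoh.pull p).obj F)).1 ?_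
  rw [map_zero, HofPush_pushH]
  exact (congrArg _ hx).trans (map_zero _)

variable {X Y Xb Yb : Scheme.{u}} {h : Y ⟶ X} {p : Xb ⟶ X} {hb : Yb ⟶ Xb} {pY : Yb ⟶ Y}
  (w : hb ≫ p = pY ≫ h) {L : Set ℕ} {n : ℕ} (hn : 1 ≤ n)
  [PreservesFiniteLimits (EtCoh.pull hb)] [PreservesFiniteLimits (EtCoh.pull h)]
  [PreservesFiniteLimits (EtCoh.pull p)] [PreservesFiniteLimits (EtCoh.pull pY)]
  [CompactSpace X] [QuasiSeparatedSpace X] [CompactSpace Y] [QuasiSeparatedSpace Y]
  [Surjective p]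
  (hhb : EtAcyc.CompN hb L n)
  (hbc : ∀ Fb : EtCoh.Ab Xb, EtAcyc.IsLTorsion L Fb →
    (∀ i : ℕ, i ≤ n - 1 → IsIso (EtBC.bcQ p h pY hb w i Fb)) ∧ Mono (EtBC.bcQ p h pY hb w n Fb))

include hn hbc in
theorem isIso_bc0 {Fb : EtCoh.Ab Xb} (hF : EtAcyc.IsLTorsion L Fb) :
    IsIso (EtCoh.baseChange0 p h pY hb w Fb) :=
  BcAcyclic.isIso_baseChange0 (n := 0) w (fun F hF => ⟨fun i hi => (hbc F hF).1 i (by omega), by
    rcases eq_or_ne n 1 with rfl | h1
    · exact (hbc F hF).2
    · haveI := (hbc F hF).1 (0 + 1) (by omega)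
      infer_instance⟩) hF

include hbc in
theorem hbc_le {k : ℕ} (hk : k + 1 ≤ n) (Fb : EtCoh.Ab Xb) (hF : EtAcyc.IsLTorsion L Fb) :
    (∀ i : ℕ, i ≤ k → IsIso (EtBC.bcQ p h pY hb w i Fb)) ∧ Mono (EtBC.bcQ p h pY hb w (k + 1) Fb) := by
  refine ⟨fun i hi => (hbc Fb hF).1 i (by omega), ?_⟩
  rcases eq_or_ne (k + 1) n with h1 | h1
  · rw [h1]; exact (hbc Fb hF).2
  · haveI := (hbc Fb hF).1 (k + 1) (by omega)
    infer_instance

theorem pushH_bijective {Z : Scheme.{u}} {A B : EtCoh.Ab Z} (φ : A ⟶ B) [IsIso φ] (q : ℕ) :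
    Function.Bijective (pushH φ q) :=
  Groth.EtCdCriterion.bijective_postcomp_isIso φ q

include w hhb in
theorem injective_zero {F : EtCoh.Ab X} (hF : EtAcyc.IsLTorsion L F) : Inj h F 0 := by
  refine (injective_iff_map_eq_zero _).2 fun x hx => ?_
  refine injective_Hpull_zero p F ((hhb _ (isLTorsion_pull p hF)).1 0 (Nat.zero_le _) |>.1 ?_ |>.trans (map_zero _).symm)
  rw [map_zero]
  haveI : IsIso (viaMap hb p (pY ≫ h) w F) := by infer_instance
  refine (pushH_bijective (viaMap hb p (pY ≫ h) w F) 0).1 ?_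
  rw [map_zero, ← HpullVia_eq, HpullVia_Hpull, ← HpullVia_Hpull pY h _ rfl F 0 x, hx, map_zero]

include hn hhb hbc in
theorem surjective_zero {F : EtCoh.Ab X} {m : ℕ} (hm : EtAcyc.PrimesIn L m)
    (hF : m • 𝟙 F = 0) : Surj h F 0 := by
  haveI := mono_unit p F
  let u := (EtCoh.pullPushAdj p).unit.app F
  have hPm : m • 𝟙 ((EtCoh.pull p).obj F) = 0 := by
    rw [← CategoryTheory.Functor.map_id, ← Functor.map_nsmul, hF, Functor.map_zero]
  have hP := BcAcyclic.isLTorsion_of_nsmul (L := L) hm hPm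
  have hG := BcAcyclic.isLTorsion_of_nsmul (L := L) hm (nsmul_push p hPm)
  have hG0 : Surj h ((EtCoh.push p).obj ((EtCoh.pull p).obj F)) 0 := by
    haveI := isIso_bc0 w hn hbc hP
    have hb' : Function.Bijective ((⇑(EtLim.HofPush pY ((EtCoh.pull hb).obj _) 0) ∘
        ⇑((EtCoh.HF Y 0).map (EtCoh.baseChange0 p h pY hb w ((EtCoh.pull p).obj F)))) ∘
        ⇑(EtCore.Hpull h ((EtCoh.push p).obj ((EtCoh.pull p).obj F)) 0)) := by
      rw [← BcAcyclic.square w _ 0]
      exact ((hhb _ hP).1 0 (Nat.zero_le _)).comp (Groth.EtCdLeray.HofPush_zero_bijective p _)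
    exact ((Function.Bijective.of_comp_iff' ((Groth.EtCdLeray.HofPush_zero_bijective pY _).comp
      (ConcreteCategory.bijective_of_isIso
        ((EtCoh.HF Y 0).map (EtCoh.baseChange0 p h pY hb w ((EtCoh.pull p).obj F))))) _).1 hb').2
  exact surj_of_mono h u hG0 (injective_zero w hhb (isLTorsion_of_epi (cokernel.π u) hG))
    (fun r hr => absurd hr (Nat.succ_ne_zero r))

include hhb hbc in
theorem surjective_succ {k : ℕ} (hk : k + 1 ≤ n) (hh : EtAcyc.CompN h L k) {F : EtCoh.Ab X}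
    {m : ℕ} (hm : EtAcyc.PrimesIn L m) (hF : m • 𝟙 F = 0) : Surj h F (k + 1) := fun ξ => by
  obtain ⟨y, hy⟩ := (pushH_bijective (viaMap hb p (pY ≫ h) w F) (k + 1)).2
    (EtCore.HpullVia pY h (pY ≫ h) rfl F (k + 1) ξ)
  obtain ⟨xb, hxb⟩ := ((hhb _ (isLTorsion_pull p (BcAcyclic.isLTorsion_of_nsmul hm hF))).1 (k + 1) hk).2 y
  refine mem_range_killed w (hbc_le w hbc hk) hh hm hF ξ xb ?_
  rw [HpullVia_eq, hxb, hy]

theorem nsmul_cokernel {Z : Scheme.{u}} {F G : EtCoh.Ab Z} (u : F ⟶ G) {m : ℕ} (hG : m • 𝟙 G = 0) :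
    m • 𝟙 (cokernel u) = 0 := by
  rw [← cancel_epi (cokernel.π u), comp_zero, Preadditive.comp_nsmul, Category.comp_id,
    ← Category.id_comp (cokernel.π u), ← Preadditive.nsmul_comp, hG, zero_comp]

/-- Injectivity in the next degree from surjectivity. -/
theorem injective_succ {k : ℕ} (hs : ∀ (F : EtCoh.Ab X) (m : ℕ), EtAcyc.PrimesIn L m → m • 𝟙 F = 0 → Surj h F k)
    (hi : ∀ F : EtCoh.Ab X, EtAcyc.IsLTorsion L F → Inj h F k) {F : EtCoh.Ab X}
    (hF : EtAcyc.IsLTorsion L F) [Surjective p] : Inj h F (k + 1) := by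
  refine inj_of_factor h (Groth.EtCdLTorsionRpush.isTorsion_of_isLTorsion hF) (k + 1) fun C hC g => ?_
  obtain ⟨C', π, g', m, hg, -, hm, hmC⟩ := exists_L_quotient hC hF g
  refine ⟨C', π, g', hg, (injective_iff_map_eq_zero _).2 fun x hx => ?_⟩
  have hm' : m • 𝟙 ((EtCoh.pull p).obj C') = 0 := by
    rw [← CategoryTheory.Functor.map_id, ← Functor.map_nsmul, hmC, Functor.map_zero]
  obtain ⟨K, j, hj, hKm, hK⟩ := FlasqueKilled.exists_flasque_mono _ m hm.1 hm'
  haveI := mono_unit p C'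
  let u := (EtCoh.pullPushAdj p).homEquiv _ _ j
  haveI : Mono u := by
    show Mono ((EtCoh.pullPushAdj p).homEquiv _ _ j)
    rw [Adjunction.homEquiv_unit]
    infer_instance
  haveI := BcAcyclic.subsingleton_H_flasque hK (k + 1) k.succ_pos
  haveI : Subsingleton (EtCoh.H X ((EtCoh.push p).obj K) (k + 1)) :=
    (Groth.EtaleBase.InjCoh.HofPush_bijective p K (BcAcyclic.isZero_Rpush_flasque hK) (k + 1)).1.subsingleton
  exact inj_succ_of_effaced h u x (Subsingleton.elim _ _)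
    (hs _ m hm (nsmul_push p hKm))
    (hi _ (BcAcyclic.isLTorsion_of_nsmul hm (nsmul_cokernel u (nsmul_push p hKm)))) hx

include w hn hhb hbc in
/-- The comparison condition descends along a surjection. -/
theorem compN_descent : EtAcyc.CompN h L n := by
  have hsurj : ∀ (q : ℕ) (F : EtCoh.Ab X), EtAcyc.IsLTorsion L F →
      (∀ (G : EtCoh.Ab X) (m : ℕ), EtAcyc.PrimesIn L m → m • 𝟙 G = 0 → Surj h G q) → Surj h F q :=
    fun q F hF hk => surj_of_factor h (Groth.EtCdLTorsionRpush.isTorsion_of_isLTorsion hF) q fun C hC g => by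
      obtain ⟨C', π, g', m, hg, -, hm, hmC⟩ := exists_L_quotient hC hF g
      exact ⟨C', π, g', hg, hk C' m hm hmC⟩
  have key : ∀ k, k ≤ n → EtAcyc.CompN h L k := by
    intro k hk
    induction k with
    | zero =>
      intro F hF _
      refine ⟨fun q hq => ?_, injective_succ (p := p) (fun G m hm hG => surjective_zero w hn hhb hbc hm hG)
        (fun G hG => injective_zero w hhb hG) hF⟩
      obtain rfl : q = 0 := by omega
      exact ⟨injective_zero w hhb hF, hsurj 0 F hF fun G m hm hG => surjective_zero w hn hhb hbc hm hG⟩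
    | succ k ih =>
      have hh := ih (by omega)
      intro F hF _
      refine ⟨fun q hq => ?_, injective_succ (p := p) (fun G m hm hG => surjective_succ w hhb hbc hk hh hm hG)
        (fun G hG => (hh G hG).2) hF⟩
      rcases Nat.lt_or_eq_of_le hq with h1 | rfl
      · exact (hh F hF).1 q (by omega)
      · exact ⟨(hh F hF).2, hsurj _ F hF fun G m hm hG => surjective_succ w hhb hbc hk hh hm hG⟩
  exact key n le_rfl

end Groth.DescentBase.CompNDescent
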