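import Mathlib

/-!
# Cosheaves restricted to a covering subcategory
-/

set_option autoImplicit false

open CategoryTheory CategoryTheory.Limits

universe v u w

namespace Groth.DescentBase.Coshv

variable {C : Type u} [Category.{v} C] [HasPullbacks C] (W : MorphismProperty C)

/-- The cosheaf condition. -/
def IsCo (F : C ⥤ AddCommGrpCat.{w}) : Prop :=
  ∀ ⦃Y X : C⦄ (π : Y ⟶ X), W π → Function.Surjective (F.map π).hom ∧
          (F.map π).hom.ker = ((F.map (pullback.fst π π)).hom - (F.map (pullback.snd π π)).hom).range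

variable [W.IsStableUnderBaseChange] [W.IsStableUnderComposition]

lemma exists_ext {F G : C ⥤ AddCommGrpCat.{w}} (hF : IsCo W F) (D : ObjectProperty C)
    (hD : ∀ X : C, ∃ (Y : C) (π : Y ⟶ X), W π ∧ D Y)
    (a : ∀ Z, D Z → (F.obj Z →+ G.obj Z))
    (ha : ∀ {Z Z' : C} (hZ : D Z) (hZ' : D Z') (g : Z ⟶ Z') (x : F.obj Z),
      a Z' hZ' (F.map g x) = G.map g (a Z hZ x)) :
    ∃ α : F ⟶ G, ∀ Z hZ x, α.app Z x = a Z hZ x := by
  choose Y π hπ hY using hD
  have key : ∀ X, (F.map (π X)).hom.ker ≤ ((G.map (π X)).hom.comp (a (Y X) (hY X))).ker := by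
    intro X
    rw [(hF (π X) (hπ X)).2]
    rintro _ ⟨x, rfl⟩
    obtain ⟨z, rfl⟩ := (hF (π (pullback (π X) (π X))) (hπ _)).1 x
    change G.map (π X) (a (Y X) (hY X)
      (F.map (pullback.fst _ _) (F.map (π _) z) - F.map (pullback.snd _ _) (F.map (π _) z))) = 0
    rw [map_sub, map_sub, ← ConcreteCategory.comp_apply (F.map _) (F.map _),
      ← ConcreteCategory.comp_apply (F.map _) (F.map _), ← F.map_comp, ← F.map_comp,
      ha (hY _) (hY X), ha (hY _) (hY X), ← ConcreteCategory.comp_apply (G.map _) (G.map _),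
      ← ConcreteCategory.comp_apply (G.map _) (G.map _), ← G.map_comp, ← G.map_comp,
      Category.assoc, Category.assoc, pullback.condition, sub_self]
  let app : ∀ X, F.obj X →+ G.obj X := fun X =>
    (F.map (π X)).hom.liftOfSurjective (hF (π X) (hπ X)).1 ⟨_, key X⟩
  have happ : ∀ X y, app X (F.map (π X) y) = G.map (π X) (a (Y X) (hY X) y) := fun X y =>
    (F.map (π X)).hom.liftOfRightInverse_comp_apply _ _ ⟨_, key X⟩ y
  have nat : ∀ {X X' : C} (g : X ⟶ X') (x : F.obj X), app X' (F.map g x) = G.map g (app X x) := by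
    intro X X' g x
    let p := pullback.fst (π X ≫ g) (π X')
    have hp : W p := W.pullback_fst _ _ (hπ X')
    let q := pullback.snd (π X ≫ g) (π X')
    let ρ := π (pullback (π X ≫ g) (π X'))
    have hρp : W (ρ ≫ p) := W.comp_mem _ _ (hπ _) hp
    obtain ⟨y, rfl⟩ := (hF (π X) (hπ X)).1 x
    obtain ⟨z, rfl⟩ := (hF (ρ ≫ p) hρp).1 y
    have e1 : F.map g (F.map (π X) (F.map (ρ ≫ p) z)) = F.map (π X') (F.map (ρ ≫ q) z) := by
      simp only [← ConcreteCategory.comp_apply, ← F.map_comp]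
      congr 2
      simp [p, q, pullback.condition]
    change app X' (F.map g (F.map (π X) (F.map (ρ ≫ p) z))) =
      G.map g (app X (F.map (π X) (F.map (ρ ≫ p) z)))
    rw [happ, e1, happ, ha (hY _) (hY X'), ha (hY _) (hY X)]
    simp only [← ConcreteCategory.comp_apply, ← G.map_comp]
    congr 2
    simp [p, q, pullback.condition]
  refine ⟨{ app := fun X => AddCommGrpCat.ofHom (app X), naturality := fun X X' g => by ext x; exact nat g x },
    fun Z hZ x => ?_⟩
  obtain ⟨y, rfl⟩ := (hF (π Z) (hπ Z)).1 x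
  change app Z (F.map (π Z) y) = _
  rw [happ, ha (hY Z) hZ]

theorem full_faithful (D : ObjectProperty C)
    (hD : ∀ X : C, ∃ (Y : C) (π : Y ⟶ X), W π ∧ D Y) :
    (ObjectProperty.ι (IsCo.{v, u, w} W) ⋙
      (Functor.whiskeringLeft D.FullSubcategory C AddCommGrpCat.{w}).obj D.ι).Full ∧
    (ObjectProperty.ι (IsCo.{v, u, w} W) ⋙
      (Functor.whiskeringLeft D.FullSubcategory C AddCommGrpCat.{w}).obj D.ι).Faithful := by
  constructor
  · refine ⟨fun {F G} β => ?_⟩
    obtain ⟨α, hα⟩ := exists_ext W F.property D hD (fun Z hZ => (β.app ⟨Z, hZ⟩).hom)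
      (fun {Z Z'} hZ hZ' g x => by
        have := ConcreteCategory.congr_hom
          (β.naturality (X := ⟨Z, hZ⟩) (Y := ⟨Z', hZ'⟩) (ObjectProperty.homMk g)) x
        exact this)
    exact ⟨ObjectProperty.homMk α, by ext Z x; exact hα Z.obj Z.property x⟩
  · refine ⟨fun {F G} α β e => ?_⟩
    ext X x
    obtain ⟨Y, π, hπ, hY⟩ := hD X
    obtain ⟨y, rfl⟩ := (F.property π hπ).1 x
    have e1 : ∀ y, α.hom.app Y y = β.hom.app Y y := fun y =>
      ConcreteCategory.congr_hom (congr_app e ⟨Y, hY⟩) y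
    change α.hom.app X (F.obj.map π y) = β.hom.app X (F.obj.map π y)
    rw [NatTrans.naturality_apply, NatTrans.naturality_apply, e1]

end Groth.DescentBase.Coshv
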