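import Groth.Agent.DescentBase.El
import Groth.Agent.DescentBase.FpqcCover
import Groth.Prelude.Def_Desc

/-!
# Descent data of modules on elements

`dEl D g₁ g₂` is the action of the descent isomorphism of `D` on elements over a test scheme,
and a compatible family over `U` is a family of sections over the preimages of `U` whose elements
correspond under these isomorphisms.
-/

set_option autoImplicit false
set_option backward.isDefEq.respectTransparency.types false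

universe u

open CategoryTheory Limits AlgebraicGeometry Opposite TopologicalSpace

namespace Groth.DescentBase

open Groth.QCohMod (res res_res res_self res_app)

variable {ι : Type u} {S : Scheme.{u}} {X : ι → Scheme.{u}} {f : ∀ i, X i ⟶ S}

theorem mapComp'_inv_eq_pullTo {Y Z W : Scheme.{u}} (g : Y ⟶ Z) (a : Z ⟶ W) (q : Y ⟶ W)
    (e : g ≫ a = q) (h : a.op.toLoc ≫ g.op.toLoc = q.op.toLoc) (N : W.Modules) :
    (Desc.modPF.{u}.mapComp' a.op.toLoc g.op.toLoc q.op.toLoc h).inv.toNatTrans.app N =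
      (pullTo g a q e N).hom := by
  subst e
  have h1 : (pullTo g a (g ≫ a) rfl N).hom = (Scheme.Modules.pullbackComp g a).hom.app N := by
    simp [pullTo, Scheme.Modules.pullbackCongr]
  rw [h1]
  exact congr(($(Pseudofunctor.mapComp'_eq_mapComp Desc.modPF.{u} a.op.toLoc
    g.op.toLoc)).inv.toNatTrans.app N)

theorem mapComp'_hom_eq_pullTo {Y Z W : Scheme.{u}} (g : Y ⟶ Z) (a : Z ⟶ W) (q : Y ⟶ W)
    (e : g ≫ a = q) (h : a.op.toLoc ≫ g.op.toLoc = q.op.toLoc) (N : W.Modules) :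
    (Desc.modPF.{u}.mapComp' a.op.toLoc g.op.toLoc q.op.toLoc h).hom.toNatTrans.app N =
      (pullTo g a q e N).inv := by
  subst e
  have h1 : (pullTo g a (g ≫ a) rfl N).inv = (Scheme.Modules.pullbackComp g a).inv.app N := by
    simp [pullTo, Scheme.Modules.pullbackCongr]
  rw [h1]
  exact congr(($(Pseudofunctor.mapComp'_eq_mapComp Desc.modPF.{u} a.op.toLoc
    g.op.toLoc)).hom.toNatTrans.app N)

/-- The modules of a descent datum. -/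
abbrev dObj (D : Desc.modPF.{u}.DescentData f) (i : ι) : (X i).Modules := D.obj i

/-- The descent isomorphisms, as morphisms of modules. -/
noncomputable abbrev dHom (D : Desc.modPF.{u}.DescentData f) {T : Scheme.{u}} (q : T ⟶ S)
    {i j : ι} (g₁ : T ⟶ X i) (g₂ : T ⟶ X j) (h₁ : g₁ ≫ f i = q) (h₂ : g₂ ≫ f j = q) :
    (Scheme.Modules.pullback g₁).obj (dObj D i) ⟶ (Scheme.Modules.pullback g₂).obj (dObj D j) :=
  D.hom q g₁ g₂ h₁ h₂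

/-- The descent isomorphisms on elements. -/
noncomputable def dEl (D : Desc.modPF.{u}.DescentData f) {T : Scheme.{u}} {i j : ι}
    (g₁ : T ⟶ X i) (g₂ : T ⟶ X j) (h : g₁ ≫ f i = g₂ ≫ f j) (x : El (dObj D i) g₁) :
    El (dObj D j) g₂ :=
  (dHom D (g₁ ≫ f i) g₁ g₂ rfl h.symm).app ⊤ x

variable {D D' : Desc.modPF.{u}.DescentData f} {T T' : Scheme.{u}} {i j l : ι}

theorem dEl_eq (q : T ⟶ S) (g₁ : T ⟶ X i) (g₂ : T ⟶ X j) (h₁ : g₁ ≫ f i = q) (h₂ : g₂ ≫ f j = q)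
    (x : El (dObj D i) g₁) :
    (dHom D q g₁ g₂ h₁ h₂).app ⊤ x = dEl D g₁ g₂ (h₁.trans h₂.symm) x := by
  subst h₁; rfl

theorem dEl_self (g : T ⟶ X i) (x : El (dObj D i) g) : dEl D g g rfl x = x :=
  congr(($(D.hom_self (g ≫ f i) g rfl) : (Scheme.Modules.pullback g).obj (dObj D i) ⟶
    (Scheme.Modules.pullback g).obj (dObj D i)).app ⊤ x)

theorem dEl_comp (g₁ : T ⟶ X i) (g₂ : T ⟶ X j) (g₃ : T ⟶ X l) (h₁₂ : g₁ ≫ f i = g₂ ≫ f j)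
    (h₂₃ : g₂ ≫ f j = g₃ ≫ f l) (x : El (dObj D i) g₁) :
    dEl D g₂ g₃ h₂₃ (dEl D g₁ g₂ h₁₂ x) = dEl D g₁ g₃ (h₁₂.trans h₂₃) x := by
  refine (congrArg (dEl D g₂ g₃ h₂₃) rfl).trans ?_
  rw [← dEl_eq (g₁ ≫ f i) g₂ g₃ h₁₂.symm (h₁₂.trans h₂₃).symm (dEl D g₁ g₂ h₁₂ x)]
  exact congr(($(D.hom_comp (g₁ ≫ f i) g₁ g₂ g₃ rfl h₁₂.symm (h₁₂.trans h₂₃).symm) :
    (Scheme.Modules.pullback g₁).obj (dObj D i) ⟶
      (Scheme.Modules.pullback g₃).obj (dObj D l)).app ⊤ x)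

theorem dEl_injective (g₁ : T ⟶ X i) (g₂ : T ⟶ X j) (h : g₁ ≫ f i = g₂ ≫ f j) :
    Function.Injective (dEl D g₁ g₂ h) := fun x y hxy => by
  rw [← dEl_self g₁ x, ← dEl_self g₁ y, ← dEl_comp g₁ g₂ g₁ h h.symm x,
    ← dEl_comp g₁ g₂ g₁ h h.symm y, hxy]

theorem dEl_zero (g₁ : T ⟶ X i) (g₂ : T ⟶ X j) (h : g₁ ≫ f i = g₂ ≫ f j) :
    dEl D g₁ g₂ h 0 = 0 :=
  map_zero _

theorem dEl_add (g₁ : T ⟶ X i) (g₂ : T ⟶ X j) (h : g₁ ≫ f i = g₂ ≫ f j)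
    (x y : El (dObj D i) g₁) : dEl D g₁ g₂ h (x + y) = dEl D g₁ g₂ h x + dEl D g₁ g₂ h y :=
  map_add _ _ _

theorem dEl_sub (g₁ : T ⟶ X i) (g₂ : T ⟶ X j) (h : g₁ ≫ f i = g₂ ≫ f j)
    (x y : El (dObj D i) g₁) : dEl D g₁ g₂ h (x - y) = dEl D g₁ g₂ h x - dEl D g₁ g₂ h y :=
  map_sub _ _ _

theorem dEl_smul (g₁ : T ⟶ X i) (g₂ : T ⟶ X j) (h : g₁ ≫ f i = g₂ ≫ f j) (r : Γ(T, ⊤))
    (x : El (dObj D i) g₁) : dEl D g₁ g₂ h (r • x) = r • dEl D g₁ g₂ h x :=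
  Scheme.Modules.Hom.app_smul _ r x

/-- Base change of the value of a morphism between inverse images. -/
theorem bc_conj {A B : Scheme.{u}} {N₁ : A.Modules} {N₂ : B.Modules} (k : T' ⟶ T) (g₁ : T ⟶ A)
    (g₂ : T ⟶ B) (g₁' : T' ⟶ A) (e₁ : k ≫ g₁ = g₁') (g₂' : T' ⟶ B) (e₂ : k ≫ g₂ = g₂')
    (φ : (Scheme.Modules.pullback g₁).obj N₁ ⟶ (Scheme.Modules.pullback g₂).obj N₂)
    (x : El N₁ g₁) :
    bc k g₂ g₂' e₂ (φ.app ⊤ x) =
      ((pullTo k g₁ g₁' e₁ N₁).inv ≫ (Scheme.Modules.pullback k).map φ ≫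
        (pullTo k g₂ g₂' e₂ N₂).hom).app ⊤ (bc k g₁ g₁' e₁ x) := by
  have h1 : (pullTo k g₁ g₁' e₁ N₁).inv.app ⊤ (bc k g₁ g₁' e₁ x) = PicAux.pullSec k _ x :=
    congr(($((pullTo k g₁ g₁' e₁ N₁).hom_inv_id)).app ⊤ (PicAux.pullSec k _ x))
  simp only [Scheme.Modules.Hom.comp_app, CategoryTheory.comp_apply]
  rw [h1]
  exact congrArg ((pullTo k g₂ g₂' e₂ N₂).hom.app ⊤) (PicAux.pullSec_map k φ (U := ⊤) x).symm

/-- The descent isomorphisms commute with base change. -/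
theorem bc_dEl (k : T' ⟶ T) (g₁ : T ⟶ X i) (g₂ : T ⟶ X j) (h : g₁ ≫ f i = g₂ ≫ f j)
    (g₁' : T' ⟶ X i) (e₁ : k ≫ g₁ = g₁') (g₂' : T' ⟶ X j) (e₂ : k ≫ g₂ = g₂')
    (x : El (dObj D i) g₁) :
    bc k g₂ g₂' e₂ (dEl D g₁ g₂ h x) =
      dEl D g₁' g₂' (by rw [← e₁, ← e₂, Category.assoc, Category.assoc, h])
        (bc k g₁ g₁' e₁ x) := by
  have e : k ≫ (g₁ ≫ f i) = g₁' ≫ f i := by rw [← e₁, Category.assoc]
  have h₂' : g₂' ≫ f j = g₁' ≫ f i := by rw [← e₁, ← e₂, Category.assoc, Category.assoc, h]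
  have H : dHom D (g₁' ≫ f i) g₁' g₂' rfl h₂' =
      (pullTo k g₁ g₁' e₁ (dObj D i)).inv ≫
        (Scheme.Modules.pullback k).map (dHom D (g₁ ≫ f i) g₁ g₂ rfl h.symm) ≫
          (pullTo k g₂ g₂' e₂ (dObj D j)).hom := by
    have H0 := (D.pullHom_hom k (g₁ ≫ f i) (g₁' ≫ f i) e g₁ g₂ rfl h.symm g₁' g₂' e₁ e₂).symm
    refine H0.trans ?_
    rw [← mapComp'_inv_eq_pullTo k g₂ g₂' e₂ (by subst e₂; rfl) (dObj D j),
      ← mapComp'_hom_eq_pullTo k g₁ g₁' e₁ (by subst e₁; rfl) (dObj D i)]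
    rfl
  refine (bc_conj k g₁ g₂ g₁' e₁ g₂' e₂ (dHom D (g₁ ≫ f i) g₁ g₂ rfl h.symm) x).trans ?_
  rw [← H]
  rfl

/-- The descent isomorphisms of a canonical descent datum. -/
theorem flat_dEl_ofObj (M : S.Modules) (g₁ : T ⟶ X i) (g₂ : T ⟶ X j)
    (h : g₁ ≫ f i = g₂ ≫ f j) (q : T ⟶ S) (h₁ : g₁ ≫ f i = q)
    (x : El ((Scheme.Modules.pullback (f i)).obj M) g₁) :
    flat (N := M) (f j) g₂ q (h.symm.trans h₁) (dEl ((Desc.modPF.{u}.toDescentData f).obj M) g₁ g₂ h x) =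
      flat (N := M) (f i) g₁ q h₁ x := by
  subst h₁
  have h' : (f j).op.toLoc ≫ g₂.op.toLoc = (g₁ ≫ f i).op.toLoc := by
    rw [← Quiver.Hom.comp_toLoc, ← op_comp, h]
  have H := congrArg₂ (fun u v => u ≫ v)
    (mapComp'_inv_eq_pullTo g₁ (f i) _ rfl rfl M)
    (mapComp'_hom_eq_pullTo g₂ (f j) (g₁ ≫ f i) h.symm h' M)
  have H' : (dHom ((Desc.modPF.{u}.toDescentData f).obj M) (g₁ ≫ f i) g₁ g₂ rfl h.symm).app ⊤ x =
      (pullTo g₂ (f j) _ h.symm M).inv.app ⊤ ((pullTo g₁ (f i) _ rfl M).hom.app ⊤ x) :=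
    congr(($H).app ⊤ x)
  refine (congrArg ((pullTo g₂ (f j) (g₁ ≫ f i) h.symm M).hom.app ⊤) H').trans ?_
  exact congr(($((pullTo g₂ (f j) (g₁ ≫ f i) h.symm M).inv_hom_id)).app ⊤
    ((pullTo g₁ (f i) _ rfl M).hom.app ⊤ x))

/-- Morphisms of descent data commute with the descent isomorphisms on elements. -/
theorem dEl_elMap (φ : D ⟶ D') (g₁ : T ⟶ X i) (g₂ : T ⟶ X j) (h : g₁ ≫ f i = g₂ ≫ f j)
    (x : El (dObj D i) g₁) :
    dEl D' g₁ g₂ h (elMap (φ.hom i : dObj D i ⟶ dObj D' i) g₁ x) =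
      elMap (φ.hom j : dObj D j ⟶ dObj D' j) g₂ (dEl D g₁ g₂ h x) :=
  congr(($(φ.comm (g₁ ≫ f i) g₁ g₂ rfl h.symm) : (Scheme.Modules.pullback g₁).obj (dObj D i) ⟶
    (Scheme.Modules.pullback g₂).obj (dObj D' j)).app ⊤ x)

variable (D) in
/-- A compatible family of sections over the preimages of an open. -/
def IsCompat (U : S.Opens) (s : ∀ i, Γ(dObj D i, f i ⁻¹ᵁ U)) : Prop :=
  ∀ ⦃i j : ι⦄ ⦃T : Scheme.{u}⦄ (g₁ : T ⟶ X i) (g₂ : T ⟶ X j) (h : g₁ ≫ f i = g₂ ≫ f j)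
    (h₁ : ⊤ ≤ g₁ ⁻¹ᵁ f i ⁻¹ᵁ U) (h₂ : ⊤ ≤ g₂ ⁻¹ᵁ f j ⁻¹ᵁ U),
    dEl D g₁ g₂ h (el g₁ h₁ (s i)) = el g₂ h₂ (s j)

theorem le_preimage_of_eq {g₁ : T ⟶ X i} {g₂ : T ⟶ X j} (h : g₁ ≫ f i = g₂ ≫ f j) {U : S.Opens}
    (h₁ : ⊤ ≤ g₁ ⁻¹ᵁ f i ⁻¹ᵁ U) : ⊤ ≤ g₂ ⁻¹ᵁ f j ⁻¹ᵁ U := by
  intro t _
  have := h₁ (Set.mem_univ t)
  change (g₂ ≫ f j) t ∈ U
  rw [← h]
  exact this

theorem IsCompat.sub {U : S.Opens} {s t : ∀ i, Γ(dObj D i, f i ⁻¹ᵁ U)} (hs : IsCompat D U s)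
    (ht : IsCompat D U t) : IsCompat D U (fun i => s i - t i) := fun i j T g₁ g₂ h h₁ h₂ => by
  rw [el_sub, el_sub, dEl_sub, hs g₁ g₂ h h₁ h₂, ht g₁ g₂ h h₁ h₂]

theorem IsCompat.res {U V : S.Opens} (hVU : V ≤ U) {s : ∀ i, Γ(dObj D i, f i ⁻¹ᵁ U)}
    (hs : IsCompat D U s) :
    IsCompat D V (fun i => QCohMod.res _ ((f i).preimage_mono hVU) (s i)) :=
  fun i j T g₁ g₂ h h₁ h₂ => by
    rw [el_res, el_res]
    exact hs g₁ g₂ h _ _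

/-- A compatible family vanishing on a flat family of pieces covering `U` vanishes. -/
theorem IsCompat.eq_zero {U : S.Opens} {s : ∀ i, Γ(dObj D i, f i ⁻¹ᵁ U)} (hs : IsCompat D U s)
    {K : Type u} {Z : K → Scheme.{u}} {p : K → ι} (a : ∀ k, Z k ⟶ X (p k))
    [∀ k, Flat (a k ≫ f (p k))] (ha : ∀ k, ⊤ ≤ a k ⁻¹ᵁ f (p k) ⁻¹ᵁ U)
    (hsurj : ∀ x ∈ U, ∃ k z, (a k ≫ f (p k)) z = x)
    (h0 : ∀ k, el (a k) (ha k) (s (p k)) = 0) (i : ι) : s i = 0 := by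
  have hle : ∀ k, ⊤ ≤ pullback.fst (f i) (a k ≫ f (p k)) ⁻¹ᵁ (f i ⁻¹ᵁ U) := fun k =>
    le_preimage_of_eq (g₁ := pullback.snd (f i) (a k ≫ f (p k)) ≫ a k)
      (g₂ := pullback.fst (f i) (a k ≫ f (p k)))
      (by rw [Category.assoc]; exact pullback.condition.symm)
      ((pullback.snd (f i) (a k ≫ f (p k))).preimage_mono (ha k))
  refine eq_zero_of_el (fun k => pullback.fst (f i) (a k ≫ f (p k))) hle (fun x hx => ?_) (s i)
    fun k => ?_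
  · obtain ⟨k, z, hz⟩ := hsurj _ hx
    obtain ⟨w, hw, -⟩ := Scheme.Pullback.exists_preimage_pullback (f := f i)
      (g := a k ≫ f (p k)) x z hz.symm
    exact ⟨k, w, hw⟩
  · have hc : pullback.fst (f i) (a k ≫ f (p k)) ≫ f i =
        (pullback.snd (f i) (a k ≫ f (p k)) ≫ a k) ≫ f (p k) := by
      rw [Category.assoc]; exact pullback.condition
    refine dEl_injective _ (pullback.snd (f i) (a k ≫ f (p k)) ≫ a k) hc ?_
    rw [dEl_zero, hs _ _ hc (hle k) ((pullback.snd (f i) (a k ≫ f (p k))).preimage_mono (ha k)),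
      ← bc_el (pullback.snd (f i) (a k ≫ f (p k))) (a k) _ rfl (ha k), h0 k, bc_zero]

/-- The members of a family in the fpqc precoverage are flat. -/
theorem flat_of_mem_fpqcPrecoverage (hf : Presieve.ofArrows X f ∈ Scheme.fpqcPrecoverage S)
    (i : ι) : Flat (f i) :=
  hf.2.2 (.mk i)

variable (f) in
/-- Over an affine open an fpqc family has finitely many affine flat pieces covering it. -/
theorem exists_pieces (hf : Presieve.ofArrows X f ∈ Scheme.fpqcPrecoverage S) {U : S.Opens}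
    (hU : IsAffineOpen U) :
    ∃ (K : Type u) (_ : Finite K) (Z : K → Scheme.{u}) (p : K → ι) (a : ∀ k, Z k ⟶ X (p k)),
      (∀ k, IsAffine (Z k)) ∧ (∀ k, Flat (a k ≫ f (p k))) ∧
        (∀ k, ⊤ ≤ a k ⁻¹ᵁ f (p k) ⁻¹ᵁ U) ∧ ∀ x ∈ U, ∃ k z, (a k ≫ f (p k)) z = x := by
  have : IsAffine U := hU
  let 𝒰 : Scheme.Cover Scheme.fpqcPrecoverage S :=
    { I₀ := ι, X := X, f := f, mem₀ := hf }
  obtain ⟨m, hm, W, hW, s, b, hb, hg⟩ := exists_affine_refinement (𝒰.pullback₁ U.ι)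
  let a : ∀ k, W k ⟶ X (s k) := fun k => b k ≫ pullback.snd U.ι (f (s k))
  have hfac : ∀ k, a k ≫ f (s k) = (b k ≫ pullback.fst U.ι (f (s k))) ≫ U.ι := fun k => by
    simp only [a, Category.assoc]
    exact congrArg (b k ≫ ·) pullback.condition.symm
  refine ⟨m, hm, W, s, a, hW, fun k => ?_, fun k => ?_, fun x hx => ?_⟩
  · have h1 : Flat (b k ≫ pullback.fst U.ι (f (s k))) := by
      have := hg.1.2
      have h2 : Flat (Sigma.ι W k ≫ Sigma.desc fun j => b j ≫ (𝒰.pullback₁ U.ι).f (s j)) :=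
        inferInstance
      rwa [Sigma.ι_desc] at h2
    rw [hfac]
    infer_instance
  · change ⊤ ≤ (a k ≫ f (s k)) ⁻¹ᵁ U
    intro z _
    change (a k ≫ f (s k)) z ∈ U
    rw [hfac]
    exact (((b k ≫ pullback.fst U.ι (f (s k))) z)).2
  · obtain ⟨w, hw⟩ := hg.1.1.surj ⟨x, hx⟩
    obtain ⟨k, z, rfl⟩ := (sigmaOpenCover W).exists_eq w
    refine ⟨k, z, ?_⟩
    rw [hfac, Scheme.Hom.comp_apply]
    have : (b k ≫ pullback.fst U.ι (f (s k))) z = ⟨x, hx⟩ := by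
      rw [← hw]
      change _ = (Sigma.ι W k ≫ Sigma.desc fun j => b j ≫ (𝒰.pullback₁ U.ι).f (s j)) z
      rw [Sigma.ι_desc]
      rfl
    exact congrArg Subtype.val this

end Groth.DescentBase
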