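import Mathlib
import Groth.Prelude.Def_DeltaF

/-! Morphisms of delta-functors and filtered colimits. -/

set_option autoImplicit false

universe w v u

open CategoryTheory Limits

namespace Groth.DescentBase.DeltaColim

section Ab

variable {J : Type v} [SmallCategory J] [IsFiltered J] {G : J ⥤ AddCommGrpCat.{w}} {c : Cocone G}
  (hc : IsColimit c)

/-- The colimit, lifted to a universe in which elements can be computed. -/
noncomputable def liftedColimit : IsColimit (AddCommGrpCat.uliftFunctor.{v, w}.mapCocone c) :=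
  isColimitOfPreserves _ hc

include hc in
theorem exists_rep (x : c.pt) : ∃ (j : J) (y : G.obj j), c.ι.app j y = x := by
  haveI : PreservesFilteredColimitsOfSize.{v, v} (forget AddCommGrpCat.{max w v}) :=
    preservesFilteredColimitsOfSize_shrink.{v, max w v, v, max w v} _
  obtain ⟨j, y, hy⟩ := Concrete.isColimit_exists_rep _ (liftedColimit hc) (ULift.up x)
  exact ⟨j, ULift.down y, congrArg ULift.down hy⟩

include hc in
theorem exists_map_eq_zero {j : J} (y : G.obj j) (h : c.ι.app j y = 0) :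
    ∃ (k : J) (f : j ⟶ k), G.map f y = 0 := by
  haveI : PreservesFilteredColimitsOfSize.{v, v} (forget AddCommGrpCat.{max w v}) :=
    preservesFilteredColimitsOfSize_shrink.{v, max w v, v, max w v} _
  obtain ⟨k, f, g, hk⟩ := Concrete.isColimit_exists_of_rep_eq _ (liftedColimit hc) (i := j) (j := j)
    (ULift.up y) (ULift.up 0) (by
      apply ULift.ext
      show c.ι.app j y = c.ι.app j 0
      rw [h, map_zero])
  refine ⟨k, f, ?_⟩
  have := congrArg ULift.down hk
  exact this.trans (map_zero _)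

end Ab

variable {C : Type u} [Category.{v} C]

theorem injective_app_of_colimit {F F' : C ⥤ AddCommGrpCat.{w}} (φ : F ⟶ F')
    [PreservesFilteredColimitsOfSize.{v, v} F] [PreservesFilteredColimitsOfSize.{v, v} F']
    {J : Type v} [SmallCategory J] [IsFiltered J] {K : J ⥤ C} {c : Cocone K} (hc : IsColimit c)
    (h : ∀ j, Function.Injective (φ.app (K.obj j))) : Function.Injective (φ.app c.pt) := by
  rw [injective_iff_map_eq_zero]
  intro x hx
  obtain ⟨j, y, hy⟩ := exists_rep (isColimitOfPreserves F hc) x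
  have h0 : (F'.mapCocone c).ι.app j (φ.app (K.obj j) y) = 0 := by
    rw [← hx, ← hy]
    exact (ConcreteCategory.congr_hom (φ.naturality (c.ι.app j)) y).symm
  obtain ⟨k, f, hk⟩ := exists_map_eq_zero (isColimitOfPreserves F' hc) _ h0
  have h1 : φ.app (K.obj k) (F.map (K.map f) y) = 0 :=
    (ConcreteCategory.congr_hom (φ.naturality (K.map f)) y).trans hk
  have h2 : F.map (K.map f) y = 0 := h k (h1.trans (map_zero _).symm)
  rw [← hy, Functor.mapCocone_ι_app, ← c.w f, F.map_comp]
  show F.map (c.ι.app k) (F.map (K.map f) y) = 0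
  rw [h2, map_zero]

theorem surjective_app_of_colimit {F F' : C ⥤ AddCommGrpCat.{w}} (φ : F ⟶ F')
    [PreservesFilteredColimitsOfSize.{v, v} F']
    {J : Type v} [SmallCategory J] [IsFiltered J] {K : J ⥤ C} {c : Cocone K} (hc : IsColimit c)
    (h : ∀ j, Function.Surjective (φ.app (K.obj j))) : Function.Surjective (φ.app c.pt) := by
  intro x
  obtain ⟨j, y, hy⟩ := exists_rep (isColimitOfPreserves F' hc) x
  obtain ⟨z, rfl⟩ := h j y
  exact ⟨F.map (c.ι.app j) z, (ConcreteCategory.congr_hom (φ.naturality (c.ι.app j)) z).trans hy⟩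

variable [Abelian C]

open DeltaF

variable {T T' : CohDeltaFunctor C AddCommGrpCat.{w} ℕ}

theorem nat_apply (φ : T ⟶ T') (n : ℕ) {A B : C} (f : A ⟶ B) (x : (T.F n).obj A) :
    (φ.app n).app B ((T.F n).map f x) = (T'.F n).map f ((φ.app n).app A x) :=
  ConcreteCategory.congr_hom ((φ.app n).naturality f) x

theorem delta_apply (φ : T ⟶ T') (S : ShortComplex C) (hS : S.ShortExact) (n : ℕ) (x : (T.F n).obj S.X₃) :
    (φ.app (n + 1)).app S.X₁ (T.δ S hS n (n + 1) rfl x) = T'.δ S hS n (n + 1) rfl ((φ.app n).app S.X₃ x) :=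
  ConcreteCategory.congr_hom (φ.comm S hS n (n + 1) rfl) x

theorem exists_δ_eq (T : CohDeltaFunctor C AddCommGrpCat.{w} ℕ) (S : ShortComplex C) (hS : S.ShortExact)
    (n : ℕ) (x : (T.F (n + 1)).obj S.X₁) (h : (T.F (n + 1)).map S.f x = 0) :
    ∃ y, T.δ S hS n (n + 1) rfl y = x :=
  (ShortComplex.ab_exact_iff _).1 (T.exact₁ S hS n (n + 1) rfl) x h

theorem exists_map_g_eq (T : CohDeltaFunctor C AddCommGrpCat.{w} ℕ) (S : ShortComplex C) (hS : S.ShortExact)
    (n : ℕ) (x : (T.F n).obj S.X₃) (h : T.δ S hS n (n + 1) rfl x = 0) :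
    ∃ y, (T.F n).map S.g y = x :=
  (ShortComplex.ab_exact_iff _).1 (T.exact₃ S hS n (n + 1) rfl) x h

theorem exists_map_f_eq (T : CohDeltaFunctor C AddCommGrpCat.{w} ℕ) (S : ShortComplex C) (hS : S.ShortExact)
    (n : ℕ) (x : (T.F n).obj S.X₂) (h : (T.F n).map S.g x = 0) :
    ∃ y, (T.F n).map S.f y = x :=
  (ShortComplex.ab_exact_iff _).1 (T.exact₂ S hS n) x h

theorem δ_map_g (T : CohDeltaFunctor C AddCommGrpCat.{w} ℕ) (S : ShortComplex C) (hS : S.ShortExact)
    (n : ℕ) (x : (T.F n).obj S.X₂) : T.δ S hS n (n + 1) rfl ((T.F n).map S.g x) = 0 :=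
  ConcreteCategory.congr_hom (T.comp_δ S hS n (n + 1) rfl) x

/-- Injectivity at `X₁` when the middle term is fine. -/
theorem injective_X₁ (φ : T ⟶ T') (hT0 : T.ZeroMono) (S : ShortComplex C) (hS : S.ShortExact) (q : ℕ)
    (hM : ∀ n, Function.Bijective ((φ.app n).app S.X₂))
    (hlt : ∀ n < q, Function.Bijective ((φ.app n).app S.X₃)) :
    Function.Injective ((φ.app q).app S.X₁) := by
  rw [injective_iff_map_eq_zero]
  intro x hx
  have h1 : (T.F q).map S.f x = 0 := (hM q).1 (by rw [nat_apply, hx, map_zero, map_zero])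
  cases q with
  | zero =>
    haveI := hT0 S hS
    exact (AddCommGrpCat.mono_iff_injective _).1 inferInstance (h1.trans (map_zero _).symm)
  | succ n =>
    obtain ⟨c, rfl⟩ := exists_δ_eq T S hS n x h1
    rw [delta_apply] at hx
    obtain ⟨m', hm'⟩ := exists_map_g_eq T' S hS n _ hx
    obtain ⟨m, rfl⟩ := (hM n).2 m'
    have hc : (T.F n).map S.g m = c := (hlt n (by omega)).1 (by rw [nat_apply, hm'])
    rw [← hc, δ_map_g]

/-- Surjectivity at `X₁` when the middle term is fine. -/
theorem surjective_X₁ (φ : T ⟶ T') (hT'0 : T'.ZeroMono) (S : ShortComplex C) (hS : S.ShortExact) (q : ℕ)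
    (hM : ∀ n, Function.Bijective ((φ.app n).app S.X₂))
    (hlt : ∀ n < q, Function.Bijective ((φ.app n).app S.X₃))
    (hq : Function.Injective ((φ.app q).app S.X₃)) :
    Function.Surjective ((φ.app q).app S.X₁) := by
  intro y
  obtain ⟨m, hm⟩ := (hM q).2 ((T'.F q).map S.f y)
  have hg : (T.F q).map S.g m = 0 := hq (by
    rw [nat_apply, hm, map_zero, ← ConcreteCategory.comp_apply, ← Functor.map_comp, S.zero]
    simp)
  obtain ⟨a, rfl⟩ := exists_map_f_eq T S hS q m hg
  rw [nat_apply] at hm
  have hd : (T'.F q).map S.f (y - (φ.app q).app S.X₁ a) = 0 := by rw [map_sub, hm, sub_self]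
  cases q with
  | zero =>
    haveI := hT'0 S hS
    exact ⟨a, (sub_eq_zero.1 ((AddCommGrpCat.mono_iff_injective _).1 inferInstance
      (hd.trans (map_zero _).symm))).symm⟩
  | succ n =>
    obtain ⟨c', hc'⟩ := exists_δ_eq T' S hS n _ hd
    obtain ⟨c, rfl⟩ := (hlt n (by omega)).2 c'
    rw [← delta_apply] at hc'
    refine ⟨T.δ S hS n (n + 1) rfl c + a, ?_⟩
    rw [map_add, hc', sub_add_cancel]

theorem bijective_app_of_generators
    [∀ n, PreservesFilteredColimitsOfSize.{v, v} (T.F n)] [∀ n, PreservesFilteredColimitsOfSize.{v, v} (T'.F n)]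
    (φ : T ⟶ T') (hT0 : T.ZeroMono) (hT'0 : T'.ZeroMono) (D E : ObjectProperty C)
    (hD : ∀ A : C, ∃ (J : Type v) (_ : SmallCategory J) (_ : IsFiltered J) (K : J ⥤ C) (c : Cocone K)
      (_ : IsColimit c), (∀ j, D (K.obj j)) ∧ Nonempty (c.pt ≅ A))
    (hE : ∀ A : C, D A → ∃ (M : C) (i : A ⟶ M), Mono i ∧ E M)
    (h : ∀ (q : ℕ) (M : C), E M → IsIso ((φ.app q).app M)) (q : ℕ) :
    ∀ A : C, Function.Bijective ((φ.app q).app A) := by
  induction q using Nat.strong_induction_on with
  | _ q ih =>
    have hiso : ∀ {A B : C} (e : A ≅ B) (P : ∀ {X Y : AddCommGrpCat.{w}}, (X ⟶ Y) → Prop)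
        (_ : ∀ {X Y X' Y' : AddCommGrpCat.{w}} (a : X' ≅ X) (b : Y ≅ Y') (g : X ⟶ Y), P g → P (a.hom ≫ g ≫ b.hom)),
        P ((φ.app q).app A) → P ((φ.app q).app B) := by
      intro A B e P hP hA
      have := hP ((T.F q).mapIso e.symm) ((T'.F q).mapIso e) _ hA
      rwa [Functor.mapIso_hom, Functor.mapIso_hom, ← (φ.app q).naturality, ← Category.assoc, ← Functor.map_comp,
        Iso.symm_hom, e.inv_hom_id, CategoryTheory.Functor.map_id, Category.id_comp] at this
    have hinjD : ∀ A, D A → Function.Injective ((φ.app q).app A) := by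
      intro A hA
      obtain ⟨M, i, hi, hEM⟩ := hE A hA
      let S : ShortComplex C := ShortComplex.mk i (cokernel.π i) (cokernel.condition i)
      have hS : S.ShortExact :=
        { exact := ShortComplex.exact_of_g_is_cokernel _ (cokernelIsCokernel i) }
      exact injective_X₁ φ hT0 S hS q (fun n => (ConcreteCategory.isIso_iff_bijective _).1 (h n M hEM))
        (fun n hn => ih n hn _)
    have hinj : ∀ A, Function.Injective ((φ.app q).app A) := by
      intro A
      obtain ⟨J, _, _, K, c, hc, hK, ⟨e⟩⟩ := hD A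
      refine hiso e (fun g => Function.Injective g) (fun a b g hg => ?_)
        (injective_app_of_colimit _ hc fun j => hinjD _ (hK j))
      rw [CategoryTheory.hom_comp, CategoryTheory.hom_comp]
      exact ((ConcreteCategory.bijective_of_isIso b.hom).1.comp hg).comp
        (ConcreteCategory.bijective_of_isIso a.hom).1
    have hsurjD : ∀ A, D A → Function.Surjective ((φ.app q).app A) := by
      intro A hA
      obtain ⟨M, i, hi, hEM⟩ := hE A hA
      let S : ShortComplex C := ShortComplex.mk i (cokernel.π i) (cokernel.condition i)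
      have hS : S.ShortExact :=
        { exact := ShortComplex.exact_of_g_is_cokernel _ (cokernelIsCokernel i) }
      exact surjective_X₁ φ hT'0 S hS q (fun n => (ConcreteCategory.isIso_iff_bijective _).1 (h n M hEM))
        (fun n hn => ih n hn _) (hinj _)
    intro A
    refine ⟨hinj A, ?_⟩
    obtain ⟨J, _, _, K, c, hc, hK, ⟨e⟩⟩ := hD A
    refine hiso e (fun g => Function.Surjective g) (fun a b g hg => ?_)
      (surjective_app_of_colimit _ hc fun j => hsurjD _ (hK j))
    rw [CategoryTheory.hom_comp, CategoryTheory.hom_comp]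
    exact ((ConcreteCategory.bijective_of_isIso b.hom).2.comp hg).comp
      (ConcreteCategory.bijective_of_isIso a.hom).2

end Groth.DescentBase.DeltaColim
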