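import Groth.Prelude.Def_W4c1gvcharpAbut
import Mathlib

/-!
The spectral sequence of a family of complexes with horizontal differential,
all of whose homology is concentrated in degree zero.
-/

set_option autoImplicit false

universe v u

open CategoryTheory CategoryTheory.Limits

namespace Groth.DescentBase.SplitSS

variable {C : Type u} [Category.{v} C] [Abelian C] (A : ℤ → CochainComplex C ℤ)

/-- The complexes `A q` placed on the rows. -/
noncomputable def rows : HomologicalComplex C (ComplexShape.up' ((1, 1 - 1) : ℤ × ℤ)) where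
  X pq := (A pq.2).X pq.1
  d pq pq' := if h : pq.2 = pq'.2 then (A pq.2).d pq.1 pq'.1 ≫ eqToHom (by rw [h]) else 0
  shape pq pq' hpq := by
    obtain ⟨p, q⟩ := pq
    obtain ⟨p', q'⟩ := pq'
    dsimp only
    split_ifs with h
    · subst h
      rw [(A q).shape p p' ?_, zero_comp]
      intro hp
      apply hpq
      have hp' : p + 1 = p' := hp
      show ((p, q) : ℤ × ℤ) + (1, 1 - 1) = (p', q)
      simp [hp']
    · rfl
  d_comp_d' := by
    rintro ⟨p, q⟩ ⟨p', q'⟩ ⟨p'', q''⟩ h h'
    dsimp only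
    split_ifs with h1 h2
    · subst h1 h2
      simp
    all_goals simp

/-- The objects from the second page on. -/
noncomputable def limX (pq : ℤ × ℤ) : C := (A pq.2).homology pq.1

/-- The first page computes the homology of the rows. -/
noncomputable def rowsHomology (pq : ℤ × ℤ) : (rows A).homology pq ≅ limX A pq := by
  obtain ⟨p, q⟩ := pq
  let e : (rows A).sc' (p - 1, q) (p, q) (p + 1, q) ≅ (A q).sc' (p - 1) p (p + 1) :=
    ShortComplex.isoMk (Iso.refl _) (Iso.refl _) (Iso.refl _) (by simp [rows]; erw [Category.id_comp, Category.comp_id])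
      (by simp [rows]; erw [Category.id_comp, Category.comp_id])
  exact ShortComplex.homologyMapIso ((rows A).isoSc' (p - 1, q) (p, q) (p + 1, q)
    ((ComplexShape.up' ((1, 1 - 1) : ℤ × ℤ)).prev_eq' (by ext <;> simp))
    ((ComplexShape.up' ((1, 1 - 1) : ℤ × ℤ)).next_eq' (by ext <;> simp)) ≪≫ e ≪≫
    ((A q).isoSc' (p - 1) p (p + 1) (by simp) (by simp)).symm)

/-- The pages. -/
noncomputable def page (r : ℤ) : HomologicalComplex C (ComplexShape.up' ((r, 1 - r) : ℤ × ℤ)) :=
  if h : r = 1 then h ▸ rows A else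
    { X := limX A
      d := fun _ _ => 0 }

lemma page_one : page A 1 = rows A := dif_pos rfl

lemma page_of_ne {r : ℤ} (h : r ≠ 1) (pq : ℤ × ℤ) : (page A r).X pq = limX A pq := by
  rw [page, dif_neg h]

lemma page_d_of_ne {r : ℤ} (h : r ≠ 1) (pq pq' : ℤ × ℤ) : (page A r).d pq pq' = 0 := by
  unfold page
  rw! (castMode := .all) [dif_neg h]
  rfl

/-- The homology of each page is the next page. -/
noncomputable def pageHomology (r : ℤ) (pq : ℤ × ℤ) : (page A r).homology pq ≅ limX A pq :=
  if h : r = 1 then (by subst h; exact eqToIso (by rw [page_one]) ≪≫ rowsHomology A pq)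
  else (ShortComplex.LeftHomologyData.ofZeros ((page A r).sc pq)
      (page_d_of_ne A h _ _) (page_d_of_ne A h _ _)).homologyIso ≪≫ eqToIso (page_of_ne A h pq)

/-- The spectral sequence. -/
noncomputable def specSeq : CohomologicalSpectralSequence C 1 where
  page r _ := page A r
  iso r r' pq hrr' hr := pageHomology A r pq ≪≫ eqToIso (page_of_ne A (by lia) pq).symm

/-- The first page is given by the rows. -/
noncomputable def pageOneIso (pq : ℤ × ℤ) :
    ((specSeq A).page 1 le_rfl).X pq ≅ (A pq.2).X pq.1 :=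
  eqToIso (show (page A 1).X pq = _ by rw [page_one]; rfl)

lemma stationary (pq : ℤ × ℤ) : SpSeq.StationaryAt (specSeq A) pq 2 :=
  ⟨by norm_num, fun r' _ h => ⟨page_d_of_ne A (by lia) _ _, page_d_of_ne A (by lia) _ _⟩⟩

variable (H : ℤ → C) (hvan : ∀ q p : ℤ, p ≠ 0 → IsZero ((A q).homology p))
  (hH : ∀ q : ℤ, Nonempty ((A q).homology 0 ≅ H q))

/-- The two-step filtration. -/
noncomputable def fil (n : ℤ) (p : ℤ) : Subobject (H n) := if p ≤ 0 then ⊤ else ⊥

lemma fil_antitone (n : ℤ) : Antitone (fil H n) := by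
  intro p p' h
  unfold fil
  split_ifs <;> first | exact le_rfl | exact bot_le | (exfalso; lia)

omit [Abelian C] in
lemma isIso_ofLE_of_eq {X : C} {P Q : Subobject X} (h : P = Q) :
    IsIso (P.ofLE Q h.le) := by
  subst h
  rw [Subobject.ofLE_refl]
  infer_instance

lemma nonempty_grPiece_zero (n : ℤ) :
    Nonempty (SpSeq.grPiece (fil H n) (fil_antitone H n) 0 ≅ H n) := by
  have h0 : fil H n 0 = ⊤ := if_pos le_rfl
  have h1 : fil H n (0 + 1) = ⊥ := if_neg (by norm_num)
  have hz : IsZero (fil H n (0 + 1) : C) := by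
    rw [h1]; exact (isZero_zero C).of_iso Subobject.botCoeIsoZero
  exact ⟨cokernelIsoOfEq (hz.eq_of_src _ 0) ≪≫ cokernelZeroIsoTarget ≪≫
    eqToIso (by rw [h0]) ≪≫ asIso (⊤ : Subobject (H n)).arrow⟩

lemma isZero_grPiece (n p : ℤ) (hp : p ≠ 0) :
    IsZero (SpSeq.grPiece (fil H n) (fil_antitone H n) p) := by
  have h : fil H n (p + 1) = fil H n p := by
    unfold fil
    split_ifs <;> first | rfl | (exfalso; lia)
  have := isIso_ofLE_of_eq h
  exact isZero_cokernel_of_epi _

include hvan hH in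
/-- The abutment of the spectral sequence. -/
theorem exists_abutment :
    ∃ a : SpSeq.Abutment (specSeq A) H, ∀ n, a.IsFinite n := by
  have hiso : ∀ pq : ℤ × ℤ, Nonempty (((specSeq A).page 2 (by norm_num)).X pq ≅
      SpSeq.grPiece (fil H (pq.1 + pq.2)) (fil_antitone H (pq.1 + pq.2)) pq.1) := by
    rintro ⟨p, q⟩
    refine ⟨eqToIso (page_of_ne A (by norm_num) (p, q)) ≪≫ Nonempty.some ?_⟩
    by_cases hp : p = 0
    · subst hp
      obtain ⟨e⟩ := nonempty_grPiece_zero H (0 + q)
      obtain ⟨e'⟩ := hH q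
      exact ⟨(e' : limX A (0, q) ≅ H q) ≪≫ eqToIso (by rw [zero_add]) ≪≫ e.symm⟩
    · exact ⟨(hvan q p hp).iso (isZero_grPiece H _ p hp)⟩
  refine ⟨⟨fil H, fil_antitone H, fun _ => 2, stationary A, fun pq => (hiso pq).some⟩,
    fun n => ⟨⟨0, show fil H n 0 = ⊤ from if_pos le_rfl⟩,
      ⟨1, show fil H n 1 = ⊥ from if_neg (by norm_num)⟩⟩⟩

/-- Boundedness. -/
lemma isBounded (h : ∀ q p : ℤ, (q < 0 ∨ p < 0) → IsZero ((A q).X p)) :
    SpSeq.IsBounded (specSeq A) := by
  intro n
  refine (Set.finite_Icc 0 n).subset fun p hp => ?_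
  by_contra hc
  refine hp ((h (n - p) p ?_).of_iso (pageOneIso A (p, n - p)))
  simp only [Set.mem_Icc, not_and_or, not_le] at hc
  lia

end Groth.DescentBase.SplitSS
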