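import Groth.Agent.DescentBase.HpullViaComp
import Groth.Agent.DescentBase.SplitSS

/-!
The descent spectral sequence of a morphism with a section.
-/

set_option autoImplicit false

universe u

open CategoryTheory CategoryTheory.Limits AlgebraicGeometry Opposite AlgebraicTopology
  Simplicial

namespace Groth.DescentBase.SectionSS

variable {X Y : Scheme.{u}} (F : EtCoh.Ab Y)

/-- `A ↦ H^q(A, F|A)` on schemes over `Y`. -/
noncomputable def coh (q : ℕ) : Over Y ⥤ AddCommGrpCat.{u + 1}ᵒᵖ where
  obj A := op (AddCommGrpCat.of (EtCoh.H A.left ((EtCoh.pull A.hom).obj F) q))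
  map {A B} g := (AddCommGrpCat.ofHom (EtCore.HpullVia g.left B.hom A.hom (Over.w g) F q)).op
  map_id A := by
    apply Quiver.Hom.unop_inj
    refine AddCommGrpCat.hom_ext ?_
    exact (HpullVia_id A.hom (Category.id_comp _) F q)
  map_comp {A B D} g h := by
    apply Quiver.Hom.unop_inj
    refine AddCommGrpCat.hom_ext ?_
    ext y
    exact (HpullVia_comp g.left h.left D.hom B.hom A.hom (Over.w h) (Over.w g)
      (Over.w (g ≫ h)) F q y).symm

/-- An augmented simplicial scheme over `Y`, as a simplicial object over `Y`. -/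
noncomputable def overAug (S : SimplicialObject.Augmented Scheme.{u}) :
    SimplicialObject.Augmented (Over S.right) where
  left :=
    { obj := fun n => Over.mk (S.hom.app n)
      map := fun {m n} a => Over.homMk (S.left.map a)
        (by simp)
      map_id := fun n => Over.OverMorphism.ext (S.left.map_id n)
      map_comp := fun a b => Over.OverMorphism.ext (S.left.map_comp a b) }
  right := Over.mk (𝟙 S.right)
  hom :=
    { app := fun n => Over.homMk (S.hom.app n) (Category.comp_id _)
      naturality := fun m n a => Over.OverMorphism.ext (S.hom.naturality a) }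

lemma hom_app_succ (S : SimplicialObject.Augmented Scheme.{u}) (n : ℕ) :
    S.left.δ 0 ≫ S.hom.app (op ⦋n⦌) = S.hom.app (op ⦋n + 1⦌) := by
  exact (S.hom.naturality (SimplexCategory.δ (0 : Fin (n + 2))).op).trans (Category.comp_id _)

/-- Extra degeneracies lift to schemes over the augmentation. -/
noncomputable def overExtraDegeneracy {S : SimplicialObject.Augmented Scheme.{u}}
    (ed : SimplicialObject.Augmented.ExtraDegeneracy S) :
    SimplicialObject.Augmented.ExtraDegeneracy (overAug S) where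
  s' := Over.homMk ed.s' ed.s'_comp_ε
  s n := Over.homMk (ed.s n) (by
    show ed.s n ≫ S.hom.app (op ⦋n + 1⦌) = S.hom.app (op ⦋n⦌)
    rw [← hom_app_succ S n, ed.s_comp_δ₀_assoc])
  s'_comp_ε := Over.OverMorphism.ext ed.s'_comp_ε
  s₀_comp_δ₁ := Over.OverMorphism.ext ed.s₀_comp_δ₁
  s_comp_δ₀ n := Over.OverMorphism.ext (ed.s_comp_δ₀ n)
  s_comp_δ n i := Over.OverMorphism.ext (ed.s_comp_δ n i)
  s_comp_σ n i := Over.OverMorphism.ext (ed.s_comp_σ n i)

variable (f : X ⟶ Y)

/-- The Čech nerve over `Y`. -/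
noncomputable def nerve : SimplicialObject.Augmented (Over Y) :=
  overAug (Arrow.mk f).augmentedCechNerve

/-- The augmented simplicial group of degree `q` cohomology. -/
noncomputable def cohNerve (q : ℕ) : SimplicialObject.Augmented AddCommGrpCat.{u + 1}ᵒᵖ :=
  ((SimplicialObject.Augmented.whiskering _ _).obj (coh F q)).obj (nerve f)

/-- The Čech complex of degree `q` cohomology. -/
noncomputable def cechCx (q : ℕ) : CochainComplex AddCommGrpCat.{u + 1} ℕ :=
  (AlternatingFaceMapComplex.obj (SimplicialObject.Augmented.drop.obj (cohNerve F f q))).unop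

/-- The Čech complex, indexed by integers. -/
noncomputable def cechCxZ (q : ℤ) : CochainComplex AddCommGrpCat.{u + 1} ℤ :=
  match q with
  | Int.ofNat m => (cechCx F f m).extend ComplexShape.embeddingUpNat
  | Int.negSucc _ => HomologicalComplex.zero

lemma isZero_cechCxZ (q p : ℤ) (h : q < 0 ∨ p < 0) : IsZero ((cechCxZ F f q).X p) := by
  rcases q with q | q
  · have hp : p < 0 := h.resolve_left (by simp)
    exact HomologicalComplex.isZero_extend_X _ _ _ fun i => by simp; lia
  · exact isZero_zero _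

lemma nonempty_cechCxZ_X (p q : ℤ) :
    Nonempty ((cechCxZ F f q).X p ≅ (if 0 ≤ p ∧ 0 ≤ q then
      AddCommGrpCat.of (EtCoh.H (widePullback Y (fun _ : Fin (p.toNat + 1) => X) (fun _ => f))
        ((EtCoh.pull (WidePullback.base (fun _ : Fin (p.toNat + 1) => f) :
          widePullback Y (fun _ : Fin (p.toNat + 1) => X) (fun _ => f) ⟶ Y)).obj F) q.toNat)
      else AddCommGrpCat.of PUnit.{u + 2})) := by
  by_cases h : 0 ≤ p ∧ 0 ≤ q
  · rw [if_pos h]
    obtain ⟨p', rfl⟩ := Int.eq_ofNat_of_zero_le h.1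
    obtain ⟨q', rfl⟩ := Int.eq_ofNat_of_zero_le h.2
    exact ⟨(cechCx F f q').extendXIso ComplexShape.embeddingUpNat (i := p') (i' := (p' : ℤ)) rfl⟩
  · rw [if_neg h]
    exact ⟨(isZero_cechCxZ F f q p (by lia)).iso (AddCommGrpCat.isZero_of_subsingleton _)⟩

variable (s : Y ⟶ X) (hs : s ≫ f = 𝟙 Y)

include hs in
/-- The Čech complex is a split resolution. -/
lemma nonempty_homology_cechCx (q n : ℕ) :
    Nonempty ((cechCx F f q).homology n ≅
      (((ChainComplex.single₀ AddCommGrpCat.{u + 1}ᵒᵖ).obj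
        ((coh F q).obj (Over.mk (𝟙 Y)))).homology n).unop) := by
  let S : SplitEpi (Arrow.mk f).hom := ⟨s, hs⟩
  let ed := (overExtraDegeneracy (Arrow.AugmentedCechNerve.extraDegeneracy (Arrow.mk f) S)).map
    (coh F q)
  let e := (SimplicialObject.Augmented.ExtraDegeneracy.homotopyEquiv
    (X := cohNerve F f q) ed).toHomologyIso n
  exact ⟨(HomologicalComplex.homologyUnop _ n) ≪≫ e.unop.symm⟩

/-- Absolute cohomology as cohomology of the identity. -/
lemma nonempty_coh_id (q : ℕ) :
    Nonempty (((coh F q).obj (Over.mk (𝟙 Y))).unop ≅ AddCommGrpCat.of (EtCoh.H Y F q)) := by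
  let e : EtCoh.H Y F q ≃+ EtCoh.H Y ((EtCoh.pull (𝟙 Y)).obj F) q :=
    AddEquiv.ofBijective (EtCore.Hpull (𝟙 Y) F q)
      (EtaleBase.InjCoh.Hpull_bijective_univHomeo (𝟙 Y) F q)
  exact ⟨(AddEquiv.toAddCommGrpIso e).symm⟩

include hs in
theorem exists_descent_spectralSequence :
    ∃ (E : CohomologicalSpectralSequence AddCommGrpCat.{u + 1} 1)
      (a : SpSeq.Abutment E (fun n : ℤ =>
        if 0 ≤ n then AddCommGrpCat.of (EtCoh.H Y F n.toNat) else AddCommGrpCat.of PUnit.{u + 2})),
      (∀ n, a.IsFinite n) ∧ SpSeq.IsBounded E ∧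
      ∀ p q : ℤ, Nonempty ((E.page 1 le_rfl).X (p, q) ≅
        (if 0 ≤ p ∧ 0 ≤ q then
          AddCommGrpCat.of (EtCoh.H (widePullback Y (fun _ : Fin (p.toNat + 1) => X) (fun _ => f))
            ((EtCoh.pull (WidePullback.base (fun _ : Fin (p.toNat + 1) => f) :
              widePullback Y (fun _ : Fin (p.toNat + 1) => X) (fun _ => f) ⟶ Y)).obj F) q.toNat)
         else AddCommGrpCat.of PUnit.{u + 2})) := by
  have hvan : ∀ q p : ℤ, p ≠ 0 → IsZero ((cechCxZ F f q).homology p) := by
    intro q p hp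
    rcases q with q | q
    · rcases p with p | p
      · obtain ⟨e⟩ := nonempty_homology_cechCx F f s hs q p
        refine IsZero.of_iso ?_ (((cechCx F f q).extendHomologyIso ComplexShape.embeddingUpNat
          (j := p) (j' := Int.ofNat p) rfl) ≪≫ e)
        refine IsZero.unop ?_
        exact HomologicalComplex.isZero_single_obj_homology _ _ _ _ (by rintro rfl; exact hp rfl)
      · rw [← HomologicalComplex.exactAt_iff_isZero_homology]
        exact HomologicalComplex.extend_exactAt _ _ _ fun i => by simp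
    · rw [← HomologicalComplex.exactAt_iff_isZero_homology]
      exact ShortComplex.exact_of_isZero_X₂ _ (isZero_zero _)
  have hH : ∀ q : ℤ, Nonempty ((cechCxZ F f q).homology 0 ≅
      (if 0 ≤ q then AddCommGrpCat.of (EtCoh.H Y F q.toNat)
        else AddCommGrpCat.of PUnit.{u + 2})) := by
    intro q
    rcases q with q | q
    · rw [if_pos (show (0 : ℤ) ≤ Int.ofNat q from Int.natCast_nonneg q)]
      obtain ⟨e⟩ := nonempty_homology_cechCx F f s hs q 0
      obtain ⟨e'⟩ := nonempty_coh_id F q
      exact ⟨((cechCx F f q).extendHomologyIso ComplexShape.embeddingUpNat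
        (j := 0) (j' := (0 : ℤ)) rfl) ≪≫ e ≪≫
          (HomologicalComplex.singleObjHomologySelfIso _ 0 _).unop.symm ≪≫ e'⟩
    · rw [if_neg (by simp)]
      refine ⟨IsZero.iso ?_ (AddCommGrpCat.isZero_of_subsingleton _)⟩
      rw [← HomologicalComplex.exactAt_iff_isZero_homology]
      exact ShortComplex.exact_of_isZero_X₂ _ (isZero_zero _)
  obtain ⟨a, ha⟩ := SplitSS.exists_abutment (cechCxZ F f) _ hvan hH
  refine ⟨SplitSS.specSeq (cechCxZ F f), a, ha,
    SplitSS.isBounded _ (isZero_cechCxZ F f), fun p q => ?_⟩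
  obtain ⟨e⟩ := nonempty_cechCxZ_X F f p q
  exact ⟨SplitSS.pageOneIso _ (p, q) ≪≫ e⟩

end Groth.DescentBase.SectionSS
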