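import Mathlib

/-!
# Effective epimorphic sieves of schemes detected on affines
-/

set_option autoImplicit false

open CategoryTheory CategoryTheory.Limits AlgebraicGeometry Opposite

universe u

namespace Groth.DescentBase.EffEpiAffine

theorem effectiveEpimorphic_of_affine {Y : Scheme.{u}} (S : Sieve Y)
    (h : ∀ (Z : Scheme.{u}) (a : Z ⟶ Y), IsAffine Z → (S.pullback a).EffectiveEpimorphic) :
    S.EffectiveEpimorphic := by
  rw [Sieve.EffectiveEpimorphic.iff_forall_isSheafFor_yoneda]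
  intro T x hx
  have hA : ∀ (Z : Scheme.{u}) (a : Z ⟶ Y), IsAffine Z →
      ∃! t : Z ⟶ T, ∀ ⦃W⦄ (b : W ⟶ Z) (hb : S (b ≫ a)), b ≫ t = x (b ≫ a) hb := by
    intro Z a hZ
    have hs := (Sieve.EffectiveEpimorphic.iff_forall_isSheafFor_yoneda _).1 (h Z a hZ) T
    let xc : Presieve.FamilyOfElements (yoneda.obj T) (S.pullback a).arrows :=
      fun W b hb => x (b ≫ a) hb
    have hc : xc.Compatible := by
      intro W₁ W₂ W g₁ g₂ b₁ b₂ h₁ h₂ e
      exact hx g₁ g₂ h₁ h₂ (by rw [← Category.assoc, ← Category.assoc, e])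
    obtain ⟨t, ht, hu⟩ := hs _ hc
    exact ⟨t, fun W b hb => ht b hb, fun t' ht' => hu t' fun W b hb => ht' b hb⟩
  choose t ht hu using hA
  have hn : ∀ {Z Z' : Scheme.{u}} [IsAffine Z] [IsAffine Z'] (a : Z ⟶ Y) (b : Z' ⟶ Z),
      b ≫ t Z a inferInstance = t Z' (b ≫ a) inferInstance := by
    intro Z Z' _ _ a b
    refine hu Z' (b ≫ a) inferInstance _ fun W c hc => ?_
    have h2 : S ((c ≫ b) ≫ a) := by simpa using hc
    rw [← Category.assoc, ht Z a inferInstance (c ≫ b) h2]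
    congr 1
  let 𝒰 : Y.OpenCover := Y.affineCover
  have hg : ∀ i j, pullback.fst (𝒰.f i) (𝒰.f j) ≫ t _ (𝒰.f i) inferInstance =
      pullback.snd _ _ ≫ t _ (𝒰.f j) inferInstance := by
    intro i j
    refine Scheme.Cover.hom_ext (pullback (𝒰.f i) (𝒰.f j)).affineCover _ _ fun k => ?_
    rw [← Category.assoc, ← Category.assoc, hn, hn]
    congr 1
    simp [pullback.condition]
  refine ⟨Scheme.Cover.glueMorphisms 𝒰 (fun i => t _ (𝒰.f i) inferInstance) hg,
    fun W f hf => ?_, fun s hs => ?_⟩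
  · refine Scheme.Cover.hom_ext (𝒰.pullback₁ f) _ _ fun (i : 𝒰.I₀) => ?_
    change pullback.fst f (𝒰.f i) ≫ f ≫ _ = pullback.fst f (𝒰.f i) ≫ x f hf
    rw [pullback.condition_assoc, Scheme.Cover.ι_glueMorphisms]
    have h1 : S (pullback.snd f (𝒰.f i) ≫ 𝒰.f i) := by
      rw [← pullback.condition]; exact S.downward_closed hf _
    rw [ht _ _ inferInstance _ h1]
    exact (Category.id_comp _).symm.trans
      (hx (𝟙 _) (pullback.fst f (𝒰.f i)) h1 hf (by simp [pullback.condition]))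
  · refine Scheme.Cover.hom_ext 𝒰 _ _ fun i => ?_
    rw [Scheme.Cover.ι_glueMorphisms]
    refine hu _ _ inferInstance _ fun W b hb => ?_
    rw [← Category.assoc]
    exact hs (b ≫ 𝒰.f i) hb

end Groth.DescentBase.EffEpiAffine
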