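import Mathlib

/-! Descending morphisms between schemes étale over the base. -/

set_option autoImplicit false
set_option backward.isDefEq.respectTransparency false

open CategoryTheory CategoryTheory.Limits AlgebraicGeometry

namespace Groth.DescentBase

universe u

/-- Two morphisms into a scheme unramified over `U` that agree after a surjection agree. -/
theorem eq_of_comp_surjective {G U T T' : Scheme.{u}} (a : G ⟶ U) [FormallyUnramified a]
    [LocallyOfFiniteType a] (g₁ g₂ : T ⟶ G) (h : g₁ ≫ a = g₂ ≫ a) (e : T' ⟶ T) [Surjective e]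
    (he : e ≫ g₁ = e ≫ g₂) : g₁ = g₂ := by
  let l : T ⟶ pullback a a := pullback.lift g₁ g₂ h
  let E := pullback.snd (pullback.diagonal a) l
  have hfac : pullback.lift (e ≫ g₁) e (pullback.hom_ext (by simp [l]) (by simp [l, he])) ≫ E = e :=
    pullback.lift_snd _ _ _
  have : Surjective E := by
    refine ⟨fun t => ?_⟩
    obtain ⟨t', rfl⟩ := e.surjective t
    refine ⟨(pullback.lift (e ≫ g₁) e (pullback.hom_ext (by simp [l]) (by simp [l, he]))).base t', ?_⟩
    exact congrArg (fun m : T' ⟶ T => m.base t') hfac
  have : IsIso E := by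
    rw [isIso_iff_isOpenImmersion_and_surjective]
    exact ⟨inferInstance, inferInstance⟩
  rw [← cancel_epi E]
  have h1 : E ≫ l = pullback.fst (pullback.diagonal a) l ≫ pullback.diagonal a := pullback.condition.symm
  have hl := congrArg (fun m => m ≫ pullback.fst a a) h1
  have hr := congrArg (fun m => m ≫ pullback.snd a a) h1
  simp only [l, Category.assoc, pullback.lift_fst, pullback.lift_snd, pullback.diagonal_fst,
    pullback.diagonal_snd] at hl hr
  rw [hl, hr]

/-- The range of a morphism from `Spec` of a field. -/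
theorem exists_fieldPoint {X : Scheme.{u}} (x : X) :
    ∃ (T : Scheme.{u}) (t : T ⟶ X) (_ : Nonempty T), Set.range t.base = {x} :=
  ⟨_, X.fromSpecResidueField x, inferInstance, X.range_fromSpecResidueField x⟩

/-- A morphism `k` on `X ×_S U` compatible with the descent data descends to `U`, for `U`, `U'`
étale over `S`, if `X ×_S V → V` is a quotient map for all étale `V`. -/
theorem exists_desc_of_quotientMap {X S : Scheme.{u}} (p : X ⟶ S)
    (hp : ∀ U : Over S, Etale U.hom → Topology.IsQuotientMap (pullback.snd p U.hom).base)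
    {U U' : Scheme.{u}} (u : U ⟶ S) (u' : U' ⟶ S) [Etale u] [Etale u']
    (k : pullback p u ⟶ U') (hk : k ≫ u' = pullback.snd p u ≫ u)
    (hcomp : ∀ (T : Scheme.{u}) (g₁ g₂ : T ⟶ pullback p u),
      g₁ ≫ pullback.snd p u = g₂ ≫ pullback.snd p u → g₁ ≫ k = g₂ ≫ k) :
    ∃ f : U ⟶ U', f ≫ u' = u ∧ pullback.snd p u ≫ f = k := by
  let w : pullback u u' ⟶ S := pullback.fst u u' ≫ u
  have hw : Etale w := inferInstanceAs (Etale (pullback.fst u u' ≫ u))
  let pW := pullback.snd p w
  have hq : Topology.IsQuotientMap pW.base := hp (Over.mk w) hw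
  have hps : Surjective (pullback.snd p u) := ⟨(hp (Over.mk u) ‹_›).surjective⟩
  let θ : pullback p u ⟶ pullback u u' := pullback.lift (pullback.snd p u) k hk.symm
  let Γ : pullback p u ⟶ pullback p w := pullback.lift (pullback.fst p u) θ
    (by simp [θ, w, pullback.condition, hk])
  let pr : pullback p w ⟶ pullback p u :=
    pullback.lift (pullback.fst p w) (pW ≫ pullback.fst u u') (by simp [pW, w, pullback.condition])
  have hΓpr : Γ ≫ pr = 𝟙 _ := pullback.hom_ext (by simp [Γ, pr]) (by simp [Γ, pr, pW, θ])
  have : Etale pr := by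
    have hsq : IsPullback pW pr (pullback.fst u u') (pullback.snd p u) := by
      refine IsPullback.of_bot (h₃₁ := p) (v₂₁ := pullback.fst p u) (v₂₂ := u)
        ?_ (by simp [pr]) (IsPullback.of_hasPullback p u).flip
      simpa [pr, w] using (IsPullback.of_hasPullback p w).flip
    exact MorphismProperty.of_isPullback hsq (inferInstanceAs (Etale (pullback.fst u u')))
  have : Etale (Γ ≫ pr) := by rw [hΓpr]; infer_instance
  have : Etale Γ := Etale.of_comp Γ pr
  have : Mono (Γ ≫ pr) := by rw [hΓpr]; infer_instance
  have : Mono Γ := mono_of_mono Γ pr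
  have : IsOpenImmersion Γ := by
    exact IsOpenImmersion.of_flat_of_mono _
  -- the range of `Γ` is saturated for `pW`
  have hsat : pW.base ⁻¹' Set.range θ.base = Set.range Γ.base := by
    ext z
    constructor
    · rintro ⟨y, hy⟩
      have hΓy : pW.base (Γ.base y) = θ.base y := by
        rw [← Scheme.Hom.comp_apply, pullback.lift_snd]
      obtain ⟨r, hr₁, hr₂⟩ := Scheme.Pullback.exists_preimage_pullback (f := pW) (g := θ) z y hy.symm
      let t := pullback.fst pW θ
      let t' := pullback.snd pW θ
      let y₁ : pullback pW θ ⟶ pullback p u := t ≫ pr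
      have e1 : y₁ ≫ pullback.snd p u = t' ≫ pullback.snd p u := by
        have := congrArg (fun m => m ≫ pullback.fst u u') (pullback.condition (f := pW) (g := θ))
        simpa [y₁, t, t', pr, θ] using this
      have e2 : y₁ ≫ Γ = t := by
        apply pullback.hom_ext
        · simp [y₁, Γ, pr]
        · apply pullback.hom_ext
          · simp [y₁, Γ, pr, θ, pW]
          · have h2 := congrArg (fun m => m ≫ pullback.snd u u') (pullback.condition (f := pW) (g := θ))
            simp only [Category.assoc, θ, pullback.lift_snd] at h2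
            simp only [Γ, θ, Category.assoc, pullback.lift_snd, pW, t] at h2 ⊢
            rw [hcomp _ y₁ t' e1]
            exact h2.symm
      exact ⟨y₁.base r, by rw [← Scheme.Hom.comp_apply, e2]; exact hr₁⟩
    · rintro ⟨y, rfl⟩
      exact ⟨y, by rw [← Scheme.Hom.comp_apply, pullback.lift_snd]⟩
  let G : (pullback u u').Opens := ⟨Set.range θ.base, by
    rw [← hq.isOpen_preimage, hsat]; exact Γ.isOpenEmbedding.isOpen_range⟩
  let a : (G : Scheme.{u}) ⟶ U := G.ι ≫ pullback.fst u u'
  let γ : pullback p u ⟶ G := IsOpenImmersion.lift G.ι θ (by simp [G])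
  have hγ : γ ≫ G.ι = θ := IsOpenImmersion.lift_fac _ _ _
  have hγa : γ ≫ a = pullback.snd p u := by simp [a, reassoc_of% hγ, θ]
  have huniq : ∀ (T : Scheme.{u}) (g : T ⟶ G) (y : T ⟶ pullback p u),
      g ≫ a = y ≫ pullback.snd p u → g = y ≫ γ := by
    intro T g y hgy
    let z : T ⟶ pullback p w := pullback.lift (y ≫ pullback.fst p u) (g ≫ G.ι) (by
      simp only [Category.assoc, w]
      rw [pullback.condition, ← reassoc_of% hgy]; simp [a])
    have hz : Set.range z.base ⊆ Set.range Γ.base := by
      rw [← hsat]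
      rintro _ ⟨t, rfl⟩
      have : pW.base (z.base t) = G.ι.base (g.base t) := by
        rw [← Scheme.Hom.comp_apply, pullback.lift_snd]; rfl
      rw [Set.mem_preimage, this]
      exact (g.base t).2
    let y' := IsOpenImmersion.lift Γ z hz
    have hy' : y' ≫ Γ = z := IsOpenImmersion.lift_fac _ _ _
    have : y' = y := by
      have h1 := congrArg (fun m => m ≫ pr) hy'
      simp only [Category.assoc, hΓpr, Category.comp_id] at h1
      rw [h1]
      apply pullback.hom_ext
      · simp [z, pr]
      · simp [z, pr, pW, ← hgy, a]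
    rw [← this]
    rw [← cancel_mono G.ι, Category.assoc, hγ]
    have := congrArg (fun m => m ≫ pW) hy'
    simpa [Γ, z, pW] using this.symm
  have : Etale a := inferInstanceAs (Etale (G.ι ≫ pullback.fst u u'))
  have : Mono a := ⟨fun {T} g₁ g₂ h => by
    refine eq_of_comp_surjective a g₁ g₂ h (pullback.fst (g₁ ≫ a) (pullback.snd p u)) ?_
    rw [huniq _ (_ ≫ g₁) (pullback.snd _ _) (by simp [pullback.condition]),
      huniq _ (_ ≫ g₂) (pullback.snd _ _) (by simp [← h, pullback.condition])]⟩
  have : Surjective a := ⟨fun x => by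
    obtain ⟨y, rfl⟩ := hps.surj x
    exact ⟨γ.base y, by rw [← Scheme.Hom.comp_apply, hγa]⟩⟩
  have : IsOpenImmersion a := by
    exact IsOpenImmersion.of_flat_of_mono _
  have : IsIso a := by
    rw [isIso_iff_isOpenImmersion_and_surjective]
    exact ⟨inferInstance, inferInstance⟩
  refine ⟨inv a ≫ G.ι ≫ pullback.snd u u', ?_, ?_⟩
  · rw [Category.assoc, Category.assoc, ← pullback.condition, IsIso.inv_comp_eq]
    simp [a]
  · rw [← hγa, Category.assoc, IsIso.hom_inv_id_assoc, reassoc_of% hγ]
    simp [θ]

end Groth.DescentBase
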