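import Groth.Agent.DescentBase.CompatMod
import Groth.Agent.DescentBase.Pieces
import Groth.Agent.QCohMod.Local

/-!
# Extension of compatible families from affine pieces; quasi-coherence of `compatMod`
-/

set_option autoImplicit false
set_option backward.isDefEq.respectTransparency.types false

universe u

open CategoryTheory Limits AlgebraicGeometry Opposite TopologicalSpace

namespace Groth.DescentBase

open Groth.QCohMod (res res_res res_self res_app resFun)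
open Groth.PicAux (pullSec)

section general

variable {X Y Z T : Scheme.{u}} {N : X.Modules}

theorem bc_id_apply (g : T ⟶ X) (x : El N g) : bc (𝟙 T) g g (Category.id_comp g) x = x := by
  have hinj : ∀ x : El N g, bc (𝟙 T) g g (Category.id_comp g) x = 0 → x = 0 := fun x hx =>
    eq_zero_of_bc (fun _ : Unit => 𝟙 T) (fun t => ⟨(), t, rfl⟩) g (fun _ => g)
      (fun _ => Category.id_comp g) x fun _ => hx
  rw [← sub_eq_zero]
  refine hinj _ ?_
  rw [bc_sub, bc_bc (𝟙 T) (𝟙 T) (𝟙 T) (Category.id_comp _) g g _ g _ (Category.id_comp g), sub_self]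

/-- Base change along a morphism into an open factors through the restriction to the open. -/
theorem bc_eq_flat_el (h : Y ⟶ T) (g : T ⟶ X) (g' : Y ⟶ X) (e : h ≫ g = g') {V : T.Opens}
    (hV : ⊤ ≤ h ⁻¹ᵁ V) (x : El N g) :
    bc h g g' e x = flat (N := N) g h g' e (el h hV (res _ (le_top : V ≤ ⊤) x)) := by
  refine congrArg ((pullTo h g g' e N).hom.app ⊤) ?_
  refine ((congrArg (res _ hV) (PicAux.res_pullSec h _ (le_top : V ≤ ⊤) x).symm).trans ?_).symm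
  exact (res_res _ _ _ _).trans (res_self _ _)

/-- A section restricts to zero on an open where its base change vanishes. -/
theorem res_eq_zero_of_bc (g : T ⟶ X) {V : T.Opens} (g' : (V : Scheme.{u}) ⟶ X) (e : V.ι ≫ g = g')
    (x : El N g) (h : bc V.ι g g' e x = 0) : res _ (le_top : V ≤ ⊤) x = 0 := by
  refine eq_zero_of_el (N := (Scheme.Modules.pullback g).obj N) (fun _ : Unit => V.ι)
    (fun _ => (Scheme.Opens.ι_preimage_self V).ge) (fun y hy => ⟨(), ⟨y, hy⟩, rfl⟩) _ fun _ => ?_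
  rw [bc_eq_flat_el V.ι g g' e (Scheme.Opens.ι_preimage_self V).ge] at h
  exact (flat_bijective (N := N) g V.ι g' e).1 (h.trans (map_zero _).symm)

theorem preimage_basicOpen_eq (c : T ⟶ X) {U : X.Opens} (hc : ⊤ ≤ c ⁻¹ᵁ U) (a : Γ(X, U)) :
    c ⁻¹ᵁ X.basicOpen a = T.basicOpen (c.appLE U ⊤ hc a) := by
  rw [Scheme.preimage_basicOpen, Scheme.Hom.appLE]
  simp only [CommRingCat.comp_apply]
  rw [Scheme.basicOpen_res, top_inf_eq]

theorem appTop_appLE_apply (g : T ⟶ Z) (c : Z ⟶ X) (q : T ⟶ X) (e : g ≫ c = q) {U : X.Opens}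
    (hc : ⊤ ≤ c ⁻¹ᵁ U) (hq : ⊤ ≤ q ⁻¹ᵁ U) (r : Γ(X, U)) :
    g.appTop (c.appLE U ⊤ hc r) = q.appLE U ⊤ hq r :=
  ConcreteCategory.congr_hom (appLE_comp_appTop g c q e hc) r

theorem appLE_resFun (q : T ⟶ X) {U V : X.Opens} (hVU : V ≤ U) (hV : ⊤ ≤ q ⁻¹ᵁ V)
    (r : Γ(X, U)) :
    q.appLE V ⊤ hV (resFun X hVU r) = q.appLE U ⊤ (hV.trans (q.preimage_mono hVU)) r :=
  ConcreteCategory.congr_hom (Scheme.Hom.map_appLE q hV (homOfLE hVU).op) r

end general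

variable {ι : Type u} {S : Scheme.{u}} {X : ι → Scheme.{u}} {f : ∀ i, X i ⟶ S}
  {D : Desc.modPF.{u}.DescentData f}

section extend

set_option linter.unusedSectionVars false

variable {K : Type u} {Z : K → Scheme.{u}} [∀ k, IsAffine (Z k)] {p : K → ι}
  (a : ∀ k, Z k ⟶ X (p k)) {U : S.Opens} (hU : IsAffineOpen U)
  (ha : ∀ k, ⊤ ≤ (a k ≫ f (p k)) ⁻¹ᵁ U)

/-- Compatibility of elements given on the pieces, tested on the fibre products of the pieces. -/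
def PieceCompat (hU : IsAffineOpen U) (t : ∀ k, El (dObj D (p k)) (a k)) : Prop :=
  ∀ k l, dEl D (pairFst (a k ≫ f (p k)) (ha k) (a l ≫ f (p l)) (ha l) ≫ a k)
      (pairSnd (a k ≫ f (p k)) (ha k) (a l ≫ f (p l)) (ha l) ≫ a l)
      (by rw [Category.assoc, Category.assoc]; exact pair_condition hU _ _ _ _)
      (bc (pairFst (a k ≫ f (p k)) (ha k) (a l ≫ f (p l)) (ha l)) (a k) _ rfl (t k)) =
    bc (pairSnd (a k ≫ f (p k)) (ha k) (a l ≫ f (p l)) (ha l)) (a l) _ rfl (t l)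

variable {a hU ha}

theorem PieceCompat.all {t : ∀ k, El (dObj D (p k)) (a k)} (ht : PieceCompat a ha hU t) {k l : K}
    {T : Scheme.{u}} (u : T ⟶ Z k) (v : T ⟶ Z l)
    (e : u ≫ (a k ≫ f (p k)) = v ≫ (a l ≫ f (p l)))
    (g₁ : T ⟶ X (p k)) (e₁ : u ≫ a k = g₁) (g₂ : T ⟶ X (p l)) (e₂ : v ≫ a l = g₂)
    (h : g₁ ≫ f (p k) = g₂ ≫ f (p l)) :
    dEl D g₁ g₂ h (bc u (a k) g₁ e₁ (t k)) = bc v (a l) g₂ e₂ (t l) := by
  obtain ⟨w, hw₁, hw₂⟩ := exists_pairLift _ (ha k) _ (ha l) u v e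
  set P₁ := pairFst (a k ≫ f (p k)) (ha k) (a l ≫ f (p l)) (ha l)
  set P₂ := pairSnd (a k ≫ f (p k)) (ha k) (a l ≫ f (p l)) (ha l)
  have k₁ : w ≫ (P₁ ≫ a k) = g₁ := by rw [← Category.assoc, hw₁, e₁]
  have k₂ : w ≫ (P₂ ≫ a l) = g₂ := by rw [← Category.assoc, hw₂, e₂]
  have H := congrArg (bc w (P₂ ≫ a l) g₂ k₂) (ht k l)
  rw [bc_dEl w _ _ _ g₁ k₁ g₂ k₂, bc_bc w P₁ u hw₁ (a k) _ rfl g₁ k₁ e₁,
    bc_bc w P₂ v hw₂ (a l) _ rfl g₂ k₂ e₂] at H
  exact H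

variable [Finite K] [∀ k, Flat (a k ≫ f (p k))]

/-- The defining property of the extension on `W ≤ (f i)⁻¹ U`. -/
def IsExtension (t : ∀ k, El (dObj D (p k)) (a k)) (i : ι) (W : (X i).Opens)
    (n : Γ(dObj D i, W)) : Prop :=
  ∀ ⦃T : Scheme.{u}⦄ (g : T ⟶ X i) (hg : ⊤ ≤ g ⁻¹ᵁ W) (k : K) (h : T ⟶ Z k)
    (e : (h ≫ a k) ≫ f (p k) = g ≫ f i),
    el g hg n = dEl D (h ≫ a k) g e (bc h (a k) _ rfl (t k))

theorem IsExtension.res {t : ∀ k, El (dObj D (p k)) (a k)} {i : ι} {W W' : (X i).Opens}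
    (hle : W' ≤ W) {n : Γ(dObj D i, W)} (hn : IsExtension t i W n) :
    IsExtension t i W' (QCohMod.res _ hle n) := fun T g hg k h e => by
  rw [el_res]; exact hn g _ k h e

theorem IsExtension.unique (hsurj : ∀ x ∈ U, ∃ k z, (a k ≫ f (p k)) z = x)
    {t : ∀ k, El (dObj D (p k)) (a k)} {i : ι} {W : (X i).Opens} (hW : W ≤ f i ⁻¹ᵁ U)
    {n n' : Γ(dObj D i, W)} (hn : IsExtension t i W n) (hn' : IsExtension t i W n') : n = n' := by
  rw [← sub_eq_zero]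
  refine eq_zero_of_el (fun k => pullback.fst (W.ι ≫ f i) (a k ≫ f (p k)) ≫ W.ι)
    (fun k => (pullback.fst (W.ι ≫ f i) (a k ≫ f (p k))).preimage_mono
      (Scheme.Opens.ι_preimage_self W).ge) (fun x hx => ?_) _ fun k => ?_
  · obtain ⟨k, z, hz⟩ := hsurj _ (hW hx)
    obtain ⟨w, hw, -⟩ := Scheme.Pullback.exists_preimage_pullback (f := W.ι ≫ f i)
      (g := a k ≫ f (p k)) ⟨x, hx⟩ z hz.symm
    exact ⟨k, w, congrArg Subtype.val hw⟩
  · have he : (pullback.snd (W.ι ≫ f i) (a k ≫ f (p k)) ≫ a k) ≫ f (p k) =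
        (pullback.fst (W.ι ≫ f i) (a k ≫ f (p k)) ≫ W.ι) ≫ f i := by
      simp only [Category.assoc]; exact pullback.condition.symm
    rw [el_sub, hn _ _ k _ he, hn' _ _ k _ he, sub_self]

/-- Extension to an affine open of `X i`. -/
theorem exists_isExtension_affine (hD : ∀ i, (dObj D i).IsQuasicoherent)
    (hsurj : ∀ x ∈ U, ∃ k z, (a k ≫ f (p k)) z = x) {t : ∀ k, El (dObj D (p k)) (a k)}
    (ht : PieceCompat a ha hU t) {i : ι} {W : (X i).Opens} (hW : IsAffineOpen W)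
    (hWU : W ≤ f i ⁻¹ᵁ U) : ∃ n : Γ(dObj D i, W), IsExtension t i W n := by
  have : IsAffine W := hW
  have := hD i
  let c₁ : (W : Scheme.{u}) ⟶ S := W.ι ≫ f i
  have h₁ : ⊤ ≤ c₁ ⁻¹ᵁ U :=
    (Scheme.Opens.ι_preimage_self W).ge.trans (W.ι.preimage_mono hWU)
  let P₁ := fun k => pairFst c₁ h₁ (a k ≫ f (p k)) (ha k)
  let P₂ := fun k => pairSnd c₁ h₁ (a k ≫ f (p k)) (ha k)
  let c' : ∀ k, pairScheme c₁ h₁ (a k ≫ f (p k)) (ha k) ⟶ X i := fun k => P₁ k ≫ W.ι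
  have hc' : ∀ k, ⊤ ≤ c' k ⁻¹ᵁ W := fun k =>
    (P₁ k).preimage_mono (Scheme.Opens.ι_preimage_self W).ge
  have : ∀ k, Flat (c' k) := fun k => by
    have := flat_pairFst hU c₁ h₁ (a k ≫ f (p k)) (ha k)
    exact inferInstanceAs (Flat (P₁ k ≫ W.ι))
  have he : ∀ k, (P₂ k ≫ a k) ≫ f (p k) = c' k ≫ f i := fun k => by
    simp only [c', Category.assoc]
    exact (pair_condition hU c₁ h₁ (a k ≫ f (p k)) (ha k)).symm
  let σ : ∀ k, El (dObj D i) (c' k) := fun k =>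
    dEl D (P₂ k ≫ a k) (c' k) (he k) (bc (P₂ k) (a k) _ rfl (t k))
  obtain ⟨n, hn⟩ := exists_el_eq_of_compat (dObj D i) hW c' hc' (fun x hx => by
    obtain ⟨k, z, hz⟩ := hsurj _ (hWU hx)
    obtain ⟨w, hw, -⟩ := exists_pair_point c₁ h₁ (a k ≫ f (p k)) (ha k) ⟨x, hx⟩ z hz.symm
    exact ⟨k, w, congrArg Subtype.val hw⟩) σ fun k l => by
    set Q₁ := pairFst (c' k) (hc' k) (c' l) (hc' l)
    set Q₂ := pairSnd (c' k) (hc' k) (c' l) (hc' l)
    have hQ : Q₁ ≫ c' k = Q₂ ≫ c' l := pair_condition hW _ _ _ _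
    rw [bc_dEl Q₁ _ _ (he k) (Q₁ ≫ P₂ k ≫ a k) rfl (Q₁ ≫ c' k) rfl,
      bc_dEl Q₂ _ _ (he l) (Q₂ ≫ P₂ l ≫ a l) rfl (Q₁ ≫ c' k) hQ.symm,
      bc_bc Q₁ (P₂ k) _ rfl (a k) _ rfl _ rfl (Category.assoc _ _ _),
      bc_bc Q₂ (P₂ l) _ rfl (a l) _ rfl _ rfl (Category.assoc _ _ _)]
    have h12 : (Q₁ ≫ P₂ k ≫ a k) ≫ f (p k) = (Q₂ ≫ P₂ l ≫ a l) ≫ f (p l) := by
      calc (Q₁ ≫ P₂ k ≫ a k) ≫ f (p k) = Q₁ ≫ (c' k ≫ f i) := by rw [Category.assoc, he k]
        _ = Q₂ ≫ (c' l ≫ f i) := by rw [← Category.assoc, hQ, Category.assoc]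
        _ = (Q₂ ≫ P₂ l ≫ a l) ≫ f (p l) := by rw [Category.assoc Q₂, he l]
    rw [← ht.all (Q₁ ≫ P₂ k) (Q₂ ≫ P₂ l) (by simpa only [Category.assoc] using h12)
      (Q₁ ≫ P₂ k ≫ a k) (Category.assoc _ _ _) (Q₂ ≫ P₂ l ≫ a l) (Category.assoc _ _ _) h12,
      dEl_comp]
  refine ⟨n, fun T g hg k h e => ?_⟩
  have hrange : Set.range g ⊆ Set.range W.ι := by
    rintro _ ⟨z, rfl⟩
    rw [Scheme.Opens.range_ι]
    exact hg (Set.mem_univ z)
  let g₀ := IsOpenImmersion.lift W.ι g hrange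
  have hg₀ : g₀ ≫ W.ι = g := IsOpenImmersion.lift_fac _ _ _
  obtain ⟨w, hw₁, hw₂⟩ := exists_pairLift c₁ h₁ (a k ≫ f (p k)) (ha k) g₀ h
    (by rw [← Category.assoc, hg₀, ← e, Category.assoc])
  have k₁ : w ≫ c' k = g := by rw [← Category.assoc, hw₁, hg₀]
  have k₂ : w ≫ (P₂ k ≫ a k) = h ≫ a k := by rw [← Category.assoc, hw₂]
  have H := congrArg (bc w (c' k) g k₁) (hn k)
  rw [bc_el, bc_dEl w _ _ (he k) (h ≫ a k) k₂ g k₁,
    bc_bc w (P₂ k) h hw₂ (a k) _ rfl _ k₂ rfl] at H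
  exact H

/-- A compatible family of elements on the pieces extends to a compatible family over `U`. -/
theorem exists_compat_extension (hD : ∀ i, (dObj D i).IsQuasicoherent)
    (hsurj : ∀ x ∈ U, ∃ k z, (a k ≫ f (p k)) z = x) {t : ∀ k, El (dObj D (p k)) (a k)}
    (ht : PieceCompat a ha hU t) :
    ∃ s : ∀ i, Γ(dObj D i, f i ⁻¹ᵁ U), IsCompat D U s ∧
      ∀ k, el (U := f (p k) ⁻¹ᵁ U) (a k) (ha k) (s (p k)) = t k := by
  have hex : ∀ i, ∃ s : Γ(dObj D i, f i ⁻¹ᵁ U), IsExtension t i (f i ⁻¹ᵁ U) s := by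
    intro i
    let W := {W : (X i).Opens // IsAffineOpen W ∧ W ≤ f i ⁻¹ᵁ U}
    choose n hn using fun W : W => exists_isExtension_affine hD hsurj ht W.2.1 W.2.2
    have hcov : f i ⁻¹ᵁ U ≤ ⨆ W : W, W.1 := fun x hx => by
      obtain ⟨_, ⟨V, hV, rfl⟩, hxV, hle⟩ :=
        (X i).isBasis_affineOpens.exists_subset_of_mem_open hx (f i ⁻¹ᵁ U).2
      exact Opens.mem_iSup.2 ⟨⟨V, hV, hle⟩, hxV⟩
    obtain ⟨s, hs, -⟩ := PicAux.res_glue (M := dObj D i) (fun W : W => W.1) (fun W => W.2.2) hcov n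
      fun W W' => IsExtension.unique hsurj (inf_le_left.trans W.2.2) ((hn W).res inf_le_left)
        ((hn W').res inf_le_right)
    refine ⟨s, fun T g hg k h e => sub_eq_zero.1 ?_⟩
    refine eq_zero_of_bc (fun W : W => (g ⁻¹ᵁ W.1).ι) (fun z => ?_) g
      (fun W => (g ⁻¹ᵁ W.1).ι ≫ g) (fun _ => rfl) _ fun W => ?_
    · obtain ⟨W, hWz⟩ := Opens.mem_iSup.1 (hcov (hg (Set.mem_univ z)))
      exact ⟨W, ⟨z, hWz⟩, rfl⟩
    · have hW : ⊤ ≤ ((g ⁻¹ᵁ W.1).ι ≫ g) ⁻¹ᵁ W.1 := (Scheme.Opens.ι_preimage_self _).ge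
      have h1 : el ((g ⁻¹ᵁ W.1).ι ≫ g) hW (PicAux.res _ W.2.2 s) =
          bc (g ⁻¹ᵁ W.1).ι g _ rfl (el g hg s) :=
        (el_res _ _ _ _).trans (bc_el _ g _ rfl hg s).symm
      rw [bc_sub, sub_eq_zero, ← h1, hs W,
        hn W _ hW k ((g ⁻¹ᵁ W.1).ι ≫ h) (by simp only [Category.assoc, ← e]),
        bc_dEl _ _ _ e (((g ⁻¹ᵁ W.1).ι ≫ h) ≫ a k) (Category.assoc _ _ _).symm _ rfl,
        bc_bc _ h _ rfl (a k) _ rfl _ (Category.assoc _ _ _).symm rfl]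
  choose s hs using hex
  refine ⟨s, fun i j T g₁ g₂ h h₁ h₂ => sub_eq_zero.1 ?_, fun k => ?_⟩
  · refine eq_zero_of_bc (fun k => pullback.fst (g₁ ≫ f i) (a k ≫ f (p k))) (fun z => ?_) g₂
      (fun k => pullback.fst _ _ ≫ g₂) (fun _ => rfl) _ fun k => ?_
    · obtain ⟨k, w, hw⟩ := hsurj _ (h₁ (Set.mem_univ z))
      obtain ⟨y, hy, -⟩ := Scheme.Pullback.exists_preimage_pullback (f := g₁ ≫ f i)
        (g := a k ≫ f (p k)) z w hw.symm
      exact ⟨k, y, hy⟩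
    · have hc : (pullback.snd (g₁ ≫ f i) (a k ≫ f (p k)) ≫ a k) ≫ f (p k) =
          (pullback.fst (g₁ ≫ f i) (a k ≫ f (p k)) ≫ g₁) ≫ f i := by
        simp only [Category.assoc]; exact pullback.condition.symm
      have hc' : (pullback.fst (g₁ ≫ f i) (a k ≫ f (p k)) ≫ g₁) ≫ f i =
          (pullback.fst (g₁ ≫ f i) (a k ≫ f (p k)) ≫ g₂) ≫ f j := by
        simp only [Category.assoc, h]
      rw [bc_sub, sub_eq_zero, bc_dEl _ _ _ h _ rfl _ rfl, bc_el, bc_el,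
        hs i _ _ k _ hc, hs j _ _ k _ (hc.trans hc'), dEl_comp]
  · rw [hs (p k) (a k) (ha k) k (𝟙 _) (by rw [Category.id_comp])]
    have h1 : ∀ (g : Z k ⟶ X (p k)) (eg : 𝟙 _ ≫ a k = g) (eg' : g = a k)
        (hh : g ≫ f (p k) = a k ≫ f (p k)),
        dEl D g (a k) hh (bc (𝟙 _) (a k) g eg (t k)) = t k := by
      intro g eg eg' hh
      subst eg'
      rw [dEl_self, bc_id_apply]
    exact h1 _ rfl (Category.id_comp _) _

/-- On an affine open with finitely many affine flat pieces the localization properties hold. -/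
theorem compatMod_exists_pow_smul_eq_res (hD : ∀ i, (dObj D i).IsQuasicoherent)
    (hU : IsAffineOpen U) (ha : ∀ k, ⊤ ≤ (a k ≫ f (p k)) ⁻¹ᵁ U)
    (hsurj : ∀ x ∈ U, ∃ k z, (a k ≫ f (p k)) z = x) (r : Γ(S, U))
    (s : Γ(compatMod D, S.basicOpen r)) :
    ∃ (n : ℕ) (t : Γ(compatMod D, U)),
      res (compatMod D) (S.basicOpen_le r) t = resFun S (S.basicOpen_le r) r ^ n • s := by
  classical
  let _ := Fintype.ofFinite K
  have hqa : ∀ k, ((Scheme.Modules.pullback (a k)).obj (dObj D (p k))).IsQuasicoherent := fun k =>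
    have := hD (p k)
    QCohMod.isQCoh_pullback_obj _ _
  let c : ∀ k, Z k ⟶ S := fun k => a k ≫ f (p k)
  let b : ∀ k, Γ(Z k, ⊤) := fun k => (c k).appLE U ⊤ (ha k) r
  have hW : ∀ k, (Z k).basicOpen (b k) ≤ a k ⁻¹ᵁ f (p k) ⁻¹ᵁ S.basicOpen r := fun k =>
    (preimage_basicOpen_eq (c k) (ha k) r).ge
  let y : ∀ k, Γ((Scheme.Modules.pullback (a k)).obj (dObj D (p k)), (Z k).basicOpen (b k)) :=
    fun k => res _ (hW k) (pullSec (a k) _ (fam s (p k)))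
  choose N₀ t₀ ht₀ using fun k => QCohMod.exists_pow_smul_eq_res
    ((Scheme.Modules.pullback (a k)).obj (dObj D (p k))) (isAffineOpen_top (Z k)) (b k) (y k)
  let n := Finset.univ.sup N₀
  let t : ∀ k, El (dObj D (p k)) (a k) := fun k => b k ^ (n - N₀ k) • t₀ k
  have ht : ∀ k, res _ ((Z k).basicOpen_le (b k)) (t k) =
      resFun (Z k) ((Z k).basicOpen_le (b k)) (b k) ^ n • y k := fun k => by
    refine (QCohMod.res_smul _ _ _ _).trans ?_
    rw [ht₀ k, map_pow, ← mul_smul, ← pow_add,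
      Nat.sub_add_cancel (Finset.le_sup (Finset.mem_univ k) : N₀ k ≤ n)]
  -- base change of `t` to a test scheme over the basic open
  have key : ∀ (k : K) {T : Scheme.{u}} (v : T ⟶ Z k) (g : T ⟶ X (p k)) (e : v ≫ a k = g)
      (q : T ⟶ S) (eq : g ≫ f (p k) = q) (hq : ⊤ ≤ q ⁻¹ᵁ S.basicOpen r),
      bc v (a k) g e (t k) = q.appLE U ⊤ (hq.trans (q.preimage_mono (S.basicOpen_le r))) r ^ n •
        el g (by subst eq; exact hq) (fam s (p k)) := by
    intro k T v g e q eq hq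
    subst e eq
    have hv : ⊤ ≤ v ⁻¹ᵁ (Z k).basicOpen (b k) := by
      rw [← preimage_basicOpen_eq (c k) (ha k) r]
      exact hq
    refine (bc_eq_flat_el v (a k) _ rfl hv (t k)).trans ?_
    rw [ht k, el_smul, flat_smul, map_pow, el_res]
    refine congrArg₂ (fun x y => x ^ n • y) ?_ (flat_el (a k) v _ rfl _ _)
    refine (appLE_resFun v ((Z k).basicOpen_le (b k)) hv (b k)).trans ?_
    refine Eq.trans ?_ (appTop_appLE_apply v (c k) _ (Category.assoc _ _ _).symm (ha k) _ r)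
    exact ConcreteCategory.congr_hom (v.appLE_eq_app (U := ⊤)) (b k)
  let P₁ := fun k l => pairFst (c k) (ha k) (c l) (ha l)
  let P₂ := fun k l => pairSnd (c k) (ha k) (c l) (ha l)
  have hP : ∀ k l, (P₁ k l ≫ a k) ≫ f (p k) = (P₂ k l ≫ a l) ≫ f (p l) := fun k l => by
    rw [Category.assoc, Category.assoc]; exact pair_condition hU _ _ _ _
  let δ : ∀ k l, El (dObj D (p l)) (P₂ k l ≫ a l) := fun k l =>
    dEl D (P₁ k l ≫ a k) (P₂ k l ≫ a l) (hP k l) (bc (P₁ k l) (a k) _ rfl (t k)) -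
      bc (P₂ k l) (a l) _ rfl (t l)
  let β : ∀ k l, Γ(pairScheme (c k) (ha k) (c l) (ha l), ⊤) := fun k l =>
    (P₁ k l ≫ c k).appLE U ⊤ (pair_le _ _ _ _) r
  have hδ : ∀ k l, ∃ m : ℕ, β k l ^ m • δ k l = 0 := by
    intro k l
    have := hD (p l)
    have : ((Scheme.Modules.pullback (P₂ k l ≫ a l)).obj (dObj D (p l))).IsQuasicoherent :=
      QCohMod.isQCoh_pullback_obj _ _
    refine QCohMod.exists_pow_smul_eq_zero ((Scheme.Modules.pullback (P₂ k l ≫ a l)).obj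
      (dObj D (p l))) (isAffineOpen_top _) (β k l) (δ k l) ?_
    set V := (pairScheme (c k) (ha k) (c l) (ha l)).basicOpen (β k l)
    refine res_eq_zero_of_bc (P₂ k l ≫ a l) (V.ι ≫ P₂ k l ≫ a l) rfl (δ k l) ?_
    have e₁ : (V.ι ≫ P₁ k l ≫ a k) ≫ f (p k) = V.ι ≫ P₁ k l ≫ c k := by
      simp only [Category.assoc, c]
    have e₂ : (V.ι ≫ P₂ k l ≫ a l) ≫ f (p l) = V.ι ≫ P₁ k l ≫ c k := by
      rw [Category.assoc, ← hP k l]
      simp only [Category.assoc, c]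
    have hVr : ⊤ ≤ (V.ι ≫ P₁ k l ≫ c k) ⁻¹ᵁ S.basicOpen r := by
      intro z _
      exact (preimage_basicOpen_eq (P₁ k l ≫ c k) (pair_le _ _ _ _) r).ge z.2
    rw [bc_sub, sub_eq_zero, bc_dEl _ _ _ (hP k l) _ rfl _ rfl,
      bc_bc _ (P₁ k l) (V.ι ≫ P₁ k l) rfl (a k) _ rfl _ rfl (Category.assoc _ _ _),
      bc_bc _ (P₂ k l) (V.ι ≫ P₂ k l) rfl (a l) _ rfl _ rfl (Category.assoc _ _ _),
      key k _ _ _ _ e₁ hVr, key l _ _ _ _ e₂ hVr, dEl_smul,
      isCompat_fam s (V.ι ≫ P₁ k l ≫ a k) (V.ι ≫ P₂ k l ≫ a l) (e₁.trans e₂.symm)]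
  choose m₀ hm₀ using hδ
  let m := Finset.univ.sup fun kl : K × K => m₀ kl.1 kl.2
  let t' : ∀ k, El (dObj D (p k)) (a k) := fun k => b k ^ m • t k
  have ht' : PieceCompat a ha hU t' := by
    intro k l
    have h1 : (P₁ k l).appTop (b k) = β k l := appTop_appLE_apply _ (c k) _ rfl (ha k) _ r
    have h2 : (P₂ k l).appTop (b l) = β k l :=
      appTop_appLE_apply _ (c l) _ (pair_condition hU _ _ _ _).symm (ha l) _ r
    rw [← sub_eq_zero]
    change dEl D _ _ _ (bc (P₁ k l) (a k) _ rfl (b k ^ m • t k)) -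
      bc (P₂ k l) (a l) _ rfl (b l ^ m • t l) = 0
    rw [bc_smul (P₁ k l) (a k) _ rfl (b k ^ m) (t k), bc_smul (P₂ k l) (a l) _ rfl (b l ^ m) (t l),
      dEl_smul, map_pow, map_pow, h1, h2, ← smul_sub]
    have hle : m₀ k l ≤ m :=
      Finset.le_sup (f := fun kl : K × K => m₀ kl.1 kl.2) (Finset.mem_univ (k, l))
    rw [← Nat.sub_add_cancel hle, pow_add, mul_smul]
    exact (congrArg _ (hm₀ k l)).trans (smul_zero _)
  obtain ⟨τ, hτ, hτt⟩ := exists_compat_extension hD hsurj ht'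
  refine ⟨m + n, ofFam τ hτ, fam_ext fun i => sub_eq_zero.1 ?_⟩
  have hcomp : IsCompat D (S.basicOpen r) (fun i =>
      fam (res (compatMod D) (S.basicOpen_le r) (ofFam τ hτ)) i -
        fam (resFun S (S.basicOpen_le r) r ^ (m + n) • s) i) :=
    (isCompat_fam _).sub (isCompat_fam _)
  have : ∀ k, Flat ((((Z k).basicOpen (b k)).ι ≫ a k) ≫ f (p k)) := fun k => by
    rw [Category.assoc]; infer_instance
  refine hcomp.eq_zero (fun k => ((Z k).basicOpen (b k)).ι ≫ a k)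
    (fun k => (Scheme.Opens.ι_preimage_self _).ge.trans
      (((Z k).basicOpen (b k)).ι.preimage_mono (hW k))) (fun x hx => ?_) (fun k => ?_) i
  · obtain ⟨k, z, hz⟩ := hsurj x (S.basicOpen_le r hx)
    have hz' : z ∈ (Z k).basicOpen (b k) := by
      rw [← preimage_basicOpen_eq (c k) (ha k) r]
      change c k z ∈ S.basicOpen r
      rw [show c k z = x from hz]; exact hx
    refine ⟨k, ⟨z, hz'⟩, ?_⟩
    rw [Category.assoc]
    exact hz
  · set V := (Z k).basicOpen (b k)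
    have hVr : ⊤ ≤ ((V.ι ≫ a k) ≫ f (p k)) ⁻¹ᵁ S.basicOpen r :=
      (Scheme.Opens.ι_preimage_self V).ge.trans (V.ι.preimage_mono (hW k))
    rw [el_sub, sub_eq_zero, fam_smul, el_app_smul _ (f (p k)) _ rfl hVr, fam_res, el_res]
    have h1 : el (U := f (p k) ⁻¹ᵁ U) (V.ι ≫ a k) (hVr.trans (((V.ι ≫ a k) ≫ f (p k)).preimage_mono (S.basicOpen_le r)))
        (fam (ofFam τ hτ) (p k)) = bc V.ι (a k) _ rfl (t' k) := by
      rw [← hτt k, bc_el]
      rfl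
    refine h1.trans ?_
    change bc V.ι (a k) _ rfl (b k ^ m • t k) = _
    rw [bc_smul V.ι (a k) _ rfl (b k ^ m) (t k), key k _ _ _ _ rfl hVr, map_pow, map_pow, appLE_resFun _ _ hVr,
      appTop_appLE_apply V.ι (c k) _ (Category.assoc _ _ _).symm (ha k) _ r, ← mul_smul, ← pow_add]

theorem compatMod_exists_pow_smul_eq_zero (hD : ∀ i, (dObj D i).IsQuasicoherent)
    (ha : ∀ k, ⊤ ≤ (a k ≫ f (p k)) ⁻¹ᵁ U)
    (hsurj : ∀ x ∈ U, ∃ k z, (a k ≫ f (p k)) z = x) (r : Γ(S, U)) (t : Γ(compatMod D, U))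
    (ht : res (compatMod D) (S.basicOpen_le r) t = 0) : ∃ n : ℕ, r ^ n • t = 0 := by
  classical
  let _ := Fintype.ofFinite K
  have hqa : ∀ k, ((Scheme.Modules.pullback (a k)).obj (dObj D (p k))).IsQuasicoherent := fun k =>
    have := hD (p k)
    QCohMod.isQCoh_pullback_obj _ _
  let b : ∀ k, Γ(Z k, ⊤) := fun k => (a k ≫ f (p k)).appLE U ⊤ (ha k) r
  choose N₀ hN₀ using fun k => QCohMod.exists_pow_smul_eq_zero
    ((Scheme.Modules.pullback (a k)).obj (dObj D (p k))) (isAffineOpen_top (Z k)) (b k)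
    (el (U := f (p k) ⁻¹ᵁ U) (a k) (ha k) (fam t (p k))) (by
      have hW : (Z k).basicOpen (b k) ≤ a k ⁻¹ᵁ f (p k) ⁻¹ᵁ S.basicOpen r :=
        (preimage_basicOpen_eq _ (ha k) r).ge
      refine (res_res _ _ _ _).trans ?_
      refine ((res_res _ ((a k).preimage_mono ((f (p k)).preimage_mono (S.basicOpen_le r))) hW
        (pullSec (a k) _ (fam t (p k)))).symm).trans ?_
      have h0 : res _ ((f (p k)).preimage_mono (S.basicOpen_le r)) (fam t (p k)) = 0 :=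
        (fam_res _ t (p k)).symm.trans (by rw [ht]; rfl)
      exact (congrArg _ ((PicAux.res_pullSec (a k) _ _ _).trans
        ((congrArg (pullSec (a k) _) h0).trans (map_zero _)))).trans (map_zero _))
  refine ⟨Finset.univ.sup N₀, fam_ext fun i => ?_⟩
  refine (isCompat_fam (r ^ Finset.univ.sup N₀ • t)).eq_zero a ha hsurj (fun k => ?_) i
  rw [fam_smul, el_app_smul (a k) (f (p k)) _ rfl (ha k), map_pow,
    ← Nat.sub_add_cancel (Finset.le_sup (Finset.mem_univ k) : N₀ k ≤ Finset.univ.sup N₀),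
    pow_add, mul_smul]
  exact (congrArg _ (hN₀ k)).trans (smul_zero _)

end extend

/-- The module of compatible families of an fpqc descent datum of quasi-coherent modules is
quasi-coherent. -/
theorem isQCoh_compatMod (hf : Presieve.ofArrows X f ∈ Scheme.fpqcPrecoverage S)
    (hD : ∀ i, (dObj D i).IsQuasicoherent) : (compatMod D).IsQuasicoherent := by
  refine QCohMod.isQCoh_of_forall_affine (compatMod D) (fun U hU r s => ?_) fun U hU r t ht => ?_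
  · obtain ⟨K, _, Z, p, a, _, _, ha, hsurj⟩ := exists_pieces f hf hU
    exact compatMod_exists_pow_smul_eq_res (a := a) hD hU ha hsurj r s
  · obtain ⟨K, _, Z, p, a, _, _, ha, hsurj⟩ := exists_pieces f hf hU
    exact compatMod_exists_pow_smul_eq_zero (a := a) hD ha hsurj r t ht

end Groth.DescentBase
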