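import Groth.Agent.QCohMod.FTCriterion
import Groth.Agent.QCohMod.Pullback
import Groth.Agent.Flatmor4.FpqcSubterminal
import Groth.Agent.PicAux.Sections

/-!
# Finite type descends along open, flat, surjective morphisms, for arbitrary modules
-/

set_option autoImplicit false
set_option backward.isDefEq.respectTransparency false
set_option linter.style.haveILetI false

universe u

open CategoryTheory Limits AlgebraicGeometry TopologicalSpace
open scoped TensorProduct
open Groth.QCohMod (res resFun germ germ_res germ_smul exists_germ pullGerm pullGerm_germ pullGerm_smul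
  pullStalkEquiv pullStalkHom_tmul stalkAlg oneSec)
open Groth.PicAux (pullSec)

namespace Groth.DescentBase.FTOpen

variable {X Y : Scheme.{u}}

/-- Sections spanning a stalk pull back to sections spanning the stalk. -/
theorem span_pullGerm_eq_top (g : Y ⟶ X) (F : X.Modules) (y : Y)
    (S : Set (F.presheaf.stalk (g y))) (hS : Submodule.span (X.presheaf.stalk (g y)) S = ⊤) :
    Submodule.span (Y.presheaf.stalk y) (pullGerm g F y '' S) = ⊤ := by
  letI := stalkAlg g y
  rw [eq_top_iff]
  rintro t -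
  obtain ⟨z, rfl⟩ := (pullStalkEquiv g F y).surjective t
  induction z using TensorProduct.induction_on with
  | zero => rw [map_zero]; exact Submodule.zero_mem _
  | add a b ha hb => rw [map_add]; exact Submodule.add_mem _ ha hb
  | tmul b t =>
    show QCohMod.pullStalkHom g F y (b ⊗ₜ t) ∈ _
    rw [pullStalkHom_tmul]
    refine Submodule.smul_mem _ _ ?_
    have ht : t ∈ Submodule.span (X.presheaf.stalk (g y)) S := hS.ge trivial
    induction ht using Submodule.span_induction with
    | mem t ht => exact Submodule.subset_span ⟨t, ht, rfl⟩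
    | zero => rw [map_zero]; exact Submodule.zero_mem _
    | add a b _ _ ha hb => rw [map_add]; exact Submodule.add_mem _ ha hb
    | smul r a _ ha => rw [pullGerm_smul]; exact Submodule.smul_mem _ _ ha

/-- A set whose image spans the stalk of a flat pull back spans the stalk. -/
theorem span_eq_top_of_pullGerm (g : Y ⟶ X) [Flat g] (F : X.Modules) (y : Y)
    (S : Set (F.presheaf.stalk (g y)))
    (hS : Submodule.span (Y.presheaf.stalk y) (pullGerm g F y '' S) = ⊤) :
    Submodule.span (X.presheaf.stalk (g y)) S = ⊤ := by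
  letI := stalkAlg g y
  haveI := Groth.Flatmor4.faithfullyFlat_stalk g y
  let N := Submodule.span (X.presheaf.stalk (g y)) S
  have hsurj : Function.Surjective (N.subtype.baseChange (Y.presheaf.stalk y)) := by
    rw [← LinearMap.range_eq_top, eq_top_iff]
    intro z _
    have hz : pullStalkEquiv g F y z ∈ Submodule.span _ (pullGerm g F y '' S) := hS.ge trivial
    have : Submodule.span (Y.presheaf.stalk y) (pullGerm g F y '' S) ≤
        (LinearMap.range (N.subtype.baseChange (Y.presheaf.stalk y))).map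
          (pullStalkEquiv g F y).toLinearMap := by
      rw [Submodule.span_le]
      rintro _ ⟨t, ht, rfl⟩
      refine ⟨1 ⊗ₜ t, ⟨1 ⊗ₜ ⟨t, Submodule.subset_span ht⟩, rfl⟩, ?_⟩
      show QCohMod.pullStalkHom g F y (1 ⊗ₜ t) = _
      rw [pullStalkHom_tmul, one_smul]
    obtain ⟨w, hw, hwz⟩ := this hz
    rwa [← (pullStalkEquiv g F y).injective hwz]
  have := (Module.FaithfullyFlat.lTensor_surjective_iff_surjective (X.presheaf.stalk (g y))
    (Y.presheaf.stalk y) N.subtype).mp hsurj
  rw [← LinearMap.range_eq_top, Submodule.range_subtype] at this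
  exact this

/-- A module which is, near each point, spanned on stalks by finitely many sections is of finite type. -/
theorem isFT_of_local_span (F : X.Modules)
    (h : ∀ x : X, ∃ (U : X.Opens) (_ : x ∈ U) (K : Type u) (_ : Finite K) (s : K → Γ(F, U)),
      ∀ (z : X) (hz : z ∈ U), Submodule.span (X.presheaf.stalk z)
        (Set.range fun k => germ F z hz (s k)) = ⊤) :
    CohB1.IsFT F := by
  choose U hx K hK s hs using h
  refine QCohMod.isFT_of_cover F U (fun x => ⟨x, hx x⟩) (fun x =>
    ((QCohMod.genOfSpan ((Scheme.Modules.pullback (U x).ι).obj F)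
      (fun k => res _ (le_of_eq (by ext z; simpa using z.2) : ⊤ ≤ (U x).ι ⁻¹ᵁ U x)
        (pullSec (U x).ι F (s x k))) fun z => ?_).ofEpi
      ((Scheme.Modules.restrictFunctorIsoPullback (U x).ι).app F).inv)) fun x => hK x
  have hz : (U x).ι z ∈ U x := z.2
  have h1 := span_pullGerm_eq_top (U x).ι F z _ (hs x _ hz)
  refine eq_top_iff.mpr (h1.ge.trans (Submodule.span_mono ?_))
  rintro _ ⟨_, ⟨k, rfl⟩, rfl⟩
  refine ⟨k, ?_⟩
  dsimp only
  rw [pullGerm_germ, germ_res]

/-- The sections given by finitely many generators span the stalks. -/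
theorem span_germ_eq_top {M : Y.Modules} {ι : Type u} [Finite ι]
    (π : ∐ (fun _ : ι ↦ Coh.structureModule Y) ⟶ M) [Epi π] (y : Y) :
    Submodule.span (Y.presheaf.stalk y)
      (Set.range fun i ↦ germ M y (Set.mem_univ y : y ∈ (⊤ : Y.Opens))
        (π.app ⊤ ((Sigma.ι (fun _ : ι ↦ Coh.structureModule Y) i).app ⊤ (oneSec ⊤)))) = ⊤ := by
  classical
  have := Fintype.ofFinite ι
  refine eq_top_iff.mpr fun t _ => ?_
  obtain ⟨a, rfl⟩ := (QCohMod.epi_iff_stalk π).mp inferInstance y t
  obtain ⟨V, hV, m, rfl⟩ := exists_germ _ y a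
  let p : ι → (∐ (fun _ : ι ↦ Coh.structureModule Y) ⟶ Coh.structureModule Y) :=
    fun i ↦ Sigma.desc fun j ↦ if i = j then 𝟙 _ else 0
  have hp : ∑ i, p i ≫ Sigma.ι (fun _ : ι ↦ Coh.structureModule Y) i = 𝟙 _ := by
    refine Sigma.hom_ext _ _ fun j ↦ ?_
    rw [Preadditive.comp_sum, Finset.sum_eq_single j]
    · simp [p]
    · intro i _ hij
      simp [p, hij]
    · simp
  have hm : m = ∑ i, (p i ≫ Sigma.ι (fun _ : ι ↦ Coh.structureModule Y) i).app V m := by
    rw [← QCohMod.app_sum, hp]; rfl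
  rw [QCohMod.stalk_map_germ, hm, map_sum, map_sum]
  refine Submodule.sum_mem _ fun i _ ↦ ?_
  rw [Scheme.Modules.Hom.comp_app, ConcreteCategory.comp_apply,
    ← QCohMod.structureModule_eq_smul_one ((p i).app V m), Scheme.Modules.Hom.app_smul,
    Scheme.Modules.Hom.app_smul, germ_smul]
  refine Submodule.smul_mem _ _ (Submodule.subset_span ⟨i, ?_⟩)
  dsimp only
  conv_lhs => rw [← germ_res _ (le_top : V ≤ ⊤) y hV]
  rw [QCohMod.res_app, QCohMod.res_app]
  congr 4
  exact map_one (Y.presheaf.map (homOfLE (le_top : V ≤ ⊤)).op).hom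

/-- Local form: finitely generated pull back along an open flat morphism. -/
theorem exists_span_of_pullback (h : Y ⟶ X) [Flat h] (hopen : IsOpenMap h.base) (F : X.Modules)
    {ι : Type u} [Finite ι]
    (π : ∐ (fun _ : ι ↦ Coh.structureModule Y) ⟶ (Scheme.Modules.pullback h).obj F) [Epi π] (y : Y) :
    ∃ (U : X.Opens) (_ : h y ∈ U) (K : Type u) (_ : Finite K) (s : K → Γ(F, U)),
      ∀ (z : X) (hz : z ∈ U), Submodule.span (X.presheaf.stalk z)
        (Set.range fun k => germ F z hz (s k)) = ⊤ := by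
  classical
  have := Fintype.ofFinite ι
  letI := stalkAlg h y
  let P := (Scheme.Modules.pullback h).obj F
  let m : ι → Γ(P, (⊤ : Y.Opens)) := fun i =>
    π.app ⊤ ((Sigma.ι (fun _ : ι ↦ Coh.structureModule Y) i).app ⊤ (oneSec ⊤))
  choose S hS using fun i => TensorProduct.exists_finset
    ((pullStalkEquiv h F y).symm (germ P y (Set.mem_univ y : y ∈ (⊤ : Y.Opens)) (m i)))
  let T := Σ i, {p // p ∈ S i}
  choose Us hUs ss hss using fun k : T => exists_germ F (h y) k.2.1.2
  choose Ws hWs bs hbs using fun k : T => TopCat.Presheaf.exists_germ_eq Y.presheaf k.2.1.1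
  let U : X.Opens := Finset.univ.inf Us
  have hU : h y ∈ U := by
    show h y ∈ ((Finset.univ.inf Us : X.Opens) : Set X)
    rw [Opens.coe_finset_inf]
    simp only [Finset.inf_set_eq_iInter, Set.mem_iInter]
    exact fun k _ => hUs k
  let s : T → Γ(F, U) := fun k => res F (Finset.inf_le (Finset.mem_univ k)) (ss k)
  let W : Y.Opens := h ⁻¹ᵁ U ⊓ Finset.univ.inf Ws
  have hW : y ∈ W := by
    refine ⟨hU, ?_⟩
    show y ∈ ((Finset.univ.inf Ws : Y.Opens) : Set Y)
    rw [Opens.coe_finset_inf]
    simp only [Finset.inf_set_eq_iInter, Set.mem_iInter]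
    exact fun k _ => hWs k
  let b : T → Γ(Y, W) := fun k => resFun Y (inf_le_right.trans (Finset.inf_le (Finset.mem_univ k))) (bs k)
  let v : ι → Γ(P, W) := fun i => ∑ p : {p // p ∈ S i},
    b ⟨i, p⟩ • res P inf_le_left (pullSec h F (s ⟨i, p⟩))
  have hv : ∀ i, germ P y hW (v i) = germ P y (Set.mem_univ y : y ∈ (⊤ : Y.Opens)) (m i) := by
    intro i
    rw [← (pullStalkEquiv h F y).apply_symm_apply (germ P y _ (m i)), hS i, map_sum, map_sum,
      ← Finset.sum_coe_sort (S i)]
    refine Finset.sum_congr rfl fun p _ => ?_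
    show _ = QCohMod.pullStalkHom h F y _
    rw [pullStalkHom_tmul, germ_smul, germ_res, ← pullGerm_germ h F y hU, germ_res, hss ⟨i, p⟩]
    congr 1
    exact (TopCat.Presheaf.germ_res_apply Y.presheaf _ y hW _).trans (hbs ⟨i, p⟩)
  choose W' hW' hW'le hW'eq using fun i =>
    TopCat.Presheaf.germ_eq P.presheaf y hW (Set.mem_univ y : y ∈ (⊤ : Y.Opens)) _ _ (hv i)
  let W'' : Y.Opens := W ⊓ Finset.univ.inf W'
  have hW'' : y ∈ W'' := by
    refine ⟨hW, ?_⟩
    show y ∈ ((Finset.univ.inf W' : Y.Opens) : Set Y)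
    rw [Opens.coe_finset_inf]
    simp only [Finset.inf_set_eq_iInter, Set.mem_iInter]
    exact fun k _ => hW' k
  let U' : X.Opens := U ⊓ ⟨h.base '' W'', hopen _ W''.2⟩
  refine ⟨U', ⟨hU, y, hW'', rfl⟩, T, inferInstance, fun k => res F inf_le_left (s k), fun z hz => ?_⟩
  obtain ⟨z', hz', rfl⟩ := hz.2
  refine span_eq_top_of_pullGerm h F z' _ (eq_top_iff.mpr ((span_germ_eq_top π z').ge.trans
    (Submodule.span_le.mpr ?_)))
  rintro _ ⟨i, rfl⟩
  dsimp only
  have hzi : z' ∈ W' i := by
    have := hz'.2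
    change z' ∈ ((Finset.univ.inf W' : Y.Opens) : Set Y) at this
    rw [Opens.coe_finset_inf] at this
    simp only [Finset.inf_set_eq_iInter, Set.mem_iInter] at this
    exact this i (Finset.mem_univ i)
  obtain ⟨iV, he⟩ := hW'eq i
  have : germ P z' (Set.mem_univ z' : z' ∈ (⊤ : Y.Opens)) (m i) = germ P z' hz'.1 (v i) := by
    refine (TopCat.Presheaf.germ_res_apply P.presheaf iV z' hzi _).symm.trans
      ((congrArg _ he).symm.trans ?_)
    exact TopCat.Presheaf.germ_res_apply P.presheaf (hW'le i) z' hzi _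
  show germ P z' (Set.mem_univ z' : z' ∈ (⊤ : Y.Opens)) (m i) ∈ Submodule.span _ _
  rw [this, map_sum]
  refine Submodule.sum_mem _ fun p _ => ?_
  rw [germ_smul, germ_res]
  refine Submodule.smul_mem _ _ (Submodule.subset_span ⟨germ F (h z') hz.1 (s ⟨i, p⟩),
    ⟨⟨i, p⟩, germ_res F (inf_le_left : U' ≤ U) _ hz _⟩, ?_⟩)
  rw [pullGerm_germ]

/-- Finite type descends along flat surjective morphisms which are open. -/
theorem isFT_of_pullback (f : Y ⟶ X) [Flat f] [Surjective f] (hf : IsOpenMap f.base) (F : X.Modules)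
    (h : CohB1.IsFT ((Scheme.Modules.pullback f).obj F)) : CohB1.IsFT F := by
  refine isFT_of_local_span F fun x => ?_
  obtain ⟨y, rfl⟩ := f.surjective x
  obtain ⟨V, hV, G, hG⟩ := QCohMod.exists_generators_of_isFT _ h y
  let e := (Scheme.Modules.restrictFunctorIsoPullback V.ι).app ((Scheme.Modules.pullback f).obj F) ≪≫
    (Scheme.Modules.pullbackComp V.ι f).app F
  haveI : Finite G.I := hG
  let π₀ : ∐ (fun _ : G.I ↦ Coh.structureModule (V : Scheme.{u})) ⟶ _ := G.π
  haveI : Epi π₀ := G.epi
  haveI : Flat (V.ι ≫ f) := inferInstance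
  exact exists_span_of_pullback (V.ι ≫ f) (hf.comp V.ι.isOpenEmbedding.isOpenMap) F
    (π₀ ≫ e.hom) ⟨y, hV⟩

end Groth.DescentBase.FTOpen
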