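import Groth.Agent.EtaleBase.InjCoh
import Groth.Agent.EtaleBase.PullConstComp
import Groth.Agent.EtaleBase.HpullUnivHomeo

/-!
Relative pullback on étale cohomology is functorial.
-/

set_option autoImplicit false

universe u

open CategoryTheory CategoryTheory.Limits CategoryTheory.Abelian AlgebraicGeometry Opposite

namespace Groth.DescentBase

variable {A B C Y : Scheme.{u}}

set_option backward.defeqAttrib.useBackward true in
set_option backward.isDefEq.respectTransparency false in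
/-- Base change composes associatively. -/
lemma overPullbackComp_assoc {T : Type*} [Category T] [HasPullbacks T]
    (P : MorphismProperty T) [P.IsStableUnderBaseChange] {A B C Y : T}
    (g : A ⟶ B) (f : B ⟶ C) (t : C ⟶ Y) (V : P.Over ⊤ Y) :
    (MorphismProperty.Over.pullbackComp (P := P) (Q := ⊤) g (f ≫ t) (g ≫ f ≫ t) rfl).hom.app V ≫
        (MorphismProperty.Over.pullback P ⊤ g).map
          ((MorphismProperty.Over.pullbackComp (P := P) (Q := ⊤) f t (f ≫ t) rfl).hom.app V) =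
      MorphismProperty.Over.homMk
          (pullback.congrHom rfl (Category.assoc g f t).symm).hom (by simp) ≫
        (MorphismProperty.Over.pullbackComp (P := P) (Q := ⊤) (g ≫ f) t ((g ≫ f) ≫ t) rfl).hom.app V ≫
        (MorphismProperty.Over.pullbackComp (P := P) (Q := ⊤) g f (g ≫ f) rfl).hom.app
          ((MorphismProperty.Over.pullback P ⊤ t).obj V) := by
  apply MorphismProperty.Over.Hom.ext
  refine pullback.hom_ext (pullback.hom_ext (pullback.hom_ext ?_ ?_) ?_) ?_ <;>
    simp [MorphismProperty.Over.pullbackComp, pullback.condition]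

set_option backward.isDefEq.respectTransparency.types false in
/-- Direct images compose associatively. -/
lemma pushComp_assoc (g : A ⟶ B) (f : B ⟶ C) (t : C ⟶ Y) (P : EtCoh.Ab A) :
    (EtCoh.pushComp t f).hom.app ((EtCoh.push g).obj P) ≫
        (EtCoh.pushComp (f ≫ t) g).hom.app P =
      (EtCoh.push t).map ((EtCoh.pushComp f g).hom.app P) ≫
        (EtCoh.pushComp t (g ≫ f)).hom.app P := by
  ext V : 3
  show P.obj.map _ ≫ P.obj.map _ = P.obj.map _ ≫ P.obj.map _
  rw [← Functor.map_comp, ← Functor.map_comp]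
  refine congrArg P.obj.map (Quiver.Hom.unop_inj ?_)
  refine (overPullbackComp_assoc EtCoh.etaleMP g f t V.unop).trans ?_
  refine Eq.trans ?_ (Category.id_comp _)
  congr 1
  apply MorphismProperty.Over.Hom.ext
  exact pullback.map_id

/-- The defining property of `pullComp`. -/
lemma homEquiv_pullComp (f : A ⟶ B) (t : B ⟶ Y) (F : EtCoh.Ab Y) {M : EtCoh.Ab A}
    (φ : (EtCoh.pull (f ≫ t)).obj F ⟶ M) :
    (EtCoh.pullPushAdj t).homEquiv _ _ ((EtCoh.pullPushAdj f).homEquiv _ _
        ((EtCore.pullComp f t).inv.app F ≫ φ)) ≫ (EtCoh.pushComp t f).hom.app M =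
      (EtCoh.pullPushAdj (f ≫ t)).homEquiv _ _ φ := by
  let comp' := ((EtCoh.pullPushAdj t).comp (EtCoh.pullPushAdj f)).ofNatIsoRight (EtCoh.pushComp t f)
  have h1 : comp'.homEquiv F _ ((EtCore.pullComp f t).inv.app F) =
      (EtCoh.pullPushAdj (f ≫ t)).unit.app F :=
    Adjunction.homEquiv_leftAdjointUniq_hom_app comp' (EtCoh.pullPushAdj (f ≫ t)) F
  have h2 : comp'.homEquiv F M ((EtCore.pullComp f t).inv.app F ≫ φ) =
      (EtCoh.pullPushAdj (f ≫ t)).homEquiv _ _ φ := by
    refine (comp'.homEquiv_naturality_right _ _).trans ?_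
    rw [h1]
    exact ((EtCoh.pullPushAdj (f ≫ t)).homEquiv_unit _ _ _).symm
  rw [← h2, show comp' = _ from rfl, Adjunction.homEquiv_ofNatIsoRight_apply,
    Adjunction.comp_homEquiv]
  rfl

/-- Inverse images compose associatively. -/
lemma pullComp_assoc (g : A ⟶ B) (f : B ⟶ C) (t : C ⟶ Y) (F : EtCoh.Ab Y) :
    (EtCoh.pull g).map ((EtCore.pullComp f t).inv.app F) ≫
        (EtCore.pullComp g (f ≫ t)).inv.app F =
      (EtCore.pullComp g f).inv.app ((EtCoh.pull t).obj F) ≫
        (EtCore.pullComp (g ≫ f) t).inv.app F := by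
  apply ((EtCoh.pullPushAdj g).homEquiv _ _).injective
  apply ((EtCoh.pullPushAdj f).homEquiv _ _).injective
  apply ((EtCoh.pullPushAdj t).homEquiv _ _).injective
  refine (cancel_mono ((EtCoh.pushComp t f).hom.app _ ≫
    (EtCoh.pushComp (f ≫ t) g).hom.app _)).1 ?_
  refine Eq.trans (b := (EtCoh.pullPushAdj (g ≫ f ≫ t)).homEquiv _ _ (𝟙 _)) ?_ ?_
  · rw [Adjunction.homEquiv_naturality_left (EtCoh.pullPushAdj g)]
    refine (Category.assoc _ _ _).symm.trans ?_
    rw [homEquiv_pullComp]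
    refine Eq.trans ?_ (homEquiv_pullComp g (f ≫ t) F (𝟙 _))
    rw [Category.comp_id]
  · rw [pushComp_assoc]
    symm
    refine (Category.assoc _ _ _).symm.trans ?_
    rw [← Adjunction.homEquiv_naturality_right]
    refine (congrArg (fun z => (EtCoh.pullPushAdj t).homEquiv _ _ z ≫ _)
      (homEquiv_pullComp g f ((EtCoh.pull t).obj F)
        ((EtCore.pullComp (g ≫ f) t).inv.app F))).trans ?_
    refine Eq.trans ?_ (homEquiv_pullComp (g ≫ f) t F (𝟙 _))
    rw [Category.comp_id]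
    rfl

set_option maxRecDepth 4000 in
/-- Relative pullback on cohomology is functorial. -/
theorem HpullVia_comp (g : A ⟶ B) (f : B ⟶ C) (t : C ⟶ Y) (b : B ⟶ Y) (a : A ⟶ Y)
    (wf : f ≫ t = b) (wg : g ≫ b = a) (wgf : (g ≫ f) ≫ t = a) (F : EtCoh.Ab Y) (q : ℕ)
    (y : EtCoh.H C ((EtCoh.pull t).obj F) q) :
    EtCore.HpullVia g b a wg F q (EtCore.HpullVia f t b wf F q y) =
      EtCore.HpullVia (g ≫ f) t a wgf F q y := by
  subst wf
  subst wg
  show (((Ext.mk₀ (EtCore.pullConst g ℤ).inv).comp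
      ((((Ext.mk₀ (EtCore.pullConst f ℤ).inv).comp (y.mapExactFunctor (EtCoh.pull f))
        (zero_add q)).comp (Ext.mk₀ ((EtCore.pullComp f t).inv.app F ≫ 𝟙 _))
          (add_zero q)).mapExactFunctor (EtCoh.pull g)) (zero_add q)).comp
        (Ext.mk₀ ((EtCore.pullComp g (f ≫ t)).inv.app F ≫ 𝟙 _)) (add_zero q)) =
    ((Ext.mk₀ (EtCore.pullConst (g ≫ f) ℤ).inv).comp (y.mapExactFunctor (EtCoh.pull (g ≫ f)))
        (zero_add q)).comp
      (Ext.mk₀ ((EtCore.pullComp (g ≫ f) t).inv.app F ≫ 𝟙 _)) (add_zero q)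
  rw [Category.comp_id, Category.comp_id, Category.comp_id, Ext.mapExactFunctor_comp,
    Ext.mapExactFunctor_mk₀, Ext.mapExactFunctor_comp, Ext.mapExactFunctor_mk₀]
  simp only [Ext.comp_assoc_of_third_deg_zero]
  rw [Ext.mk₀_comp_mk₀, pullComp_assoc]
  refine Eq.trans (congrArg (fun z => (Ext.mk₀ (EtCore.pullConst g ℤ).inv).comp
      ((Ext.mk₀ ((EtCoh.pull g).map (EtCore.pullConst f ℤ).inv)).comp
        (((y.mapExactFunctor (EtCoh.pull f)).mapExactFunctor (EtCoh.pull g)).comp z (add_zero q))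
          (zero_add q)) (zero_add q))
    (Ext.mk₀_comp_mk₀ ((EtCore.pullComp g f).inv.app ((EtCoh.pull t).obj F))
      ((EtCore.pullComp (g ≫ f) t).inv.app F)).symm) ?_
  refine Eq.trans (congrArg (fun z => (Ext.mk₀ (EtCore.pullConst g ℤ).inv).comp
      ((Ext.mk₀ ((EtCoh.pull g).map (EtCore.pullConst f ℤ).inv)).comp z (zero_add q)) (zero_add q))
    ((Ext.comp_assoc_of_third_deg_zero _ _ _ (add_zero q)).symm.trans
      (congrArg (fun z => Ext.comp z (Ext.mk₀ ((EtCore.pullComp (g ≫ f) t).inv.app F)) (add_zero q))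
        (EtaleBase.ExtAdj.mapExt_natTrans₂ (EtCoh.pull f) (EtCoh.pull g) (EtCoh.pull (g ≫ f))
          (EtCore.pullComp g f).inv (EtCoh.const C ℤ) q ((EtCoh.pull t).obj F) y)))) ?_
  rw [Ext.comp_assoc_of_third_deg_zero, Ext.mk₀_comp_mk₀_assoc]
  refine (Ext.mk₀_comp_mk₀_assoc _ _ _).trans ?_
  refine congrArg (fun z => (Ext.mk₀ z).comp
    ((y.mapExactFunctor (EtCoh.pull (g ≫ f))).comp
      (Ext.mk₀ ((EtCore.pullComp (g ≫ f) t).inv.app F)) (add_zero q)) (zero_add q)) ?_
  exact (Category.assoc _ _ _).trans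
    (EtaleBase.pullConstIso_comp g f (AddCommGrpCat.of (ULift.{u + 1} ℤ)))

/-- Relative pullback along the identity is the identity. -/
theorem HpullVia_id (t : C ⟶ Y) (w : 𝟙 C ≫ t = t) (F : EtCoh.Ab Y) (q : ℕ) :
    EtCore.HpullVia (𝟙 C) t t w F q = AddMonoidHom.id _ := by
  ext y
  have hinj : Function.Injective (EtCore.HpullVia (𝟙 C) t t w F q) := by
    have h1 := (EtaleBase.InjCoh.Hpull_bijective_univHomeo (𝟙 C) ((EtCoh.pull t).obj F) q).1
    intro a b hab
    apply h1
    exact ((EtCoh.HF C q).mapIso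
      (((EtCore.pullComp (𝟙 C) t).symm ≪≫ EtCore.pullCongr w).app F)).addCommGroupIsoToAddEquiv.injective hab
  exact hinj (HpullVia_comp (𝟙 C) (𝟙 C) t t t w w (by simp) F q y |>.trans (by
    congr 1))

end Groth.DescentBase
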