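import Groth.Agent.DescentBase.AcyclicConst
import Groth.Agent.EtaleBase.Limit.FlasquePush
import Groth.Agent.DescentBase.HpullViaComp
import Groth.Agent.EtaleBase.PullStalk

/-!
# Sheaves killed by an integer embed into flasque ones killed by it
-/

set_option autoImplicit false
set_option synthInstance.maxHeartbeats 400000
set_option backward.isDefEq.respectTransparency.types false
set_option linter.style.haveILetI false

universe u

open CategoryTheory CategoryTheory.Limits CategoryTheory.Abelian AlgebraicGeometry Opposite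
open Groth.EtaleBase Groth.EtPbc.Godement Groth.EtaleDeep.Cons

namespace Groth.DescentBase.FlasqueKilled

variable {X : Scheme.{u}}

theorem exists_flasque_mono (F : EtCoh.Ab X) (n : ℕ) (hn : 0 < n) (hF : n • 𝟙 F = 0) :
    ∃ (K : EtCoh.Ab X) (u : F ⟶ K), Mono u ∧ n • 𝟙 K = 0 ∧
      ∀ (W : X.Etale) (q : ℕ), 0 < q → Subsingleton (EtCoh.H W.left ((EtCoh.pull W.hom).obj K) q) := by
  let M : X → AddCommGrpCat.{u + 1} := fun x => Injective.under ((EtCoh.stalk (geomPoint x)).obj F)
  let P := prodSky M
  haveI : ∀ x, Injective ((sky x).obj (M x)) := fun x => injective_sky x _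
  haveI : Injective P := inferInstanceAs (Injective (∏ᶜ fun x => (sky x).obj (M x)))
  let adj : ∀ x : X, EtCoh.stalk (geomPoint x) ⊣ sky x := fun x =>
    (Scheme.pointSmallEtale (geomPoint x)).skyscraperSheafAdjunction
  let j : F ⟶ P := Pi.lift fun x => (adj x).homEquiv _ _ (Injective.ι _)
  haveI : Mono j := mono_of_stalk_injective _ fun x => by
    have e : Injective.ι ((EtCoh.stalk (geomPoint x)).obj F) =
        (EtCoh.stalk (geomPoint x)).map j ≫
          (EtCoh.stalk (geomPoint x)).map (Pi.π (fun x => (sky x).obj (M x)) x) ≫ (adj x).counit.app _ := by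
      rw [← Category.assoc, ← Functor.map_comp, Pi.lift_π]
      exact (((adj x).homEquiv _ _).symm_apply_apply _).symm.trans ((adj x).homEquiv_counit _ _ _)
    haveI : Mono ((EtCoh.stalk (geomPoint x)).map j ≫
          (EtCoh.stalk (geomPoint x)).map (Pi.π (fun x => (sky x).obj (M x)) x) ≫ (adj x).counit.app _) := by
      rw [← e]; infer_instance
    exact (AddCommGrpCat.mono_iff_injective _).1 (mono_of_mono _
      ((EtCoh.stalk (geomPoint x)).map (Pi.π (fun x => (sky x).obj (M x)) x) ≫ (adj x).counit.app _))
  let m : P ⟶ P := n • 𝟙 P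
  have hsurj : ∀ U : X.Etale, Function.Surjective (m.hom.app (op U)) := fun U s => by
    obtain ⟨t, ht⟩ := surjective_nsmul_prodSky M n (fun x => surjective_nsmul_of_injective hn) U s
    exact ⟨t, (HpullReduce.nsmul_app (𝟙 P) n U t).trans ht⟩
  haveI : Sheaf.IsLocallySurjective m := ⟨fun {U} s =>
    X.smallEtaleTopology.superset_covering (fun W g _ => hsurj W _) (X.smallEtaleTopology.top_mem U)⟩
  haveI : Epi m := inferInstance
  have hjm : j ≫ m = 0 := by
    rw [Preadditive.comp_nsmul, Category.comp_id, ← Category.id_comp j, ← Preadditive.nsmul_comp, hF, zero_comp]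
  let S := ShortComplex.mk (kernel.ι m) m (kernel.condition m)
  have hS : S.ShortExact :=
    { exact := ShortComplex.exact_of_f_is_kernel S (kernelIsKernel m)
      mono_f := inferInstanceAs (Mono (kernel.ι m))
      epi_g := inferInstanceAs (Epi m) }
  refine ⟨kernel m, kernel.lift m j hjm, mono_of_mono_fac (kernel.lift_ι m j hjm), ?_, fun W q hq => ?_⟩
  · rw [← cancel_mono (kernel.ι m), Preadditive.nsmul_comp, Category.id_comp, zero_comp]
    calc n • kernel.ι m = kernel.ι m ≫ m := by rw [Preadditive.comp_nsmul, Category.comp_id]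
      _ = 0 := kernel.condition m
  · obtain ⟨q, rfl⟩ : ∃ r, q = r + 1 := ⟨q - 1, by omega⟩
    haveI : AlgebraicGeometry.Etale W.hom := W.prop
    have hS' := hS.map_of_exact (EtCoh.pull W.hom)
    haveI : Injective ((EtCoh.pull W.hom).obj P) := Groth.EtaleBase.InjCoh.pull_injective W.hom P
    refine subsingleton_of_forall_eq 0 fun x => ?_
    obtain ⟨y, rfl⟩ := Ext.covariant_sequence_exact₁ _ hS' x
      (Ext.eq_zero_of_injective (I := (EtCoh.pull W.hom).obj P) _) rfl
    cases q with
    | succ r =>
      have hy : y = 0 := Ext.eq_zero_of_injective (I := (EtCoh.pull W.hom).obj P) y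
      subst hy
      exact Ext.zero_comp (X := EtCoh.const W.left ℤ) (n := r + 1) hS'.extClass _ _
    | zero =>
      haveI := Groth.EtaleBase.InjCoh.jCont W.hom
      let e := pullRestrIso W.hom
      have hm' : Function.Surjective (((EtCoh.pull W.hom).map m).hom.app (op (EtCoh.top W.left))) := by
        have heq : (EtCoh.pull W.hom).map m = e.hom.app P ≫ (EtShriek.restrAlong W.hom).map m ≫ e.inv.app P := by
          rw [← Category.assoc, ← e.hom.naturality m, Category.assoc, e.hom_inv_id_app, Category.comp_id]
        rw [heq]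
        exact ((ConcreteCategory.bijective_of_isIso ((e.inv.app P).hom.app (op (EtCoh.top W.left)))).2.comp
          (hsurj ((EtShriek.compEtale W.hom).obj (EtCoh.top W.left)))).comp
          (ConcreteCategory.bijective_of_isIso ((e.hom.app P).hom.app (op (EtCoh.top W.left)))).2
      let T := EtCore.topIsTerminal W.left
      obtain ⟨σ, hσ⟩ := hm' (Sheaf.H.equiv₀ _ T y)
      obtain ⟨z, rfl⟩ := (Sheaf.H.equiv₀ ((EtCoh.pull W.hom).obj P) T).surjective σ
      have hz : y = Ext.comp z (Ext.mk₀ ((EtCoh.pull W.hom).map S.g)) (add_zero 0) :=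
        (Sheaf.H.equiv₀ _ T).injective
          (hσ.symm.trans (Sheaf.H.equiv₀_naturality (hT := T) ((EtCoh.pull W.hom).map m) z))
      rw [hz]
      exact (Ext.comp_assoc_of_second_deg_zero _ _ _ _).trans
        ((congrArg (Ext.comp z · _) (ShortComplex.ShortExact.comp_extClass hS')).trans (Ext.comp_zero _ _ _ _ _))

end Groth.DescentBase.FlasqueKilled
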