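import Groth.Agent.EtaleBase.HpullUnivHomeo
import Groth.Agent.EtaleBase.StrictVanish
import Groth.Agent.EtaleBase.StrictStalk
import Groth.Agent.Hensel1.StrictBaseChange
import Groth.Agent.Hensel1.EtaleTransfer
import Groth.Agent.Hensel1.Universal

/-!
Cohomology of a henselian local scheme is that of its closed point.
-/

set_option autoImplicit false

universe u

open CategoryTheory CategoryTheory.Limits CategoryTheory.Abelian AlgebraicGeometry Opposite

namespace Groth.DescentBase.HenselCoh

open Groth.EtaleBase

/-- A henselian local ring has an integral surjective strictly henselian cover. -/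
theorem exists_strict_cover (A : Type u) [CommRing A] [HenselianLocalRing A] :
    ∃ (W : Type u) (_ : CommRing W) (_ : HenselianLocalRing W)
      (_ : IsSepClosed (IsLocalRing.ResidueField W)) (φ : A →+* W),
      IsLocalHom φ ∧ φ.IsIntegral ∧ Surjective (Spec.map (CommRingCat.ofHom φ)) := by
  open Groth.Hensel1 in
  let T := Hens A (SeparableClosure (IsLocalRing.ResidueField A))
  have hT : Hensel.IsStrictHenselization A T :=
    Groth.Hensel1.isStrictHenselization_hens A (SeparableClosure (IsLocalRing.ResidueField A))
  have : HenselianLocalRing T := inferInstance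
  have : IsSepClosed (IsLocalRing.ResidueField T) := hT.isSepClosure.sep_closed
  have hint : (algebraMap A T).IsIntegral := fun x => by
    obtain ⟨i, y, hy⟩ := Groth.Hensel1.Hens.exists_of_ring_fintype (fun _ : Unit => x)
    let j : i.P.Ring →+* T := (Groth.Hensel1.Hens.of i).toRingHom.comp (algebraMap i.P.Ring i.Obj)
    have hj : j.comp (algebraMap A i.P.Ring) = (algebraMap A T).comp (algebraMap A A) := by
      ext a
      show Groth.Hensel1.Hens.of i (algebraMap i.P.Ring i.Obj (algebraMap A i.P.Ring a)) = _
      rw [← IsScalarTower.algebraMap_apply]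
      exact (Groth.Hensel1.Hens.of i).commutes a
    show IsIntegral A x
    rw [← hy ()]
    exact Groth.Hensel1.isIntegral_of_quasiFiniteAt_centre A A i.P.Ring T j hj (y ())
  refine ⟨T, inferInstance, inferInstance, inferInstance, algebraMap A T, inferInstance, hint, ?_⟩
  have : Module.FaithfullyFlat A T := Groth.Hensel1.Hens.faithfullyFlat
  exact ⟨PrimeSpectrum.comap_surjective_of_faithfullyFlat⟩

variable {A : Type u} [CommRing A] [HenselianLocalRing A]

/-- The closed point. -/
noncomputable abbrev i (A : Type u) [CommRing A] [HenselianLocalRing A] :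
    Spec (CommRingCat.of (IsLocalRing.ResidueField A)) ⟶ Spec (CommRingCat.of A) := closedGeom A

/-- A sheaf with vanishing restriction to the closed point. -/
def Killed (G : EtCoh.Ab (Spec (CommRingCat.of A))) : Prop := IsZero ((EtCoh.pull (i A)).obj G)

lemma subsingleton_stalk_of_killed {G : EtCoh.Ab (Spec (CommRingCat.of A))} (hG : Killed G)
    {Ω : Type u} [Field Ω] [IsSepClosed Ω]
    (η : Spec (CommRingCat.of Ω) ⟶ Spec (CommRingCat.of (IsLocalRing.ResidueField A))) :
    IsZero ((EtCoh.stalk (η ≫ i A)).obj G) :=
  IsZero.of_iso ((EtCoh.stalk η).map_isZero hG) ((stalkPullIso (i A) η).app G)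

/-- The Künneth step: inclusion into the direct image from the strict cover. -/
theorem exists_effacement (G : EtCoh.Ab (Spec (CommRingCat.of A))) (hG : Killed G) :
    ∃ (P : EtCoh.Ab (Spec (CommRingCat.of A))) (η : G ⟶ P), Mono η ∧ Killed P ∧
      ∀ n, Subsingleton (EtCoh.H (Spec (CommRingCat.of A)) P n) := by
  obtain ⟨W, _, _, _, φ, hloc, hint, hsurj⟩ := exists_strict_cover A
  let π := Spec.map (CommRingCat.ofHom φ)
  have : IsIntegralHom π := IsIntegralHom.SpecMap_iff.2 hint
  have : Surjective π := hsurj
  let P := (EtCoh.pull π).obj G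
  let η := (EtCoh.pullPushAdj π).unit.app G
  have hmono : Mono η := by
    refine mono_of_exists_stalk_injective _ fun y => ?_
    obtain ⟨z, hz⟩ := π.surjective y
    refine ⟨_, _, inferInstance, geomPoint z ≫ π, ?_, ?_⟩
    · rw [Scheme.Hom.comp_apply, geomPoint_apply, hz]
    · have h1 : Mono ((EtCoh.pull π).map η) :=
        @mono_of_mono_fac _ _ _ _ _ _ _ _ ⟨fun a b h => by simpa using h⟩
          ((EtCoh.pullPushAdj π).left_triangle_components G)
      have : PreservesFiniteLimits (EtCoh.stalk (geomPoint z)) := inferInstance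
      have h2 : Mono ((EtCoh.pull π ⋙ EtCoh.stalk (geomPoint z)).map η) :=
        inferInstanceAs (Mono ((EtCoh.stalk (geomPoint z)).map ((EtCoh.pull π).map η)))
      have h3 : Mono ((EtCoh.stalk (geomPoint z ≫ π)).map η) := by
        rw [← NatIso.naturality_2 (stalkPullIso π (geomPoint z)) η]
        infer_instance
      exact (AddCommGrpCat.mono_iff_injective _).1 h3
  -- the closed point of the cover lies over the closed point
  let ξ₁ : Spec (CommRingCat.of (IsLocalRing.ResidueField W)) ⟶
      Spec (CommRingCat.of (IsLocalRing.ResidueField A)) :=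
    Spec.map (CommRingCat.ofHom (IsLocalRing.ResidueField.map φ))
  have hξ₁ : closedGeom W ≫ π = ξ₁ ≫ i A := by
    rw [← Spec.map_comp, ← Spec.map_comp]
    rfl
  have hP0 : ∀ (τ σ : P.obj.obj (op (EtCoh.top (Spec (CommRingCat.of W))))), τ = σ := by
    have hz : IsZero ((EtCoh.stalk (closedGeom W)).obj P) := by
      have h0 : IsZero ((EtCoh.stalk (closedGeom W ≫ π)).obj G) := by
        rw [hξ₁]; exact subsingleton_stalk_of_killed hG ξ₁
      exact h0.of_iso ((stalkPullIso π (closedGeom W)).app G).symm
    have hs := AddCommGrpCat.subsingleton_of_isZero hz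
    intro τ σ
    exact (bijective_germ_closedGeom W P).1 (Subsingleton.elim _ _)
  have hP : ∀ n, Subsingleton (EtCoh.H (Spec (CommRingCat.of W)) P n) := by
    intro n
    rcases Nat.eq_zero_or_pos n with rfl | hn
    · let adj := constantSheafAdj (Spec (CommRingCat.of W)).smallEtaleTopology AddCommGrpCat.{u + 1}
        (T := EtCoh.top (Spec (CommRingCat.of W)))
        (MorphismProperty.Over.mkIdTerminal EtCoh.etaleMP (Spec (CommRingCat.of W)))
      constructor
      intro a b
      obtain ⟨a, rfl⟩ := (Ext.mk₀_bijective _ _).2 a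
      obtain ⟨b, rfl⟩ := (Ext.mk₀_bijective _ _).2 b
      congr 1
      refine (adj.homEquiv _ _).injective ?_
      ext x
      exact hP0 _ _
    · exact H_subsingleton (𝟙 _) P n hn
  refine ⟨(EtCoh.push π).obj P, η, hmono, ?_, fun n => ?_⟩
  · rw [Killed, IsZero.iff_id_eq_zero]
    have hst : ∀ (x : Spec (CommRingCat.of (IsLocalRing.ResidueField A))),
        IsZero ((EtCoh.stalk (Spec.map (CommRingCat.ofHom (algebraMap
          ((Spec (CommRingCat.of (IsLocalRing.ResidueField A))).residueField x)
          (AlgebraicClosure ((Spec (CommRingCat.of (IsLocalRing.ResidueField A))).residueField x)))) ≫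
            (Spec (CommRingCat.of (IsLocalRing.ResidueField A))).fromSpecResidueField x)).obj
          ((EtCoh.pull (i A)).obj ((EtCoh.push π).obj P))) := by
      intro x
      set ξ := Spec.map (CommRingCat.ofHom (algebraMap
          ((Spec (CommRingCat.of (IsLocalRing.ResidueField A))).residueField x)
          (AlgebraicClosure ((Spec (CommRingCat.of (IsLocalRing.ResidueField A))).residueField x)))) ≫
            (Spec (CommRingCat.of (IsLocalRing.ResidueField A))).fromSpecResidueField x with hξ
      refine IsZero.of_iso ?_ ((stalkPullIso (i A) ξ).app _).symm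
      have : Subsingleton ((EtCoh.stalk (ξ ≫ i A)).obj ((EtCoh.push π).obj P)) := by
        refine subsingleton_of_forall_eq 0 fun a => ?_
        obtain ⟨V, s, σ, rfl⟩ := germ_surjective _ _ a
        refine germ_push_eq_zero π (ξ ≫ i A) P V s σ fun l hl => ?_
        have hz : IsZero ((EtCoh.stalk l).obj P) := by
          have h0 : IsZero ((EtCoh.stalk (l ≫ π)).obj G) := by
            rw [hl]; exact subsingleton_stalk_of_killed hG ξ
          exact h0.of_iso ((stalkPullIso π l).app G).symm
        have := AddCommGrpCat.subsingleton_of_isZero hz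
        exact Subsingleton.elim _ _
      exact AddCommGrpCat.isZero_of_subsingleton _
    have : IsIso (0 : (EtCoh.pull (i A)).obj ((EtCoh.push π).obj P) ⟶
        (EtCoh.pull (i A)).obj ((EtCoh.push π).obj P)) := by
      refine isIso_of_exists_stalk _ fun x => ⟨AlgebraicClosure
        ((Spec (CommRingCat.of (IsLocalRing.ResidueField A))).residueField x), inferInstance,
        inferInstance,
        Spec.map (CommRingCat.ofHom (algebraMap
          ((Spec (CommRingCat.of (IsLocalRing.ResidueField A))).residueField x)
          (AlgebraicClosure ((Spec (CommRingCat.of (IsLocalRing.ResidueField A))).residueField x)))) ≫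
            (Spec (CommRingCat.of (IsLocalRing.ResidueField A))).fromSpecResidueField x,
        Scheme.fromSpecResidueField_apply x _, ?_⟩
      exact (ConcreteCategory.isIso_iff_bijective _).1 (isIso_of_isTerminal
          ((hst x).isTerminal) ((hst x).isTerminal) _)
    rw [← IsIso.hom_inv_id (f := (0 : (EtCoh.pull (i A)).obj ((EtCoh.push π).obj P) ⟶
        (EtCoh.pull (i A)).obj ((EtCoh.push π).obj P))), zero_comp]
  · have hb := InjCoh.HofPush_bijective π P (fun q hq => isZero_Rpush π P q hq) n
    have := hP n
    exact hb.1.subsingleton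

/-- Sheaves with vanishing restriction to the closed point are acyclic. -/
theorem subsingleton_H_of_killed :
    ∀ (n : ℕ) (G : EtCoh.Ab (Spec (CommRingCat.of A))), Killed G →
      Subsingleton (EtCoh.H (Spec (CommRingCat.of A)) G n) := by
  intro n
  induction n with
  | zero =>
    intro G hG
    obtain ⟨P, η, _, -, hP⟩ := exists_effacement G hG
    have := hP 0
    exact (Ext.postcomp_mk₀_injective_of_mono _ η).subsingleton
  | succ n ih =>
    intro G hG
    obtain ⟨P, η, _, hkP, hP⟩ := exists_effacement G hG
    have hS : (ShortComplex.mk η (cokernel.π η) (cokernel.condition η)).ShortExact :=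
      { exact := ShortComplex.exact_cokernel η }
    have hQ : Killed (cokernel η) := by
      have : Epi ((EtCoh.pull (i A)).map (cokernel.π η)) := inferInstance
      rw [Killed, IsZero.iff_id_eq_zero, ← cancel_epi ((EtCoh.pull (i A)).map (cokernel.π η))]
      exact hkP.eq_of_src _ _
    have h1 := ih _ hQ
    refine subsingleton_of_forall_eq 0 fun x => ?_
    obtain ⟨y, rfl⟩ := Ext.covariant_sequence_exact₁ _ hS x
      ((hP (n + 1)).elim _ _) rfl
    rw [h1.elim y 0, Ext.zero_comp]

/-- A morphism inverted by restriction to the closed point is a bijection on cohomology. -/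
theorem bijective_postcomp {F T : EtCoh.Ab (Spec (CommRingCat.of A))} (u : F ⟶ T)
    [PreservesFiniteLimits (EtCoh.pull (i A))] (hu : IsIso ((EtCoh.pull (i A)).map u)) (n : ℕ) :
    Function.Bijective ((Ext.mk₀ u).postcomp (EtCoh.const (Spec (CommRingCat.of A)) ℤ) (add_zero n)) := by
  have hK : Killed (kernel u) := by
    refine IsZero.of_mono_eq_zero ((EtCoh.pull (i A)).map (kernel.ι u)) ?_
    rw [← cancel_mono ((EtCoh.pull (i A)).map u), ← Functor.map_comp, kernel.condition]
    simp
  have hC : Killed (cokernel u) := by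
    refine IsZero.of_epi_eq_zero ((EtCoh.pull (i A)).map (cokernel.π u)) ?_
    rw [← cancel_epi ((EtCoh.pull (i A)).map u), ← Functor.map_comp, cokernel.condition]
    simp
  have hS₁ : (ShortComplex.mk (kernel.ι u) (Abelian.factorThruImage u) (by
      rw [← cancel_mono (Abelian.image.ι u), Category.assoc, Abelian.image.fac]; simp)).ShortExact :=
    { exact := by
        refine (ShortComplex.exact_iff_of_epi_of_isIso_of_mono
          ({ τ₁ := 𝟙 _, τ₂ := 𝟙 _, τ₃ := Abelian.image.ι u } :
            ShortComplex.mk (kernel.ι u) (Abelian.factorThruImage u) _ ⟶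
              ShortComplex.mk (kernel.ι u) u (kernel.condition u))).2 ?_
        exact ShortComplex.exact_of_f_is_kernel _ (kernelIsKernel u) }
  have hS₂ : (ShortComplex.mk (Abelian.image.ι u) (cokernel.π u) (kernel.condition _)).ShortExact :=
    { exact := ShortComplex.exact_of_f_is_kernel _ (kernelIsKernel (cokernel.π u)) }
  have hk : ∀ m, Subsingleton (EtCoh.H (Spec (CommRingCat.of A)) (kernel u) m) :=
    fun m => subsingleton_H_of_killed m _ hK
  have hc : ∀ m, Subsingleton (EtCoh.H (Spec (CommRingCat.of A)) (cokernel u) m) :=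
    fun m => subsingleton_H_of_killed m _ hC
  have e1 : Function.Bijective ((Ext.mk₀ (Abelian.factorThruImage u)).postcomp
      (EtCoh.const (Spec (CommRingCat.of A)) ℤ) (add_zero n)) := by
    constructor
    · refine (injective_iff_map_eq_zero _).2 fun x hx => ?_
      obtain ⟨y, rfl⟩ := Ext.covariant_sequence_exact₂ _ hS₁ x hx
      rw [(hk n).elim y 0, Ext.zero_comp]
    · intro x
      exact Ext.covariant_sequence_exact₃ _ hS₁ x rfl ((hk (n + 1)).elim _ _)
  have e2 : Function.Bijective ((Ext.mk₀ (Abelian.image.ι u)).postcomp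
      (EtCoh.const (Spec (CommRingCat.of A)) ℤ) (add_zero n)) := by
    constructor
    · rcases n with _ | m
      · exact Ext.postcomp_mk₀_injective_of_mono _ _
      · refine (injective_iff_map_eq_zero _).2 fun x hx => ?_
        obtain ⟨y, rfl⟩ := Ext.covariant_sequence_exact₁ _ hS₂ x hx rfl
        rw [(hc m).elim y 0, Ext.zero_comp]
    · intro x
      exact Ext.covariant_sequence_exact₂ _ hS₂ x ((hc n).elim _ _)
  have he : ∀ x, (Ext.mk₀ u).postcomp (EtCoh.const (Spec (CommRingCat.of A)) ℤ) (add_zero n) x =
      (Ext.mk₀ (Abelian.image.ι u)).postcomp _ (add_zero n)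
        ((Ext.mk₀ (Abelian.factorThruImage u)).postcomp _ (add_zero n) x) := fun x => by
    show x.comp (Ext.mk₀ u) (add_zero n) =
      (x.comp (Ext.mk₀ (Abelian.factorThruImage u)) (add_zero n)).comp
        (Ext.mk₀ (Abelian.image.ι u)) (add_zero n)
    rw [Ext.comp_assoc_of_third_deg_zero, Ext.mk₀_comp_mk₀, Abelian.image.fac]
  rw [show ⇑((Ext.mk₀ u).postcomp (EtCoh.const (Spec (CommRingCat.of A)) ℤ) (add_zero n)) = _ from
    funext he]
  exact e2.comp e1

/-- Restriction to the closed point is bijective on cohomology. -/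
theorem bijective_Hpull [PreservesFiniteLimits (EtCoh.pull (i A))]
    (F : EtCoh.Ab (Spec (CommRingCat.of A))) (n : ℕ) :
    Function.Bijective (EtCore.Hpull (i A) F n) := by
  have : IsIntegralHom (i A) := IsIntegralHom.SpecMap_iff.2
    (RingHom.isIntegral_of_surjective _ IsLocalRing.residue_surjective)
  have : IsClosedImmersion (i A) :=
    IsClosedImmersion.spec_of_surjective (CommRingCat.ofHom (IsLocalRing.residue A))
      IsLocalRing.residue_surjective
  have := isIso_counit (i A) ((EtCoh.pull (i A)).obj F)
  have hu : IsIso ((EtCoh.pull (i A)).map ((EtCoh.pullPushAdj (i A)).unit.app F)) :=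
    IsIso.of_isIso_fac_right (h := 𝟙 _) ((EtCoh.pullPushAdj (i A)).left_triangle_components F)
  have h1 := InjCoh.HofPush_bijective (i A) ((EtCoh.pull (i A)).obj F)
    (fun p hp => isZero_Rpush (i A) _ p hp) n
  have h2 := bijective_postcomp ((EtCoh.pullPushAdj (i A)).unit.app F) hu n
  have h3 : ∀ x, EtCore.Hpull (i A) F n x = EtLim.HofPush (i A) ((EtCoh.pull (i A)).obj F) n
      (x.comp (Ext.mk₀ ((EtCoh.pullPushAdj (i A)).unit.app F)) (add_zero n)) := fun x => by
    show (Ext.mk₀ (EtCore.pullConst (i A) ℤ).inv).comp (x.mapExactFunctor (EtCoh.pull (i A))) (zero_add n) =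
      ((Ext.mk₀ (EtCore.pullConst (i A) ℤ).inv).comp
        ((x.comp (Ext.mk₀ ((EtCoh.pullPushAdj (i A)).unit.app F)) (add_zero n)).mapExactFunctor (EtCoh.pull (i A)))
          (zero_add n)).comp (Ext.mk₀ ((EtCoh.pullPushAdj (i A)).counit.app ((EtCoh.pull (i A)).obj F))) (add_zero n)
    rw [Ext.mapExactFunctor_comp, Ext.mapExactFunctor_mk₀, Ext.comp_assoc_of_third_deg_zero,
      Ext.comp_assoc_of_third_deg_zero, Ext.mk₀_comp_mk₀, Adjunction.left_triangle_components, Ext.comp_mk₀_id]
  rw [show ⇑(EtCore.Hpull (i A) F n) = _ from funext h3]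
  exact h1.comp h2

end Groth.DescentBase.HenselCoh
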