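import Groth.Agent.DescentBase.HpullReduce
import Mathlib.GroupTheory.FiniteAbelian.Basic

/-!
# Comparison of cohomology along a morphism: from constant coefficients on finite covers to torsion sheaves
-/

set_option autoImplicit false
set_option synthInstance.maxHeartbeats 400000
set_option backward.isDefEq.respectTransparency.types false
set_option linter.style.haveILetI false

universe u

open CategoryTheory CategoryTheory.Limits AlgebraicGeometry Opposite
open Groth.EtaleBase Groth.EtaleDeep.Cons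

namespace Groth.DescentBase.HpullReduce

variable {X Y : Scheme.{u}}

theorem isTorsion_cokernel {F G : EtCoh.Ab X} (u : F ⟶ G) (hG : EtCoh.IsTorsion G) :
    EtCoh.IsTorsion (cokernel u) := by
  refine Groth.EtPbc.Torsion.isTorsion_of_stalks fun x => fun y => ?_
  haveI : Epi ((EtCoh.stalk (geomPoint x)).map (cokernel.π u)) := inferInstance
  obtain ⟨z, rfl⟩ := (AddCommGrpCat.epi_iff_surjective _).1 this y
  exact ((EtCoh.stalk (geomPoint x)).map (cokernel.π u)).hom.isOfFinAddOrder
    (Groth.EtPbc.Torsion.isAddTorsion_stalk hG _ z)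

/-- A finite constant sheaf splits into the cyclic ones. -/
theorem exists_split_const (Z : Scheme.{u}) (M : Type) [AddCommGroup M] [Finite M] :
    ∃ (ι : Type) (_ : Fintype ι) (n : ι → ℕ) (π : ∀ l, EtCoh.const Z M ⟶ EtCoh.const Z (ZMod (n l)))
      (s : ∀ l, EtCoh.const Z (ZMod (n l)) ⟶ EtCoh.const Z M), ∑ l, π l ≫ s l = 𝟙 (EtCoh.const Z M) := by
  classical
  obtain ⟨ι, hι, n, -, ⟨e⟩⟩ := AddCommGroup.equiv_directSum_zmod_of_finite' M
  let C := constantSheaf Z.smallEtaleTopology AddCommGrpCat.{u + 1}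
  let a : ∀ l, AddCommGrpCat.of (ULift.{u + 1} M) ⟶ AddCommGrpCat.of (ULift.{u + 1} (ZMod (n l))) := fun l =>
    AddCommGrpCat.ofHom (AddEquiv.ulift.symm.toAddMonoidHom.comp
      (((DFinsupp.evalAddMonoidHom l).comp e.toAddMonoidHom).comp AddEquiv.ulift.toAddMonoidHom))
  let b : ∀ l, AddCommGrpCat.of (ULift.{u + 1} (ZMod (n l))) ⟶ AddCommGrpCat.of (ULift.{u + 1} M) := fun l =>
    AddCommGrpCat.ofHom (AddEquiv.ulift.symm.toAddMonoidHom.comp
      ((e.symm.toAddMonoidHom.comp (DirectSum.of (fun l => ZMod (n l)) l)).comp AddEquiv.ulift.toAddMonoidHom))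
  refine ⟨ι, hι, n, fun l => C.map (a l), fun l => C.map (b l), ?_⟩
  have h : ∑ l, a l ≫ b l = 𝟙 _ := by
    ext x
    show AddEquiv.ulift (((∑ l, a l ≫ b l).hom : _ →+ _) x) = AddEquiv.ulift x
    rw [show (∑ l, a l ≫ b l).hom = ∑ l, (a l ≫ b l).hom from map_sum AddCommGrpCat.homAddEquiv _ _,
      AddMonoidHom.finsetSum_apply, map_sum]
    show ∑ l, e.symm (DirectSum.of (fun l => ZMod (n l)) l (e (AddEquiv.ulift x) l)) = AddEquiv.ulift x
    rw [← map_sum, DirectSum.sum_univ_of, e.symm_apply_apply]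
  show ∑ l, C.map (a l) ≫ C.map (b l) = 𝟙 _
  simp only [← Functor.map_comp, ← Functor.map_sum, h]
  exact C.map_id _

variable (i : Y ⟶ X) [PreservesFiniteLimits (EtCoh.pull i)]

/-- The cyclic constant sheaves on finite covers are enough for the direct images of finite constant ones. -/
theorem push_const
    (P : ∀ {A B : Scheme.{u}} (j : B ⟶ A) [PreservesFiniteLimits (EtCoh.pull j)], EtCoh.Ab A → Prop)
    (hsplit : ∀ {A B : Scheme.{u}} (j : B ⟶ A) [PreservesFiniteLimits (EtCoh.pull j)] {ι : Type} [Fintype ι]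
      {F : EtCoh.Ab A} {G : ι → EtCoh.Ab A} (π : ∀ l, F ⟶ G l) (s : ∀ l, G l ⟶ F),
      ∑ l, π l ≫ s l = 𝟙 F → (∀ l, P j (G l)) → P j F)
    (hpush : ∀ {X' Y' : Scheme.{u}} (p : X' ⟶ X) [IsFinite p] (j : Y' ⟶ X') (p' : Y' ⟶ Y)
      (_ : IsPullback j p' p i) [PreservesFiniteLimits (EtCoh.pull j)] (C : EtCoh.Ab X'),
      P j C → P i ((EtCoh.push p).obj C))
    (h : ∀ (n : ℕ) (X' : Scheme.{u}) (p : X' ⟶ X) [IsFinite p]
      [PreservesFiniteLimits (EtCoh.pull (pullback.fst p i))],
      P (pullback.fst p i) (EtCoh.const X' (ZMod n)))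
    {m : ℕ} {Z : Fin m → Scheme.{u}} (f : ∀ l, Z l ⟶ X) [∀ l, IsFinite (f l)]
    (M : Fin m → Type) [∀ l, AddCommGroup (M l)] [∀ l, Finite (M l)] :
    P i (⨁ fun l => (EtCoh.push (f l)).obj (EtCoh.const (Z l) (M l))) := by
  refine hsplit i (fun l => biproduct.π _ l)
    (fun l => biproduct.ι (fun l => (EtCoh.push (f l)).obj (EtCoh.const (Z l) (M l))) l) biproduct.total fun l => ?_
  refine hpush (f l) (pullback.fst (f l) i) (pullback.snd (f l) i) (IsPullback.of_hasPullback _ _) _ ?_
  obtain ⟨ι, _, n, π, s, hs⟩ := exists_split_const (Z l) (M l)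
  exact hsplit _ π s hs fun k => h (n k) (Z l) (f l)

/-- The reduction theorem. -/
theorem bijective_of_finite_covers [CompactSpace X] [QuasiSeparatedSpace X] [CompactSpace Y] [QuasiSeparatedSpace Y]
    (h : ∀ (n : ℕ) (X' : Scheme.{u}) (p : X' ⟶ X) [IsFinite p]
      [PreservesFiniteLimits (EtCoh.pull (pullback.fst p i))],
      Function.Bijective (EtCore.Hpull (pullback.fst p i) (EtCoh.const X' (ZMod n)) 0) ∧
        ∀ q : ℕ, 0 < q → Function.Surjective (EtCore.Hpull (pullback.fst p i) (EtCoh.const X' (ZMod n)) q))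
    (q : ℕ) : ∀ F : EtCoh.Ab X, EtCoh.IsTorsion F → Inj i F q ∧ Surj i F q := by
  induction q using Nat.strong_induction_on with
  | _ q ih =>
    have hEs : ∀ {m : ℕ} {Z : Fin m → Scheme.{u}} (f : ∀ l, Z l ⟶ X) [∀ l, IsFinite (f l)]
        (M : Fin m → Type) [∀ l, AddCommGroup (M l)] [∀ l, Finite (M l)],
        Surj i (⨁ fun l => (EtCoh.push (f l)).obj (EtCoh.const (Z l) (M l))) q := by
      intro m Z f _ M _ _
      refine push_const i (fun j _ F => Surj j F q) (fun j _ _ _ _ _ π t ht hG => surj_of_split j π t ht hG)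
        (fun p _ j p' hsq _ C hC => (inj_surj_push i p j p' hsq C q).2 hC) (fun n X' p _ _ => ?_) f M
      rcases Nat.eq_zero_or_pos q with rfl | hq
      · exact (h n X' p).1.2
      · exact (h n X' p).2 q hq
    have hci : ∀ G : EtCoh.Ab X, EtPBC.IsConstructible G → Inj i G q := by
      intro G hG
      cases q with
      | zero =>
        obtain ⟨m, Z, f, hf, -, M, hM, hM', ι, hι⟩ := Groth.EtPbc.ConsEmbed.exists_embedding hG
        refine inj_surj_zero_of_mono i ι ?_
        exact push_const i (fun j _ F => Inj j F 0) (fun j _ _ _ _ _ π t ht hG => inj_of_split j π t ht hG)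
          (fun p _ j p' hsq _ C hC => (inj_surj_push i p j p' hsq C 0).1 hC) (fun n X' p _ _ => (h n X' p).1.1)
          f M
      | succ n =>
        refine (injective_iff_map_eq_zero _).2 fun x hx => ?_
        obtain ⟨K, u, hK, hu, hux⟩ := Groth.EtPbc.Godement.exists_effacement hG (n + 1) n.succ_pos x
        have hKt := isTorsion_of_isConstructible hK
        exact inj_succ_of_effaced i u x hux (ih n n.lt_succ_self K hKt).2
          (ih n n.lt_succ_self _ (isTorsion_cokernel u hKt)).1 hx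
    have hinj : ∀ F : EtCoh.Ab X, EtCoh.IsTorsion F → Inj i F q := fun F hF => inj_of_constructible i hF q hci
    refine fun F hF => ⟨hinj F hF, surj_of_constructible i hF q fun G hG => ?_⟩
    obtain ⟨m, Z, f, hf, hf', M, hM, hM', ι, hι⟩ := Groth.EtPbc.ConsEmbed.exists_embedding hG
    have hB : EtCoh.IsTorsion (⨁ fun l => (EtCoh.push (f l)).obj (EtCoh.const (Z l) (M l))) :=
      isTorsion_of_isConstructible (isConstructible_biproduct _ fun l =>
        isConstructible_push (f l) (isConstructible_of_isFLC (isFLC_constantSheaf (Z l) (M l))))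
    exact surj_of_mono i ι (hEs f M) (hinj _ (isTorsion_cokernel ι hB))
      fun n hn => (ih n (by omega) _ (isTorsion_cokernel ι hB)).2

end Groth.DescentBase.HpullReduce
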