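import Groth.Agent.EtPbc.ConsEmbed
import Groth.Agent.EtPbc.Godement
import Groth.Agent.EtCd.HpullSeq
import Groth.Agent.EtCd.AcycCriterion
import Groth.Agent.EtaleBase.InjCoh
import Groth.Agent.EtaleBase.BaseChange0
import Groth.Agent.EtaleBase.RpushExact
import Groth.Agent.S14389

/-!
# Comparison of cohomology along a morphism: reduction to constant coefficients on finite covers
-/

set_option autoImplicit false
set_option synthInstance.maxHeartbeats 400000
set_option backward.isDefEq.respectTransparency.types false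
set_option linter.style.haveILetI false

universe u

open CategoryTheory CategoryTheory.Limits CategoryTheory.Abelian AlgebraicGeometry Opposite
open Groth.EtaleDeep.Cons

namespace Groth.DescentBase.HpullReduce

variable {X Y : Scheme.{u}} (i : Y ⟶ X) [PreservesFiniteLimits (EtCoh.pull i)]

/-- Injectivity in degree `q`. -/
def Inj (F : EtCoh.Ab X) (q : ℕ) : Prop := Function.Injective (EtCore.Hpull i F q)

/-- Surjectivity in degree `q`. -/
def Surj (F : EtCoh.Ab X) (q : ℕ) : Prop := Function.Surjective (EtCore.Hpull i F q)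

/-- Pushing a class forward. -/
noncomputable def pushH {Z : Scheme.{u}} {F G : EtCoh.Ab Z} (φ : F ⟶ G) (q : ℕ) :
    EtCoh.H Z F q →+ EtCoh.H Z G q :=
  AddMonoidHom.mk' (fun x => x.comp (Ext.mk₀ φ) (add_zero q)) fun x y => Ext.add_comp x y _ _

theorem pushH_comp {Z : Scheme.{u}} {F G K : EtCoh.Ab Z} (φ : F ⟶ G) (ψ : G ⟶ K) (q : ℕ)
    (x : EtCoh.H Z F q) : pushH (φ ≫ ψ) q x = pushH ψ q (pushH φ q x) := by
  show x.comp (Ext.mk₀ (φ ≫ ψ)) (add_zero q) = (x.comp (Ext.mk₀ φ) (add_zero q)).comp (Ext.mk₀ ψ) (add_zero q)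
  rw [Ext.comp_assoc_of_third_deg_zero, Ext.mk₀_comp_mk₀]

theorem pushH_id {Z : Scheme.{u}} {F : EtCoh.Ab Z} (q : ℕ) (x : EtCoh.H Z F q) : pushH (𝟙 F) q x = x :=
  Ext.comp_mk₀_id x

theorem Hpull_pushH {F G : EtCoh.Ab X} (φ : F ⟶ G) (q : ℕ) (x : EtCoh.H X F q) :
    EtCore.Hpull i G q (pushH φ q x) = pushH ((EtCoh.pull i).map φ) q (EtCore.Hpull i F q x) :=
  Groth.EtCd.Hpull_comp_mk₀ i φ x

theorem pushH_sum {Z : Scheme.{u}} {F G : EtCoh.Ab Z} {ι : Type*} (s : Finset ι) (f : ι → (F ⟶ G)) (q : ℕ)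
    (x : EtCoh.H Z F q) : pushH (∑ l ∈ s, f l) q x = ∑ l ∈ s, pushH (f l) q x := by
  classical
  show x.comp (Ext.mk₀ _) (add_zero q) = ∑ l ∈ s, x.comp (Ext.mk₀ (f l)) (add_zero q)
  induction s using Finset.induction_on with
  | empty => rw [Finset.sum_empty, Finset.sum_empty, Ext.mk₀_zero, Ext.comp_zero]
  | insert a s ha ih => rw [Finset.sum_insert ha, Finset.sum_insert ha, Ext.mk₀_add, Ext.comp_add, ih]

theorem inj_of_split {ι : Type*} [Fintype ι] {F : EtCoh.Ab X} {G : ι → EtCoh.Ab X} (π : ∀ l, F ⟶ G l)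
    (s : ∀ l, G l ⟶ F) (h : ∑ l, π l ≫ s l = 𝟙 F) {q : ℕ} (hG : ∀ l, Inj i (G l) q) : Inj i F q := by
  refine (injective_iff_map_eq_zero _).2 fun x hx => ?_
  rw [← pushH_id q x, ← h, pushH_sum]
  refine Finset.sum_eq_zero fun l _ => ?_
  have h0 : pushH (π l) q x = 0 := hG l (by rw [Hpull_pushH, hx, map_zero, map_zero])
  rw [pushH_comp, h0, map_zero]

theorem surj_of_split {ι : Type*} [Fintype ι] {F : EtCoh.Ab X} {G : ι → EtCoh.Ab X} (π : ∀ l, F ⟶ G l)
    (s : ∀ l, G l ⟶ F) (h : ∑ l, π l ≫ s l = 𝟙 F) {q : ℕ} (hG : ∀ l, Surj i (G l) q) : Surj i F q := by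
  intro y
  choose x hx using fun l => hG l (pushH ((EtCoh.pull i).map (π l)) q y)
  refine ⟨∑ l, pushH (s l) q (x l), ?_⟩
  have key : ∀ l, EtCore.Hpull i F q (pushH (s l) q (x l)) = pushH ((EtCoh.pull i).map (π l ≫ s l)) q y := by
    intro l
    rw [Functor.map_comp, pushH_comp, ← hx, Hpull_pushH]
  rw [map_sum, Finset.sum_congr rfl fun l _ => key l, ← pushH_sum, ← Functor.map_sum, h,
    CategoryTheory.Functor.map_id, pushH_id]

theorem inj_surj_zero_of_mono {F G : EtCoh.Ab X} (u : F ⟶ G) [Mono u]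
    (hGi : Inj i G 0) : Inj i F 0 := by
  refine (injective_iff_map_eq_zero _).2 fun x hx => ?_
  have h1 : pushH u 0 x = 0 := hGi (by rw [Hpull_pushH, hx, map_zero, map_zero])
  exact Ext.postcomp_mk₀_injective_of_mono _ u (h1.trans (map_zero (pushH u 0)).symm)

theorem inj_succ_of_effaced {F G : EtCoh.Ab X} (u : F ⟶ G) [Mono u] {n : ℕ} (x : EtCoh.H X F (n + 1))
    (hu : pushH u (n + 1) x = 0) (hGs : Surj i G n) (hQ : Inj i (cokernel u) n)
    (hx : EtCore.Hpull i F (n + 1) x = 0) : x = 0 := by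
  let S : ShortComplex (EtCoh.Ab X) := ShortComplex.mk u (cokernel.π u) (cokernel.condition u)
  have hS : S.ShortExact := { exact := ShortComplex.exact_of_g_is_cokernel _ (cokernelIsCokernel u) }
  obtain ⟨c, rfl⟩ := Ext.covariant_sequence_exact₁ _ hS x hu (n₀ := n) rfl
  have h0 : (EtCore.Hpull i S.X₃ n c).comp (hS.map_of_exact (EtCoh.pull i)).extClass rfl = 0 :=
    (Groth.EtCd.Hpull_comp_extClass i hS rfl c).symm.trans hx
  obtain ⟨m', hm'⟩ := Ext.covariant_sequence_exact₃ _ (hS.map_of_exact (EtCoh.pull i)) _ rfl h0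
  obtain ⟨m, rfl⟩ := hGs m'
  have hc : m.comp (Ext.mk₀ S.g) (add_zero n) = c := hQ ((Groth.EtCd.Hpull_comp_mk₀ i S.g m).trans hm')
  rw [← hc, Ext.comp_assoc_of_second_deg_zero, ShortComplex.ShortExact.comp_extClass, Ext.comp_zero]

theorem surj_of_mono {F G : EtCoh.Ab X} (u : F ⟶ G) [Mono u] {q : ℕ} (hGs : Surj i G q)
    (hQ : Inj i (cokernel u) q) (hlt : ∀ n, n + 1 = q → Surj i (cokernel u) n) : Surj i F q := by
  let S : ShortComplex (EtCoh.Ab X) := ShortComplex.mk u (cokernel.π u) (cokernel.condition u)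
  have hS : S.ShortExact := { exact := ShortComplex.exact_of_g_is_cokernel _ (cokernelIsCokernel u) }
  have hS' := hS.map_of_exact (EtCoh.pull i)
  intro ξ
  obtain ⟨b, hb⟩ := hGs (pushH ((EtCoh.pull i).map u) q ξ)
  have hb0 : b.comp (Ext.mk₀ S.g) (add_zero q) = 0 := by
    refine hQ (a₁ := b.comp (Ext.mk₀ S.g) (add_zero q)) (a₂ := 0) ?_
    rw [map_zero]
    refine (Groth.EtCd.Hpull_comp_mk₀ i S.g b).trans ?_
    rw [hb]
    change (ξ.comp (Ext.mk₀ ((EtCoh.pull i).map u)) (add_zero q)).comp (Ext.mk₀ ((EtCoh.pull i).map S.g)) (add_zero q) = 0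
    rw [Ext.comp_assoc_of_third_deg_zero, Ext.mk₀_comp_mk₀, ← Functor.map_comp, S.zero,
      Functor.map_zero, Ext.mk₀_zero, Ext.comp_zero]
  obtain ⟨a, ha⟩ := Ext.covariant_sequence_exact₂ _ hS b hb0
  have hz : (ξ - EtCore.Hpull i F q a).comp (Ext.mk₀ ((EtCoh.pull i).map u)) (add_zero q) = 0 := by
    rw [sub_eq_add_neg, Ext.add_comp, Ext.neg_comp, ← sub_eq_add_neg, sub_eq_zero]
    exact hb.symm.trans ((congrArg (EtCore.Hpull i G q) ha.symm).trans (Groth.EtCd.Hpull_comp_mk₀ i u a))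
  cases q with
  | zero =>
    refine ⟨a, (sub_eq_zero.1 ?_).symm⟩
    haveI : Mono ((EtCoh.pull i).map u) := inferInstance
    exact Ext.postcomp_mk₀_injective_of_mono _ ((EtCoh.pull i).map u) (hz.trans (map_zero (pushH ((EtCoh.pull i).map u) 0)).symm)
  | succ n =>
    obtain ⟨c, hc'⟩ := Ext.covariant_sequence_exact₁ _ hS' _ hz (n₀ := n) rfl
    obtain ⟨c', rfl⟩ := hlt n rfl c
    refine ⟨a + c'.comp hS.extClass rfl, ?_⟩
    rw [map_add]
    refine Eq.trans (congrArg (EtCore.Hpull i F (n + 1) a + ·)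
      ((Groth.EtCd.Hpull_comp_extClass i hS rfl c').trans hc')) ?_
    exact add_sub_cancel _ _

section Colimit

variable [CompactSpace X] [QuasiSeparatedSpace X] [CompactSpace Y] [QuasiSeparatedSpace Y]

theorem preserves_pull (I : Type (u + 1)) [SmallCategory I] :
    PreservesColimitsOfShape I (EtCoh.pull i) :=
  (EtCoh.pullPushAdj i).leftAdjoint_preservesColimits.preservesColimitsOfShape

/-- Constructible to torsion: injectivity. -/
theorem inj_of_constructible {F : EtCoh.Ab X} (hF : EtCoh.IsTorsion F) (q : ℕ)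
    (h : ∀ G : EtCoh.Ab X, EtPBC.IsConstructible G → Inj i G q) : Inj i F q := by
  obtain ⟨hc⟩ := nonempty_isColimit_presCocone hF
  haveI := Groth.FlatMor2.ColimCoh.Etale.preservesColimitsOfShape_HF X (PresCat F) q
  haveI := Groth.FlatMor2.ColimCoh.Etale.preservesColimitsOfShape_HF Y (PresCat F) q
  haveI := preserves_pull i (PresCat F)
  refine (injective_iff_map_eq_zero _).2 fun x hx => ?_
  obtain ⟨P, y, hy⟩ := Types.jointly_surjective _
    (isColimitOfPreserves (EtCoh.HF X q ⋙ CategoryTheory.forget AddCommGrpCat.{u + 1}) hc) x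
  change (EtCoh.HF X q).obj ((presDiag F).obj P) at y
  change pushH ((presCocone F).ι.app P) q y = x at hy
  let z₀ : (presDiag F ⋙ EtCoh.pull i ⋙ EtCoh.HF Y q ⋙ CategoryTheory.forget AddCommGrpCat.{u + 1}).obj P :=
    (0 : (EtCoh.HF Y q).obj ((EtCoh.pull i).obj ((presDiag F).obj P)))
  let z : (presDiag F ⋙ EtCoh.pull i ⋙ EtCoh.HF Y q ⋙ CategoryTheory.forget AddCommGrpCat.{u + 1}).obj P :=
    EtCore.Hpull i ((presDiag F).obj P) q y
  obtain ⟨Q, f, f', e⟩ := (Types.FilteredColimit.isColimit_eq_iff _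
    (isColimitOfPreserves (EtCoh.pull i ⋙ EtCoh.HF Y q ⋙ CategoryTheory.forget AddCommGrpCat.{u + 1}) hc)
    (xi := z) (xj := z₀)).1 (by
      show pushH ((EtCoh.pull i).map ((presCocone F).ι.app P)) q (EtCore.Hpull i _ q y) =
        pushH ((EtCoh.pull i).map ((presCocone F).ι.app P)) q 0
      rw [map_zero, ← Hpull_pushH]
      exact (congrArg (EtCore.Hpull i F q) hy).trans hx)
  have e' : pushH ((EtCoh.pull i).map ((presDiag F).map f)) q (EtCore.Hpull i _ q y) = 0 :=
    e.trans (map_zero (pushH ((EtCoh.pull i).map ((presDiag F).map f')) q))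
  have h0 : pushH ((presDiag F).map f) q y = 0 :=
    h _ (isConstructible_presDiag Q) (by rw [Hpull_pushH, e', map_zero])
  refine hy.symm.trans ?_
  rw [← (presCocone F).w f]
  refine (pushH_comp _ _ q y).trans ?_
  rw [h0]
  exact map_zero _

/-- Constructible to torsion: surjectivity. -/
theorem surj_of_constructible {F : EtCoh.Ab X} (hF : EtCoh.IsTorsion F) (q : ℕ)
    (h : ∀ G : EtCoh.Ab X, EtPBC.IsConstructible G → Surj i G q) : Surj i F q := by
  obtain ⟨hc⟩ := nonempty_isColimit_presCocone hF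
  haveI := Groth.FlatMor2.ColimCoh.Etale.preservesColimitsOfShape_HF Y (PresCat F) q
  haveI := preserves_pull i (PresCat F)
  intro x
  obtain ⟨P, y, hy⟩ := Types.jointly_surjective _
    (isColimitOfPreserves (EtCoh.pull i ⋙ EtCoh.HF Y q ⋙ CategoryTheory.forget AddCommGrpCat.{u + 1}) hc) x
  change (EtCoh.HF Y q).obj ((EtCoh.pull i).obj ((presDiag F).obj P)) at y
  obtain ⟨z, rfl⟩ := h _ (isConstructible_presDiag P) y
  exact ⟨pushH ((presCocone F).ι.app P) q z, (Hpull_pushH i _ q z).trans hy⟩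

end Colimit

/-- The finite constant case, on finite covers. -/
theorem inj_surj_push {X' Y' : Scheme.{u}} (p : X' ⟶ X) [IsFinite p] (j : Y' ⟶ X') (p' : Y' ⟶ Y)
    (hsq : IsPullback j p' p i) [PreservesFiniteLimits (EtCoh.pull j)] (C : EtCoh.Ab X') (q : ℕ) :
    (Inj j C q → Inj i ((EtCoh.push p).obj C) q) ∧ (Surj j C q → Surj i ((EtCoh.push p).obj C) q) := by
  haveI : IsFinite p' := MorphismProperty.of_isPullback hsq ‹IsFinite p›
  haveI := Groth.EtaleBase.isIso_baseChange0 p i p' j hsq C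
  have h1 := Groth.EtaleBase.InjCoh.HofPush_bijective p C
    (fun r hr => Groth.EtaleBase.isZero_Rpush p C r hr) q
  have h2 := Groth.EtaleBase.InjCoh.HofPush_bijective p' ((EtCoh.pull j).obj C)
    (fun r hr => Groth.EtaleBase.isZero_Rpush p' _ r hr) q
  have h3 := ConcreteCategory.bijective_of_isIso
    ((EtCoh.HF Y q).map (EtCoh.baseChange0 p i p' j hsq.w C))
  have h4 : ⇑(EtCore.Hpull j C q) ∘ ⇑(EtLim.HofPush p C q) =
      (⇑(EtLim.HofPush p' ((EtCoh.pull j).obj C) q) ∘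
        ⇑((EtCoh.HF Y q).map (EtCoh.baseChange0 p i p' j hsq.w C))) ∘
        ⇑(EtCore.Hpull i ((EtCoh.push p).obj C) q) := funext fun ζ =>
    Groth.Agent.S14389.result p i p' j hsq.w C q ζ
  refine ⟨fun hj => ?_, fun hj => ?_⟩
  · have := hj.comp h1.1
    rw [h4] at this
    exact this.of_comp
  · have := hj.comp h1.2
    rw [h4] at this
    exact this.of_comp_left (h2.comp h3).1

end Groth.DescentBase.HpullReduce
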