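import Groth.Agent.DescentBase.UnivSubmDescent
import Groth.Agent.DescentBase.ClosedImmSh

/-!
Effective descent of etale sheaves of sets along integral surjective morphisms.
-/

set_option autoImplicit false
set_option backward.isDefEq.respectTransparency.types false

universe u

open CategoryTheory CategoryTheory.Limits AlgebraicGeometry Opposite

namespace Groth.DescentBase.IntDescent

open Groth.EtaleBase (pushLift fiberPoint)
open Groth.DescentBase.UnivSubm (pt pt_germ pt_naturality pt_pullVia pt_canIso pt_hom_inv pt_inv_hom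
  iso_hom_inv iso_inv_hom)

variable {A B Y : Scheme.{u}}

section ev

variable {Ω : Type u} [Field Ω] [IsSepClosed Ω] {η : Spec (CommRingCat.of Ω) ⟶ Y}

/-- Evaluation of the stalk of a direct image at a point over the geometric point. -/
noncomputable def ev (a : A ⟶ Y) (ξ : Spec (CommRingCat.of Ω) ⟶ A) (h : ξ ≫ a = η) (G : EtDesc.Sh A) :
    (shStalk η).obj ((EtDesc.pushSh a).obj G) ⟶ (shStalk ξ).obj G :=
  eqToHom (congrArg (fun e => (shStalk e).obj ((EtDesc.pushSh a).obj G)) h.symm) ≫ shEvPush a ξ G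

lemma ev_germ (a : A ⟶ Y) (ξ : Spec (CommRingCat.of Ω) ⟶ A) (h : ξ ≫ a = η) (G : EtDesc.Sh A)
    (V : Y.Etale) (s : (Scheme.pointSmallEtale η).fiber.obj V)
    (σ : G.obj.obj (op ((EtCoh.bc a).obj V))) :
    ev a ξ h G (shGerm η ((EtDesc.pushSh a).obj G) V s σ) = shGerm ξ G _ (pushLift a ξ h V s) σ := by
  subst h
  rw [← shEvPush_germ]
  simp only [ev, eqToHom_refl, Category.id_comp]

lemma ev_map (a : A ⟶ Y) (ξ : Spec (CommRingCat.of Ω) ⟶ A) (h : ξ ≫ a = η) {G G' : EtDesc.Sh A}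
    (φ : G ⟶ G') (x : (shStalk η).obj ((EtDesc.pushSh a).obj G)) :
    ev a ξ h G' ((shStalk η).map ((EtDesc.pushSh a).map φ) x) = (shStalk ξ).map φ (ev a ξ h G x) := by
  obtain ⟨V, s, σ, rfl⟩ := shGerm_surjective _ _ x
  rw [shGerm_map, ev_germ, ev_germ, shGerm_map]
  rfl

lemma ev_unit (a : A ⟶ Y) (ξ : Spec (CommRingCat.of Ω) ⟶ A) (h : ξ ≫ a = η) (P : EtDesc.Sh Y)
    (z : (shStalk η).obj P) :
    ev a ξ h ((EtDesc.pullSh a).obj P) ((shStalk η).map ((EtDesc.adjSh a).unit.app P) z) =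
      (pt a P ξ h).hom z := by
  obtain ⟨V, s, σ, rfl⟩ := shGerm_surjective _ P z
  rw [pt_germ]
  erw [shGerm_map]
  exact ev_germ a ξ h ((EtDesc.pullSh a).obj P) V s _

lemma ev_congr {a a' : A ⟶ Y} (e : a = a') (ξ : Spec (CommRingCat.of Ω) ⟶ A) (h : ξ ≫ a = η)
    (h' : ξ ≫ a' = η) (G : EtDesc.Sh A) (x : (shStalk η).obj ((EtDesc.pushSh a).obj G)) :
    ev a' ξ h' G ((shStalk η).map ((EtBC.pushCongrSh e).hom.app G) x) = ev a ξ h G x := by
  subst e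
  have : (EtBC.pushCongrSh (rfl : a = a)).hom.app G = 𝟙 _ := by
    ext V : 3
    refine (pushCongr_hom_app rfl G V.unop).trans ?_
    have h1 : (MorphismProperty.Over.pullbackCongr (P := EtCoh.etaleMP) (Q := ⊤)
        (rfl : a = a)).inv.app V.unop = 𝟙 _ := by
      apply MorphismProperty.Over.Hom.ext
      simp [MorphismProperty.Over.pullbackCongr]
      rfl
    rw [h1]
    exact G.obj.map_id _
  rw [this, CategoryTheory.Functor.map_id]
  rfl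

lemma pushComp_apply (b : B ⟶ Y) (g : A ⟶ B) (G : EtDesc.Sh A) (V : Y.Etale)
    (σ : ((EtDesc.pushSh b).obj ((EtDesc.pushSh g).obj G)).obj.obj (op V)) :
    (((EtDesc.pushCompSh b g).hom.app G).hom.app (op V) σ :
        ((EtDesc.pushSh (g ≫ b)).obj G).obj.obj (op V)) =
      G.obj.map ((MorphismProperty.Over.pullbackComp (P := EtCoh.etaleMP) (Q := ⊤) g b).hom.app V).op σ := by
  rw [pushComp_hom_app]
  rfl

lemma ev_comp (b : B ⟶ Y) (g : A ⟶ B) (ξ : Spec (CommRingCat.of Ω) ⟶ A)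
    (ζ : Spec (CommRingCat.of Ω) ⟶ B) (h : ξ ≫ g ≫ b = η) (hg : ξ ≫ g = ζ) (hb : ζ ≫ b = η)
    (G : EtDesc.Sh A) (x : (shStalk η).obj ((EtDesc.pushSh b).obj ((EtDesc.pushSh g).obj G))) :
    ev (g ≫ b) ξ h G ((shStalk η).map ((EtDesc.pushCompSh b g).hom.app G) x) =
      ev g ξ hg G (ev b ζ hb _ x) := by
  subst hg
  subst h
  obtain ⟨V, s, σ, rfl⟩ := shGerm_surjective _ _ x
  refine (congrArg (ev (g ≫ b) ξ rfl G)
    (shGerm_map (ξ ≫ g ≫ b) ((EtDesc.pushCompSh b g).hom.app G) V s σ)).trans ?_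
  rw [pushComp_apply]
  refine (ev_germ (g ≫ b) ξ rfl G V s _).trans ?_
  refine Eq.trans ?_ ((congrArg (ev g ξ rfl G) (ev_germ b (ξ ≫ g) hb ((EtDesc.pushSh g).obj G) V s σ)).trans
    (ev_germ g ξ rfl G ((EtCoh.bc b).obj V) (pushLift b (ξ ≫ g) hb V s) σ)).symm
  refine ((Scheme.pointSmallEtale ξ).toPresheafFiber_w_apply
    ((MorphismProperty.Over.pullbackComp (P := EtCoh.etaleMP) (Q := ⊤) g b).hom.app V) _
    G.obj _).trans ?_
  exact congrArg (fun t => shGerm ξ G _ t σ) (Groth.DescentBase.PushPull.pushLift_comp g b ξ V s)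

end ev

section acl

variable {Ω : Type u} [Field Ω] [IsAlgClosed Ω] {η : Spec (CommRingCat.of Ω) ⟶ Y}

/-- The values at the points over the geometric point determine an element of the stalk. -/
theorem ev_ext (a : A ⟶ Y) [IsIntegralHom a] (G : EtDesc.Sh A)
    {x y : (shStalk η).obj ((EtDesc.pushSh a).obj G)}
    (h : ∀ (ξ : Spec (CommRingCat.of Ω) ⟶ A) (hξ : ξ ≫ a = η), ev a ξ hξ G x = ev a ξ hξ G y) :
    x = y := by
  obtain ⟨V₁, s₁, σ₁, rfl⟩ := shGerm_surjective _ _ x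
  obtain ⟨V₂, s₂, σ₂, rfl⟩ := shGerm_surjective _ _ y
  exact shGerm_push_eq a η G V₁ V₂ s₁ s₂ σ₁ σ₂ fun ξ hξ =>
    (ev_germ a ξ hξ G V₁ s₁ σ₁).symm.trans ((h ξ hξ).trans (ev_germ a ξ hξ G V₂ s₂ σ₂))

lemma ev_baseChange0 (b : B ⟶ Y) {Z : Scheme.{u}} (pr : Z ⟶ B)
    (q : Z ⟶ Spec (CommRingCat.of Ω)) (η : Spec (CommRingCat.of Ω) ⟶ Y)
    (hsq : IsPullback pr q b η) (G : EtDesc.Sh B) (ζ : Spec (CommRingCat.of Ω) ⟶ Z)
    (hq : ζ ≫ q = 𝟙 _) (h : (ζ ≫ pr) ≫ b = 𝟙 _ ≫ η)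
    (y : (shStalk (𝟙 _ ≫ η)).obj ((EtDesc.pushSh b).obj G)) :
    ev q ζ hq ((EtDesc.pullSh pr).obj G)
        ((shStalk (𝟙 _)).map (EtBC.baseChange0Sh b η q pr hsq.w G)
          ((shStalkPullIso η (𝟙 _)).hom.app ((EtDesc.pushSh b).obj G) y)) =
      (shStalkPullIso pr ζ).hom.app G (ev b (ζ ≫ pr) h G y) := by
  obtain ⟨V, s, σ, rfl⟩ := shGerm_surjective _ _ y
  refine (congrArg (ev q ζ hq ((EtDesc.pullSh pr).obj G))
    (stalk_baseChange0_germ b η q pr hsq G (𝟙 _) V s σ)).trans ?_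
  refine (ev_germ q ζ hq ((EtDesc.pullSh pr).obj G) _ _ _).trans ?_
  refine (value_baseChange0 b η q pr hsq G (𝟙 _) V s σ ζ hq h).trans ?_
  exact congrArg ((shStalkPullIso pr ζ).hom.app G) (ev_germ b (ζ ≫ pr) h G V s σ).symm

/-- A section on the fibre comes from the stalk of the direct image. -/
theorem exists_ev_eq (b : B ⟶ Y) [IsIntegralHom b] {Z : Scheme.{u}} (pr : Z ⟶ B)
    (q : Z ⟶ Spec (CommRingCat.of Ω)) (η : Spec (CommRingCat.of Ω) ⟶ Y)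
    (hsq : IsPullback pr q b η) (G : EtDesc.Sh B)
    (β : (shStalk (𝟙 _)).obj ((EtDesc.pushSh q).obj ((EtDesc.pullSh pr).obj G))) :
    ∃ x : (shStalk η).obj ((EtDesc.pushSh b).obj G), ∀ (ζ : Spec (CommRingCat.of Ω) ⟶ Z)
      (hq : ζ ≫ q = 𝟙 _) (h : (ζ ≫ pr) ≫ b = η),
      (pt pr G ζ rfl).hom (ev b (ζ ≫ pr) h G x) = ev q ζ hq ((EtDesc.pullSh pr).obj G) β := by
  suffices ∀ η' (_ : 𝟙 _ ≫ η = η'), ∃ x : (shStalk η').obj ((EtDesc.pushSh b).obj G),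
      ∀ (ζ : Spec (CommRingCat.of Ω) ⟶ Z) (hq : ζ ≫ q = 𝟙 _) (h : (ζ ≫ pr) ≫ b = η'),
      (pt pr G ζ rfl).hom (ev b (ζ ≫ pr) h G x) = ev q ζ hq ((EtDesc.pullSh pr).obj G) β from
    this η (Category.id_comp η)
  rintro η' rfl
  obtain ⟨y', hy'⟩ := surjective_stalk_baseChange0 b η q pr hsq G (𝟙 _) β
  obtain ⟨y, rfl⟩ : ∃ y, (shStalkPullIso η (𝟙 _)).hom.app ((EtDesc.pushSh b).obj G) y = y' :=
    ⟨_, iso_inv_hom ((shStalkPullIso η (𝟙 _)).app ((EtDesc.pushSh b).obj G)) y'⟩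
  refine ⟨y, fun ζ hq h => ?_⟩
  refine Eq.trans ?_ (congrArg (ev q ζ hq ((EtDesc.pullSh pr).obj G)) hy')
  refine Eq.trans ?_ (ev_baseChange0 b pr q η hsq G ζ hq h y).symm
  simp only [pt, eqToIso_refl, Iso.refl_trans, Iso.app_hom]

end acl

variable {X' X : Scheme.{u}} (f : X' ⟶ X) (F' : EtDesc.Sh X')
  (φ : (EtDesc.pullSh (pullback.fst f f)).obj F' ≅ (EtDesc.pullSh (pullback.snd f f)).obj F')

/-- Transport of stalks along the descent datum. -/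
noncomputable def transport {Ω : Type u} [Field Ω] [IsSepClosed Ω]
    (ξ₁ ξ₂ : Spec (CommRingCat.of Ω) ⟶ X') (h : ξ₁ ≫ f = ξ₂ ≫ f) :
    (shStalk ξ₁).obj F' ≅ (shStalk ξ₂).obj F' :=
  pt (pullback.fst f f) F' (pullback.lift ξ₁ ξ₂ h) (pullback.lift_fst _ _ _) ≪≫
    (shStalk (pullback.lift ξ₁ ξ₂ h)).mapIso φ ≪≫
      (pt (pullback.snd f f) F' (pullback.lift ξ₁ ξ₂ h) (pullback.lift_snd _ _ _)).symm

lemma pt_transport {Ω : Type u} [Field Ω] [IsSepClosed Ω] (ζ : Spec (CommRingCat.of Ω) ⟶ pullback f f)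
    (ξ₁ ξ₂ : Spec (CommRingCat.of Ω) ⟶ X') (e₁ : ζ ≫ pullback.fst f f = ξ₁)
    (e₂ : ζ ≫ pullback.snd f f = ξ₂) (h : ξ₁ ≫ f = ξ₂ ≫ f) (a : (shStalk ξ₁).obj F') :
    (shStalk ζ).map φ.hom ((pt (pullback.fst f f) F' ζ e₁).hom a) =
      (pt (pullback.snd f f) F' ζ e₂).hom ((transport f F' φ ξ₁ ξ₂ h).hom a) := by
  obtain rfl : ζ = pullback.lift ξ₁ ξ₂ h :=
    pullback.hom_ext (e₁.trans (pullback.lift_fst _ _ _).symm) (e₂.trans (pullback.lift_snd _ _ _).symm)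
  exact (pt_inv_hom (pullback.snd f f) F' (pullback.lift ξ₁ ξ₂ h) e₂ _).symm

lemma transport_pullVia {T : Scheme.{u}} (g : T ⟶ pullback f f) (b₁ b₂ : T ⟶ X')
    (w₁ : g ≫ pullback.fst f f = b₁) (w₂ : g ≫ pullback.snd f f = b₂)
    {Ω : Type u} [Field Ω] [IsSepClosed Ω] (ω : Spec (CommRingCat.of Ω) ⟶ T)
    (ξ₁ ξ₂ : Spec (CommRingCat.of Ω) ⟶ X') (e₁ : ω ≫ b₁ = ξ₁) (e₂ : ω ≫ b₂ = ξ₂)
    (h : ξ₁ ≫ f = ξ₂ ≫ f) (a : (shStalk ξ₁).obj F') :
    (shStalk ω).map ((EtDesc.pullVia g (pullback.fst f f) b₁ w₁ F').symm ≪≫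
        (EtDesc.pullSh g).mapIso φ ≪≫ EtDesc.pullVia g (pullback.snd f f) b₂ w₂ F').hom
        ((pt b₁ F' ω e₁).hom a) =
      (pt b₂ F' ω e₂).hom ((transport f F' φ ξ₁ ξ₂ h).hom a) := by
  have a₁ : (ω ≫ g) ≫ pullback.fst f f = ξ₁ := (Category.assoc _ _ _).trans ((congrArg (ω ≫ ·) w₁).trans e₁)
  have a₂ : (ω ≫ g) ≫ pullback.snd f f = ξ₂ := (Category.assoc _ _ _).trans ((congrArg (ω ≫ ·) w₂).trans e₂)
  have k₁ := pt_pullVia g (pullback.fst f f) b₁ w₁ F' ω (ω ≫ g) e₁ rfl a₁ a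
  have k₂ := pt_pullVia g (pullback.snd f f) b₂ w₂ F' ω (ω ≫ g) e₂ rfl a₂
    ((transport f F' φ ξ₁ ξ₂ h).hom a)
  rw [← k₂, ← pt_transport f F' φ (ω ≫ g) ξ₁ ξ₂ a₁ a₂ h a, ← pt_naturality g φ.hom ω rfl, ← k₁]
  simp only [Iso.trans_hom, Iso.symm_hom, Functor.map_comp, ConcreteCategory.comp_apply,
    Functor.mapIso_hom]
  refine congrArg (fun c => (shStalk ω).map (EtDesc.pullVia g (pullback.snd f f) b₂ w₂ F').hom
    ((shStalk ω).map ((EtDesc.pullSh g).map φ.hom) c)) ?_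
  exact iso_hom_inv ((shStalk ω).mapIso (EtDesc.pullVia g (pullback.fst f f) b₁ w₁ F')) _

variable {F' φ}

theorem transport_trans (hφ : EtDesc.IsCocycle F' φ) {Ω : Type u} [Field Ω] [IsSepClosed Ω]
    (ξ₁ ξ₂ ξ₃ : Spec (CommRingCat.of Ω) ⟶ X') (h₁₂ : ξ₁ ≫ f = ξ₂ ≫ f) (h₂₃ : ξ₂ ≫ f = ξ₃ ≫ f)
    (a : (shStalk ξ₁).obj F') :
    (transport f F' φ ξ₂ ξ₃ h₂₃).hom ((transport f F' φ ξ₁ ξ₂ h₁₂).hom a) =
      (transport f F' φ ξ₁ ξ₃ (h₁₂.trans h₂₃)).hom a := by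
  let ω : Spec (CommRingCat.of Ω) ⟶ EtDesc.X3 f :=
    pullback.lift (pullback.lift ξ₁ ξ₂ h₁₂) (pullback.lift ξ₂ ξ₃ h₂₃)
      ((pullback.lift_snd _ _ _).trans (pullback.lift_fst _ _ _).symm)
  have w12 : ω ≫ EtDesc.p12 f = pullback.lift ξ₁ ξ₂ h₁₂ := pullback.lift_fst _ _ _
  have w23 : ω ≫ EtDesc.p23 f = pullback.lift ξ₂ ξ₃ h₂₃ := pullback.lift_snd _ _ _
  have e₁ : ω ≫ (EtDesc.q1 (f := f)) = ξ₁ :=
    (Category.assoc _ _ _).symm.trans ((congrArg (· ≫ _) w12).trans (pullback.lift_fst _ _ _))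
  have e₂ : ω ≫ (EtDesc.q2 (f := f)) = ξ₂ :=
    (Category.assoc _ _ _).symm.trans ((congrArg (· ≫ _) w12).trans (pullback.lift_snd _ _ _))
  have e₃ : ω ≫ (EtDesc.q3 (f := f)) = ξ₃ :=
    (Category.assoc _ _ _).symm.trans ((congrArg (· ≫ _) w23).trans (pullback.lift_snd _ _ _))
  have k := congrArg (fun m => (shStalk ω).map m ((pt (EtDesc.q1 (f := f)) F' ω e₁).hom a)) hφ
  simp only [EtDesc.pullIsoVia, Functor.map_comp, ConcreteCategory.comp_apply] at k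
  have k1 := transport_pullVia f F' φ (EtDesc.p12 f) EtDesc.q1 EtDesc.q2 rfl rfl ω ξ₁ ξ₂ e₁ e₂ h₁₂ a
  have k2 := transport_pullVia f F' φ (EtDesc.p23 f) EtDesc.q2 EtDesc.q3 EtDesc.p23_fst rfl ω ξ₂ ξ₃
    e₂ e₃ h₂₃ ((transport f F' φ ξ₁ ξ₂ h₁₂).hom a)
  have k3 := transport_pullVia f F' φ (EtDesc.p13 f) EtDesc.q1 EtDesc.q3 EtDesc.p13_fst EtDesc.p13_snd
    ω ξ₁ ξ₃ e₁ e₃ (h₁₂.trans h₂₃) a
  apply (pt (EtDesc.q3 (f := f)) F' ω e₃).toEquiv.injective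
  exact k2.symm.trans (((congrArg _ k1).symm.trans k).trans k3)

theorem transport_self (hφ : EtDesc.IsCocycle F' φ) {Ω : Type u} [Field Ω] [IsSepClosed Ω]
    (ξ : Spec (CommRingCat.of Ω) ⟶ X') (a : (shStalk ξ).obj F') :
    (transport f F' φ ξ ξ rfl).hom a = a :=
  (transport f F' φ ξ ξ rfl).toEquiv.injective (transport_trans f hφ ξ ξ ξ rfl rfl a)

variable (F' φ)

/-- The first map of the descent equalizer. -/
noncomputable def d₁ : (EtDesc.pushSh f).obj F' ⟶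
    (EtDesc.pushSh (pullback.fst f f ≫ f)).obj ((EtDesc.pullSh (pullback.snd f f)).obj F') :=
  (EtDesc.pushSh f).map ((EtDesc.adjSh (pullback.fst f f)).unit.app F') ≫
    (EtDesc.pushCompSh f (pullback.fst f f)).hom.app _ ≫
      (EtDesc.pushSh (pullback.fst f f ≫ f)).map φ.hom

/-- The second map of the descent equalizer. -/
noncomputable def d₂ : (EtDesc.pushSh f).obj F' ⟶
    (EtDesc.pushSh (pullback.fst f f ≫ f)).obj ((EtDesc.pullSh (pullback.snd f f)).obj F') :=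
  (EtDesc.pushSh f).map ((EtDesc.adjSh (pullback.snd f f)).unit.app F') ≫
    (EtDesc.pushCompSh f (pullback.snd f f)).hom.app _ ≫
      (EtBC.pushCongrSh pullback.condition.symm).hom.app _

lemma ev_d₁ {Ω : Type u} [Field Ω] [IsSepClosed Ω] {η : Spec (CommRingCat.of Ω) ⟶ X}
    (ζ : Spec (CommRingCat.of Ω) ⟶ pullback f f) (ξ₁ : Spec (CommRingCat.of Ω) ⟶ X')
    (e₁ : ζ ≫ pullback.fst f f = ξ₁) (h₁ : ξ₁ ≫ f = η) (h : ζ ≫ pullback.fst f f ≫ f = η)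
    (x : (shStalk η).obj ((EtDesc.pushSh f).obj F')) :
    ev (pullback.fst f f ≫ f) ζ h _ ((shStalk η).map (d₁ f F' φ) x) =
      (shStalk ζ).map φ.hom ((pt (pullback.fst f f) F' ζ e₁).hom (ev f ξ₁ h₁ F' x)) := by
  rw [d₁, Functor.map_comp, Functor.map_comp, ConcreteCategory.comp_apply, ConcreteCategory.comp_apply]
  refine (ev_map (pullback.fst f f ≫ f) ζ h φ.hom _).trans ?_
  refine congrArg ((shStalk ζ).map φ.hom) ?_
  refine (ev_comp f (pullback.fst f f) ζ ξ₁ h e₁ h₁ _ _).trans ?_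
  refine (congrArg (ev (pullback.fst f f) ζ e₁ _) (ev_map f ξ₁ h₁ _ x)).trans ?_
  exact ev_unit (pullback.fst f f) ζ e₁ F' _

lemma ev_d₂ {Ω : Type u} [Field Ω] [IsSepClosed Ω] {η : Spec (CommRingCat.of Ω) ⟶ X}
    (ζ : Spec (CommRingCat.of Ω) ⟶ pullback f f) (ξ₂ : Spec (CommRingCat.of Ω) ⟶ X')
    (e₂ : ζ ≫ pullback.snd f f = ξ₂) (h₂ : ξ₂ ≫ f = η) (h : ζ ≫ pullback.fst f f ≫ f = η)
    (x : (shStalk η).obj ((EtDesc.pushSh f).obj F')) :
    ev (pullback.fst f f ≫ f) ζ h _ ((shStalk η).map (d₂ f F') x) =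
      (pt (pullback.snd f f) F' ζ e₂).hom (ev f ξ₂ h₂ F' x) := by
  have h' : ζ ≫ pullback.snd f f ≫ f = η := (congrArg (ζ ≫ ·) pullback.condition.symm).trans h
  rw [d₂, Functor.map_comp, Functor.map_comp, ConcreteCategory.comp_apply, ConcreteCategory.comp_apply]
  refine (ev_congr pullback.condition.symm ζ h' h _ _).trans ?_
  refine (ev_comp f (pullback.snd f f) ζ ξ₂ h' e₂ h₂ _ _).trans ?_
  refine (congrArg (ev (pullback.snd f f) ζ e₂ _) (ev_map f ξ₂ h₂ _ x)).trans ?_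
  exact ev_unit (pullback.snd f f) ζ e₂ F' _

/-- The descended sheaf. -/
noncomputable def descSh : EtDesc.Sh X := equalizer (d₁ f F' φ) (d₂ f F')

/-- The comparison with the given sheaf. -/
noncomputable def descHom : (EtDesc.pullSh f).obj (descSh f F' φ) ⟶ F' :=
  ((EtDesc.adjSh f).homEquiv _ _).symm (equalizer.ι (d₁ f F' φ) (d₂ f F'))

lemma stalk_descHom {Ω : Type u} [Field Ω] [IsSepClosed Ω] {η : Spec (CommRingCat.of Ω) ⟶ X}
    (ξ : Spec (CommRingCat.of Ω) ⟶ X') (h : ξ ≫ f = η) (z : (shStalk η).obj (descSh f F' φ)) :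
    (shStalk ξ).map (descHom f F' φ) ((pt f (descSh f F' φ) ξ h).hom z) =
      ev f ξ h F' ((shStalk η).map (equalizer.ι (d₁ f F' φ) (d₂ f F')) z) := by
  have e : equalizer.ι (d₁ f F' φ) (d₂ f F') =
      (EtDesc.adjSh f).unit.app (descSh f F' φ) ≫ (EtDesc.pushSh f).map (descHom f F' φ) :=
    (Equiv.apply_symm_apply ((EtDesc.adjSh f).homEquiv _ _) _).symm.trans
      ((EtDesc.adjSh f).homEquiv_unit _ _ _)
  rw [e]
  have hc := ConcreteCategory.congr_hom ((shStalk η).map_comp ((EtDesc.adjSh f).unit.app (descSh f F' φ))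
    ((EtDesc.pushSh f).map (descHom f F' φ))) z
  rw [ConcreteCategory.comp_apply] at hc
  erw [hc]
  refine Eq.trans ?_ (ev_map f ξ h (descHom f F' φ) _).symm
  exact congrArg ((shStalk ξ).map (descHom f F' φ)) (ev_unit f ξ h (descSh f F' φ) z).symm

lemma descSh_condition {Ω : Type u} [Field Ω] [IsSepClosed Ω] {η : Spec (CommRingCat.of Ω) ⟶ X}
    (ζ : Spec (CommRingCat.of Ω) ⟶ pullback f f) (ξ₁ ξ₂ : Spec (CommRingCat.of Ω) ⟶ X')
    (e₁ : ζ ≫ pullback.fst f f = ξ₁) (e₂ : ζ ≫ pullback.snd f f = ξ₂) (h₁ : ξ₁ ≫ f = η)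
    (h₂ : ξ₂ ≫ f = η) (z : (shStalk η).obj (descSh f F' φ)) :
    (shStalk ζ).map φ.hom ((pt (pullback.fst f f) F' ζ e₁).hom
        (ev f ξ₁ h₁ F' ((shStalk η).map (equalizer.ι (d₁ f F' φ) (d₂ f F')) z))) =
      (pt (pullback.snd f f) F' ζ e₂).hom
        (ev f ξ₂ h₂ F' ((shStalk η).map (equalizer.ι (d₁ f F' φ) (d₂ f F')) z)) := by
  have h : ζ ≫ pullback.fst f f ≫ f = η :=
    (Category.assoc _ _ _).symm.trans ((congrArg (· ≫ f) e₁).trans h₁)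
  rw [← ev_d₁ f F' φ ζ ξ₁ e₁ h₁ h, ← ev_d₂ f F' ζ ξ₂ e₂ h₂ h]
  refine congrArg (ev (pullback.fst f f ≫ f) ζ h _) ?_
  exact ConcreteCategory.congr_hom (((shStalk η).map_comp _ _).symm.trans
    ((congrArg (shStalk η).map (equalizer.condition (d₁ f F' φ) (d₂ f F'))).trans
      ((shStalk η).map_comp _ _))) z

variable {F' φ}

theorem bijective_stalk_descHom [IsIntegralHom f] (hφ : EtDesc.IsCocycle F' φ) {Ω : Type u} [Field Ω]
    [IsAlgClosed Ω] (ξ : Spec (CommRingCat.of Ω) ⟶ X') :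
    Function.Bijective ((shStalk ξ).map (descHom f F' φ)) := by
  let ι := equalizer.ι (d₁ f F' φ) (d₂ f F')
  constructor
  · intro p q e
    obtain ⟨z, rfl⟩ : ∃ z, (pt f (descSh f F' φ) ξ rfl).hom z = p := ⟨_, pt_inv_hom f _ ξ rfl p⟩
    obtain ⟨w, rfl⟩ : ∃ w, (pt f (descSh f F' φ) ξ rfl).hom w = q := ⟨_, pt_inv_hom f _ ξ rfl q⟩
    rw [stalk_descHom, stalk_descHom] at e
    refine congrArg _ ((mono_iff_stalks ι).1 inferInstance _ _ (ev_ext f F' fun ξ' h' => ?_))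
    let ζ : Spec (CommRingCat.of Ω) ⟶ pullback f f := pullback.lift ξ ξ' h'.symm
    have e₁ : ζ ≫ pullback.fst f f = ξ := pullback.lift_fst _ _ _
    have e₂ : ζ ≫ pullback.snd f f = ξ' := pullback.lift_snd _ _ _
    apply (pt (pullback.snd f f) F' ζ e₂).toEquiv.injective
    exact (descSh_condition f F' φ ζ ξ ξ' e₁ e₂ rfl h' z).symm.trans
      ((congrArg (fun c => (shStalk ζ).map φ.hom ((pt (pullback.fst f f) F' ζ e₁).hom c)) e).trans
        (descSh_condition f F' φ ζ ξ ξ' e₁ e₂ rfl h' w))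
  · intro g
    let η := ξ ≫ f
    let pr := pullback.fst f η
    let q := pullback.snd f η
    let v : pullback f η ⟶ pullback f f := pullback.lift (q ≫ ξ) pr
      (by rw [Category.assoc]; exact pullback.condition.symm)
    have v₁ : v ≫ pullback.fst f f = q ≫ ξ := pullback.lift_fst _ _ _
    have v₂ : v ≫ pullback.snd f f = pr := pullback.lift_snd _ _ _
    let M : (EtDesc.pullSh q).obj ((EtDesc.pullSh ξ).obj F') ⟶ (EtDesc.pullSh pr).obj F' :=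
      (EtDesc.pullVia q ξ (q ≫ ξ) rfl F').hom ≫
        ((EtDesc.pullVia v (pullback.fst f f) (q ≫ ξ) v₁ F').symm ≪≫
          (EtDesc.pullSh v).mapIso φ ≪≫ EtDesc.pullVia v (pullback.snd f f) pr v₂ F').hom
    let g' := (pt ξ F' (𝟙 _) (Category.id_comp ξ)).hom g
    let β := (shStalk (𝟙 _)).map ((EtDesc.pushSh q).map M)
      ((shStalk (𝟙 _)).map ((EtDesc.adjSh q).unit.app ((EtDesc.pullSh ξ).obj F')) g')
    obtain ⟨x, hx⟩ := exists_ev_eq f pr q η (IsPullback.of_hasPullback f η) F' β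
    have hval : ∀ (ξ' : Spec (CommRingCat.of Ω) ⟶ X') (h' : ξ' ≫ f = η),
        ev f ξ' h' F' x = (transport f F' φ ξ ξ' h'.symm).hom g := by
      intro ξ' h'
      let ζ : Spec (CommRingCat.of Ω) ⟶ pullback f η :=
        pullback.lift ξ' (𝟙 _) (h'.trans (Category.id_comp η).symm)
      have hq : ζ ≫ q = 𝟙 _ := pullback.lift_snd _ _ _
      have hpr : ζ ≫ pr = ξ' := pullback.lift_fst _ _ _
      have hξ : ζ ≫ q ≫ ξ = ξ :=
        (Category.assoc _ _ _).symm.trans ((congrArg (· ≫ ξ) hq).trans (Category.id_comp ξ))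
      have key : ev q ζ hq _ β = (pt pr F' ζ hpr).hom ((transport f F' φ ξ ξ' h'.symm).hom g) := by
        refine (ev_map q ζ hq M _).trans ?_
        refine (congrArg ((shStalk ζ).map M) (ev_unit q ζ hq _ g')).trans ?_
        rw [Functor.map_comp, ConcreteCategory.comp_apply,
          pt_pullVia q ξ (q ≫ ξ) rfl F' ζ (𝟙 _) hξ hq (Category.id_comp ξ) g]
        exact transport_pullVia f F' φ v (q ≫ ξ) pr v₁ v₂ ζ ξ ξ' hξ hpr h'.symm g
      have gen : ∀ (η₁ : Spec (CommRingCat.of Ω) ⟶ X') (e : ζ ≫ pr = η₁) (h₁ : η₁ ≫ f = η),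
          (pt pr F' ζ e).hom (ev f η₁ h₁ F' x) = ev q ζ hq _ β := by
        rintro η₁ rfl h₁
        exact hx ζ hq h₁
      exact (pt pr F' ζ hpr).toEquiv.injective ((gen ξ' hpr h').trans key)
    have hd : (shStalk η).map (d₁ f F' φ) x = (shStalk η).map (d₂ f F') x := by
      refine ev_ext (pullback.fst f f ≫ f) _ fun ζ h => ?_
      let ξ₁ := ζ ≫ pullback.fst f f
      let ξ₂ := ζ ≫ pullback.snd f f
      have h₁ : ξ₁ ≫ f = η := (Category.assoc _ _ _).trans h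
      have h₂ : ξ₂ ≫ f = η :=
        (Category.assoc _ _ _).trans ((congrArg (ζ ≫ ·) pullback.condition.symm).trans h)
      rw [ev_d₁ f F' φ ζ ξ₁ rfl h₁ h, ev_d₂ f F' ζ ξ₂ rfl h₂ h, hval ξ₁ h₁, hval ξ₂ h₂,
        pt_transport f F' φ ζ ξ₁ ξ₂ rfl rfl (h₁.trans h₂.symm), transport_trans f hφ]
    obtain ⟨z, hz⟩ : ∃ z, (shStalk η).map ι z = x := by
      have hl := isLimitForkMapOfIsLimit (shStalk η) _ (equalizerIsEqualizer (d₁ f F' φ) (d₂ f F'))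
      obtain ⟨m, hm⟩ := Fork.IsLimit.lift' hl (↾ fun _ : PUnit.{u + 2} => x)
        (by ext; exact hd)
      exact ⟨m PUnit.unit, ConcreteCategory.congr_hom hm PUnit.unit⟩
    refine ⟨(pt f (descSh f F' φ) ξ rfl).hom z, ?_⟩
    rw [stalk_descHom, hz, hval]
    exact transport_self f hφ ξ g

lemma hom_ext_stalks {S : Scheme.{u}} {P Q : EtDesc.Sh S} {α β : P ⟶ Q}
    (h : ∀ (Ω : Type u) [Field Ω] [IsSepClosed Ω] (ζ : Spec (CommRingCat.of Ω) ⟶ S)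
      (c : (shStalk ζ).obj P), (shStalk ζ).map α c = (shStalk ζ).map β c) : α = β := by
  ext U σ
  refine UnivSubm.section_ext_germ Q (unop U) _ _ fun Ω _ _ ζ t => ?_
  refine (shGerm_map ζ α (unop U) t σ).symm.trans ((h Ω ζ _).trans ?_)
  exact shGerm_map ζ β (unop U) t σ

/-- Integral morphisms are of effective descent for etale sheaves of sets. -/
theorem effective [IsIntegralHom f] (hφ : EtDesc.IsCocycle F' φ) : EtDesc.IsEffective f F' φ := by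
  have : IsIso (descHom f F' φ) :=
    isIso_of_acPoints _ fun x => bijective_stalk_descHom f hφ (acPoint x)
  refine ⟨descSh f F' φ, asIso (descHom f F' φ), ?_⟩
  apply Iso.ext
  simp only [Iso.trans_hom, Iso.symm_hom, Functor.mapIso_inv, Functor.mapIso_hom, asIso_hom, asIso_inv]
  rw [Functor.map_inv, IsIso.inv_comp_eq]
  refine hom_ext_stalks fun Ω _ _ ζ c => ?_
  obtain ⟨a, rfl⟩ : ∃ a, (pt (pullback.fst f f) ((EtDesc.pullSh f).obj (descSh f F' φ)) ζ rfl).hom a = c :=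
    ⟨_, pt_inv_hom _ _ ζ rfl c⟩
  obtain ⟨z, rfl⟩ : ∃ z, (pt f (descSh f F' φ) (ζ ≫ pullback.fst f f) rfl).hom z = a :=
    ⟨_, pt_inv_hom _ _ _ rfl a⟩
  have h₂ : (ζ ≫ pullback.snd f f) ≫ f = (ζ ≫ pullback.fst f f) ≫ f := by
    simp only [Category.assoc, pullback.condition]
  simp only [Functor.map_comp, ConcreteCategory.comp_apply]
  rw [pt_canIso f (descSh f F' φ) ζ _ (ζ ≫ pullback.snd f f) rfl rfl rfl h₂,
    pt_naturality, pt_naturality, stalk_descHom, stalk_descHom]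
  exact (descSh_condition f F' φ ζ _ _ rfl rfl rfl h₂ z).symm

end Groth.DescentBase.IntDescent
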