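import Mathlib

/-! The largest open on which a source-local property holds. -/

set_option autoImplicit false
set_option backward.isDefEq.respectTransparency.types false

open CategoryTheory CategoryTheory.Limits AlgebraicGeometry

namespace Groth.DescentBase

universe u

/-- For a property local on the source for `Q`-covers there is a largest open with the property,
and it is compatible with `Q`-morphisms. -/
theorem exists_largest_open_source (P Q : MorphismProperty Scheme.{u}) {K : Precoverage Scheme.{u}}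
    (hK : K = Scheme.precoverage Q) [P.IsLocalAtSource K] [Q.IsStableUnderBaseChange]
    [Q.IsStableUnderComposition]
    (hQ : ∀ {A B : Scheme.{u}} (j : A ⟶ B), IsOpenImmersion j → Q j)
    (hopen : ∀ {A B : Scheme.{u}} (j : A ⟶ B), Q j → IsOpenMap j.base)
    {X Y : Scheme.{u}} (f : X ⟶ Y) :
    ∃ W : X.Opens, (P (W.ι ≫ f) ∧ ∀ W' : X.Opens, P (W'.ι ≫ f) → W' ≤ W) ∧
      ∀ (X' : Scheme.{u}) (g : X' ⟶ X), Q g → ∀ (V : X'.Opens),
        (P (V.ι ≫ g ≫ f) ∧ ∀ V' : X'.Opens, P (V'.ι ≫ g ≫ f) → V' ≤ V) → V = g ⁻¹ᵁ W := by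
  subst hK
  let W : X.Opens := sSup {W' | P (W'.ι ≫ f)}
  have hPW : P (W.ι ≫ f) := by
    let T := {W' : X.Opens // P (W'.ι ≫ f)}
    let F : ∀ t : T, (t.1 : Scheme.{u}) ⟶ W := fun t => X.homOfLE (le_sSup t.2)
    refine MorphismProperty.IsLocalAtSource.of_forall_comp (K := Scheme.precoverage Q)
      (R := Presieve.ofArrows _ F) ?_ ?_
    · rw [Scheme.ofArrows_mem_precoverage_iff]
      refine ⟨fun ⟨x, hx⟩ => ?_, fun t => hQ _ inferInstance⟩
      obtain ⟨W', hW', hxW'⟩ := TopologicalSpace.Opens.mem_sSup.mp hx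
      exact ⟨⟨W', hW'⟩, ⟨x, hxW'⟩, Subtype.ext (by simp [F])⟩
    · rintro _ _ ⟨t⟩
      rw [Scheme.homOfLE_ι_assoc]
      exact t.2
  refine ⟨W, ⟨hPW, fun W' h => le_sSup h⟩, fun X' g hg V hV => le_antisymm ?_ (hV.2 _ ?_)⟩
  · -- the image of `V` lies in `W`
    let U : X.Opens := ⟨g.base '' V, hopen g hg _ V.isOpen⟩
    have hVU : V ≤ g ⁻¹ᵁ U := fun x hx => ⟨x, hx, rfl⟩
    let q : (V : Scheme.{u}) ⟶ U := X'.homOfLE hVU ≫ (g ∣_ U)
    have hqU : q ≫ U.ι = V.ι ≫ g := by
      simp [q, morphismRestrict_ι, Scheme.homOfLE_ι_assoc]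
    have hQq : Q q := Q.comp_mem _ _ (hQ _ inferInstance)
      (MorphismProperty.of_isPullback (isPullback_morphismRestrict g U).flip hg)
    have hsurj : Function.Surjective q.base := by
      rintro ⟨x, y, hy, rfl⟩
      refine ⟨⟨y, hy⟩, U.ι.injective ?_⟩
      rw [← Scheme.Hom.comp_apply, hqU]
      rfl
    have hPU : P (U.ι ≫ f) := by
      refine MorphismProperty.IsLocalAtSource.of_forall_comp (K := Scheme.precoverage Q)
        (R := Presieve.singleton q) ((Scheme.singleton_mem_precoverage_iff Q q).mpr ⟨hsurj, hQq⟩) ?_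
      rintro _ _ ⟨⟩
      rw [← Category.assoc, hqU, Category.assoc]
      exact hV.1
    exact fun x hx => (le_sSup (α := X.Opens) hPU : U ≤ W) ⟨x, hx, rfl⟩
  · let F : ∀ b : ULift.{u} Bool, (cond b.down (g ⁻¹ᵁ W : Scheme.{u}) (W : Scheme.{u})) ⟶ W :=
      fun b => match b with
      | ⟨true⟩ => g ∣_ W
      | ⟨false⟩ => 𝟙 _
    have hR : Presieve.ofArrows _ F ∈ Scheme.precoverage Q (W : Scheme.{u}) := by
      rw [Scheme.ofArrows_mem_precoverage_iff]
      refine ⟨fun x => ⟨⟨false⟩, x, rfl⟩, fun b => ?_⟩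
      match b with
      | ⟨true⟩ => exact MorphismProperty.of_isPullback (isPullback_morphismRestrict g W).flip hg
      | ⟨false⟩ => exact hQ _ inferInstance
    have := MorphismProperty.IsLocalAtSource.comp (P := P) hR (F ⟨true⟩) (Presieve.ofArrows.mk (f := F) ⟨true⟩) hPW
    have h2 : P ((g ∣_ W) ≫ W.ι ≫ f) := this
    rwa [morphismRestrict_ι_assoc] at h2

end Groth.DescentBase
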