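import Groth.Agent.DescentBase.LocAcyclicBase
import Groth.Agent.DescentBase.StrictMono
import Groth.Agent.DescentBase.BcDescent
import Groth.Agent.EtaleBase.Limit.StrictCriterion

/-!
# Base change of open immersions along locally acyclic morphisms
-/

set_option autoImplicit false
set_option linter.style.haveILetI false
set_option synthInstance.maxHeartbeats 400000
set_option backward.isDefEq.respectTransparency.types false

universe u

open CategoryTheory CategoryTheory.Limits AlgebraicGeometry Opposite IsLocalRing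
open Groth.EtaleBase Groth.DescentBase.BcDescent Groth.DescentBase.HpullReduce

namespace Groth.DescentBase.LocAcyclicBC

/-- The comparison condition on a base change of the strict localization to an open subscheme. -/
theorem compN_of_isPullback {A B PS PX : Scheme.{u}} (f : A ⟶ B) {L : Set ℕ} {n : ℕ}
    (hf : EtAcyc.IsAcyclicN f L n) (bS : PS ⟶ B) [AlgebraicGeometry.Etale bS] (bX : PX ⟶ A) (m : PX ⟶ PS)
    (h : IsPullback m bX bS f) : EtAcyc.CompN m L n := by
  rw [← h.isoPullback_hom_fst, Groth.EtCdAcycComp.compN_comp_iff _ _ (Groth.EtCdAcycComp.compN_of_isIso _ L n)]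
  exact hf (Scheme.Etale.mk bS)

variable {X S Y T : Scheme.{u}} (f : X ⟶ S) (g : T ⟶ S) [IsOpenImmersion g] [QuasiCompact g]
  (h : Y ⟶ X) (e : Y ⟶ T) (c : IsPullback e h g f) [PreservesFiniteLimits (EtCoh.pull e)]
  {L : Set ℕ} {n : ℕ} (hf : EtAcyc.IsLocAcyclicN f L n) (F : EtCoh.Ab T) (hF : EtAcyc.IsLTorsion L F)

include hf hF in
theorem HpullVia_props (x : X) (RS : Type u) [CommRing RS] [IsLocalRing RS]
    [Algebra (S.presheaf.stalk (f.base x)) RS] [IsLocalHom (algebraMap (S.presheaf.stalk (f.base x)) RS)]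
    [Hensel.IsStrictHenselization (S.presheaf.stalk (f.base x)) RS]
    (RX : Type u) [CommRing RX] [IsLocalRing RX] [Algebra (X.presheaf.stalk x) RX]
    [IsLocalHom (algebraMap (X.presheaf.stalk x) RX)] [Hensel.IsStrictHenselization (X.presheaf.stalk x) RX]
    (ψ : RS →+* RX) [IsLocalHom ψ]
    (hψ : ψ.comp (algebraMap (S.presheaf.stalk (f.base x)) RS) =
      (algebraMap (X.presheaf.stalk x) RX).comp (f.stalkMap x).hom)
    (PS PX : Scheme.{u}) (aS : PS ⟶ T) (bS : PS ⟶ Spec (CommRingCat.of RS))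
    (hS : IsPullback aS bS g (Hens2.specOf S (f.base x) RS))
    (aX : PX ⟶ T) (bX : PX ⟶ Spec (CommRingCat.of RX))
    (hX : IsPullback aX bX g (Hens2.specOf X x RX ≫ f))
    (m : PX ⟶ PS) (w : m ≫ aS = aX) (hmb : m ≫ bS = bX ≫ Spec.map (CommRingCat.ofHom ψ))
    [PreservesFiniteLimits (EtCoh.pull m)] :
    (∀ q : ℕ, q ≤ n → Function.Bijective (EtCore.HpullVia m aS aX w F q)) ∧
      Function.Injective (EtCore.HpullVia m aS aX w F (n + 1)) := by
  letI : Algebra RS RX := ψ.toAlgebra
  haveI : IsLocalHom (algebraMap RS RX) := ‹IsLocalHom ψ›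
  haveI : IsOpenImmersion bS := MorphismProperty.of_isPullback (P := @IsOpenImmersion) hS inferInstance
  have hν := Groth.EtaleBase.EtLimit.specOf_compat f x RS RX ψ hψ
  have hsq : IsPullback m bX bS (Spec.map (CommRingCat.ofHom ψ)) := by
    refine IsPullback.of_right ?_ hmb hS
    rw [w, hν]
    exact hX
  have hm : EtAcyc.CompN m L n := compN_of_isPullback _ (hf x RS RX hψ) bS bX m hsq
  obtain ⟨hb, hi⟩ := hm ((EtCoh.pull aS).obj F) (Groth.EtCdAcycComp.isLTorsion_pull aS hF)
  haveI : IsIso (viaMap m aS aX w F) := by infer_instance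
  have key : ∀ q : ℕ, (fun y => EtCore.HpullVia m aS aX w F q y) =
      pushH (viaMap m aS aX w F) q ∘ EtCore.Hpull m ((EtCoh.pull aS).obj F) q :=
    fun q => funext fun y => HpullVia_eq m aS aX w F q y
  have hbij : ∀ q : ℕ, Function.Bijective (pushH (viaMap m aS aX w F) q) :=
    fun q => Groth.EtCdCriterion.bijective_postcomp_isIso _ q
  refine ⟨fun q hq => ?_, ?_⟩
  · show Function.Bijective (fun y => EtCore.HpullVia m aS aX w F q y)
    rw [key q]
    exact (hbij q).comp (hb q hq)
  · show Function.Injective (fun y => EtCore.HpullVia m aS aX w F (n + 1) y)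
    rw [key (n + 1)]
    exact (hbij (n + 1)).1.comp hi

include hf hF in
theorem isIso_bcQ (q : ℕ) (hq : q ≤ n) : IsIso (EtBC.bcQ g f h e c.w q F) :=
  Groth.EtaleBase.EtLimit.isIso_bcQ_of_bijective_HpullVia f g h e c F q
    (fun x RS _ _ _ _ _ RX _ _ _ _ _ ψ _ hψ PS PX aS bS hS aX bX hX m w hmb _ =>
      (HpullVia_props f g hf F hF x RS RX ψ hψ PS PX aS bS hS aX bX hX m w hmb).1 q hq)

include hf hF in
theorem mono_bcQ : Mono (EtBC.bcQ g f h e c.w (n + 1) F) :=
  Groth.DescentBase.StrictMono.mono_bcQ_of_injective_HpullVia f g h e c F (n + 1)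
    (fun x RS _ _ _ _ _ RX _ _ _ _ _ ψ _ hψ PS PX aS bS hS aX bX hX m w hmb _ =>
      (HpullVia_props f g hf F hF x RS RX ψ hψ PS PX aS bS hS aX bX hX m w hmb).2)

end Groth.DescentBase.LocAcyclicBC
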