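import Groth.Agent.DescentBase.StrictFinite
import Groth.Agent.DescentBase.AcyclicConst
import Groth.Agent.EtaleBase.Limit.StrictCriterion
import Groth.Agent.EtCd.StrictLocComp
import Groth.Agent.S0754
import Groth.Agent.S0537

/-!
# Local acyclicity after a locally quasi-finite base change
-/

set_option autoImplicit false
set_option linter.style.haveILetI false
set_option synthInstance.maxHeartbeats 400000
set_option backward.isDefEq.respectTransparency.types false

universe u

open CategoryTheory CategoryTheory.Limits AlgebraicGeometry Opposite IsLocalRing TensorProduct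

namespace Groth.DescentBase.LocAcyclicBase

/-- The map of strict henselizations along a locally quasi-finite morphism is finite. -/
theorem exists_finite_map {Y Y' : Scheme.{u}} (i : Y' ⟶ Y) [LocallyQuasiFinite i] [LocallyOfFiniteType i]
    (y' : Y') (y : Y) (h : i.base y' = y) (RY : Type u) [CommRing RY] [IsLocalRing RY]
    [Algebra (Y.presheaf.stalk y) RY] [IsLocalHom (algebraMap (Y.presheaf.stalk y) RY)]
    [hY : Hensel.IsStrictHenselization (Y.presheaf.stalk y) RY]
    (RY' : Type u) [CommRing RY'] [IsLocalRing RY'] [Algebra (Y'.presheaf.stalk y') RY']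
    [IsLocalHom (algebraMap (Y'.presheaf.stalk y') RY')]
    [Hensel.IsStrictHenselization (Y'.presheaf.stalk y') RY'] :
    ∃ a : RY →+* RY', IsLocalHom a ∧ a.Finite ∧
      Spec.map (CommRingCat.ofHom a) ≫ Hens2.specOf Y y RY = Hens2.specOf Y' y' RY' ≫ i := by
  subst h
  obtain ⟨a, hal, ha⟩ := Groth.EtaleBase.EtLimit.exists_strictHenselization_map (Y.presheaf.stalk (i.base y'))
    (Y'.presheaf.stalk y') (i.stalkMap y').hom RY RY'
  refine ⟨a, hal, ?_, Groth.EtaleBase.EtLimit.specOf_compat i y' RY RY' a ha⟩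
  obtain ⟨_, ⟨U, hU, rfl⟩, hyU, -⟩ := Y.isBasis_affineOpens.exists_subset_of_mem_open
    (Set.mem_univ (i.base y')) isOpen_univ
  obtain ⟨_, ⟨U', hU', rfl⟩, hyU', hle⟩ := Y'.isBasis_affineOpens.exists_subset_of_mem_open
    (show y' ∈ ((i ⁻¹ᵁ U : Y'.Opens) : Set Y') from hyU) (i ⁻¹ᵁ U).2
  have e : U' ≤ i ⁻¹ᵁ U := hle
  have hft : (i.appLE U U' e).hom.FiniteType :=
    HasRingHomProperty.appLE (P := @LocallyOfFiniteType) _ inferInstance ⟨U, hU⟩ ⟨U', hU'⟩ e
  have hqf : (i.appLE U U' e).hom.QuasiFinite :=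
    HasRingHomProperty.appLE (P := @LocallyQuasiFinite) _ inferInstance ⟨U, hU⟩ ⟨U', hU'⟩ e
  let gR : Γ(Y, U) →+* Y.presheaf.stalk (i.base y') := (Y.presheaf.germ U (i.base y') hyU).hom
  let gS : Γ(Y', U') →+* Y'.presheaf.stalk y' := (Y'.presheaf.germ U' y' hyU').hom
  have hgerm : (i.stalkMap y').hom.comp gR = gS.comp (i.appLE U U' e).hom := by
    rw [← CommRingCat.hom_comp, Scheme.Hom.germ_stalkMap, ← Y'.presheaf.germ_res (homOfLE e) y' hyU',
      ← Category.assoc, Scheme.Hom.appLE]
    rfl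
  letI : Algebra Γ(Y, U) (Y.presheaf.stalk (i.base y')) := gR.toAlgebra
  letI : Algebra Γ(Y', U') (Y'.presheaf.stalk y') := gS.toAlgebra
  haveI hwY : Algebra.WeaklyEtale Γ(Y, U) (Y.presheaf.stalk (i.base y')) := by
    haveI := IsAffineOpen.isLocalization_stalk hU ⟨i.base y', hyU⟩
    exact Groth.FlatMor2.weaklyEtale_localization
      (IsAffineOpen.primeIdealOf hU ⟨i.base y', hyU⟩).asIdeal.primeCompl
  haveI hwY' : Algebra.WeaklyEtale Γ(Y', U') (Y'.presheaf.stalk y') := by
    haveI := IsAffineOpen.isLocalization_stalk hU' ⟨y', hyU'⟩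
    exact Groth.FlatMor2.weaklyEtale_localization
      (IsAffineOpen.primeIdealOf hU' ⟨y', hyU'⟩).asIdeal.primeCompl
  haveI hhY := Groth.FlatMor2.WeaklyEtaleHens.weaklyEtale_of_isStrictHenselization (Y.presheaf.stalk (i.base y')) RY
  haveI hhY' := Groth.FlatMor2.WeaklyEtaleHens.weaklyEtale_of_isStrictHenselization (Y'.presheaf.stalk y') RY'
  letI : Algebra Γ(Y, U) RY := ((algebraMap (Y.presheaf.stalk (i.base y')) RY).comp gR).toAlgebra
  letI : Algebra Γ(Y', U') RY' := ((algebraMap (Y'.presheaf.stalk y') RY').comp gS).toAlgebra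
  haveI : IsScalarTower Γ(Y, U) (Y.presheaf.stalk (i.base y')) RY := IsScalarTower.of_algebraMap_eq fun _ => rfl
  haveI : IsScalarTower Γ(Y', U') (Y'.presheaf.stalk y') RY' := IsScalarTower.of_algebraMap_eq fun _ => rfl
  letI : Algebra Γ(Y, U) Γ(Y', U') := (i.appLE U U' e).hom.toAlgebra
  letI : Algebra RY RY' := a.toAlgebra
  haveI : IsLocalHom (algebraMap RY RY') := hal
  letI : Algebra Γ(Y, U) RY' := ((algebraMap Γ(Y', U') RY').comp (i.appLE U U' e).hom).toAlgebra
  haveI : IsScalarTower Γ(Y, U) Γ(Y', U') RY' := IsScalarTower.of_algebraMap_eq fun _ => rfl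
  haveI : IsScalarTower Γ(Y, U) RY RY' := IsScalarTower.of_algebraMap_eq fun r =>
    ((RingHom.congr_fun ha (gR r)).trans
      (congrArg (algebraMap (Y'.presheaf.stalk y') RY') (RingHom.congr_fun hgerm r))).symm
  haveI : Algebra.FiniteType Γ(Y, U) Γ(Y', U') := hft
  haveI : Algebra.QuasiFinite Γ(Y, U) Γ(Y', U') := hqf
  haveI := hY.henselian
  haveI := hY.isSepClosure
  haveI : IsSepClosed (ResidueField RY) := IsSepClosure.sep_closed (ResidueField (Y.presheaf.stalk (i.base y')))
  haveI : Algebra.WeaklyEtale Γ(Y, U) RY := Algebra.WeaklyEtale.trans _ (Y.presheaf.stalk (i.base y')) RY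
  haveI : Algebra.WeaklyEtale Γ(Y', U') RY' := Algebra.WeaklyEtale.trans _ (Y'.presheaf.stalk y') RY'
  exact StrictFinite.finite_of_weaklyEtale Γ(Y, U) Γ(Y', U') RY RY'

/-- Weakly étale maps are stable under products over a base. -/
theorem weaklyEtale_pullback_map {A B S A' B' : Scheme.{u}} (f : A ⟶ S) (f' : B ⟶ S) (g : A' ⟶ S) (g' : B' ⟶ S)
    (u : A ⟶ A') (v : B ⟶ B') (hu : u ≫ g = f) (hv : v ≫ g' = f') [WeaklyEtale u] [WeaklyEtale v] :
    WeaklyEtale (pullback.map f f' g g' u v (𝟙 S) (by simp [hu]) (by simp [hv])) :=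
  MorphismProperty.pullbackMap (P := @WeaklyEtale) ‹WeaklyEtale u› ‹WeaklyEtale v› hu.symm hv.symm

theorem weaklyEtale_mapDesc {A B S T : Scheme.{u}} (f : A ⟶ S) (f' : B ⟶ S) (s : S ⟶ T) [WeaklyEtale s] :
    WeaklyEtale (pullback.mapDesc f f' s) :=
  MorphismProperty.of_isPullback (P := @WeaklyEtale) (pullback_map_diagonal_isPullback f f' s) inferInstance

/-- An acyclicity statement for the projections of a fibre product transports along an isomorphism. -/
theorem isAcyclicN_iso_comp {A B S T : Scheme.{u}} (s : A ⟶ S) (t : B ⟶ S) (k : T ⟶ pullback s t) [IsIso k]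
    {L : Set ℕ} {n : ℕ}
    (h : ∀ V : B.Etale, AcyclicLocal.P L n (pullback.snd s (V.hom ≫ t))) :
    EtAcyc.IsAcyclicN (k ≫ pullback.snd s t) L n := by
  intro V
  let e : pullback V.hom (k ≫ pullback.snd s t) ≅ pullback s (V.hom ≫ t) :=
    asIso (pullback.map V.hom (k ≫ pullback.snd s t) V.hom (pullback.snd s t) (𝟙 _) k (𝟙 _) (by simp) (by simp)) ≪≫
      pullbackSymmetry _ _ ≪≫ pullbackLeftPullbackSndIso s t V.hom
  have he : e.hom ≫ pullback.snd s (V.hom ≫ t) = pullback.fst V.hom (k ≫ pullback.snd s t) := by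
    simp only [e, Iso.trans_hom, asIso_hom, Category.assoc, pullbackLeftPullbackSndIso_hom_snd,
      pullbackSymmetry_hom_comp_snd]
    exact (pullback.lift_fst _ _ _).trans (Category.comp_id _)
  show EtAcyc.CompN (pullback.fst V.hom (k ≫ pullback.snd s t)) L n
  rw [← he, Groth.EtCdAcycComp.compN_comp_iff _ _ (Groth.EtCdAcycComp.compN_of_isIso _ L n)]
  exact AcyclicLocal.compN_of_P (h V)

/-- Compatibility of maps of stalks read off on spectra. -/
theorem comp_algebraMap_eq {X' X Y : Scheme.{u}} (p : X' ⟶ X) (g : X ⟶ Y) (x' : X') (RY : Type u) [CommRing RY]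
    [Algebra (Y.presheaf.stalk (g.base (p.base x'))) RY] (RX' : Type u) [CommRing RX']
    [Algebra (X'.presheaf.stalk x') RX'] (φ : RY →+* RX')
    (h : Spec.map (CommRingCat.ofHom φ) ≫ Hens2.specOf Y (g.base (p.base x')) RY =
      Hens2.specOf X' x' RX' ≫ p ≫ g) :
    φ.comp (algebraMap (Y.presheaf.stalk (g.base (p.base x'))) RY) =
      ((algebraMap (X'.presheaf.stalk x') RX').comp (p.stalkMap x').hom).comp (g.stalkMap (p.base x')).hom := by
  have h1 : CommRingCat.ofHom (φ.comp (algebraMap (Y.presheaf.stalk (g.base (p.base x'))) RY)) =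
      g.stalkMap (p.base x') ≫ p.stalkMap x' ≫ CommRingCat.ofHom (algebraMap (X'.presheaf.stalk x') RX') := by
    apply Spec.map_injective
    rw [← cancel_mono (Y.fromSpecStalk (g.base (p.base x')))]
    rw [CommRingCat.ofHom_comp, Spec.map_comp, Spec.map_comp, Spec.map_comp]
    refine (Category.assoc _ _ _).trans (h.trans ?_)
    refine (Category.assoc _ _ _).trans ?_
    refine Eq.trans ?_ (Category.assoc _ _ _).symm
    refine Eq.trans ?_ (congrArg (fun t => (Spec.map _ ≫ Spec.map _) ≫ t)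
      (Scheme.SpecMap_stalkMap_fromSpecStalk g)).symm
    refine Eq.trans ?_ (Category.assoc _ _ _).symm
    refine congrArg (fun t => Spec.map _ ≫ t) ?_
    refine Eq.trans ?_ (Category.assoc _ _ _)
    exact (Category.assoc _ _ _).symm.trans
      (congrArg (fun t => t ≫ g) (Scheme.SpecMap_stalkMap_fromSpecStalk p).symm)
  exact congrArg CommRingCat.Hom.hom h1

/-- A lift into a fibre product of weakly étale schemes is weakly étale. -/
theorem weaklyEtale_lift {A B S T X Y Y' : Scheme.{u}} (g : X ⟶ Y) (i : Y' ⟶ Y) (sc : A ⟶ S) (sa : B ⟶ S)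
    (s : S ⟶ Y) (u₁ : A ⟶ X) (v : B ⟶ Y') (hu : u₁ ≫ g = sc ≫ s) (hv : v ≫ i = sa ≫ s)
    [WeaklyEtale s] [WeaklyEtale u₁] [WeaklyEtale v] (k : T ⟶ pullback sc sa) (t : T ⟶ pullback g i)
    [WeaklyEtale t] (h₁ : t ≫ pullback.fst g i = k ≫ pullback.fst sc sa ≫ u₁)
    (h₂ : t ≫ pullback.snd g i = k ≫ pullback.snd sc sa ≫ v) : WeaklyEtale k := by
  haveI := weaklyEtale_mapDesc sc sa s
  haveI := weaklyEtale_pullback_map (sc ≫ s) (sa ≫ s) g i u₁ v hu hv
  let r := pullback.mapDesc sc sa s ≫
    pullback.map _ _ g i u₁ v (𝟙 Y) (by simp [hu]) (by simp [hv])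
  haveI : WeaklyEtale r := inferInstanceAs (WeaklyEtale (_ ≫ _))
  have hkr : k ≫ r = t := by
    refine pullback.hom_ext ?_ ?_
    · rw [h₁]
      simp only [r, Category.assoc, pullback.mapDesc, pullback.map, pullback.lift_fst, pullback.lift_fst_assoc,
        Category.comp_id, Category.id_comp]
    · rw [h₂]
      simp only [r, Category.assoc, pullback.mapDesc, pullback.map, pullback.lift_snd, pullback.lift_snd_assoc,
        Category.comp_id, Category.id_comp]
  haveI : WeaklyEtale (k ≫ r) := hkr ▸ inferInstance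
  exact WeaklyEtale.of_comp k r

/-- A weakly étale lift to the fibre product along a finite local map is an isomorphism. -/
theorem isIso_lift (A B C D : Type u) [CommRing A] [CommRing B] [CommRing C] [CommRing D]
    [HenselianLocalRing A] [IsSepClosed (ResidueField A)] [HenselianLocalRing B] [IsSepClosed (ResidueField B)]
    [IsLocalRing C] [IsLocalRing D] (c : A →+* B) [IsLocalHom c] (a : A →+* C) (ha : a.Finite)
    (b : B →+* D) [IsLocalHom b] (d : C →+* D) (h : b.comp c = d.comp a)
    (k : Spec (CommRingCat.of D) ⟶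
      pullback (Spec.map (CommRingCat.ofHom c)) (Spec.map (CommRingCat.ofHom a)))
    (hk₁ : k ≫ pullback.fst _ _ = Spec.map (CommRingCat.ofHom b))
    (hk₂ : k ≫ pullback.snd _ _ = Spec.map (CommRingCat.ofHom d)) [WeaklyEtale k] : IsIso k := by
  letI : Algebra A B := c.toAlgebra
  letI : Algebra A C := a.toAlgebra
  letI : Algebra B D := b.toAlgebra
  letI : Algebra C D := d.toAlgebra
  letI : Algebra A D := (d.comp a).toAlgebra
  haveI : IsScalarTower A B D := IsScalarTower.of_algebraMap_eq fun t => (RingHom.congr_fun h t).symm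
  haveI : IsScalarTower A C D := IsScalarTower.of_algebraMap_eq fun _ => rfl
  haveI : IsLocalHom (algebraMap A B) := ‹IsLocalHom c›
  haveI : IsLocalHom (algebraMap B D) := ‹IsLocalHom b›
  haveI : Module.Finite A C := ha
  let μ := Algebra.TensorProduct.lift (IsScalarTower.toAlgHom A B D) (IsScalarTower.toAlgHom A C D)
    fun _ _ => Commute.all _ _
  let e := pullbackSpecIso A B C
  have hμ : Spec.map (CommRingCat.ofHom μ.toRingHom) ≫ e.inv = k := by
    refine pullback.hom_ext ?_ ?_
    · refine Eq.trans ?_ hk₁.symm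
      erw [Category.assoc, pullbackSpecIso_inv_fst, ← Spec.map_comp, ← CommRingCat.ofHom_comp]
      congr 2
      ext t
      simp [μ]
      rfl
    · refine Eq.trans ?_ hk₂.symm
      erw [Category.assoc, pullbackSpecIso_inv_snd, ← Spec.map_comp, ← CommRingCat.ofHom_comp]
      congr 2
      ext t
      simp [μ]
      rfl
  haveI : WeaklyEtale (Spec.map (CommRingCat.ofHom μ.toRingHom)) := by
    rw [(Iso.comp_inv_eq e).1 hμ]
    infer_instance
  have hbij := StrictFinite.bijective_lift A B C D ((Groth.FlatMor2.weaklyEtale_SpecMap_iff _).1 ‹_›)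
  haveI : IsIso (CommRingCat.ofHom μ.toRingHom) := (ConcreteCategory.isIso_iff_bijective _).2 hbij
  rw [← hμ]
  infer_instance

/-- Local acyclicity passes to locally quasi-finite base changes. -/
theorem isLocAcyclicN_pullback {X Y Y' : Scheme.{u}} (g : X ⟶ Y) (i : Y' ⟶ Y) [LocallyQuasiFinite i]
    [LocallyOfFiniteType i] {L : Set ℕ} {n : ℕ} (hg : EtAcyc.IsLocAcyclicN g L n) :
    EtAcyc.IsLocAcyclicN (pullback.snd g i) L n := by
  intro x' RY' RX' _ _ _ _ _ _ _ _ _ _ _ _ hψ
  have hpt : i.base ((pullback.snd g i).base x') = g.base ((pullback.fst g i).base x') := by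
    rw [← Scheme.Hom.comp_apply, ← pullback.condition, Scheme.Hom.comp_apply]
  obtain ⟨RY, _, _, _, _, hRY⟩ := Groth.Agent.S0537.result (Y.presheaf.stalk (g.base ((pullback.fst g i).base x')))
  obtain ⟨a, hal, hafin, ha⟩ := exists_finite_map i ((pullback.snd g i).base x') _ hpt RY RY'
  haveI := hal
  have hψ' := Groth.EtaleBase.EtLimit.specOf_compat (pullback.snd g i) x' RY' RX' (algebraMap RY' RX') hψ
  haveI : IsLocalHom ((algebraMap RY' RX').comp a) := RingHom.isLocalHom_comp _ _
  have hφ := comp_algebraMap_eq (pullback.fst g i) g x' RY RX' ((algebraMap RY' RX').comp a) (by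
    rw [CommRingCat.ofHom_comp, Spec.map_comp, Category.assoc, ha, ← Category.assoc, hψ', Category.assoc,
      pullback.condition])
  obtain ⟨RX, _, _, _, _, hRX, c, hcl, b, hbl, hc, hb, hcb⟩ := Groth.EtCdStrictComp.exists_between
    (g.stalkMap ((pullback.fst g i).base x')).hom ((pullback.fst g i).stalkMap x').hom
    ((algebraMap RY' RX').comp a) hφ
  haveI := hcl
  haveI := hbl
  letI : Algebra RY RX := c.toAlgebra
  haveI : IsLocalHom (algebraMap RY RX) := hcl
  have hac := hg ((pullback.fst g i).base x') RY RX hc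
  have hc' := Groth.EtaleBase.EtLimit.specOf_compat g ((pullback.fst g i).base x') RY RX c hc
  have hb' := Groth.EtaleBase.EtLimit.specOf_compat (pullback.fst g i) x' RX RX' b hb
  haveI : IsFinite (Spec.map (CommRingCat.ofHom a)) := by
    rw [IsFinite.SpecMap_iff]
    exact hafin
  have hP : ∀ V : (Spec (CommRingCat.of RY')).Etale, AcyclicLocal.P L n
      (pullback.snd (Spec.map (CommRingCat.ofHom c)) (V.hom ≫ Spec.map (CommRingCat.ofHom a))) := fun V => by
    haveI : AlgebraicGeometry.Etale V.hom := V.prop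
    exact AcyclicConst.P_of_isAcyclicN _ hac (V.hom ≫ Spec.map (CommRingCat.ofHom a))
  have hsq : Spec.map (CommRingCat.ofHom b) ≫ Spec.map (CommRingCat.ofHom c) =
      Spec.map (CommRingCat.ofHom (algebraMap RY' RX')) ≫ Spec.map (CommRingCat.ofHom a) := by
    rw [← Spec.map_comp, ← Spec.map_comp, ← CommRingCat.ofHom_comp, ← CommRingCat.ofHom_comp, hcb]
  let k := pullback.lift _ _ hsq
  have hk₁ : k ≫ pullback.fst _ _ = Spec.map (CommRingCat.ofHom b) := pullback.lift_fst _ _ _
  have hk₂ : k ≫ pullback.snd _ _ = Spec.map (CommRingCat.ofHom (algebraMap RY' RX')) := pullback.lift_snd _ _ _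
  haveI := Groth.Agent.S0754.result Y (g.base ((pullback.fst g i).base x')) RY
  haveI := Groth.Agent.S0754.result X ((pullback.fst g i).base x') RX
  haveI := Groth.Agent.S0754.result Y' ((pullback.snd g i).base x') RY'
  haveI := Groth.Agent.S0754.result (pullback g i) x' RX'
  haveI : WeaklyEtale k := weaklyEtale_lift g i _ _ (Hens2.specOf Y _ RY) (Hens2.specOf X _ RX)
    (Hens2.specOf Y' _ RY') hc'.symm ha.symm k (Hens2.specOf (pullback g i) x' RX')
    (by rw [← Category.assoc k, hk₁]; exact hb'.symm) (by rw [← Category.assoc k, hk₂]; exact hψ'.symm)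
  haveI := hRY.henselian
  haveI := hRY.isSepClosure
  haveI : IsSepClosed (ResidueField RY) :=
    IsSepClosure.sep_closed (ResidueField (Y.presheaf.stalk (g.base ((pullback.fst g i).base x'))))
  haveI := hRX.henselian
  haveI := hRX.isSepClosure
  haveI : IsSepClosed (ResidueField RX) :=
    IsSepClosure.sep_closed (ResidueField (X.presheaf.stalk ((pullback.fst g i).base x')))
  haveI : IsIso k := isIso_lift RY RX RY' RX' c a hafin b (algebraMap RY' RX') hcb k hk₁ hk₂
  show EtAcyc.IsAcyclicN (Spec.map (CommRingCat.ofHom (algebraMap RY' RX'))) L n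
  rw [← hk₂]
  exact isAcyclicN_iso_comp _ _ k hP

end Groth.DescentBase.LocAcyclicBase
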