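import Groth.Agent.DescentBase.QCohFpqc
import Groth.Agent.DescentBase.FTOpen
import Groth.Agent.QCohMod.PullbackSections
import Groth.Agent.DescentBase.DDElem
import Mathlib.Algebra.Module.SpanRankOperations

/-!
# Fpqc descent of the number of local generators
-/

set_option autoImplicit false
set_option backward.isDefEq.respectTransparency false
set_option linter.style.haveILetI false

universe u

open CategoryTheory Limits AlgebraicGeometry TopologicalSpace
open scoped TensorProduct
open Groth.QCohMod (res resFun germ germ_res germ_smul exists_germ pullGerm pullGerm_germ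
  pullStalkEquiv stalkAlg oneSec sectionsAlg)
open Groth.PicAux (pullSec)

namespace Groth.DescentBase.LocGenFpqc

/-- The number of generators of a finite module over a local ring does not drop under a local base
change. -/
theorem exists_span_le {A : Type u} [CommRing A] [IsLocalRing A] (B : Type u) [CommRing B] [IsLocalRing B]
    [Algebra A B] [IsLocalHom (algebraMap A B)] {M : Type u} [AddCommGroup M] [Module A M]
    [Module.Finite A M] {ι : Type u} [Finite ι] (v : ι → B ⊗[A] M)
    (hv : Submodule.span B (Set.range v) = ⊤) :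
    ∃ t : Finset M, t.card ≤ Nat.card ι ∧ Submodule.span A (t : Set M) = ⊤ := by
  let kA := IsLocalRing.ResidueField A
  let kB := IsLocalRing.ResidueField B
  obtain ⟨t, ht, hts⟩ := (Module.Finite.fg_top (R := A) (M := M)).exists_span_finset_card_eq_spanFinrank
  refine ⟨t, ht.le.trans ?_, hts⟩
  have h1 : (⊤ : Submodule A M).spanFinrank = Module.finrank kA (kA ⊗[A] M) := by
    have h := TensorProduct.spanFinrank_top_eq_of_residueField (⊤ : Submodule A M) Module.Finite.fg_top
    rw [← Module.finrank_eq_spanFinrank_of_free (R := kA)] at h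
    rw [← h]
    exact (TensorProduct.AlgebraTensorModule.congr (LinearEquiv.refl kA kA) Submodule.topEquiv).finrank_eq
  have h2 : Module.finrank kA (kA ⊗[A] M) = Module.finrank kB (kB ⊗[A] M) := by
    exact (Module.finrank_baseChange (R := kB) (S := kA) (M' := kA ⊗[A] M)).symm.trans
      (TensorProduct.AlgebraTensorModule.cancelBaseChange A kA kB kB M).finrank_eq
  have h3 : (⊤ : Submodule B (B ⊗[A] M)).spanFinrank ≤ Nat.card ι := by
    rw [← hv]
    refine (Submodule.spanFinrank_span_le_ncard_of_finite (Set.finite_range v)).trans ?_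
    rw [← Nat.card_coe_set_eq]
    exact Finite.card_range_le v
  rw [h1, h2, Module.finrank_eq_spanFinrank_of_free]
  refine le_trans (le_of_eq_of_le ?_ (TensorProduct.spanFinrank_top_le_of_fg
    (A := kB) (⊤ : Submodule B (B ⊗[A] M)) Module.Finite.fg_top)) h3
  rw [← Module.finrank_eq_spanFinrank_of_free, ← Module.finrank_eq_spanFinrank_of_free]
  exact ((TensorProduct.AlgebraTensorModule.congr (LinearEquiv.refl kB kB) Submodule.topEquiv).trans
    (TensorProduct.AlgebraTensorModule.cancelBaseChange A B kB kB M)).finrank_eq.symm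

variable {X : Scheme.{u}}

/-- If the stalk of an inverse image is spanned by finitely many elements, the stalk downstairs is
spanned by at most as many. -/
theorem exists_span_stalk_le {Y : Scheme.{u}} (g : Y ⟶ X) (F : X.Modules) (y : Y)
    [Module.Finite (X.presheaf.stalk (g y)) (F.presheaf.stalk (g y))] {ι : Type u} [Finite ι]
    (v : ι → ((Scheme.Modules.pullback g).obj F).presheaf.stalk y)
    (hv : Submodule.span (Y.presheaf.stalk y) (Set.range v) = ⊤) :
    ∃ t : Finset (F.presheaf.stalk (g y)), t.card ≤ Nat.card ι ∧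
      Submodule.span (X.presheaf.stalk (g y)) (t : Set (F.presheaf.stalk (g y))) = ⊤ := by
  letI := stalkAlg g y
  haveI : IsLocalHom (algebraMap (X.presheaf.stalk (g y)) (Y.presheaf.stalk y)) :=
    inferInstanceAs (IsLocalHom (g.stalkMap y).hom)
  refine exists_span_le (Y.presheaf.stalk y) (fun j => (pullStalkEquiv g F y).symm (v j)) ?_
  have h2 := congrArg (Submodule.map (pullStalkEquiv g F y).symm.toLinearMap) hv
  rw [Submodule.map_top, LinearEquiv.range, Submodule.map_span, ← Set.range_comp] at h2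
  exact h2

/-- Sections spanning a stalk span the stalks nearby, for a module spanned by finitely many sections. -/
theorem exists_nhd_span (F : X.Modules) {U V : X.Opens} {x : X} (hxU : x ∈ U) (hxV : x ∈ V)
    {K T : Type u} [Finite K] [Finite T] (s : K → Γ(F, U)) (t : T → Γ(F, V))
    (hs : ∀ (z : X) (hz : z ∈ U), Submodule.span (X.presheaf.stalk z)
      (Set.range fun k => germ F z hz (s k)) = ⊤)
    (ht : Submodule.span (X.presheaf.stalk x) (Set.range fun k => germ F x hxV (t k)) = ⊤) :
    ∃ (W : X.Opens) (_ : x ∈ W) (hWV : W ≤ V), ∀ (z : X) (hz : z ∈ W),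
      Submodule.span (X.presheaf.stalk z) (Set.range fun k => germ F z hz (res F hWV (t k))) = ⊤ := by
  classical
  have := Fintype.ofFinite K
  have := Fintype.ofFinite T
  have hmem : ∀ k, ∃ c : T → X.presheaf.stalk x,
      ∑ j, c j • germ F x hxV (t j) = germ F x hxU (s k) := fun k =>
    (Submodule.mem_span_range_iff_exists_fun _).mp (ht.ge trivial)
  choose c hc using hmem
  choose O hO r hr using fun p : K × T => TopCat.Presheaf.exists_germ_eq X.presheaf (c p.1 p.2)
  let W : X.Opens := (U ⊓ V) ⊓ Finset.univ.inf O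
  have hW : x ∈ W := by
    refine ⟨⟨hxU, hxV⟩, ?_⟩
    show x ∈ ((Finset.univ.inf O : X.Opens) : Set X)
    rw [Opens.coe_finset_inf]
    simp only [Finset.inf_set_eq_iInter, Set.mem_iInter]
    exact fun k _ => hO k
  have hWV : W ≤ V := inf_le_left.trans inf_le_right
  have hWU : W ≤ U := inf_le_left.trans inf_le_left
  let v : K → Γ(F, W) := fun k => ∑ j,
    resFun X (inf_le_right.trans (Finset.inf_le (Finset.mem_univ (k, j))) : W ≤ O (k, j)) (r (k, j)) • res F hWV (t j)
  have hv : ∀ k, germ F x hW (v k) = germ F x hW (res F hWU (s k)) := fun k => by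
    rw [germ_res, ← hc k, map_sum]
    refine Finset.sum_congr rfl fun j _ => ?_
    rw [germ_smul, germ_res]
    congr 1
    exact (TopCat.Presheaf.germ_res_apply X.presheaf _ x hW _).trans (hr (k, j))
  choose W' hW' i₁ i₂ he using fun k => TopCat.Presheaf.germ_eq F.presheaf x hW hW _ _ (hv k)
  let W'' : X.Opens := W ⊓ Finset.univ.inf W'
  refine ⟨W'', ⟨hW, ?_⟩, inf_le_left.trans hWV, fun z hz => ?_⟩
  · show x ∈ ((Finset.univ.inf W' : X.Opens) : Set X)
    rw [Opens.coe_finset_inf]
    simp only [Finset.inf_set_eq_iInter, Set.mem_iInter]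
    exact fun k _ => hW' k
  refine eq_top_iff.mpr ((hs z (hWU hz.1)).ge.trans (Submodule.span_le.mpr ?_))
  rintro _ ⟨k, rfl⟩
  have hzk : z ∈ W' k := (Finset.inf_le (Finset.mem_univ k) : Finset.univ.inf W' ≤ W' k) hz.2
  have : germ F z hz.1 (v k) = germ F z hz.1 (res F hWU (s k)) := by
    refine (TopCat.Presheaf.germ_res_apply F.presheaf (i₁ k) z hzk _).symm.trans
      ((congrArg _ (he k)).trans ?_)
    exact TopCat.Presheaf.germ_res_apply F.presheaf (i₂ k) z hzk _
  rw [germ_res] at this
  show germ F z _ (s k) ∈ Submodule.span _ _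
  rw [← this, map_sum]
  refine Submodule.sum_mem _ fun j _ => ?_
  rw [germ_smul, germ_res]
  exact Submodule.smul_mem _ _ (Submodule.subset_span ⟨j, germ_res F _ z hz (t j)⟩)

variable {ι : Type u} {Xi : ι → Scheme.{u}} {f : ∀ i, Xi i ⟶ X}

/-- A quasi-coherent module is of finite type if it is so on the members of an fpqc covering. -/
theorem isFT_of_pullback_family (hf : Presieve.ofArrows Xi f ∈ Scheme.fpqcPrecoverage X)
    (F : X.Modules) [F.IsQuasicoherent]
    (h : ∀ i, CohB1.IsFT ((Scheme.Modules.pullback (f i)).obj F)) : CohB1.IsFT F := by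
  classical
  refine FTOpen.isFT_of_local_span F fun x => ?_
  obtain ⟨U, hU, hx⟩ := Groth.QCohMod.exists_affine_mem x
  obtain ⟨K, _, Z, p, a, hZ, hfl, ha, hsurj⟩ := exists_pieces f hf hU
  have hk : ∀ (k) (w : Z k), (a k ≫ f (p k)) w ∈ U := fun k w => ha k (Set.mem_univ w)
  have key : ∀ k, ∃ S : Finset Γ(F, U), ∀ w : Z k,
      Submodule.span ((Z k).presheaf.stalk w) (pullGerm (a k ≫ f (p k)) F w ''
        ((fun m => germ F ((a k ≫ f (p k)) w) (hk k w) m) '' (S : Set Γ(F, U)))) = ⊤ := by
    intro k
    haveI := hZ k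
    let c := a k ≫ f (p k)
    let P := (Scheme.Modules.pullback c).obj F
    haveI : P.IsQuasicoherent := Groth.QCohMod.isQCoh_pullback_obj c F
    haveI := Groth.QCohMod.isQCoh_pullback_obj (f (p k)) F
    haveI : (Scheme.Modules.pullback (f (p k)) ⋙ Scheme.Modules.pullback (a k)).obj F |>.IsQuasicoherent :=
      Groth.QCohMod.isQCoh_pullback_obj (a k) ((Scheme.Modules.pullback (f (p k))).obj F)
    haveI : ((Scheme.Modules.pullback (a k ≫ f (p k))).obj F).IsQuasicoherent := ‹P.IsQuasicoherent›
    have hP : CohB1.IsFT P := QCohFpqc.isFT_of_iso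
      ((Scheme.Modules.pullbackComp (a k) (f (p k))).app F)
      (Groth.QCohMod.isFT_pullback (a k) _ (h (p k)))
    haveI := Groth.QCohMod.finite_sections P hP (isAffineOpen_top (Z k))
    letI := sectionsAlg c (ha k)
    obtain ⟨G, hG⟩ := (Module.Finite.fg_top (R := Γ(Z k, ⊤)) (M := Γ(P, (⊤ : (Z k).Opens))))
    choose z hz using fun g : {g // g ∈ G} =>
      (Groth.QCohMod.pullSecTensor_bijective c F (ha k) hU (isAffineOpen_top (Z k))).2 g.1
    choose S hS using fun g => TensorProduct.exists_finset (z g)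
    refine ⟨Finset.univ.biUnion fun g => (S g).image Prod.snd, fun w => eq_top_iff.mpr fun t _ => ?_⟩
    obtain ⟨b, m, hb, hm⟩ := Groth.QCohMod.exists_smul_germ_eq P (isAffineOpen_top (Z k)) w
      (Set.mem_univ w) t
    have hu := (Scheme.mem_basicOpen (Z k) b w (Set.mem_univ w)).mp hb
    refine (Submodule.smul_mem_iff_of_isUnit _ hu).mp ?_
    rw [hm]
    clear hm
    have hmG : m ∈ Submodule.span Γ(Z k, ⊤) (G : Set Γ(P, (⊤ : (Z k).Opens))) := hG.ge trivial
    induction hmG using Submodule.span_induction with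
    | zero => rw [map_zero]; exact Submodule.zero_mem _
    | add u v _ _ hu hv => rw [map_add]; exact Submodule.add_mem _ hu hv
    | smul r u _ hu => rw [germ_smul]; exact Submodule.smul_mem _ _ hu
    | mem g hg =>
      rw [show g = _ from (hz ⟨g, hg⟩).symm, hS ⟨g, hg⟩, map_sum, map_sum]
      refine Submodule.sum_mem _ fun q hq => ?_
      rw [Groth.QCohMod.pullSecTensor_tmul, germ_smul, germ_res, ← pullGerm_germ c F w (hk k w)]
      refine Submodule.smul_mem _ _ (Submodule.subset_span ⟨_, ⟨q.2, ?_, rfl⟩, rfl⟩)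
      exact Finset.mem_biUnion.mpr ⟨⟨g, hg⟩, Finset.mem_univ _, Finset.mem_image_of_mem _ hq⟩
  choose S hS using key
  refine ⟨U, hx, Σ k, {m // m ∈ S k}, inferInstance, fun q => q.2.1, fun z hz => ?_⟩
  obtain ⟨k, w, rfl⟩ := hsurj z hz
  haveI := hfl k
  refine FTOpen.span_eq_top_of_pullGerm _ F w _ (eq_top_iff.mpr ((hS k w).ge.trans
    (Submodule.span_mono (Set.image_mono ?_))))
  rintro _ ⟨m, hm, rfl⟩
  exact ⟨⟨k, ⟨m, hm⟩⟩, rfl⟩

set_option maxHeartbeats 1600000 in
/-- Being locally generated by at most `r` sections descends along fpqc coverings. -/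
theorem locallyGeneratedBy_le (hf : Presieve.ofArrows Xi f ∈ Scheme.fpqcPrecoverage X)
    (F : X.Modules) [F.IsQuasicoherent] (r : ℕ)
    (h : ∀ i, ∃ σ : SheafOfModules.LocalGeneratorsData.{u} (R := (Xi i).ringCatSheaf)
        ((Scheme.Modules.pullback (f i)).obj F),
      ∀ k, Finite (σ.generators k).I ∧ Nat.card (σ.generators k).I ≤ r) :
    ∃ σ : SheafOfModules.LocalGeneratorsData.{u} (R := X.ringCatSheaf) F,
      ∀ k, Finite (σ.generators k).I ∧ Nat.card (σ.generators k).I ≤ r := by
  classical
  choose σ hσ using h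
  have hft : ∀ i, CohB1.IsFT ((Scheme.Modules.pullback (f i)).obj F) := fun i =>
    SheafOfModules.IsFiniteType.mk (R := (Xi i).ringCatSheaf) ⟨σ i,
      SheafOfModules.LocalGeneratorsData.IsFiniteType.mk (R := (Xi i).ringCatSheaf) (p := σ i)
        fun k => { finite := (hσ i k).1 }⟩
  have hF := isFT_of_pullback_family hf F hft
  have key : ∀ x : X, ∃ (W : X.Opens) (_ : x ∈ W) (T : Type u) (_ : Finite T) (_ : Nat.card T ≤ r)
      (t : T → Γ(F, W)), ∀ (z : X) (hz : z ∈ W),
        Submodule.span (X.presheaf.stalk z) (Set.range fun k => germ F z hz (t k)) = ⊤ := by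
    intro x
    obtain ⟨i, y, rfl⟩ := exists_mem_range_of_fpqc hf x
    haveI := flat_of_mem_fpqcPrecoverage hf i
    have hcov : (⨆ k, (σ i).X k) = ⊤ := (Opens.coversTop_iff (U := (σ i).X)).mp (σ i).coversTop
    obtain ⟨k, hk⟩ := Opens.mem_iSup.mp (hcov.ge (Set.mem_univ y) : y ∈ ⨆ k, (σ i).X k)
    haveI : PreservesColimitsOfSize.{u, u} (Scheme.Modules.overEquiv ((σ i).X k)).functor := inferInstance
    let G := (((σ i).generators k).map (Scheme.Modules.overEquiv ((σ i).X k)).functor
      (QCohMod.overUnitIso ((σ i).X k)).symm).ofEpi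
        ((Scheme.Modules.overFunctorEquiv ((σ i).X k)).app ((Scheme.Modules.pullback (f i)).obj F)).hom
    haveI : Finite G.I := (hσ i k).1
    let V : (Xi i).Opens := (σ i).X k
    let e := (Scheme.Modules.restrictFunctorIsoPullback V.ι).app ((Scheme.Modules.pullback (f i)).obj F) ≪≫
      (Scheme.Modules.pullbackComp V.ι (f i)).app F
    let π₀ : ∐ (fun _ : G.I ↦ Coh.structureModule (V : Scheme.{u})) ⟶ _ := G.π
    haveI : Epi π₀ := G.epi
    let c := V.ι ≫ f i
    let w : V := ⟨y, hk⟩
    have hspan := FTOpen.span_germ_eq_top (π₀ ≫ e.hom) w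
    haveI := Groth.QCohMod.finite_stalk F hF (c w)
    obtain ⟨T, hT, hTs⟩ := exists_span_stalk_le c F w _ hspan
    choose O hO m hm using fun t : {t // t ∈ T} => exists_germ F (c w) t.1
    obtain ⟨U, hU, hxU⟩ := Groth.QCohMod.exists_affine_mem (c w)
    haveI := Groth.QCohMod.finite_sections F hF hU
    obtain ⟨S, hS⟩ := (Module.Finite.fg_top (R := Γ(X, U)) (M := Γ(F, U)))
    have hs : ∀ (z : X) (hz : z ∈ U), Submodule.span (X.presheaf.stalk z)
        (Set.range fun k : {s // s ∈ S} => germ F z hz k.1) = ⊤ := by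
      intro z hz
      refine eq_top_iff.mpr fun t _ => ?_
      obtain ⟨b, n, hb, hn⟩ := Groth.QCohMod.exists_smul_germ_eq F hU z hz t
      refine (Submodule.smul_mem_iff_of_isUnit _ ((Scheme.mem_basicOpen X b z hz).mp hb)).mp ?_
      rw [hn]
      clear hn
      have hn' : n ∈ Submodule.span Γ(X, U) (S : Set Γ(F, U)) := hS.ge trivial
      induction hn' using Submodule.span_induction with
      | zero => rw [map_zero]; exact Submodule.zero_mem _
      | add u v _ _ hu hv => rw [map_add]; exact Submodule.add_mem _ hu hv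
      | smul q u _ hu => rw [germ_smul]; exact Submodule.smul_mem _ _ hu
      | mem g hg => exact Submodule.subset_span ⟨⟨g, hg⟩, rfl⟩
    let O' : X.Opens := Finset.univ.inf O
    have hO' : c w ∈ O' := by
      show c w ∈ ((Finset.univ.inf O : X.Opens) : Set X)
      rw [Opens.coe_finset_inf]
      simp only [Finset.inf_set_eq_iInter, Set.mem_iInter]
      exact fun k _ => hO k
    obtain ⟨W, hW, hWV, hWs⟩ := exists_nhd_span F hxU hO' (fun k : {s // s ∈ S} => k.1)
      (fun t => res F (Finset.inf_le (Finset.mem_univ t)) (m t)) hs (by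
        rw [← hTs]
        congr 1
        have hq : ∀ t, germ F (c w) hO' (res F (Finset.inf_le (Finset.mem_univ t)) (m t)) = t.1 :=
          fun t => (germ_res F _ (c w) hO' (m t)).trans (hm t)
        ext q
        exact ⟨fun ⟨t, ht⟩ => ((hq t).symm.trans ht) ▸ t.2, fun h => ⟨⟨q, h⟩, hq _⟩⟩)
    refine ⟨W, hW, {t // t ∈ T}, inferInstance, ?_, _, hWs⟩
    rw [Nat.card_eq_fintype_card, Fintype.card_coe]
    exact hT.trans (hσ i k).2
  choose W hW T hT hcard t ht using key
  let p : ∀ x, (F.restrict (W x).ι).GeneratingSections := fun x =>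
    ((QCohMod.genOfSpan ((Scheme.Modules.pullback (W x).ι).obj F)
      (fun k => res _ (le_of_eq (by ext z; simpa using z.2) : ⊤ ≤ (W x).ι ⁻¹ᵁ W x)
        (pullSec (W x).ι F (t x k))) fun z => by
        refine eq_top_iff.mpr ((FTOpen.span_pullGerm_eq_top (W x).ι F z _
          (ht x _ z.2)).ge.trans (Submodule.span_mono ?_))
        rintro _ ⟨_, ⟨k, rfl⟩, rfl⟩
        refine ⟨k, ?_⟩
        dsimp only
        rw [germ_res]
        exact (pullGerm_germ (W x).ι F z z.2 (t x k)).symm).ofEpi
      ((Scheme.Modules.restrictFunctorIsoPullback (W x).ι).app F).inv)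
  exact ⟨{ I := X, X := W, coversTop := QCohMod.coversTop_of_cover W (fun x => ⟨x, hW x⟩),
           generators := fun x => QCohMod.genOver (p x) }, fun x => ⟨hT x, hcard x⟩⟩

end Groth.DescentBase.LocGenFpqc
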