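import Groth.Prelude.Def_RDer
import Mathlib.Algebra.Homology.Embedding.ExtendHomology
import Mathlib.Algebra.Homology.QuasiIso

/-!
Additive functors and extension of complexes; the homology comparison of an exact functor.
-/

set_option autoImplicit false
set_option backward.isDefEq.respectTransparency false

open CategoryTheory CategoryTheory.Limits

namespace Groth.DescentBase.MapExtend

universe v₁ v₂ u₁ u₂

variable {B : Type u₁} [Category.{v₁} B] [Abelian B] {C : Type u₂} [Category.{v₂} C] [Abelian C]
  (Ψ : B ⥤ C) [Ψ.Additive]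

section Extend

variable {ι ι' : Type*} {c : ComplexShape ι} {c' : ComplexShape ι'} (e : c.Embedding c')
  (K : HomologicalComplex B c)

lemma isZero_map_extend_X (i' : ι') (hi' : ∀ i, e.f i ≠ i') :
    IsZero (((Ψ.mapHomologicalComplex c').obj (K.extend e)).X i') :=
  Ψ.map_isZero (K.isZero_extend_X e i' hi')

open Classical in
/-- The comparison in one degree. -/
noncomputable def mapExtendX (i' : ι') :
    ((Ψ.mapHomologicalComplex c').obj (K.extend e)).X i' ≅
      (((Ψ.mapHomologicalComplex c).obj K).extend e).X i' :=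
  if h : ∃ i, e.f i = i' then
    Ψ.mapIso (K.extendXIso e h.choose_spec) ≪≫
      (((Ψ.mapHomologicalComplex c).obj K).extendXIso e h.choose_spec).symm
  else (isZero_map_extend_X Ψ e K i' fun i hi => h ⟨i, hi⟩).iso
    (((Ψ.mapHomologicalComplex c).obj K).isZero_extend_X e i' fun i hi => h ⟨i, hi⟩)

lemma mapExtendX_hom {i : ι} {i' : ι'} (h : e.f i = i') :
    (mapExtendX Ψ e K i').hom = Ψ.map (K.extendXIso e h).hom ≫
      (((Ψ.mapHomologicalComplex c).obj K).extendXIso e h).inv := by
  have hex : ∃ i, e.f i = i' := ⟨i, h⟩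
  obtain rfl : hex.choose = i := e.injective_f (hex.choose_spec.trans h.symm)
  rw [mapExtendX, dif_pos hex]
  rfl

/-- An additive functor commutes with the extension of complexes. -/
noncomputable def mapExtendIso :
    (Ψ.mapHomologicalComplex c').obj (K.extend e) ≅ ((Ψ.mapHomologicalComplex c).obj K).extend e :=
  HomologicalComplex.Hom.isoOfComponents (mapExtendX Ψ e K) fun i' j' _ => by
    by_cases hi : ∃ i, e.f i = i'
    · obtain ⟨i, hi⟩ := hi
      by_cases hj : ∃ j, e.f j = j'
      · obtain ⟨j, hj⟩ := hj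
        rw [mapExtendX_hom Ψ e K hi, mapExtendX_hom Ψ e K hj,
          HomologicalComplex.extend_d_eq _ e hi hj]
        simp [HomologicalComplex.extend_d_eq _ e hi hj]
      · exact IsZero.eq_of_tgt (HomologicalComplex.isZero_extend_X _ e j' fun j hj' => hj ⟨j, hj'⟩) _ _
    · exact IsZero.eq_of_src (isZero_map_extend_X Ψ e K i' fun i hi' => hi ⟨i, hi'⟩) _ _

lemma mapExtendIso_hom_f {i : ι} {i' : ι'} (h : e.f i = i') :
    (mapExtendIso Ψ e K).hom.f i' = Ψ.map (K.extendXIso e h).hom ≫
      (((Ψ.mapHomologicalComplex c).obj K).extendXIso e h).inv :=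
  mapExtendX_hom Ψ e K h

end Extend

section Exact

variable [PreservesFiniteLimits Ψ] [PreservesFiniteColimits Ψ] {ι' : Type*} {c : ComplexShape ι'}
  (K : HomologicalComplex B c) (i : ι')

lemma isIso_cyclesComparison : IsIso (RDer.cyclesComparison Ψ K i) := by
  have h1 := KernelFork.mapIsLimit _ (K.cyclesIsKernel i (c.next i) rfl) Ψ
  have h2 := ((Ψ.mapHomologicalComplex c).obj K).cyclesIsKernel i (c.next i) rfl
  refine ⟨h2.lift (KernelFork.ofι (Ψ.map (K.iCycles i)) ?_), ?_, ?_⟩
  · show Ψ.map (K.iCycles i) ≫ Ψ.map (K.d i (c.next i)) = 0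
    rw [← Ψ.map_comp, K.iCycles_d, Ψ.map_zero]
  · refine Fork.IsLimit.hom_ext h2 ?_
    erw [Category.assoc, h2.fac _ WalkingParallelPair.zero, Category.id_comp]
    exact RDer.cyclesComparison_i Ψ K i
  · refine Fork.IsLimit.hom_ext h1 ?_
    erw [Category.assoc, RDer.cyclesComparison_i, h2.fac _ WalkingParallelPair.zero, Category.id_comp]
    rfl

/-- For an exact functor the homology comparison is invertible. -/
lemma isIso_homologyComparison : IsIso (RDer.homologyComparison Ψ K i) := by
  haveI := isIso_cyclesComparison Ψ K i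
  have h1 := CokernelCofork.mapIsColimit _ (K.homologyIsCokernel (c.prev i) i rfl) Ψ
  have hz : Ψ.map (K.toCycles (c.prev i) i) ≫ inv (RDer.cyclesComparison Ψ K i) ≫ ((Ψ.mapHomologicalComplex c).obj K).homologyπ i = 0 := by
    rw [← RDer.toCycles_cyclesComparison Ψ K i]
    erw [Category.assoc, IsIso.hom_inv_id_assoc]
    exact ((Ψ.mapHomologicalComplex c).obj K).toCycles_comp_homologyπ _ _
  refine ⟨h1.desc (CokernelCofork.ofπ (inv (RDer.cyclesComparison Ψ K i) ≫ ((Ψ.mapHomologicalComplex c).obj K).homologyπ i) hz), ?_, ?_⟩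
  · rw [← cancel_epi (((Ψ.mapHomologicalComplex c).obj K).homologyπ i), RDer.homologyπ_homologyComparison_assoc]
    refine (congrArg (RDer.cyclesComparison Ψ K i ≫ ·) (h1.fac _ WalkingParallelPair.one)).trans ?_
    refine (IsIso.hom_inv_id_assoc (RDer.cyclesComparison Ψ K i) _).trans (Category.comp_id _).symm
  · refine Cofork.IsColimit.hom_ext h1 ?_
    refine (Category.assoc _ _ _).symm.trans ?_
    erw [h1.fac _ WalkingParallelPair.one, Category.assoc, RDer.homologyπ_homologyComparison,
      IsIso.inv_hom_id_assoc]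
    exact (Category.comp_id _).symm

end Exact

end Groth.DescentBase.MapExtend
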