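import Groth.Agent.DescentBase.ModSquareSh

/-!
Morphisms of sheaves of sets on a modification square are glued from the two pieces.
-/

set_option autoImplicit false
set_option backward.isDefEq.respectTransparency.types false

universe u

open CategoryTheory CategoryTheory.Limits AlgebraicGeometry Opposite

namespace Groth.DescentBase.ModSquare

open Groth.DescentBase.UnivSubm (pt pt_naturality pt_hom_inv pt_inv_hom)
open Groth.DescentBase.IntDescent (ev hom_ext_stalks)

variable {X X' Z E U : Scheme.{u}} (f : X' ⟶ X) [IsProper f] (i : Z ⟶ X) [IsClosedImmersion i]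
  (u : U ⟶ X) [IsOpenImmersion u] (hU : Set.range u = (Set.range i)ᶜ) (hf : IsIso (pullback.snd f u))
  (j : E ⟶ X') (g : E ⟶ Z) (c : IsPullback j g f i)

/-- The canonical comparison on the intersection. -/
noncomputable abbrev canE (F : EtDesc.Sh X) :
    (EtDesc.pullSh j).obj ((EtDesc.pullSh f).obj F) ≅ (EtDesc.pullSh g).obj ((EtDesc.pullSh i).obj F) :=
  EtDesc.pullVia j f (j ≫ f) rfl F ≪≫ (EtDesc.pullVia g i (j ≫ f) c.w.symm F).symm

omit [IsProper f] [IsClosedImmersion i] in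
lemma value₁ {F₁ F₂ : EtDesc.Sh X} (a : (EtDesc.pullSh f).obj F₁ ⟶ (EtDesc.pullSh f).obj F₂)
    {Ω : Type u} [Field Ω] [IsSepClosed Ω] (ε : Spec (CommRingCat.of Ω) ⟶ E)
    (z : (shStalk (ε ≫ j ≫ f)).obj F₁) :
    ev (j ≫ f) ε rfl _ ((shStalk (ε ≫ j ≫ f)).map
        ((EtDesc.adjSh f).homEquiv _ _ a ≫ a₁ f j g _ ((EtDesc.pullSh i).obj F₂) (canE f i j g c F₂)) z) =
      (shStalk ε).map (canE f i j g c F₂).hom ((shStalk ε).map ((EtDesc.pullSh j).map a)
        ((pt j _ ε rfl).hom ((pt f F₁ (ε ≫ j) (Category.assoc _ _ _)).hom z))) := by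
  have hc := ConcreteCategory.congr_hom ((shStalk (ε ≫ j ≫ f)).map_comp ((EtDesc.adjSh f).homEquiv _ _ a)
    (a₁ f j g _ ((EtDesc.pullSh i).obj F₂) (canE f i j g c F₂))) z
  rw [ConcreteCategory.comp_apply] at hc
  refine (congrArg (ev (j ≫ f) ε rfl _) hc).trans ?_
  refine (ev_a₁ (canE f i j g c F₂) ε (ε ≫ j) rfl (Category.assoc _ _ _) rfl _).trans ?_
  refine congrArg ((shStalk ε).map (canE f i j g c F₂).hom) ?_
  rw [pt_naturality j a ε rfl]
  refine congrArg (pt j _ ε rfl).hom ?_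
  rw [← stalk_adjoint f ((EtDesc.adjSh f).homEquiv _ _ a) (ε ≫ j) (Category.assoc _ _ _) z,
    Equiv.symm_apply_apply]

omit [IsProper f] [IsClosedImmersion i] in
lemma value₂ {F₁ F₂ : EtDesc.Sh X} (b : (EtDesc.pullSh i).obj F₁ ⟶ (EtDesc.pullSh i).obj F₂)
    {Ω : Type u} [Field Ω] [IsSepClosed Ω] (ε : Spec (CommRingCat.of Ω) ⟶ E)
    (h₂ : (ε ≫ g) ≫ i = ε ≫ j ≫ f) (z : (shStalk (ε ≫ j ≫ f)).obj F₁) :
    ev (j ≫ f) ε rfl _ ((shStalk (ε ≫ j ≫ f)).map
        ((EtDesc.adjSh i).homEquiv _ _ b ≫ a₂ f i j g c _) z) =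
      (shStalk ε).map ((EtDesc.pullSh g).map b)
        ((pt g _ ε rfl).hom ((pt i F₁ (ε ≫ g) h₂).hom z)) := by
  have hc := ConcreteCategory.congr_hom ((shStalk (ε ≫ j ≫ f)).map_comp ((EtDesc.adjSh i).homEquiv _ _ b)
    (a₂ f i j g c _)) z
  rw [ConcreteCategory.comp_apply] at hc
  refine (congrArg (ev (j ≫ f) ε rfl _) hc).trans ?_
  refine (ev_a₂ c ε (ε ≫ g) rfl h₂ rfl _).trans ?_
  rw [pt_naturality g b ε rfl]
  refine congrArg (pt g _ ε rfl).hom ?_
  rw [← stalk_adjoint i ((EtDesc.adjSh i).homEquiv _ _ b) (ε ≫ g) h₂ z, Equiv.symm_apply_apply]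

omit [IsProper f] [IsClosedImmersion i] in
/-- Compatible maps equalise the two maps of the glueing. -/
lemma lift_condition {F₁ F₂ : EtDesc.Sh X} (a : (EtDesc.pullSh f).obj F₁ ⟶ (EtDesc.pullSh f).obj F₂)
    (b : (EtDesc.pullSh i).obj F₁ ⟶ (EtDesc.pullSh i).obj F₂)
    (hab : (EtDesc.pullSh j).map a ≫ (canE f i j g c F₂).hom = (canE f i j g c F₁).hom ≫ (EtDesc.pullSh g).map b) :
    (EtDesc.adjSh f).homEquiv _ _ a ≫ a₁ f j g _ ((EtDesc.pullSh i).obj F₂) (canE f i j g c F₂) =
      (EtDesc.adjSh i).homEquiv _ _ b ≫ a₂ f i j g c _ := by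
  apply ((EtDesc.adjSh (j ≫ f)).homEquiv _ _).symm.injective
  refine hom_ext_stalks fun Ω _ _ ε v => ?_
  obtain ⟨z, rfl⟩ : ∃ z, (pt (j ≫ f) F₁ ε rfl).hom z = v := ⟨_, pt_inv_hom _ _ ε rfl v⟩
  have h₂ : (ε ≫ g) ≫ i = ε ≫ j ≫ f := by rw [Category.assoc, c.w]
  refine (stalk_adjoint (j ≫ f) _ ε rfl z).trans ((value₁ f i j g c a ε z).trans ?_)
  refine Eq.trans ?_ ((stalk_adjoint (j ≫ f) _ ε rfl z).trans (value₂ f i j g c b ε h₂ z)).symm
  rw [← ConcreteCategory.comp_apply, ← Functor.map_comp, hab, Functor.map_comp, ConcreteCategory.comp_apply]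
  exact congrArg ((shStalk ε).map ((EtDesc.pullSh g).map b))
    (stalk_can f i j g c F₁ ε _ (ε ≫ g) rfl rfl (Category.assoc _ _ _) h₂ z)

/-- Two maps with the same transposes. -/
noncomputable def liftMap {F₁ F₂ : EtDesc.Sh X} (a : (EtDesc.pullSh f).obj F₁ ⟶ (EtDesc.pullSh f).obj F₂)
    (b : (EtDesc.pullSh i).obj F₁ ⟶ (EtDesc.pullSh i).obj F₂)
    (hab : (EtDesc.pullSh j).map a ≫ (canE f i j g c F₂).hom = (canE f i j g c F₁).hom ≫ (EtDesc.pullSh g).map b) :
    F₁ ⟶ glued f i j g c _ _ (canE f i j g c F₂) :=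
  pullback.lift _ _ (lift_condition f i j g c a b hab)

omit [IsProper f] [IsClosedImmersion i] in
lemma map_liftMap_compF {F₁ F₂ : EtDesc.Sh X} (a : (EtDesc.pullSh f).obj F₁ ⟶ (EtDesc.pullSh f).obj F₂)
    (b : (EtDesc.pullSh i).obj F₁ ⟶ (EtDesc.pullSh i).obj F₂) (hab) :
    (EtDesc.pullSh f).map (liftMap f i j g c a b hab) ≫ compF f i j g c _ _ (canE f i j g c F₂) = a ∧
    (EtDesc.pullSh i).map (liftMap f i j g c a b hab) ≫ compG f i j g c _ _ (canE f i j g c F₂) = b := by
  constructor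
  · apply ((EtDesc.adjSh f).homEquiv _ _).injective
    rw [Adjunction.homEquiv_naturality_left, compF, Equiv.apply_symm_apply]
    exact pullback.lift_fst _ _ _
  · apply ((EtDesc.adjSh i).homEquiv _ _).injective
    rw [Adjunction.homEquiv_naturality_left, compG, Equiv.apply_symm_apply]
    exact pullback.lift_snd _ _ _

/-- The comparison of a sheaf with its glued form. -/
noncomputable def unitMap (F : EtDesc.Sh X) : F ⟶ glued f i j g c _ _ (canE f i j g c F) :=
  liftMap f i j g c (𝟙 _) (𝟙 _) (by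
    rw [CategoryTheory.Functor.map_id, CategoryTheory.Functor.map_id, Category.id_comp, Category.comp_id])

include hU hf in
lemma isIso_unitMap (F : EtDesc.Sh X) : IsIso (unitMap f i j g c F) := by
  have := isIso_compF f i u hU hf j g c _ _ (canE f i j g c F)
  have := isIso_compG f i j g c _ _ (canE f i j g c F)
  have h := map_liftMap_compF f i j g c (F₁ := F) (F₂ := F) (𝟙 _) (𝟙 _) (by
    rw [CategoryTheory.Functor.map_id, CategoryTheory.Functor.map_id, Category.id_comp, Category.comp_id])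
  have hf' : IsIso ((EtDesc.pullSh f).map (unitMap f i j g c F)) := by
    rw [show (EtDesc.pullSh f).map (unitMap f i j g c F) = inv (compF f i j g c _ _ (canE f i j g c F)) from
      IsIso.eq_inv_of_inv_hom_id (f := compF f i j g c _ _ (canE f i j g c F)) h.1]
    infer_instance
  have hi' : IsIso ((EtDesc.pullSh i).map (unitMap f i j g c F)) := by
    rw [show (EtDesc.pullSh i).map (unitMap f i j g c F) = inv (compG f i j g c _ _ (canE f i j g c F)) from
      IsIso.eq_inv_of_inv_hom_id (f := compG f i j g c _ _ (canE f i j g c F)) h.2]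
    infer_instance
  refine isIso_of_acPoints _ fun p => ?_
  let Ω := AlgebraicClosure (X.residueField p)
  let η : Spec (CommRingCat.of Ω) ⟶ X := acPoint p
  have key : ∀ {T : Scheme.{u}} (q : T ⟶ X) (ξ : Spec (CommRingCat.of Ω) ⟶ T) (h : ξ ≫ q = η),
      IsIso ((EtDesc.pullSh q).map (unitMap f i j g c F)) →
      Function.Bijective ((shStalk η).map (unitMap f i j g c F)) := by
    intro T q ξ h hiso
    have hb : Function.Bijective ((shStalk ξ).map ((EtDesc.pullSh q).map (unitMap f i j g c F))) :=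
      (isIso_iff_bijective _).1 inferInstance
    have : ((shStalk η).map (unitMap f i j g c F) : (shStalk η).obj F → _) =
        fun z => (pt q _ ξ h).inv ((shStalk ξ).map ((EtDesc.pullSh q).map (unitMap f i j g c F))
          ((pt q F ξ h).hom z)) := funext fun z => by
      rw [pt_naturality]
      exact (pt_hom_inv q _ ξ h _).symm
    rw [this]
    exact (pt q _ ξ h).symm.toEquiv.bijective.comp (hb.comp (pt q F ξ h).toEquiv.bijective)
  rcases point_cases f i u hU hf η with ⟨ζ, h₂⟩ | ⟨-, -, hiso⟩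
  · exact key i ζ h₂ hi'
  · exact key f (inv (pullback.snd f η) ≫ pullback.fst f η) (by
      rw [Category.assoc, pullback.condition, IsIso.inv_hom_id_assoc]) hf'

include hU hf in
/-- Morphisms glue. -/
theorem existsUnique_hom {F₁ F₂ : EtDesc.Sh X} (a : (EtDesc.pullSh f).obj F₁ ⟶ (EtDesc.pullSh f).obj F₂)
    (b : (EtDesc.pullSh i).obj F₁ ⟶ (EtDesc.pullSh i).obj F₂)
    (hab : (EtDesc.pullSh j).map a ≫ (canE f i j g c F₂).hom = (canE f i j g c F₁).hom ≫ (EtDesc.pullSh g).map b) :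
    ∃! φ : F₁ ⟶ F₂, (EtDesc.pullSh f).map φ = a ∧ (EtDesc.pullSh i).map φ = b := by
  have := isIso_unitMap f i u hU hf j g c F₂
  have h := map_liftMap_compF f i j g c a b hab
  have hu := map_liftMap_compF f i j g c (F₁ := F₂) (F₂ := F₂) (𝟙 _) (𝟙 _) (by
    rw [CategoryTheory.Functor.map_id, CategoryTheory.Functor.map_id, Category.id_comp, Category.comp_id])
  refine ⟨liftMap f i j g c a b hab ≫ inv (unitMap f i j g c F₂), ⟨?_, ?_⟩, fun φ hφ => ?_⟩
  · have e : (EtDesc.pullSh f).map (inv (unitMap f i j g c F₂)) = compF f i j g c _ _ (canE f i j g c F₂) := by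
      rw [Functor.map_inv]
      exact IsIso.inv_eq_of_hom_inv_id hu.1
    rw [Functor.map_comp, e]
    exact h.1
  · have e : (EtDesc.pullSh i).map (inv (unitMap f i j g c F₂)) = compG f i j g c _ _ (canE f i j g c F₂) := by
      rw [Functor.map_inv]
      exact IsIso.inv_eq_of_hom_inv_id hu.2
    rw [Functor.map_comp, e]
    exact h.2
  · rw [IsIso.eq_comp_inv]
    apply pullback.hom_ext
    · refine Eq.trans ?_ (pullback.lift_fst _ _ _).symm
      refine (Category.assoc _ _ _).trans ((congrArg (φ ≫ ·) (pullback.lift_fst _ _ _)).trans ?_)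
      rw [← hφ.1, ← Adjunction.homEquiv_naturality_left, Category.comp_id]
    · refine Eq.trans ?_ (pullback.lift_snd _ _ _).symm
      refine (Category.assoc _ _ _).trans ((congrArg (φ ≫ ·) (pullback.lift_snd _ _ _)).trans ?_)
      rw [← hφ.2, ← Adjunction.homEquiv_naturality_left, Category.comp_id]

end Groth.DescentBase.ModSquare
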