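import Groth.Agent.DescentBase.ProperDescentSh

/-!
Sheaves of sets on a modification square are glued from the two pieces.
-/

set_option autoImplicit false
set_option backward.isDefEq.respectTransparency.types false

universe u

open CategoryTheory CategoryTheory.Limits AlgebraicGeometry Opposite

namespace Groth.DescentBase.ModSquare

open Groth.DescentBase.UnivSubm (pt pt_germ pt_naturality pt_pullVia pt_hom_inv pt_inv_hom iso_hom_inv iso_inv_hom)
open Groth.DescentBase.IntDescent (ev ev_germ ev_map ev_unit ev_congr ev_comp hom_ext_stalks)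

section general

variable {S T : Scheme.{u}}

/-- The stalk of the transpose of a map into a direct image. -/
lemma stalk_adjoint (q : T ⟶ S) {P : EtDesc.Sh S} {M : EtDesc.Sh T} (k : P ⟶ (EtDesc.pushSh q).obj M)
    {Ω : Type u} [Field Ω] [IsSepClosed Ω] {η : Spec (CommRingCat.of Ω) ⟶ S}
    (ξ : Spec (CommRingCat.of Ω) ⟶ T) (h : ξ ≫ q = η) (z : (shStalk η).obj P) :
    (shStalk ξ).map (((EtDesc.adjSh q).homEquiv P M).symm k) ((pt q P ξ h).hom z) =
      ev q ξ h M ((shStalk η).map k z) := by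
  obtain ⟨b, rfl⟩ : ∃ b, (EtDesc.adjSh q).homEquiv P M b = k := ⟨_, Equiv.apply_symm_apply _ k⟩
  rw [Equiv.symm_apply_apply, Adjunction.homEquiv_unit]
  have hc := ConcreteCategory.congr_hom ((shStalk η).map_comp ((EtDesc.adjSh q).unit.app P)
    ((EtDesc.pushSh q).map b)) z
  rw [ConcreteCategory.comp_apply] at hc
  erw [hc]
  refine Eq.trans ?_ (ev_map q ξ h b _).symm
  exact congrArg ((shStalk ξ).map b) (ev_unit q ξ h P z).symm

/-- Transport of values along an equality of points. -/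
lemma pt_congr {b₁ b₂ : T ⟶ S} (e : b₁ = b₂) (H : EtDesc.Sh S) {Ω : Type u} [Field Ω] [IsSepClosed Ω]
    {η : Spec (CommRingCat.of Ω) ⟶ S} (ζ : Spec (CommRingCat.of Ω) ⟶ T) (h₁ : ζ ≫ b₁ = η) (h₂ : ζ ≫ b₂ = η)
    (v : (shStalk η).obj H) :
    (shStalk ζ).map (eqToHom (congrArg (fun b => (EtDesc.pullSh b).obj H) e)) ((pt b₁ H ζ h₁).hom v) =
      (pt b₂ H ζ h₂).hom v := by
  subst e
  rw [eqToHom_refl, CategoryTheory.Functor.map_id]
  rfl

/-- A value on a closed subscheme comes from the stalk of the direct image. -/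
lemma exists_ev_closed (i : T ⟶ S) [IsClosedImmersion i] {Ω : Type u} [Field Ω] [IsAlgClosed Ω]
    {η : Spec (CommRingCat.of Ω) ⟶ S} (ζ : Spec (CommRingCat.of Ω) ⟶ T) (h : ζ ≫ i = η) (G : EtDesc.Sh T)
    (v : (shStalk ζ).obj G) : ∃ y, ev i ζ h G y = v := by
  subst h
  obtain ⟨y, hy⟩ := (bijective_shEvPush i ζ G).2 v
  refine ⟨y, Eq.trans ?_ hy⟩
  simp only [ev, eqToHom_refl, Category.id_comp]

end general

variable {X X' Z E U : Scheme.{u}} (f : X' ⟶ X) [IsProper f] (i : Z ⟶ X) [IsClosedImmersion i]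
  (u : U ⟶ X) [IsOpenImmersion u] (hU : Set.range u = (Set.range i)ᶜ) (hf : IsIso (pullback.snd f u))
  (j : E ⟶ X') (g : E ⟶ Z) (c : IsPullback j g f i)
  (F' : EtDesc.Sh X') (G : EtDesc.Sh Z) (α : (EtDesc.pullSh j).obj F' ≅ (EtDesc.pullSh g).obj G)

section pieces

/-- The first map. -/
noncomputable def a₁ : (EtDesc.pushSh f).obj F' ⟶ (EtDesc.pushSh (j ≫ f)).obj ((EtDesc.pullSh g).obj G) :=
  (EtDesc.pushSh f).map ((EtDesc.adjSh j).unit.app F') ≫ (EtDesc.pushCompSh f j).hom.app _ ≫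
    (EtDesc.pushSh (j ≫ f)).map α.hom

/-- The second map. -/
noncomputable def a₂ : (EtDesc.pushSh i).obj G ⟶ (EtDesc.pushSh (j ≫ f)).obj ((EtDesc.pullSh g).obj G) :=
  (EtDesc.pushSh i).map ((EtDesc.adjSh g).unit.app G) ≫ (EtDesc.pushCompSh i g).hom.app _ ≫
    (EtBC.pushCongrSh c.w.symm).hom.app _

variable {f i j g F' G}

omit [IsProper f] [IsClosedImmersion i] in
lemma ev_a₁ {Ω : Type u} [Field Ω] [IsSepClosed Ω] {η : Spec (CommRingCat.of Ω) ⟶ X}
    (ε : Spec (CommRingCat.of Ω) ⟶ E) (ξ : Spec (CommRingCat.of Ω) ⟶ X') (e₁ : ε ≫ j = ξ) (h₁ : ξ ≫ f = η)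
    (h : ε ≫ j ≫ f = η) (x : (shStalk η).obj ((EtDesc.pushSh f).obj F')) :
    ev (j ≫ f) ε h _ ((shStalk η).map (a₁ f j g F' G α) x) =
      (shStalk ε).map α.hom ((pt j F' ε e₁).hom (ev f ξ h₁ F' x)) := by
  rw [a₁, Functor.map_comp, Functor.map_comp, ConcreteCategory.comp_apply, ConcreteCategory.comp_apply]
  refine (ev_map (j ≫ f) ε h α.hom _).trans ?_
  refine congrArg ((shStalk ε).map α.hom) ?_
  refine (ev_comp f j ε ξ h e₁ h₁ _ _).trans ?_
  refine (congrArg (ev j ε e₁ _) (ev_map f ξ h₁ _ x)).trans ?_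
  exact ev_unit j ε e₁ F' _

omit [IsProper f] [IsClosedImmersion i] in
lemma ev_a₂ {Ω : Type u} [Field Ω] [IsSepClosed Ω] {η : Spec (CommRingCat.of Ω) ⟶ X}
    (ε : Spec (CommRingCat.of Ω) ⟶ E) (ζ : Spec (CommRingCat.of Ω) ⟶ Z) (e₂ : ε ≫ g = ζ) (h₂ : ζ ≫ i = η)
    (h : ε ≫ j ≫ f = η) (y : (shStalk η).obj ((EtDesc.pushSh i).obj G)) :
    ev (j ≫ f) ε h _ ((shStalk η).map (a₂ f i j g c G) y) = (pt g G ε e₂).hom (ev i ζ h₂ G y) := by
  have h' : ε ≫ g ≫ i = η := (congrArg (ε ≫ ·) c.w.symm).trans h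
  rw [a₂, Functor.map_comp, Functor.map_comp, ConcreteCategory.comp_apply, ConcreteCategory.comp_apply]
  refine (ev_congr c.w.symm ε h' h _ _).trans ?_
  refine (ev_comp i g ε ζ h' e₂ h₂ _ _).trans ?_
  refine (congrArg (ev g ε e₂ _) (ev_map i ζ h₂ _ y)).trans ?_
  exact ev_unit g ε e₂ G _

variable (f i j g F' G)

/-- The glued sheaf. -/
noncomputable def glued : EtDesc.Sh X := pullback (a₁ f j g F' G α) (a₂ f i j g c G)

/-- Comparison with the piece on the modification. -/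
noncomputable def compF : (EtDesc.pullSh f).obj (glued f i j g c F' G α) ⟶ F' :=
  ((EtDesc.adjSh f).homEquiv _ _).symm (pullback.fst _ _)

/-- Comparison with the piece on the centre. -/
noncomputable def compG : (EtDesc.pullSh i).obj (glued f i j g c F' G α) ⟶ G :=
  ((EtDesc.adjSh i).homEquiv _ _).symm (pullback.snd _ _)

omit [IsProper f] [IsClosedImmersion i] in
lemma stalk_glued_condition {Ω : Type u} [Field Ω] [IsSepClosed Ω] {η : Spec (CommRingCat.of Ω) ⟶ X}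
    (ε : Spec (CommRingCat.of Ω) ⟶ E) (ξ : Spec (CommRingCat.of Ω) ⟶ X') (ζ : Spec (CommRingCat.of Ω) ⟶ Z)
    (e₁ : ε ≫ j = ξ) (e₂ : ε ≫ g = ζ) (h₁ : ξ ≫ f = η) (h₂ : ζ ≫ i = η)
    (z : (shStalk η).obj (glued f i j g c F' G α)) :
    (shStalk ε).map α.hom ((pt j F' ε e₁).hom (ev f ξ h₁ F' ((shStalk η).map (pullback.fst _ _) z))) =
      (pt g G ε e₂).hom (ev i ζ h₂ G ((shStalk η).map (pullback.snd _ _) z)) := by
  have h : ε ≫ j ≫ f = η := (Category.assoc _ _ _).symm.trans ((congrArg (· ≫ f) e₁).trans h₁)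
  rw [← ev_a₁ α ε ξ e₁ h₁ h, ← ev_a₂ c ε ζ e₂ h₂ h]
  refine congrArg (ev (j ≫ f) ε h _) ?_
  exact ConcreteCategory.congr_hom (((shStalk η).map_comp _ _).symm.trans
    ((congrArg (shStalk η).map pullback.condition).trans ((shStalk η).map_comp _ _))) z

omit [IsProper f] [IsClosedImmersion i] in
lemma exists_glued {Ω : Type u} [Field Ω] [IsSepClosed Ω] (η : Spec (CommRingCat.of Ω) ⟶ X)
    (x : (shStalk η).obj ((EtDesc.pushSh f).obj F')) (y : (shStalk η).obj ((EtDesc.pushSh i).obj G))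
    (h : (shStalk η).map (a₁ f j g F' G α) x = (shStalk η).map (a₂ f i j g c G) y) :
    ∃ z : (shStalk η).obj (glued f i j g c F' G α),
      (shStalk η).map (pullback.fst _ _) z = x ∧ (shStalk η).map (pullback.snd _ _) z = y := by
  have hl := isLimitPullbackConeMapOfIsLimit (shStalk η) _ (pullbackIsPullback (a₁ f j g F' G α) (a₂ f i j g c G))
  obtain ⟨m, hm₁, hm₂⟩ := PullbackCone.IsLimit.lift' hl (↾ fun _ : PUnit.{u + 2} => x)
    (↾ fun _ : PUnit.{u + 2} => y) (by ext; exact h)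
  exact ⟨m PUnit.unit, ConcreteCategory.congr_hom hm₁ PUnit.unit, ConcreteCategory.congr_hom hm₂ PUnit.unit⟩

omit [IsProper f] [IsClosedImmersion i] in
lemma glued_ext {Ω : Type u} [Field Ω] [IsSepClosed Ω] (η : Spec (CommRingCat.of Ω) ⟶ X)
    (z z' : (shStalk η).obj (glued f i j g c F' G α))
    (h₁ : (shStalk η).map (pullback.fst _ _) z = (shStalk η).map (pullback.fst _ _) z')
    (h₂ : (shStalk η).map (pullback.snd _ _) z = (shStalk η).map (pullback.snd _ _) z') : z = z' := by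
  have hl := isLimitPullbackConeMapOfIsLimit (shStalk η) _ (pullbackIsPullback (a₁ f j g F' G α) (a₂ f i j g c G))
  have hm := PullbackCone.IsLimit.hom_ext hl
    (k := ↾ fun _ : PUnit.{u + 2} => z) (l := ↾ fun _ : PUnit.{u + 2} => z')
    (by ext; exact h₁) (by ext; exact h₂)
  exact ConcreteCategory.congr_hom hm PUnit.unit

include c in
/-- Values along the fibre of the modification over a geometric point of the centre. -/
lemma exists_push_value {Ω : Type u} [Field Ω] [IsAlgClosed Ω] {η : Spec (CommRingCat.of Ω) ⟶ X}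
    (ζ : Spec (CommRingCat.of Ω) ⟶ Z) (h₂ : ζ ≫ i = η) (w : (shStalk ζ).obj G) :
    ∃ x : (shStalk η).obj ((EtDesc.pushSh f).obj F'), ∀ (ξ : Spec (CommRingCat.of Ω) ⟶ X') (h₁ : ξ ≫ f = η)
      (ε : Spec (CommRingCat.of Ω) ⟶ E) (e₁ : ε ≫ j = ξ) (e₂ : ε ≫ g = ζ),
      (shStalk ε).map α.hom ((pt j F' ε e₁).hom (ev f ξ h₁ F' x)) = (pt g G ε e₂).hom w := by
  let pr := pullback.fst f η
  let q := pullback.snd f η
  let e := c.lift pr (q ≫ ζ) (by rw [Category.assoc, h₂]; exact pullback.condition)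
  have ej : e ≫ j = pr := c.lift_fst _ _ _
  have eg : e ≫ g = q ≫ ζ := c.lift_snd _ _ _
  let M : (EtDesc.pullSh q).obj ((EtDesc.pullSh ζ).obj G) ⟶ (EtDesc.pullSh pr).obj F' :=
    (EtDesc.pullVia q ζ (q ≫ ζ) rfl G).hom ≫ (EtDesc.pullVia e g (q ≫ ζ) eg G).inv ≫
      (EtDesc.pullSh e).map α.inv ≫ (EtDesc.pullVia e j pr ej F').hom
  let w' := (pt ζ G (𝟙 _) (Category.id_comp ζ)).hom w
  let β := (shStalk (𝟙 _)).map ((EtDesc.pushSh q).map M)
    ((shStalk (𝟙 _)).map ((EtDesc.adjSh q).unit.app ((EtDesc.pullSh ζ).obj G)) w')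
  obtain ⟨x, hx⟩ := ProperDescent.exists_ev_eq f pr q η (IsPullback.of_hasPullback f η) F' β
  refine ⟨x, fun ξ h₁ ε e₁ e₂ => ?_⟩
  let ρ : Spec (CommRingCat.of Ω) ⟶ pullback f η :=
    pullback.lift ξ (𝟙 _) (h₁.trans (Category.id_comp η).symm)
  have hq : ρ ≫ q = 𝟙 _ := pullback.lift_snd _ _ _
  have hpr : ρ ≫ pr = ξ := pullback.lift_fst _ _ _
  have hζ : ρ ≫ q ≫ ζ = ζ :=
    (Category.assoc _ _ _).symm.trans ((congrArg (· ≫ ζ) hq).trans (Category.id_comp ζ))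
  have hε : ρ ≫ e = ε := by
    refine c.hom_ext ?_ ?_
    · rw [Category.assoc, ej, hpr, e₁]
    · rw [Category.assoc, eg, hζ, e₂]
  have key : ev q ρ hq _ β = (pt pr F' ρ hpr).hom ((pt j F' ε e₁).inv ((shStalk ε).map α.inv ((pt g G ε e₂).hom w))) := by
    refine (ev_map q ρ hq M _).trans ?_
    refine (congrArg ((shStalk ρ).map M) (ev_unit q ρ hq _ w')).trans ?_
    rw [Functor.map_comp, ConcreteCategory.comp_apply,
      pt_pullVia q ζ (q ≫ ζ) rfl G ρ (𝟙 _) hζ hq (Category.id_comp ζ) w,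
      ← pt_pullVia e g (q ≫ ζ) eg G ρ ε hζ hε e₂ w]
    simp only [Functor.map_comp, ConcreteCategory.comp_apply]
    erw [iso_hom_inv ((shStalk ρ).mapIso (EtDesc.pullVia e g (q ≫ ζ) eg G))]
    rw [pt_naturality e α.inv ρ hε]
    refine Eq.trans ?_ (pt_pullVia e j pr ej F' ρ ε hpr hε e₁ _)
    rw [pt_inv_hom]
  have gen : ∀ (η₁ : Spec (CommRingCat.of Ω) ⟶ X') (e' : ρ ≫ pr = η₁) (h' : η₁ ≫ f = η),
      (pt pr F' ρ e').hom (ev f η₁ h' F' x) = ev q ρ hq _ β := by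
    rintro η₁ rfl h'
    exact hx ρ hq h'
  have hv := (pt pr F' ρ hpr).toEquiv.injective ((gen ξ hpr h₁).trans key)
  rw [hv, pt_inv_hom]
  exact iso_inv_hom ((shStalk ε).mapIso α) _

include hU hf in
/-- Geometric points of the base. -/
lemma point_cases {Ω : Type u} [Field Ω] [IsAlgClosed Ω] (η : Spec (CommRingCat.of Ω) ⟶ X) :
    (∃ ζ : Spec (CommRingCat.of Ω) ⟶ Z, ζ ≫ i = η) ∨
      ((η.base default ∉ Set.range i.base) ∧ (∀ ζ : Spec (CommRingCat.of Ω) ⟶ Z, ζ ≫ i ≠ η) ∧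
        IsIso (pullback.snd f η)) := by
  by_cases hη : η.base default ∈ Set.range i.base
  · obtain ⟨z, hz⟩ := hη
    obtain ⟨ζ, hζ, -⟩ := Groth.EtaleBase.exists_lift_point i η z hz
    exact Or.inl ⟨ζ, hζ⟩
  refine Or.inr ⟨hη, fun ζ hζ => hη ⟨ζ.base default, by rw [← Scheme.Hom.comp_apply, hζ]⟩, ?_⟩
  have hr : Set.range η ⊆ Set.range u := by
    rintro _ ⟨p, rfl⟩
    rw [hU, Subsingleton.elim p default]
    exact hη
  have hfac := IsOpenImmersion.lift_fac u η hr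
  rw [← hfac]
  have : IsIso (pullback.snd (pullback.snd f u) (IsOpenImmersion.lift u η hr)) := inferInstance
  rw [← pullbackLeftPullbackSndIso_inv_snd_snd f u (IsOpenImmersion.lift u η hr)]
  infer_instance

omit [IsProper f] in
/-- Outside the centre the fibre is one point. -/
lemma lift_unique {Ω : Type u} [Field Ω] (η : Spec (CommRingCat.of Ω) ⟶ X) (h : IsIso (pullback.snd f η))
    (ξ ξ' : Spec (CommRingCat.of Ω) ⟶ X') (h₁ : ξ ≫ f = η) (h₂ : ξ' ≫ f = η) : ξ = ξ' := by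
  have e : pullback.lift ξ (𝟙 _) (h₁.trans (Category.id_comp η).symm) =
      pullback.lift ξ' (𝟙 _) (h₂.trans (Category.id_comp η).symm) :=
    (cancel_mono (pullback.snd f η)).1 ((pullback.lift_snd _ _ _).trans (pullback.lift_snd _ _ _).symm)
  exact (pullback.lift_fst _ _ _).symm.trans ((congrArg (· ≫ pullback.fst f η) e).trans (pullback.lift_fst _ _ _))

/-- A value at the point over a geometric point outside the centre. -/
lemma exists_push_value_off {Ω : Type u} [Field Ω] [IsAlgClosed Ω] (η : Spec (CommRingCat.of Ω) ⟶ X)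
    (hi : IsIso (pullback.snd f η)) (ξ : Spec (CommRingCat.of Ω) ⟶ X') (h₁ : ξ ≫ f = η)
    (a : (shStalk ξ).obj F') : ∃ x, ev f ξ h₁ F' x = a := by
  let pr := pullback.fst f η
  let q := pullback.snd f η
  let ρ : Spec (CommRingCat.of Ω) ⟶ pullback f η :=
    pullback.lift ξ (𝟙 _) (h₁.trans (Category.id_comp η).symm)
  have hq : ρ ≫ q = 𝟙 _ := pullback.lift_snd _ _ _
  have hpr : ρ ≫ pr = ξ := pullback.lift_fst _ _ _
  have hqξ : q ≫ ξ = pr := by
    have : q ≫ ρ = 𝟙 _ := (cancel_mono q).1 (by rw [Category.assoc, hq, Category.comp_id, Category.id_comp])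
    rw [← hpr, ← Category.assoc, this, Category.id_comp]
  have hξ : ρ ≫ q ≫ ξ = ξ :=
    (Category.assoc _ _ _).symm.trans ((congrArg (· ≫ ξ) hq).trans (Category.id_comp ξ))
  let M : (EtDesc.pullSh q).obj ((EtDesc.pullSh ξ).obj F') ⟶ (EtDesc.pullSh pr).obj F' :=
    (EtDesc.pullVia q ξ (q ≫ ξ) rfl F').hom ≫
      eqToHom (congrArg (fun b => (EtDesc.pullSh b).obj F') hqξ)
  let a' := (pt ξ F' (𝟙 _) (Category.id_comp ξ)).hom a
  let β := (shStalk (𝟙 _)).map ((EtDesc.pushSh q).map M)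
    ((shStalk (𝟙 _)).map ((EtDesc.adjSh q).unit.app ((EtDesc.pullSh ξ).obj F')) a')
  obtain ⟨x, hx⟩ := ProperDescent.exists_ev_eq f pr q η (IsPullback.of_hasPullback f η) F' β
  refine ⟨x, ?_⟩
  have key : ev q ρ hq _ β = (pt pr F' ρ hpr).hom a := by
    refine (ev_map q ρ hq M _).trans ?_
    refine (congrArg ((shStalk ρ).map M) (ev_unit q ρ hq _ a')).trans ?_
    rw [Functor.map_comp, ConcreteCategory.comp_apply,
      pt_pullVia q ξ (q ≫ ξ) rfl F' ρ (𝟙 _) hξ hq (Category.id_comp ξ) a]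
    exact pt_congr hqξ F' ρ hξ hpr a
  have gen : ∀ (η₁ : Spec (CommRingCat.of Ω) ⟶ X') (e' : ρ ≫ pr = η₁) (h' : η₁ ≫ f = η),
      (pt pr F' ρ e').hom (ev f η₁ h' F' x) = ev q ρ hq _ β := by
    rintro η₁ rfl h'
    exact hx ρ hq h'
  exact (pt pr F' ρ hpr).toEquiv.injective ((gen ξ hpr h₁).trans key)

omit [IsProper f] [IsClosedImmersion i] in
include c in
lemma exists_common {Ω : Type u} [Field Ω] {η : Spec (CommRingCat.of Ω) ⟶ X}
    (ξ : Spec (CommRingCat.of Ω) ⟶ X') (ζ : Spec (CommRingCat.of Ω) ⟶ Z) (h₁ : ξ ≫ f = η) (h₂ : ζ ≫ i = η) :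
    ∃ ε : Spec (CommRingCat.of Ω) ⟶ E, ε ≫ j = ξ ∧ ε ≫ g = ζ :=
  ⟨c.lift ξ ζ (h₁.trans h₂.symm), c.lift_fst _ _ _, c.lift_snd _ _ _⟩

/-- Elements over a point of the centre. -/
lemma exists_glued_of_centre {Ω : Type u} [Field Ω] [IsAlgClosed Ω] {η : Spec (CommRingCat.of Ω) ⟶ X}
    (ζ : Spec (CommRingCat.of Ω) ⟶ Z) (h₂ : ζ ≫ i = η) (w : (shStalk ζ).obj G) :
    ∃ z : (shStalk η).obj (glued f i j g c F' G α),
      ev i ζ h₂ G ((shStalk η).map (pullback.snd _ _) z) = w := by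
  obtain ⟨x, hx⟩ := exists_push_value f i j g c F' G α ζ h₂ w
  obtain ⟨y, hy⟩ := exists_ev_closed i ζ h₂ G w
  have : IsProper j := MorphismProperty.of_isPullback (P := @IsProper) c.flip inferInstance
  obtain ⟨z, -, hz⟩ := exists_glued f i j g c F' G α η x y (ProperDescent.ev_ext (j ≫ f) _ fun ε h => by
    have h₁ : (ε ≫ j) ≫ f = η := (Category.assoc _ _ _).trans h
    have hg : (ε ≫ g) ≫ i = η := by rw [Category.assoc, ← c.w]; exact h
    have eg : ε ≫ g = ζ := (cancel_mono i).1 (hg.trans h₂.symm)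
    rw [ev_a₁ α ε _ rfl h₁ h, ev_a₂ c ε ζ eg h₂ h, hx _ h₁ ε rfl eg, hy])
  exact ⟨z, by rw [hz, hy]⟩

include hU hf in
/-- The first comparison is an isomorphism. -/
theorem isIso_compF : IsIso (compF f i j g c F' G α) := by
  have : IsProper j := MorphismProperty.of_isPullback (P := @IsProper) c.flip inferInstance
  refine isIso_of_acPoints _ fun p => ?_
  let Ω := AlgebraicClosure (X'.residueField p)
  let ξ : Spec (CommRingCat.of Ω) ⟶ X' := acPoint p
  let η := ξ ≫ f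
  have hz : ∀ z, (shStalk ξ).map (compF f i j g c F' G α) ((pt f _ ξ rfl).hom z) =
      ev f ξ rfl F' ((shStalk η).map (pullback.fst _ _) z) := fun z => stalk_adjoint f _ ξ rfl z
  constructor
  · intro a b hab
    obtain ⟨z, rfl⟩ : ∃ z, (pt f _ ξ rfl).hom z = a := ⟨_, pt_inv_hom f _ ξ rfl a⟩
    obtain ⟨z', rfl⟩ : ∃ z, (pt f _ ξ rfl).hom z = b := ⟨_, pt_inv_hom f _ ξ rfl b⟩
    rw [hz, hz] at hab
    refine congrArg _ ?_
    rcases point_cases f i u hU hf η with ⟨ζ, h₂⟩ | ⟨hη, hno, hiso⟩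
    · obtain ⟨ε, e₁, e₂⟩ := exists_common f i j g c ξ ζ rfl h₂
      have hy : ev i ζ h₂ G ((shStalk η).map (pullback.snd _ _) z) =
          ev i ζ h₂ G ((shStalk η).map (pullback.snd _ _) z') := by
        apply (pt g G ε e₂).toEquiv.injective
        show (pt g G ε e₂).hom _ = (pt g G ε e₂).hom _
        rw [← stalk_glued_condition f i j g c F' G α ε ξ ζ e₁ e₂ rfl h₂,
          ← stalk_glued_condition f i j g c F' G α ε ξ ζ e₁ e₂ rfl h₂, hab]
      refine glued_ext f i j g c F' G α η z z' (ProperDescent.ev_ext f F' fun ξ' h' => ?_)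
        (IntDescent.ev_ext i G fun ζ' h' => ?_)
      · obtain ⟨ε', e₁', e₂'⟩ := exists_common f i j g c ξ' ζ h' h₂
        apply (pt j F' ε' e₁').toEquiv.injective
        apply ((shStalk ε').mapIso α).toEquiv.injective
        show (shStalk ε').map α.hom ((pt j F' ε' e₁').hom _) = (shStalk ε').map α.hom ((pt j F' ε' e₁').hom _)
        rw [stalk_glued_condition f i j g c F' G α ε' ξ' ζ e₁' e₂' h' h₂,
          stalk_glued_condition f i j g c F' G α ε' ξ' ζ e₁' e₂' h' h₂, hy]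
      · obtain rfl : ζ' = ζ := (cancel_mono i).1 (h'.trans h₂.symm)
        exact hy
    · refine glued_ext f i j g c F' G α η z z' (ProperDescent.ev_ext f F' fun ξ' h' => ?_)
        (IntDescent.ev_ext i G fun ζ' h' => absurd h' (hno ζ'))
      obtain rfl : ξ' = ξ := lift_unique f η hiso ξ' ξ h' rfl
      exact hab
  · intro a
    suffices ∃ z, ev f ξ rfl F' ((shStalk η).map (pullback.fst _ _) z) = a by
      obtain ⟨z, hz'⟩ := this
      exact ⟨_, (hz z).trans hz'⟩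
    rcases point_cases f i u hU hf η with ⟨ζ, h₂⟩ | ⟨hη, hno, hiso⟩
    · obtain ⟨ε, e₁, e₂⟩ := exists_common f i j g c ξ ζ rfl h₂
      obtain ⟨z, hz'⟩ := exists_glued_of_centre f i j g c F' G α ζ h₂
        ((pt g G ε e₂).inv ((shStalk ε).map α.hom ((pt j F' ε e₁).hom a)))
      refine ⟨z, ?_⟩
      apply (pt j F' ε e₁).toEquiv.injective
      apply ((shStalk ε).mapIso α).toEquiv.injective
      show (shStalk ε).map α.hom ((pt j F' ε e₁).hom _) = (shStalk ε).map α.hom ((pt j F' ε e₁).hom a)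
      rw [stalk_glued_condition f i j g c F' G α ε ξ ζ e₁ e₂ rfl h₂, hz', pt_inv_hom]
    · obtain ⟨x, hx⟩ := exists_push_value_off f F' η hiso ξ rfl a
      obtain ⟨U₀⟩ := unique_stalk_push_of_notMem i η hη G
      obtain ⟨z, hz₁, -⟩ := exists_glued f i j g c F' G α η x U₀.default
        (ProperDescent.ev_ext (j ≫ f) _ fun ε h => absurd
          (show (ε ≫ g) ≫ i = η by rw [Category.assoc, ← c.w]; exact h) (hno _))
      exact ⟨z, by rw [hz₁, hx]⟩

/-- The second comparison is an isomorphism. -/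
theorem isIso_compG : IsIso (compG f i j g c F' G α) := by
  refine isIso_of_acPoints _ fun p => ?_
  let Ω := AlgebraicClosure (Z.residueField p)
  let ζ : Spec (CommRingCat.of Ω) ⟶ Z := acPoint p
  let η := ζ ≫ i
  have hz : ∀ z, (shStalk ζ).map (compG f i j g c F' G α) ((pt i _ ζ rfl).hom z) =
      ev i ζ rfl G ((shStalk η).map (pullback.snd _ _) z) := fun z => stalk_adjoint i _ ζ rfl z
  constructor
  · intro a b hab
    obtain ⟨z, rfl⟩ : ∃ z, (pt i _ ζ rfl).hom z = a := ⟨_, pt_inv_hom i _ ζ rfl a⟩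
    obtain ⟨z', rfl⟩ : ∃ z, (pt i _ ζ rfl).hom z = b := ⟨_, pt_inv_hom i _ ζ rfl b⟩
    rw [hz, hz] at hab
    refine congrArg _ (glued_ext f i j g c F' G α η z z' (ProperDescent.ev_ext f F' fun ξ h₁ => ?_)
      (IntDescent.ev_ext i G fun ζ' h' => ?_))
    · obtain ⟨ε, e₁, e₂⟩ := exists_common f i j g c ξ ζ h₁ rfl
      apply (pt j F' ε e₁).toEquiv.injective
      apply ((shStalk ε).mapIso α).toEquiv.injective
      show (shStalk ε).map α.hom ((pt j F' ε e₁).hom _) = (shStalk ε).map α.hom ((pt j F' ε e₁).hom _)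
      rw [stalk_glued_condition f i j g c F' G α ε ξ ζ e₁ e₂ h₁ rfl,
        stalk_glued_condition f i j g c F' G α ε ξ ζ e₁ e₂ h₁ rfl, hab]
    · obtain rfl : ζ' = ζ := (cancel_mono i).1 h'
      exact hab
  · intro a
    obtain ⟨z, hz'⟩ := exists_glued_of_centre f i j g c F' G α ζ rfl a
    exact ⟨_, (hz z).trans hz'⟩

end pieces

omit [IsProper f] [IsClosedImmersion i] in
/-- Value of the canonical comparison. -/
lemma stalk_can (F : EtDesc.Sh X) {Ω : Type u} [Field Ω] [IsSepClosed Ω]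
    (ε : Spec (CommRingCat.of Ω) ⟶ E) (ξ : Spec (CommRingCat.of Ω) ⟶ X') (ζ : Spec (CommRingCat.of Ω) ⟶ Z)
    {η : Spec (CommRingCat.of Ω) ⟶ X} (e₁ : ε ≫ j = ξ) (e₂ : ε ≫ g = ζ) (h₁ : ξ ≫ f = η) (h₂ : ζ ≫ i = η)
    (v : (shStalk η).obj F) :
    (shStalk ε).map (EtDesc.pullVia j f (j ≫ f) rfl F ≪≫ (EtDesc.pullVia g i (j ≫ f) c.w.symm F).symm).hom
        ((pt j ((EtDesc.pullSh f).obj F) ε e₁).hom ((pt f F ξ h₁).hom v)) =
      (pt g ((EtDesc.pullSh i).obj F) ε e₂).hom ((pt i F ζ h₂).hom v) := by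
  have hj : ε ≫ j ≫ f = η := (Category.assoc _ _ _).symm.trans ((congrArg (· ≫ f) e₁).trans h₁)
  simp only [Iso.trans_hom, Iso.symm_hom, Functor.map_comp, ConcreteCategory.comp_apply]
  rw [pt_pullVia j f (j ≫ f) rfl F ε ξ hj e₁ h₁ v, ← pt_pullVia g i (j ≫ f) c.w.symm F ε ζ hj e₂ h₂ v]
  exact iso_hom_inv ((shStalk ε).mapIso (EtDesc.pullVia g i (j ≫ f) c.w.symm F)) _

set_option maxHeartbeats 1000000 in
include hU hf in
/-- Objects glue. -/
theorem exists_object : ∃ (F : EtDesc.Sh X) (β : (EtDesc.pullSh f).obj F ≅ F') (γ : (EtDesc.pullSh i).obj F ≅ G),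
    (EtDesc.pullSh j).map β.hom ≫ α.hom =
      (EtDesc.pullVia j f (j ≫ f) rfl F ≪≫ (EtDesc.pullVia g i (j ≫ f) c.w.symm F).symm).hom ≫
        (EtDesc.pullSh g).map γ.hom := by
  have := isIso_compF f i u hU hf j g c F' G α
  have := isIso_compG f i j g c F' G α
  refine ⟨glued f i j g c F' G α, asIso (compF f i j g c F' G α), asIso (compG f i j g c F' G α), ?_⟩
  refine hom_ext_stalks fun Ω _ _ ε v => ?_
  obtain ⟨a, rfl⟩ : ∃ a, (pt j _ ε rfl).hom a = v := ⟨_, pt_inv_hom _ _ ε rfl v⟩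
  obtain ⟨z, rfl⟩ : ∃ z, (pt f (glued f i j g c F' G α) (ε ≫ j) rfl).hom z = a :=
    ⟨_, pt_inv_hom _ _ _ rfl a⟩
  have h₂ : (ε ≫ g) ≫ i = (ε ≫ j) ≫ f := by simp only [Category.assoc, c.w]
  simp only [Functor.map_comp, ConcreteCategory.comp_apply, asIso_hom]
  rw [stalk_can f i j g c _ ε _ (ε ≫ g) rfl rfl rfl h₂, pt_naturality, pt_naturality]
  erw [stalk_adjoint, stalk_adjoint]
  exact stalk_glued_condition f i j g c F' G α ε _ _ rfl rfl rfl h₂ z

end Groth.DescentBase.ModSquare
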