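import Groth.Agent.DescentBase.OpenImmSh
import Groth.Prelude.Def_EtOpen
import Mathlib.CategoryTheory.Adjunction.Restrict
import Mathlib.CategoryTheory.Sites.CoverPreserving

/-!
# Open subschemes as subobjects of the terminal étale sheaf
-/

set_option autoImplicit false
set_option backward.isDefEq.respectTransparency.types false

universe u

open CategoryTheory CategoryTheory.Limits AlgebraicGeometry Opposite
open Groth.EtaleBase (mem_topology_iff isOpenMap_left)

namespace Groth.DescentBase.OpensSh

open OpenImmSh (etPost etPostFF)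

variable {X : Scheme.{u}}

/-- The presheaf of maps to an open. -/
noncomputable abbrev openPre (U : X.Opens) : X.Etaleᵒᵖ ⥤ Type (u + 1) :=
  yoneda.obj (EtDesc.ofOpen U) ⋙ uliftFunctor.{u + 1, u}

theorem hom_ext_ofOpen {U : X.Opens} {V : X.Etale} (a b : V ⟶ EtDesc.ofOpen U) : a = b :=
  MorphismProperty.Over.Hom.ext ((cancel_mono U.ι).1
    ((MorphismProperty.Over.w a).trans (MorphismProperty.Over.w b).symm))

theorem range_subset_of_hom {U : X.Opens} {V : X.Etale} (a : V ⟶ EtDesc.ofOpen U) :
    Set.range V.hom.base ⊆ (U : Set X) := by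
  rintro _ ⟨v, rfl⟩
  rw [← MorphismProperty.Over.w a]
  exact (a.left v).2

theorem exists_lift {T : Scheme.{u}} (f : T ⟶ X) {U : X.Opens} (h : Set.range f.base ⊆ (U : Set X)) :
    ∃ l : T ⟶ (U : Scheme.{u}), l ≫ U.ι = f :=
  ⟨IsOpenImmersion.lift U.ι f (by rw [Scheme.Opens.range_ι]; exact h), IsOpenImmersion.lift_fac _ _ _⟩

theorem nonempty_hom {U : X.Opens} {V : X.Etale} (h : Set.range V.hom.base ⊆ (U : Set X)) :
    Nonempty (V ⟶ EtDesc.ofOpen U) :=
  let ⟨l, hl⟩ := exists_lift V.hom h
  ⟨MorphismProperty.Over.homMk l hl⟩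

theorem subsingleton_openPre (U : X.Opens) (V : X.Etaleᵒᵖ) : Subsingleton ((openPre U).obj V) :=
  ⟨fun a b => ULift.ext _ _ (hom_ext_ofOpen a.down b.down)⟩

theorem isSheaf_openPre (U : X.Opens) : Presheaf.IsSheaf X.smallEtaleTopology (openPre U) := by
  rw [isSheaf_iff_isSheaf_of_type]
  intro V R hR x _
  have h : Set.range V.hom.base ⊆ (U : Set X) := by
    rintro _ ⟨v, rfl⟩
    obtain ⟨W, g, w, hg, rfl⟩ := (mem_topology_iff R).1 hR v
    rw [← Scheme.Hom.comp_apply, MorphismProperty.Over.w g]
    exact range_subset_of_hom (x g hg).down ⟨w, rfl⟩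
  obtain ⟨l⟩ := nonempty_hom h
  exact ⟨ULift.up l, fun W g hg => (subsingleton_openPre U _).elim _ _,
    fun _ _ => (subsingleton_openPre U _).elim _ _⟩

/-- The sheaf attached to an open. -/
noncomputable def openSh (U : X.Opens) : EtDesc.Sh X := ⟨openPre U, isSheaf_openPre U⟩

/-- It is the sheaf attached to the étale open. -/
noncomputable def repIso (U : X.Opens) : openSh U ≅ EtDesc.repSh (EtDesc.ofOpen U) :=
  sheafificationIso (openSh U)

theorem subsingleton_rep (U : X.Opens) (V : X.Etaleᵒᵖ) :
    Subsingleton ((EtDesc.repSh (EtDesc.ofOpen U)).obj.obj V) :=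
  @Equiv.subsingleton _ _ ((((sheafToPresheaf _ _).mapIso (repIso U)).app V).toEquiv).symm
    (subsingleton_openPre U V)

theorem hom_of_rep {U : X.Opens} {V : X.Etale}
    (s : (EtDesc.repSh (EtDesc.ofOpen U)).obj.obj (op V)) : Nonempty (V ⟶ EtDesc.ofOpen U) :=
  ⟨((repIso U).inv.hom.app (op V) s).down⟩

theorem hom_ext_of_subsingleton {F G : EtDesc.Sh X} (h : ∀ V, Subsingleton (G.obj.obj V)) (a b : F ⟶ G) :
    a = b := by
  ext V s
  exact (h V).elim _ _

theorem mono_from_rep (U : X.Opens) : Mono (terminal.from (EtDesc.repSh (EtDesc.ofOpen U))) :=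
  ⟨fun a b _ => hom_ext_of_subsingleton (subsingleton_rep U) a b⟩

theorem le_iff (U V : X.Opens) :
    U ≤ V ↔ Nonempty (EtDesc.repSh (EtDesc.ofOpen U) ⟶ EtDesc.repSh (EtDesc.ofOpen V)) := by
  constructor
  · intro h
    obtain ⟨l⟩ := nonempty_hom (U := V) (V := EtDesc.ofOpen U) (fun x hx => h ((U.range_ι).le hx))
    exact ⟨(presheafToSheaf _ _).map (Functor.whiskerRight (yoneda.map l) uliftFunctor.{u + 1, u})⟩
  · rintro ⟨a⟩ x hx
    obtain ⟨l⟩ := hom_of_rep (a.hom.app (op (EtDesc.ofOpen U))
      ((repIso U).hom.hom.app _ (ULift.up (𝟙 (EtDesc.ofOpen U)))))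
    exact range_subset_of_hom l ((U.range_ι).ge hx)

theorem subsingleton_of_mono (F : EtDesc.Sh X) [Mono (terminal.from F)] (V : X.Etaleᵒᵖ) :
    Subsingleton (F.obj.obj V) := by
  let E := sheafToPresheaf X.smallEtaleTopology (Type (u + 1)) ⋙ (evaluation _ _).obj V
  have hT : IsTerminal (E.obj (⊤_ (EtDesc.Sh X))) := IsTerminal.isTerminalObj E _ terminalIsTerminal
  haveI : Subsingleton (E.obj (⊤_ (EtDesc.Sh X))) :=
    ⟨fun a b => (@Unique.instSubsingleton _ (Types.isTerminalEquivUnique _ hT)).elim a b⟩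
  haveI : PreservesLimitsOfShape WalkingCospan E := inferInstance
  haveI hm : Mono (E.map (terminal.from F)) := inferInstance
  exact ⟨fun a b => (mono_iff_injective (E.map (terminal.from F))).1 hm (Subsingleton.elim _ _)⟩

theorem exists_open (F : EtDesc.Sh X) [Mono (terminal.from F)] :
    ∃ U : X.Opens, Nonempty (F ≅ EtDesc.repSh (EtDesc.ofOpen U)) := by
  have hsub := subsingleton_of_mono F
  let U : X.Opens := ⟨{x | ∃ (V : X.Etale), Nonempty (F.obj.obj (op V)) ∧ x ∈ Set.range V.hom.base}, by
    refine isOpen_iff_forall_mem_open.2 fun x hx => ?_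
    obtain ⟨V, hV, hxV⟩ := hx
    exact ⟨_, fun y hy => ⟨V, hV, hy⟩, V.hom.isOpenMap.isOpen_range, hxV⟩⟩
  refine ⟨U, ⟨?_ ≪≫ repIso U⟩⟩
  have hto : ∀ V : X.Etale, F.obj.obj (op V) → Nonempty (V ⟶ EtDesc.ofOpen U) := fun V s =>
    nonempty_hom fun x hx => ⟨V, ⟨s⟩, hx⟩
  have hfrom : ∀ V : X.Etale, (V ⟶ EtDesc.ofOpen U) → Nonempty (F.obj.obj (op V)) := by
    intro V l
    let R : Sieve V :=
      { arrows := fun W _ => Nonempty (F.obj.obj (op W))
        downward_closed := fun {W W' _} ⟨s⟩ g => ⟨F.obj.map g.op s⟩ }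
    have hR : R ∈ X.smallEtaleTopology V := by
      rw [mem_topology_iff]
      intro v
      obtain ⟨W, ⟨s⟩, w, hw⟩ := range_subset_of_hom l ⟨v, rfl⟩
      obtain ⟨z, hz1, -⟩ := Scheme.Pullback.exists_preimage_pullback (f := V.hom) (g := W.hom) v w hw.symm
      let P : X.Etale := Scheme.Etale.mk (pullback.fst V.hom W.hom ≫ V.hom)
      let pV : P ⟶ V := MorphismProperty.Over.homMk (pullback.fst V.hom W.hom) rfl
      let pW : P ⟶ W := MorphismProperty.Over.homMk (pullback.snd V.hom W.hom) pullback.condition.symm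
      exact ⟨P, pV, z, ⟨F.obj.map pW.op s⟩, hz1⟩
    have hF := (isSheaf_iff_isSheaf_of_type _ _).1 F.property R hR
    exact ⟨hF.amalgamate (fun W g (hg : Nonempty _) => hg.some)
      (fun _ _ _ _ _ _ _ _ _ _ => (hsub _).elim _ _)⟩
  exact (fullyFaithfulSheafToPresheaf _ _).preimageIso (NatIso.ofComponents
    (fun V => Equiv.toIso
      { toFun := fun s => ULift.up (hto V.unop s).some
        invFun := fun l => (hfrom V.unop l.down).some
        left_inv := fun s => (hsub V).elim _ _
        right_inv := fun l => (subsingleton_openPre U V).elim _ _ })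
    (fun {V W} g => by ext s; exact (subsingleton_openPre U W).elim _ _))

section restrict

variable (U : X.Opens)

theorem coverPreserving_etPost :
    CoverPreserving (U : Scheme.{u}).smallEtaleTopology X.smallEtaleTopology (etPost U.ι) where
  cover_preserve {V S} hS := by
    rw [mem_topology_iff] at hS ⊢
    intro v
    obtain ⟨W, g, w, hg, hw⟩ := hS v
    exact ⟨(etPost U.ι).obj W, (etPost U.ι).map g, w, Sieve.image_mem_functorPushforward (etPost U.ι) S hg, hw⟩

instance isContinuous_etPost :
    (etPost U.ι).IsContinuous (U : Scheme.{u}).smallEtaleTopology X.smallEtaleTopology := by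
  haveI : (etPost U.ι).Full := (etPostFF U.ι).full
  haveI : (etPost U.ι).Faithful := (etPostFF U.ι).faithful
  refine Functor.isContinuous_of_coverPreserving
    (compatiblePreservingOfDownwardsClosed _ _ fun {c d} f => ?_) (coverPreserving_etPost U)
  have hf : f.left ≫ c.hom ≫ U.ι = d.hom := MorphismProperty.Over.w f
  haveI : Etale ((f.left ≫ c.hom) ≫ U.ι) := by rw [Category.assoc, hf]; exact d.prop
  haveI : Etale (f.left ≫ c.hom) := Etale.of_comp _ U.ι
  exact ⟨Scheme.Etale.mk (f.left ≫ c.hom),
    MorphismProperty.Over.isoMk (Iso.refl _) (by exact (Category.id_comp _).trans ((Category.assoc _ _ _).trans hf).symm)⟩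

/-- Restriction to an open subscheme, by precomposition. -/
noncomputable abbrev restrictSh : EtDesc.Sh X ⥤ EtDesc.Sh (U : Scheme.{u}) :=
  (etPost U.ι).sheafPushforwardContinuous (Type (u + 1)) (U : Scheme.{u}).smallEtaleTopology X.smallEtaleTopology

/-- Restriction is left adjoint to direct image. -/
noncomputable def restrictAdj : restrictSh U ⊣ EtDesc.pushSh U.ι :=
  ((MorphismProperty.Over.mapPullbackAdj EtCoh.etaleMP.{u} ⊤ U.ι (inferInstance : Etale U.ι) trivial).op.whiskerLeft
    (Type (u + 1))).restrictFullyFaithful (fullyFaithfulSheafToPresheaf _ _) (fullyFaithfulSheafToPresheaf _ _)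
    (Iso.refl _) (Iso.refl _)

/-- Inverse image along an open immersion is restriction. -/
noncomputable def pullIso : EtDesc.pullSh U.ι ≅ restrictSh U :=
  (EtDesc.adjSh U.ι).leftAdjointUniq (restrictAdj U)

/-- An object over the open, as an object over the open subscheme. -/
noncomputable def liftObj {V : X.Etale} (l : V ⟶ EtDesc.ofOpen U) : (U : Scheme.{u}).Etale :=
  let m : V.left ⟶ (U : Scheme.{u}) := l.left
  haveI : Etale (m ≫ U.ι) := by
    rw [show m ≫ U.ι = V.hom from MorphismProperty.Over.w l]; exact V.prop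
  haveI : Etale m := Etale.of_comp m U.ι
  Scheme.Etale.mk m

/-- The comparison with the original object. -/
noncomputable def liftIso {V : X.Etale} (l : V ⟶ EtDesc.ofOpen U) :
    (etPost U.ι).obj (liftObj U l) ≅ V :=
  MorphismProperty.Over.isoMk (Iso.refl _) ((Category.id_comp _).trans (MorphismProperty.Over.w l).symm)

/-- Compatibility of lifts. -/
noncomputable def liftMap {V W : X.Etale} (g : W ⟶ V) (l : V ⟶ EtDesc.ofOpen U) (m : W ⟶ EtDesc.ofOpen U) :
    liftObj U m ⟶ liftObj U l :=
  MorphismProperty.Over.homMk g.left (congrArg (fun k => k.left) (hom_ext_ofOpen (g ≫ l) m))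

theorem liftMap_inv {V W : X.Etale} (g : W ⟶ V) (l : V ⟶ EtDesc.ofOpen U) (m : W ⟶ EtDesc.ofOpen U) :
    g ≫ (liftIso U l).inv = (liftIso U m).inv ≫ (etPost U.ι).map (liftMap U g l m) :=
  MorphismProperty.Over.Hom.ext (show g.left ≫ 𝟙 _ = 𝟙 _ ≫ g.left by simp)

/-- The functor `Over U~ ⥤ Sh U`. -/
noncomputable abbrev overRestrict :=
  Over.forget (EtDesc.repSh (EtDesc.ofOpen U)) ⋙ restrictSh U

theorem faithful_overRestrict : (overRestrict U).Faithful where
  map_injective {A B} a b h := by
    refine Over.OverMorphism.ext ?_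
    ext V s
    obtain ⟨l⟩ := hom_of_rep (A.hom.hom.app V s)
    obtain ⟨t, rfl⟩ : ∃ t, A.left.obj.map (liftIso U l).inv.op t = s :=
      ⟨A.left.obj.map (liftIso U l).hom.op s, by
        rw [← Functor.map_comp_apply, ← op_comp, Iso.inv_hom_id, op_id, CategoryTheory.Functor.map_id]; rfl⟩
    have ha := ConcreteCategory.congr_hom (a.left.hom.naturality (liftIso U l).inv.op) t
    have hb := ConcreteCategory.congr_hom (b.left.hom.naturality (liftIso U l).inv.op) t
    refine (ha.trans ?_).trans hb.symm
    exact congrArg (fun φ => B.left.obj.map (liftIso U l).inv.op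
      ((φ : (restrictSh U).obj A.left ⟶ (restrictSh U).obj B.left).hom.app (op (liftObj U l)) t)) h

theorem full_overRestrict : (overRestrict U).Full where
  map_surjective {A B} ψ := by
    let app : ∀ V : X.Etale, A.left.obj.obj (op V) → B.left.obj.obj (op V) := fun V s =>
      B.left.obj.map (liftIso U (hom_of_rep (A.hom.hom.app _ s)).some).inv.op
        (ψ.hom.app (op (liftObj U (hom_of_rep (A.hom.hom.app _ s)).some))
          (A.left.obj.map (liftIso U (hom_of_rep (A.hom.hom.app _ s)).some).hom.op s))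
    have key : ∀ (V : X.Etale) (l : V ⟶ EtDesc.ofOpen U) (s : A.left.obj.obj (op V)),
        app V s = B.left.obj.map (liftIso U l).inv.op
          (ψ.hom.app (op (liftObj U l)) (A.left.obj.map (liftIso U l).hom.op s)) := fun V l s => by
      obtain rfl := hom_ext_ofOpen l (hom_of_rep (A.hom.hom.app _ s)).some
      rfl
    have nat : ∀ (V W : X.Etale) (g : W ⟶ V) (s : A.left.obj.obj (op V)),
        app W (A.left.obj.map g.op s) = B.left.obj.map g.op (app V s) := by
      intro V W g s
      obtain ⟨l⟩ := hom_of_rep (A.hom.hom.app _ s)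
      obtain ⟨t, rfl⟩ : ∃ t, A.left.obj.map (liftIso U l).inv.op t = s :=
        ⟨A.left.obj.map (liftIso U l).hom.op s, by
          rw [← Functor.map_comp_apply, ← op_comp, Iso.inv_hom_id, op_id, CategoryTheory.Functor.map_id]; rfl⟩
      rw [key V l, key W (g ≫ l)]
      have e1 : ∀ {V' : X.Etale} (k : V' ⟶ EtDesc.ofOpen U) (r : A.left.obj.obj (op ((etPost U.ι).obj (liftObj U k)))),
          A.left.obj.map (liftIso U k).hom.op (A.left.obj.map (liftIso U k).inv.op r) = r := fun k r => by
        rw [← Functor.map_comp_apply, ← op_comp, Iso.hom_inv_id, op_id, CategoryTheory.Functor.map_id]; rfl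
      have e2 : A.left.obj.map g.op (A.left.obj.map (liftIso U l).inv.op t) =
          A.left.obj.map (liftIso U (g ≫ l)).inv.op (A.left.obj.map ((etPost U.ι).map (liftMap U g l (g ≫ l))).op t) := by
        rw [← Functor.map_comp_apply, ← Functor.map_comp_apply, ← op_comp, ← op_comp, liftMap_inv U g l (g ≫ l)]
      rw [e2, e1, e1]
      have hn := ConcreteCategory.congr_hom (ψ.hom.naturality (liftMap U g l (g ≫ l)).op) t
      erw [hn]
      show B.left.obj.map (liftIso U (g ≫ l)).inv.op (B.left.obj.map ((etPost U.ι).map (liftMap U g l (g ≫ l))).op _) = _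
      rw [← Functor.map_comp_apply, ← Functor.map_comp_apply, ← op_comp, ← op_comp, liftMap_inv U g l (g ≫ l)]
      rfl
    let φ : A.left ⟶ B.left := ⟨{ app := fun V => TypeCat.ofHom (app V.unop)
                                  naturality := fun V W g => by ext s; exact nat _ _ g.unop s }⟩
    refine ⟨Over.homMk φ (hom_ext_of_subsingleton (subsingleton_rep U) _ _), ?_⟩
    ext V s
    show app ((etPost U.ι).obj V.unop) s = ψ.hom.app V s
    let l : (etPost U.ι).obj V.unop ⟶ EtDesc.ofOpen U := MorphismProperty.Over.homMk V.unop.hom rfl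
    rw [key _ l]
    let k : liftObj U l ⟶ V.unop := MorphismProperty.Over.homMk (𝟙 _) (Category.id_comp _)
    let k' : V.unop ⟶ liftObj U l := MorphismProperty.Over.homMk (𝟙 _) (Category.id_comp _)
    have h1 : (liftIso U l).hom = (etPost U.ι).map k := MorphismProperty.Over.Hom.ext rfl
    have h2 : (liftIso U l).inv = (etPost U.ι).map k' := MorphismProperty.Over.Hom.ext rfl
    have h3 : k' ≫ k = 𝟙 _ := MorphismProperty.Over.Hom.ext (Category.comp_id _)
    rw [h1, h2]
    have hn := ConcreteCategory.congr_hom (ψ.hom.naturality k'.op)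
      (A.left.obj.map ((etPost U.ι).map k).op s)
    refine hn.symm.trans ((ConcreteCategory.comp_apply _ _ _).trans (congrArg (ψ.hom.app V) ?_))
    show A.left.obj.map ((etPost U.ι).map k').op (A.left.obj.map ((etPost U.ι).map k).op s) = s
    rw [← Functor.map_comp_apply, ← op_comp, ← Functor.map_comp, h3, CategoryTheory.Functor.map_id, op_id, CategoryTheory.Functor.map_id]
    rfl

theorem essSurj_overRestrict : (overRestrict U).EssSurj where
  mem_essImage G := by
    let T := EtDesc.repSh (EtDesc.ofOpen U)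
    haveI : PreservesLimitsOfShape (Discrete WalkingPair) (restrictSh U) := by
      haveI : PreservesLimitsOfShape (Discrete WalkingPair)
          (restrictSh U ⋙ sheafToPresheaf (U : Scheme.{u}).smallEtaleTopology (Type (u + 1))) :=
        inferInstanceAs (PreservesLimitsOfShape _ (sheafToPresheaf X.smallEtaleTopology (Type (u + 1)) ⋙
          (Functor.whiskeringLeft _ _ (Type (u + 1))).obj (etPost U.ι).op))
      exact preservesLimitsOfShape_of_reflects_of_preserves (restrictSh U) (sheafToPresheaf _ _)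
    have hT : IsTerminal ((restrictSh U).obj T) := IsTerminal.ofUniqueHom
      (fun H => (fullyFaithfulSheafToPresheaf _ _).preimage
        { app := fun V => TypeCat.ofHom fun _ => (repIso U).hom.hom.app _
            (ULift.up (MorphismProperty.Over.homMk V.unop.hom rfl : (etPost U.ι).obj V.unop ⟶ EtDesc.ofOpen U))
          naturality := fun V W g => by ext s; exact (subsingleton_rep U _).elim _ _ })
      (fun H m => by ext V s; exact (subsingleton_rep U _).elim _ _)
    haveI := (OpenImmSh.pushSh_fullyFaithful U.ι).1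
    haveI := (OpenImmSh.pushSh_fullyFaithful U.ι).2
    refine ⟨Over.mk (prod.snd : (EtDesc.pushSh U.ι).obj G ⨯ T ⟶ T), ⟨?_⟩⟩
    haveI : IsIso (restrictAdj U).counit := Adjunction.counit_isIso_of_R_fully_faithful _
    exact PreservesLimitPair.iso (restrictSh U) _ _ ≪≫ prod.mapIso (Iso.refl _) (hT.uniqueUpToIso terminalIsTerminal) ≪≫
      prod.rightUnitor _ ≪≫ asIso ((restrictAdj U).counit.app G)

theorem isEquivalence_overPull :
    (Over.forget (EtDesc.repSh (EtDesc.ofOpen U)) ⋙ EtDesc.pullSh U.ι).IsEquivalence := by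
  haveI := faithful_overRestrict U
  haveI := full_overRestrict U
  haveI := essSurj_overRestrict U
  haveI : (overRestrict U).IsEquivalence := { }
  exact Functor.isEquivalence_of_iso
    (Functor.isoWhiskerLeft (Over.forget (EtDesc.repSh (EtDesc.ofOpen U))) (pullIso U).symm)

end restrict

end Groth.DescentBase.OpensSh
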