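import Mathlib
import Groth.Agent.SigmaLinH.Local

/-! Trace of the linear map attached to a `p`-linear endomorphism, after an algebraically closed extension. -/

set_option autoImplicit false

universe u v

namespace Groth.DescentBase.PLinTrace

open TensorProduct

section General

variable {K : Type u} [Field K] {E : Type v} [AddCommGroup E] [Module K E] [FiniteDimensional K E]

/-- Trace = trace on an invariant summand when the map is nilpotent on an invariant complement. -/
theorem trace_eq_trace_restrict {S N : Submodule K E} (hc : IsCompl N S) (F : E →ₗ[K] E)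
    (hS : ∀ z ∈ S, F z ∈ S) (hN : ∀ z ∈ N, F z ∈ N) (M : ℕ) (hnil : ∀ z ∈ N, (⇑F)^[M] z = 0) :
    LinearMap.trace K E F = LinearMap.trace K S (F.restrict hS) := by
  set P : E →ₗ[K] S := S.projectionOnto N hc.symm
  set Q : E →ₗ[K] N := N.projectionOnto S hc
  have hPQ : ∀ z, ((P z : S) : E) + (Q z : E) = z := fun z =>
    Submodule.projection_add_projection_eq_self hc.symm z
  have hsplit : F = (F ∘ₗ S.subtype) ∘ₗ P + (F ∘ₗ N.subtype) ∘ₗ Q := by
    ext z : 1
    conv_lhs => rw [← hPQ z]
    simp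
  have htr0 : LinearMap.trace K E ((F ∘ₗ N.subtype) ∘ₗ Q) = 0 := by
    rw [LinearMap.trace_comp_comm']
    refine IsNilpotent.eq_zero (LinearMap.isNilpotent_trace_of_isNilpotent ?_)
    refine ⟨M, LinearMap.ext fun x => ?_⟩
    have hQx : ∀ x : N, (((Q ∘ₗ (F ∘ₗ N.subtype)) x : N) : E) = F (x : E) := by
      intro x
      exact congrArg Subtype.val (Submodule.projectionOnto_apply_left hc ⟨F x, hN x x.2⟩)
    have hit : ∀ (m : ℕ) (x : N),
        ((((Q ∘ₗ (F ∘ₗ N.subtype)) ^ m) x : N) : E) = (⇑F)^[m] (x : E) := by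
      intro m
      induction m with
      | zero => intro x; simp
      | succ m ih =>
        intro x
        rw [pow_succ', Module.End.mul_apply, hQx, ih, Function.iterate_succ_apply']
    apply Subtype.ext
    rw [hit]
    exact hnil _ x.2
  have htr1 : LinearMap.trace K E ((F ∘ₗ S.subtype) ∘ₗ P) = LinearMap.trace K S (F.restrict hS) := by
    rw [LinearMap.trace_comp_comm']
    congr 1
    ext x : 1
    exact Submodule.projectionOnto_apply_left hc.symm ⟨F x, hS x x.2⟩
  conv_lhs => rw [hsplit]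
  rw [map_add, htr0, add_zero, htr1]

end General

/-- A basis of a subspace over a subfield from a basis over the big field whose coordinates descend. -/
theorem exists_basis_descend {F0 : Type u} [Field F0] {L : Type u} [Field L] [Algebra F0 L]
    {E : Type v} [AddCommGroup E] [Module F0 E] [Module L E] [IsScalarTower F0 L E]
    (W : Submodule F0 E) {S : Submodule L E} {ι : Type*} [Fintype ι] (b : Module.Basis ι L S)
    (hbW : ∀ i, (b i : E) ∈ W)
    (hcoord : ∀ y ∈ W, ∃ h : y ∈ S, ∀ i, ∃ c : F0, algebraMap F0 L c = b.repr ⟨y, h⟩ i) :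
    ∃ e : Module.Basis ι F0 W, ∀ i, ((e i : W) : E) = (b i : E) := by
  let e : ι → W := fun i => ⟨b i, hbW i⟩
  have eli : LinearIndependent F0 e := by
    refine LinearIndependent.of_comp W.subtype ?_
    have h1 : LinearIndependent L (fun i => (b i : E)) :=
      b.linearIndependent.map' S.subtype (Submodule.ker_subtype _)
    refine h1.restrict_scalars ?_
    intro c d h
    simp only [Algebra.smul_def, mul_one] at h
    exact (algebraMap F0 L).injective h
  have esp : ⊤ ≤ Submodule.span F0 (Set.range e) := by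
    rintro ⟨y, hy⟩ -
    obtain ⟨hyS, hc⟩ := hcoord y hy
    choose c hc using hc
    rw [Submodule.mem_span_range_iff_exists_fun]
    refine ⟨c, Subtype.ext ?_⟩
    have h1 := congrArg Subtype.val (b.sum_repr ⟨y, hyS⟩)
    simp only [AddSubmonoidClass.coe_finsetSum, SetLike.val_smul] at h1 ⊢
    conv_rhs => rw [← h1]
    refine Finset.sum_congr rfl fun i _ => ?_
    rw [← hc, IsScalarTower.algebraMap_smul]
  exact ⟨Module.Basis.mk eli esp, fun i => by simp [e]⟩

variable {p : ℕ} [Fact p.Prime] {k : Type u} [Field k] [CharP k p] {K : Type u} [Field K] [Algebra k K]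
  [CharP K p] {V : Type u} [AddCommGroup V] [Module k V]

/-- Coordinates of a fixed vector in a fixed basis lie in the prime field. -/
theorem exists_bot_coord {E : Type v} [AddCommGroup E] [Module K E]
    (T : E →ₛₗ[frobenius K p] E) {S : Submodule K E} {ι : Type*} [Fintype ι]
    (b : Module.Basis ι K S) (hb : ∀ i, T (b i : E) = (b i : E)) (z : S) (hz : T (z : E) = (z : E)) (i : ι) :
    ∃ c : ↥(⊥ : Subfield k), algebraMap k K (c : k) = b.repr z i := by
  haveI : ExpChar K p := ExpChar.prime Fact.out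
  have h1 : ∑ j, frobenius K p (b.repr z j) • b j = ∑ j, b.repr z j • b j := by
    rw [b.sum_repr]
    apply Subtype.ext
    have h2 := congrArg (fun w : S => T (w : E)) (b.sum_repr z)
    simp only [AddSubmonoidClass.coe_finsetSum, SetLike.val_smul, map_sum, map_smulₛₗ] at h2 ⊢
    simp only [hb] at h2
    rw [h2, hz]
  have h4 := Fintype.linearIndependent_iff.1 b.linearIndependent
    (fun j => frobenius K p (b.repr z j) - b.repr z j)
    (by simp only [sub_smul, Finset.sum_sub_distrib, h1, sub_self]) i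
  have h5 : b.repr z i ∈ (⊥ : Subfield K) := by
    rw [Subfield.mem_bot_iff_pow_eq_self K p]
    simpa [frobenius_def, sub_eq_zero] using h4
  rw [← ZMod.fieldRange_castHom_eq_bot p] at h5
  obtain ⟨n, hn⟩ := h5
  refine ⟨⟨ZMod.castHom (dvd_refl p) k n, ?_⟩, ?_⟩
  · rw [← ZMod.fieldRange_castHom_eq_bot p]; exact ⟨n, rfl⟩
  · rw [← hn]
    exact RingHom.congr_fun (RingHom.ext_zmod ((algebraMap k K).comp (ZMod.castHom (dvd_refl p) k))
      (ZMod.castHom (dvd_refl p) K)) n

theorem iterate_smul' {E : Type v} [AddCommGroup E] [Module K E]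
    (T : E →ₛₗ[frobenius K p] E) (m : ℕ) (a : K) (w : E) : (⇑T)^[m] (a • w) = a ^ p ^ m • (⇑T)^[m] w := by
  induction m with
  | zero => simp
  | succ m ih =>
    rw [Function.iterate_succ_apply', Function.iterate_succ_apply', ih, map_smulₛₗ, frobenius_def,
      ← pow_mul, ← pow_succ]

/-- `(id ⊗ F)^N` kills a vector killed by the `f * N`-th iterate of the semilinear extension. -/
theorem iterate_baseChange_eq_zero [Fintype k] [FiniteDimensional k V] (f : ℕ) (hq : Fintype.card k = p ^ f)
    (φ : V →ₛₗ[frobenius k p] V) (F : V →ₗ[k] V) (hF : ∀ x, F x = (⇑φ)^[f] x)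
    (T : K ⊗[k] V →ₛₗ[frobenius K p] K ⊗[k] V) (hT : ∀ (μ : K) (v : V), T (μ ⊗ₜ[k] v) = (μ ^ p) ⊗ₜ[k] φ v)
    (N : ℕ) (z : K ⊗[k] V) (hz : (⇑T)^[f * N] z = 0) : (⇑(F.baseChange K))^[N] z = 0 := by
  haveI : ExpChar K p := ExpChar.prime Fact.out
  set b := Module.finBasis k V
  set β := b.baseChange K with hβ
  set a : Fin (Module.finrank k V) → Fin (Module.finrank k V) → K :=
    fun i j => algebraMap k K (b.repr ((⇑φ)^[f * N] (b i)) j) with ha
  have hphi : ∀ i, ((1 : K) ⊗ₜ[k] ((⇑φ)^[f * N] (b i))) = ∑ j, a i j • β j := by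
    intro i
    conv_lhs => rw [← b.sum_repr ((⇑φ)^[f * N] (b i))]
    rw [TensorProduct.tmul_sum]
    refine Finset.sum_congr rfl fun j _ => ?_
    rw [TensorProduct.tmul_smul, ← IsScalarTower.algebraMap_smul K, hβ, Module.Basis.baseChange_apply]
  have hTn : ∀ (m : ℕ) (μ : K) (v : V), (⇑T)^[m] (μ ⊗ₜ[k] v) = (μ ^ p ^ m) ⊗ₜ[k] ((⇑φ)^[m] v) := by
    intro m μ v
    induction m with
    | zero => simp
    | succ m ih => rw [Function.iterate_succ_apply', Function.iterate_succ_apply', ih, hT, ← pow_mul, ← pow_succ]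
  have hFn : ∀ (n : ℕ) (μ : K) (v : V), (⇑(F.baseChange K))^[n] (μ ⊗ₜ[k] v) = μ ⊗ₜ[k] ((⇑φ)^[f * n] v) := by
    intro n μ v
    induction n with
    | zero => simp
    | succ n ih =>
      rw [Function.iterate_succ_apply', ih, LinearMap.baseChange_tmul, hF, Nat.mul_succ, Nat.add_comm,
        Function.iterate_add_apply]
  have hsum : ∀ (g : K ⊗[k] V → K ⊗[k] V) (_ : g 0 = 0) (_ : ∀ x y, g (x + y) = g x + g y)
      (x : Fin (Module.finrank k V) → K ⊗[k] V), g (∑ i, x i) = ∑ i, g (x i) := by
    intro g h0 hadd x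
    exact map_sum (⟨⟨g, h0⟩, hadd⟩ : K ⊗[k] V →+ K ⊗[k] V) x Finset.univ
  have e1 : (⇑T)^[f * N] z = ∑ j, (∑ i, (β.repr z i) ^ p ^ (f * N) * a i j) • β j := by
    conv_lhs => rw [← β.sum_repr z]
    rw [hsum _ (iterate_map_zero (f := T) _) (fun x y => iterate_map_add (f := T) _ x y)]
    simp only [Finset.sum_smul]
    rw [Finset.sum_comm]
    refine Finset.sum_congr rfl fun i _ => ?_
    rw [iterate_smul', hβ, Module.Basis.baseChange_apply, hTn, one_pow, hphi, Finset.smul_sum]
    simp only [smul_smul, hβ]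
  have e2 : (⇑(F.baseChange K))^[N] z = ∑ j, (∑ i, β.repr z i * a i j) • β j := by
    conv_lhs => rw [← β.sum_repr z]
    rw [hsum _ (iterate_map_zero (f := F.baseChange K) _)
      (fun x y => iterate_map_add (f := F.baseChange K) _ x y)]
    simp only [Finset.sum_smul]
    rw [Finset.sum_comm]
    refine Finset.sum_congr rfl fun i _ => ?_
    rw [← Module.End.coe_pow, map_smul, Module.End.coe_pow, hβ, Module.Basis.baseChange_apply, hFn, hphi,
      Finset.smul_sum]
    simp only [smul_smul, hβ]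
  rw [e2]
  refine Finset.sum_eq_zero fun j _ => ?_
  rw [e1] at hz
  have h0 := Fintype.linearIndependent_iff.1 β.linearIndependent _ hz j
  suffices h : ∑ i, β.repr z i * a i j = 0 by rw [h, zero_smul]
  refine eq_zero_of_pow_eq_zero (n := p ^ (f * N)) ?_
  rw [sum_pow_char_pow, ← h0]
  refine Finset.sum_congr rfl fun i _ => ?_
  rw [mul_pow]
  congr 1
  simp only [ha, ← map_pow]
  rw [pow_mul, ← hq, FiniteField.pow_card_pow]

/-- The matrix comparison: trace of a `K`-linear map on `S` and of the induced map on the fixed space `W`. -/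
theorem trace_fixed_eq {E : Type v} [AddCommGroup E] [Module K E] [Module k E] [IsScalarTower k K E]
    {S : Submodule K E} (W : Submodule ↥(⊥ : Subfield k) E) {ι : Type*} [Fintype ι] [DecidableEq ι]
    (b : Module.Basis ι K S) (e : Module.Basis ι ↥(⊥ : Subfield k) W) (hbe : ∀ i, ((e i : W) : E) = (b i : E))
    (G : W →ₗ[↥(⊥ : Subfield k)] W) (G' : S →ₗ[K] S)
    (hG : ∀ i, ((G (e i) : W) : E) = ((G' (b i) : S) : E)) :
    LinearMap.trace K S G' = algebraMap k K ((LinearMap.trace ↥(⊥ : Subfield k) W G : ↥(⊥ : Subfield k)) : k) := by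
  rw [LinearMap.trace_eq_matrix_trace K b, LinearMap.trace_eq_matrix_trace _ e]
  simp only [Matrix.trace, Matrix.diag, LinearMap.toMatrix_apply]
  rw [AddSubmonoidClass.coe_finsetSum, map_sum]
  refine Finset.sum_congr rfl fun i _ => ?_
  suffices h : G' (b i) = ∑ l, algebraMap k K ((e.repr (G (e i)) l : ↥(⊥ : Subfield k)) : k) • b l by
    rw [h, b.repr_sum_self]
  apply Subtype.ext
  rw [← hG]
  have h1 := congrArg Subtype.val (e.sum_repr (G (e i)))
  simp only [AddSubmonoidClass.coe_finsetSum, SetLike.val_smul] at h1 ⊢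
  rw [← h1]
  refine Finset.sum_congr rfl fun l _ => ?_
  rw [IsScalarTower.algebraMap_smul, hbe]
  rfl

end Groth.DescentBase.PLinTrace
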