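import Groth.Agent.DescentBase.IntDescentSh
import Groth.Agent.EtaleShriek.BCSets

/-!
Effective descent of etale sheaves of sets along proper surjective morphisms.
-/

set_option autoImplicit false
set_option backward.isDefEq.respectTransparency.types false

universe u

open CategoryTheory CategoryTheory.Limits AlgebraicGeometry Opposite

namespace Groth.DescentBase.ProperDescent

open Groth.EtaleBase (pushLift fiberPoint)
open Groth.DescentBase.UnivSubm (pt pt_germ pt_naturality pt_pullVia pt_canIso pt_hom_inv pt_inv_hom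
  iso_hom_inv iso_inv_hom)
open Groth.DescentBase.IntDescent (ev ev_germ ev_map ev_unit ev_congr ev_comp ev_baseChange0 transport
  pt_transport transport_pullVia transport_trans transport_self d₁ d₂ ev_d₁ ev_d₂ descSh descHom
  stalk_descHom descSh_condition hom_ext_stalks)

variable {A B Y : Scheme.{u}}

section acl

variable {Ω : Type u} [Field Ω] [IsAlgClosed Ω] {η : Spec (CommRingCat.of Ω) ⟶ Y}

/-- The values at the points over the geometric point determine an element of the stalk. -/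
theorem ev_ext (a : A ⟶ Y) [IsProper a] (G : EtDesc.Sh A)
    {x y : (shStalk η).obj ((EtDesc.pushSh a).obj G)}
    (h : ∀ (ξ : Spec (CommRingCat.of Ω) ⟶ A) (hξ : ξ ≫ a = η), ev a ξ hξ G x = ev a ξ hξ G y) :
    x = y := by
  obtain ⟨V₁, s₁, σ₁, rfl⟩ := shGerm_surjective _ _ x
  obtain ⟨V₂, s₂, σ₂, rfl⟩ := shGerm_surjective _ _ y
  exact Groth.EtaleShriek.BCSets.shGerm_push_eq a η G V₁ V₂ s₁ s₂ σ₁ σ₂ fun ξ hξ =>
    (ev_germ a ξ hξ G V₁ s₁ σ₁).symm.trans ((h ξ hξ).trans (ev_germ a ξ hξ G V₂ s₂ σ₂))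

/-- A section on the fibre comes from the stalk of the direct image. -/
theorem exists_ev_eq (b : B ⟶ Y) [IsProper b] {Z : Scheme.{u}} (pr : Z ⟶ B)
    (q : Z ⟶ Spec (CommRingCat.of Ω)) (η : Spec (CommRingCat.of Ω) ⟶ Y)
    (hsq : IsPullback pr q b η) (G : EtDesc.Sh B)
    (β : (shStalk (𝟙 _)).obj ((EtDesc.pushSh q).obj ((EtDesc.pullSh pr).obj G))) :
    ∃ x : (shStalk η).obj ((EtDesc.pushSh b).obj G), ∀ (ζ : Spec (CommRingCat.of Ω) ⟶ Z)
      (hq : ζ ≫ q = 𝟙 _) (h : (ζ ≫ pr) ≫ b = η),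
      (pt pr G ζ rfl).hom (ev b (ζ ≫ pr) h G x) = ev q ζ hq ((EtDesc.pullSh pr).obj G) β := by
  suffices ∀ η' (_ : 𝟙 _ ≫ η = η'), ∃ x : (shStalk η').obj ((EtDesc.pushSh b).obj G),
      ∀ (ζ : Spec (CommRingCat.of Ω) ⟶ Z) (hq : ζ ≫ q = 𝟙 _) (h : (ζ ≫ pr) ≫ b = η'),
      (pt pr G ζ rfl).hom (ev b (ζ ≫ pr) h G x) = ev q ζ hq ((EtDesc.pullSh pr).obj G) β from
    this η (Category.id_comp η)
  rintro η' rfl
  obtain ⟨y', hy'⟩ := Groth.EtaleShriek.BCSets.surjective_stalk b η q pr hsq G (𝟙 _) β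
  obtain ⟨y, rfl⟩ : ∃ y, (shStalkPullIso η (𝟙 _)).hom.app ((EtDesc.pushSh b).obj G) y = y' :=
    ⟨_, iso_inv_hom ((shStalkPullIso η (𝟙 _)).app ((EtDesc.pushSh b).obj G)) y'⟩
  refine ⟨y, fun ζ hq h => ?_⟩
  refine Eq.trans ?_ (congrArg (ev q ζ hq ((EtDesc.pullSh pr).obj G)) hy')
  refine Eq.trans ?_ (ev_baseChange0 b pr q η hsq G ζ hq h y).symm
  simp only [pt, eqToIso_refl, Iso.refl_trans, Iso.app_hom]

end acl

variable {X' X : Scheme.{u}} (f : X' ⟶ X) {F' : EtDesc.Sh X'}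
  {φ : (EtDesc.pullSh (pullback.fst f f)).obj F' ≅ (EtDesc.pullSh (pullback.snd f f)).obj F'}

theorem bijective_stalk_descHom [IsProper f] (hφ : EtDesc.IsCocycle F' φ) {Ω : Type u} [Field Ω]
    [IsAlgClosed Ω] (ξ : Spec (CommRingCat.of Ω) ⟶ X') :
    Function.Bijective ((shStalk ξ).map (descHom f F' φ)) := by
  let ι := equalizer.ι (d₁ f F' φ) (d₂ f F')
  constructor
  · intro p q e
    obtain ⟨z, rfl⟩ : ∃ z, (pt f (descSh f F' φ) ξ rfl).hom z = p := ⟨_, pt_inv_hom f _ ξ rfl p⟩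
    obtain ⟨w, rfl⟩ : ∃ w, (pt f (descSh f F' φ) ξ rfl).hom w = q := ⟨_, pt_inv_hom f _ ξ rfl q⟩
    rw [stalk_descHom, stalk_descHom] at e
    refine congrArg _ ((mono_iff_stalks ι).1 inferInstance _ _ (ev_ext f F' fun ξ' h' => ?_))
    let ζ : Spec (CommRingCat.of Ω) ⟶ pullback f f := pullback.lift ξ ξ' h'.symm
    have e₁ : ζ ≫ pullback.fst f f = ξ := pullback.lift_fst _ _ _
    have e₂ : ζ ≫ pullback.snd f f = ξ' := pullback.lift_snd _ _ _
    apply (pt (pullback.snd f f) F' ζ e₂).toEquiv.injective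
    exact (descSh_condition f F' φ ζ ξ ξ' e₁ e₂ rfl h' z).symm.trans
      ((congrArg (fun c => (shStalk ζ).map φ.hom ((pt (pullback.fst f f) F' ζ e₁).hom c)) e).trans
        (descSh_condition f F' φ ζ ξ ξ' e₁ e₂ rfl h' w))
  · intro g
    let η := ξ ≫ f
    let pr := pullback.fst f η
    let q := pullback.snd f η
    let v : pullback f η ⟶ pullback f f := pullback.lift (q ≫ ξ) pr
      (by rw [Category.assoc]; exact pullback.condition.symm)
    have v₁ : v ≫ pullback.fst f f = q ≫ ξ := pullback.lift_fst _ _ _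
    have v₂ : v ≫ pullback.snd f f = pr := pullback.lift_snd _ _ _
    let M : (EtDesc.pullSh q).obj ((EtDesc.pullSh ξ).obj F') ⟶ (EtDesc.pullSh pr).obj F' :=
      (EtDesc.pullVia q ξ (q ≫ ξ) rfl F').hom ≫
        ((EtDesc.pullVia v (pullback.fst f f) (q ≫ ξ) v₁ F').symm ≪≫
          (EtDesc.pullSh v).mapIso φ ≪≫ EtDesc.pullVia v (pullback.snd f f) pr v₂ F').hom
    let g' := (pt ξ F' (𝟙 _) (Category.id_comp ξ)).hom g
    let β := (shStalk (𝟙 _)).map ((EtDesc.pushSh q).map M)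
      ((shStalk (𝟙 _)).map ((EtDesc.adjSh q).unit.app ((EtDesc.pullSh ξ).obj F')) g')
    obtain ⟨x, hx⟩ := exists_ev_eq f pr q η (IsPullback.of_hasPullback f η) F' β
    have hval : ∀ (ξ' : Spec (CommRingCat.of Ω) ⟶ X') (h' : ξ' ≫ f = η),
        ev f ξ' h' F' x = (transport f F' φ ξ ξ' h'.symm).hom g := by
      intro ξ' h'
      let ζ : Spec (CommRingCat.of Ω) ⟶ pullback f η :=
        pullback.lift ξ' (𝟙 _) (h'.trans (Category.id_comp η).symm)
      have hq : ζ ≫ q = 𝟙 _ := pullback.lift_snd _ _ _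
      have hpr : ζ ≫ pr = ξ' := pullback.lift_fst _ _ _
      have hξ : ζ ≫ q ≫ ξ = ξ :=
        (Category.assoc _ _ _).symm.trans ((congrArg (· ≫ ξ) hq).trans (Category.id_comp ξ))
      have key : ev q ζ hq _ β = (pt pr F' ζ hpr).hom ((transport f F' φ ξ ξ' h'.symm).hom g) := by
        refine (ev_map q ζ hq M _).trans ?_
        refine (congrArg ((shStalk ζ).map M) (ev_unit q ζ hq _ g')).trans ?_
        rw [Functor.map_comp, ConcreteCategory.comp_apply,
          pt_pullVia q ξ (q ≫ ξ) rfl F' ζ (𝟙 _) hξ hq (Category.id_comp ξ) g]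
        exact transport_pullVia f F' φ v (q ≫ ξ) pr v₁ v₂ ζ ξ ξ' hξ hpr h'.symm g
      have gen : ∀ (η₁ : Spec (CommRingCat.of Ω) ⟶ X') (e : ζ ≫ pr = η₁) (h₁ : η₁ ≫ f = η),
          (pt pr F' ζ e).hom (ev f η₁ h₁ F' x) = ev q ζ hq _ β := by
        rintro η₁ rfl h₁
        exact hx ζ hq h₁
      exact (pt pr F' ζ hpr).toEquiv.injective ((gen ξ' hpr h').trans key)
    have hd : (shStalk η).map (d₁ f F' φ) x = (shStalk η).map (d₂ f F') x := by
      refine ev_ext (pullback.fst f f ≫ f) _ fun ζ h => ?_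
      let ξ₁ := ζ ≫ pullback.fst f f
      let ξ₂ := ζ ≫ pullback.snd f f
      have h₁ : ξ₁ ≫ f = η := (Category.assoc _ _ _).trans h
      have h₂ : ξ₂ ≫ f = η :=
        (Category.assoc _ _ _).trans ((congrArg (ζ ≫ ·) pullback.condition.symm).trans h)
      rw [ev_d₁ f F' φ ζ ξ₁ rfl h₁ h, ev_d₂ f F' ζ ξ₂ rfl h₂ h, hval ξ₁ h₁, hval ξ₂ h₂,
        pt_transport f F' φ ζ ξ₁ ξ₂ rfl rfl (h₁.trans h₂.symm), transport_trans f hφ]
    obtain ⟨z, hz⟩ : ∃ z, (shStalk η).map ι z = x := by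
      have hl := isLimitForkMapOfIsLimit (shStalk η) _ (equalizerIsEqualizer (d₁ f F' φ) (d₂ f F'))
      obtain ⟨m, hm⟩ := Fork.IsLimit.lift' hl (↾ fun _ : PUnit.{u + 2} => x)
        (by ext; exact hd)
      exact ⟨m PUnit.unit, ConcreteCategory.congr_hom hm PUnit.unit⟩
    refine ⟨(pt f (descSh f F' φ) ξ rfl).hom z, ?_⟩
    rw [stalk_descHom, hz, hval]
    exact transport_self f hφ ξ g

/-- Proper morphisms are of effective descent for etale sheaves of sets. -/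
theorem effective [IsProper f] (hφ : EtDesc.IsCocycle F' φ) : EtDesc.IsEffective f F' φ := by
  have : IsIso (descHom f F' φ) :=
    isIso_of_acPoints _ fun x => bijective_stalk_descHom f hφ (acPoint x)
  refine ⟨descSh f F' φ, asIso (descHom f F' φ), ?_⟩
  apply Iso.ext
  simp only [Iso.trans_hom, Iso.symm_hom, Functor.mapIso_inv, Functor.mapIso_hom, asIso_hom, asIso_inv]
  rw [Functor.map_inv, IsIso.inv_comp_eq]
  refine hom_ext_stalks fun Ω _ _ ζ c => ?_
  obtain ⟨a, rfl⟩ : ∃ a, (pt (pullback.fst f f) ((EtDesc.pullSh f).obj (descSh f F' φ)) ζ rfl).hom a = c :=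
    ⟨_, pt_inv_hom _ _ ζ rfl c⟩
  obtain ⟨z, rfl⟩ : ∃ z, (pt f (descSh f F' φ) (ζ ≫ pullback.fst f f) rfl).hom z = a :=
    ⟨_, pt_inv_hom _ _ _ rfl a⟩
  have h₂ : (ζ ≫ pullback.snd f f) ≫ f = (ζ ≫ pullback.fst f f) ≫ f := by
    simp only [Category.assoc, pullback.condition]
  simp only [Functor.map_comp, ConcreteCategory.comp_apply]
  rw [pt_canIso f (descSh f F' φ) ζ _ (ζ ≫ pullback.snd f f) rfl rfl rfl h₂,
    pt_naturality, pt_naturality, stalk_descHom, stalk_descHom]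
  exact (descSh_condition f F' φ ζ _ _ rfl rfl rfl h₂ z).symm

end Groth.DescentBase.ProperDescent
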