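import Groth.Agent.DescentBase.PushShInt
import Groth.Agent.EtaleBase.PushStalkFinite
import Mathlib.CategoryTheory.Limits.FunctorCategory.Shapes.Products

/-!
Stalks of direct images of sheaves of sets along finite morphisms.
-/

set_option autoImplicit false
set_option backward.isDefEq.respectTransparency.types false

universe u

open CategoryTheory CategoryTheory.Limits AlgebraicGeometry Opposite

namespace Groth.DescentBase

open Groth.EtaleBase (openObj openHom fiberPoint pushLift exists_lift_point fibreSection fibreSection_fst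
  fibreSection_snd fibreSection_injective finite_lifts locallyQuasiFinite_discreteTopology
  isSepClosed_residueField_of_isAlgClosed exists_splitting exists_descend 
  )

variable {X Y : Scheme.{u}} (f : X ⟶ Y) {Ω : Type u} [Field Ω] [IsAlgClosed Ω]
  (η : Spec (CommRingCat.of Ω) ⟶ Y) [IsFinite f]

set_option backward.isDefEq.respectTransparency.types false in
/-- Prescribed values at the finitely many points over `η` are attained. -/
lemma exists_germ_push_values (F : EtDesc.Sh X)
    (c : ∀ ξ : {ξ : Spec (CommRingCat.of Ω) ⟶ X // ξ ≫ f = η}, (shStalk ξ.1).obj F) :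
    ∃ (V : Y.Etale) (s : (Scheme.pointSmallEtale η).fiber.obj V)
      (σ : F.obj.obj (op ((EtCoh.bc f).obj V))),
      ∀ ξ : {ξ : Spec (CommRingCat.of Ω) ⟶ X // ξ ≫ f = η},
        shGerm ξ.1 F ((EtCoh.bc f).obj V) (pushLift f ξ.1 ξ.2 V s) σ = c ξ := by
  classical
  choose U l τ hτ using fun ξ : {ξ : Spec (CommRingCat.of Ω) ⟶ X // ξ ≫ f = η} =>
    shGerm_surjective ξ.1 F (c ξ)
  let P := pullback f η
  let q₀ : P ⟶ Spec (CommRingCat.of Ω) := pullback.snd f η
  have hfin : IsFinite q₀ := MorphismProperty.pullback_snd _ _ ‹IsFinite f›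
  have : Subsingleton (Spec (CommRingCat.of Ω)) :=
    inferInstanceAs (Subsingleton (PrimeSpectrum Ω))
  have := isSepClosed_residueField_of_isAlgClosed (Ω := Ω)
  -- the points of the fibre
  have hpt : ∀ z : P, ∃ ξ, (fibreSection f η ξ).base (IsLocalRing.closedPoint Ω) = z := fun z => by
    obtain ⟨σ, hσ, hz⟩ := exists_lift_point q₀ (𝟙 _) z (Subsingleton.elim _ _)
    refine ⟨⟨σ ≫ pullback.fst f η, by
      rw [Category.assoc, pullback.condition, reassoc_of% hσ]⟩, ?_⟩
    rw [show fibreSection f η ⟨σ ≫ pullback.fst f η, _⟩ = σ from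
      pullback.hom_ext (fibreSection_fst f η _) ((fibreSection_snd f η _).trans hσ.symm)]
    exact (congrArg σ.base (Subsingleton.elim _ _)).trans hz
  choose pt hpt using hpt
  have hptinv : ∀ ξ, pt ((fibreSection f η ξ).base (IsLocalRing.closedPoint Ω)) = ξ :=
    fun ξ => fibreSection_injective f η (hpt _)
  -- one-point étale pieces over the points of the fibre
  let e : ∀ z : P, Spec (CommRingCat.of Ω) ⟶ pullback (U (pt z)).hom (pullback.fst f η) := fun z =>
    pullback.lift (l (pt z)).left (fibreSection f η (pt z))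
      ((Over.w (l (pt z))).trans (fibreSection_fst f η (pt z)).symm)
  have hdisc : ∀ z : P, DiscreteTopology ↥(pullback (U (pt z)).hom (pullback.fst f η)) := fun z => by
    have : Etale (pullback.snd (U (pt z)).hom (pullback.fst f η)) :=
      inferInstanceAs (Etale (pullback.snd (U (pt z)).hom _))
    exact locallyQuasiFinite_discreteTopology (pullback.snd (U (pt z)).hom (pullback.fst f η) ≫ q₀)
  let O : ∀ z : P, (pullback (U (pt z)).hom (pullback.fst f η)).Opens := fun z =>
    ⟨{(e z).base (IsLocalRing.closedPoint Ω)}, @isOpen_discrete _ _ (hdisc z) _⟩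
  let g : ∀ z, (O z : Scheme.{u}) ⟶ P := fun z => (O z).ι ≫ pullback.snd _ _
  have hg0 : ∀ z (a : (O z : Scheme.{u})), (g z).base a = z := fun z a => by
    obtain ⟨a, rfl : a = (e z).base (IsLocalRing.closedPoint Ω)⟩ := a
    show (pullback.snd (U (pt z)).hom (pullback.fst f η)).base ((e z).base _) = z
    rw [← Scheme.Hom.comp_apply, pullback.lift_snd, hpt]
  obtain ⟨W, h, -, hsup, hW⟩ := exists_splitting q₀ (fun z => (O z : Scheme.{u})) g
    (fun z => by
      have : Etale (pullback.snd (U (pt z)).hom (pullback.fst f η)) :=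
        inferInstanceAs (Etale (pullback.snd (U (pt z)).hom _))
      exact (inferInstance : Etale ((O z).ι ≫ pullback.snd (U (pt z)).hom (pullback.fst f η))))
    (fun z => ⟨z, ⟨⟨_, rfl⟩, hg0 z _⟩⟩)
  -- the glued morphism
  let Uh : (∐ fun z : P => (U (pt z)).left) ⟶ X := Sigma.desc fun z : P => (U (pt z)).hom
  have : Etale Uh := IsZariskiLocalAtSource.sigmaDesc fun z => (inferInstance : Etale (U (pt z)).hom)
  let Ut : X.Etale := Scheme.Etale.mk Uh
  let uT : ∀ z : P, U (pt z) ⟶ Ut := fun z =>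
    MorphismProperty.Over.homMk (Sigma.ι (fun z : P => (U (pt z)).left) z)
      (Sigma.ι_desc (fun z : P => (U (pt z)).hom) z)
  obtain ⟨τt, hτt⟩ : ∃ τt : F.obj.obj (op Ut), ∀ z, F.obj.map (uT z).op τt = τ (pt z) := by
    let Oi : P → Ut.left.Opens := fun z => (Sigma.ι (fun z : P => (U (pt z)).left) z).opensRange
    let u : ∀ z, openObj Ut (Oi z) ⟶ U (pt z) := fun z =>
      MorphismProperty.Over.homMk (Sigma.ι (fun z : P => (U (pt z)).left) z).isoOpensRange.inv (by
        rw [Iso.inv_comp_eq]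
        show (U (pt z)).hom = (Sigma.ι (fun z : P => (U (pt z)).left) z).isoOpensRange.hom ≫
          (Oi z).ι ≫ Uh
        exact ((Category.assoc _ _ _).symm.trans ((congrArg (· ≫ Uh)
          (Scheme.Hom.isoOpensRange_hom_ι _)).trans (Sigma.ι_desc _ _))).symm)
    obtain ⟨τt, hτt⟩ := exists_glue_disjoint' Ut Oi
      (fun a b hab => disjoint_opensRange_sigmaι (fun z : P => (U (pt z)).left) a b hab)
      (eq_top_iff.2 fun x _ => by
        obtain ⟨z, a, ha⟩ := (sigmaOpenCover fun z : P => (U (pt z)).left).exists_eq x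
        exact TopologicalSpace.Opens.mem_iSup.2 ⟨z, a, ha⟩)
      F fun z => F.obj.map (u z).op (τ (pt z))
    refine ⟨τt, fun z => ?_⟩
    let ι' : U (pt z) ⟶ openObj Ut (Oi z) :=
      MorphismProperty.Over.homMk (Sigma.ι (fun z : P => (U (pt z)).left) z).isoOpensRange.hom
        ((Category.assoc _ _ _).symm.trans ((congrArg (· ≫ Uh)
          (Scheme.Hom.isoOpensRange_hom_ι _)).trans (Sigma.ι_desc _ _)))
    have e1 : ι' ≫ openHom Ut (Oi z) = uT z :=
      MorphismProperty.Over.Hom.ext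
        (Scheme.Hom.isoOpensRange_hom_ι (Sigma.ι (fun z : P => (U (pt z)).left) z))
    have e2 : ι' ≫ u z = 𝟙 _ := MorphismProperty.Over.Hom.ext (Iso.hom_inv_id _)
    rw [← e1, op_comp, Functor.map_comp, ConcreteCategory.comp_apply, hτt,
      ← ConcreteCategory.comp_apply, ← Functor.map_comp, ← op_comp, e2, op_id,
      CategoryTheory.Functor.map_id]
    rfl
  have hWeq : ∀ z : P, z ∈ W z := fun z => by
    obtain ⟨a, ha⟩ := TopologicalSpace.Opens.mem_iSup.1 (hsup.symm ▸ TopologicalSpace.Opens.mem_top z)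
    have h1 : (g a).base ((h a).base ⟨z, ha⟩) = z := by
      rw [← Scheme.Hom.comp_apply, hW]
      rfl
    rw [hg0] at h1
    exact h1 ▸ ha
  let m : (∐ fun z : P => (W z : Scheme.{u})) ⟶ Ut.left :=
    Sigma.desc fun z => ((h z ≫ (O z).ι) ≫ pullback.fst (U (pt z)).hom (pullback.fst f η)) ≫
      Sigma.ι (fun z : P => (U (pt z)).left) z
  have : IsIso (Sigma.desc fun z : P => (W z).ι) := by
    have hdj : Pairwise (Function.onFun Disjoint fun z => (W z).ι.opensRange) := fun a b hab => by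
      simp only [Function.onFun, Scheme.Opens.opensRange_ι]
      rw [disjoint_iff, eq_bot_iff]
      intro x hx
      have ha : (g a).base ((h a).base ⟨x, hx.1⟩) = x := by rw [← Scheme.Hom.comp_apply, hW]; rfl
      have hb : (g b).base ((h b).base ⟨x, hx.2⟩) = x := by rw [← Scheme.Hom.comp_apply, hW]; rfl
      rw [hg0] at ha hb
      exact hab (ha.trans hb.symm)
    obtain ⟨hc⟩ := nonempty_isColimit_cofanMk_of (fun z : P => (W z).ι)
      (by simpa only [Scheme.Opens.opensRange_ι] using hsup) hdj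
    exact (Cofan.nonempty_isColimit_iff_isIso_sigmaDesc (Cofan.mk _ fun z : P => (W z).ι)).1 ⟨hc⟩
  let q : P ⟶ Ut.left := inv (Sigma.desc fun z : P => (W z).ι) ≫ m
  have hq : q ≫ Uh = pullback.fst f η := by
    rw [Category.assoc, IsIso.inv_comp_eq]
    refine Sigma.hom_ext _ _ fun z => ?_
    simp only [m, Uh, Sigma.ι_desc_assoc, Category.assoc]
    rw [← hW z]
    simp only [g, Category.assoc]
    exact congrArg (fun k => h z ≫ (O z).ι ≫ k)
      ((congrArg (pullback.fst (U (pt z)).hom (pullback.fst f η) ≫ ·)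
        (Sigma.ι_desc (fun z : P => (U (pt z)).hom) z)).trans pullback.condition)
  obtain ⟨V₀, v, hv, k, tV, hk, htV, hagree⟩ :=
    exists_descend f Uh η η (𝟙 _) (Category.id_comp η) q hq
  let V : Y.Etale := Scheme.Etale.mk v
  let hU : (EtCoh.bc f).obj V ⟶ Ut :=
    MorphismProperty.Over.homMk ((pullbackSymmetry v f).hom ≫ k)
      ((Category.assoc _ _ _).trans
        ((congrArg ((pullbackSymmetry v f).hom ≫ ·) hk).trans (pullbackSymmetry_hom_comp_fst v f)))
  let t : (Scheme.pointSmallEtale η).fiber.obj V := Over.homMk tV htV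
  refine ⟨V, t, F.obj.map hU.op τt, fun ξ => ?_⟩
  set z := (fibreSection f η ξ).base (IsLocalRing.closedPoint Ω) with hz
  have hξ : pt z = ξ := hptinv ξ
  -- compute the lift
  have hr : Set.range (fibreSection f η ξ).base ⊆ Set.range (W z).ι.base := by
    rintro _ ⟨a, rfl⟩
    rw [Scheme.Opens.range_ι, Subsingleton.elim a (IsLocalRing.closedPoint Ω)]
    exact hWeq z
  let σw := IsOpenImmersion.lift (W z).ι (fibreSection f η ξ) hr
  have hσw : σw ≫ (W z).ι = fibreSection f η ξ := IsOpenImmersion.lift_fac _ _ _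
  have hz' : fibreSection f η (pt z) = fibreSection f η ξ := by rw [hξ]
  have he : σw ≫ h z ≫ (O z).ι = e z := by
    have : Etale (pullback.snd (U (pt z)).hom (pullback.fst f η)) :=
      inferInstanceAs (Etale (pullback.snd (U (pt z)).hom _))
    refine ext_of_apply_closedPoint_eq (pullback.snd (U (pt z)).hom (pullback.fst f η) ≫ q₀) ?_ ?_ ?_
    · have h2 : h z ≫ (O z).ι ≫ pullback.snd (U (pt z)).hom (pullback.fst f η) = (W z).ι := hW z
      simp only [Category.assoc]
      rw [reassoc_of% h2, reassoc_of% hσw]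
      exact fibreSection_snd f η ξ
    · rw [← Category.assoc, pullback.lift_snd]
      exact fibreSection_snd f η _
    · exact ((h z).base (σw.base (IsLocalRing.closedPoint Ω))).2
  have hfib : (Scheme.pointSmallEtale ξ.1).fiber.map hU (pushLift f ξ.1 ξ.2 V t) =
      (Scheme.pointSmallEtale ξ.1).fiber.map (uT z)
        (Over.homMk (l (pt z)).left ((Over.w (l (pt z))).trans (congrArg Subtype.val hξ))) := by
    refine Over.OverMorphism.ext ?_
    have key := hagree ((pushLift f ξ.1 ξ.2 V t).left ≫ (pullbackSymmetry v f).hom)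
      (fibreSection f η ξ)
      (((Category.assoc _ _ _).trans ((congrArg (_ ≫ ·) (pullbackSymmetry_hom_comp_fst v f)).trans
        (pullback.lift_snd _ _ _))).trans (fibreSection_fst f η ξ).symm)
      ((Category.assoc _ _ _).trans ((congrArg (_ ≫ ·) (pullbackSymmetry_hom_comp_snd v f)).trans
        (pullback.lift_fst _ _ _)))
      (fibreSection_snd f η ξ)
    refine ((Category.assoc _ _ _).symm.trans key).trans ?_
    have hi : fibreSection f η ξ ≫ inv (Sigma.desc fun z : P => (W z).ι) =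
        σw ≫ Sigma.ι (fun z : P => (W z : Scheme.{u})) z := by
      rw [IsIso.comp_inv_eq, Category.assoc, Sigma.ι_desc, hσw]
    show fibreSection f η ξ ≫ inv _ ≫ m = _
    rw [reassoc_of% hi, Sigma.ι_desc]
    refine ((Category.assoc _ _ _).symm.trans (congrArg (· ≫ Sigma.ι (fun z : P => (U (pt z)).left) z) ?_))
    rw [← Category.assoc, he]
    exact pullback.lift_fst _ _ _
  refine ((Scheme.pointSmallEtale ξ.1).toPresheafFiber_w_apply hU _ F.obj τt).trans ?_
  rw [hfib]
  refine ((Scheme.pointSmallEtale ξ.1).toPresheafFiber_w_apply (uT z) _ F.obj τt).symm.trans ?_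
  rw [hτt]
  clear_value z
  subst hξ
  exact hτ (pt z)


/-- Evaluation at a point over the geometric point, as a natural transformation. -/
noncomputable def evNat (ξ : {ξ : Spec (CommRingCat.of Ω) ⟶ X // ξ ≫ f = η}) :
    EtDesc.pushSh f ⋙ shStalk η ⟶ shStalk ξ.1 where
  app F := eqToHom (congrArg (fun a => (shStalk a).obj ((EtDesc.pushSh f).obj F)) ξ.2.symm) ≫
    shEvPush f ξ.1 F
  naturality F G φ := by
    obtain ⟨ξ, rfl⟩ := ξ
    simp only [eqToHom_refl, Category.id_comp]
    ext a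
    obtain ⟨V, s, σ, rfl⟩ := shGerm_surjective (ξ ≫ f) _ a
    show shEvPush f ξ G ((shStalk (ξ ≫ f)).map ((EtDesc.pushSh f).map φ) (shGerm _ _ V s σ)) =
      (shStalk ξ).map φ (shEvPush f ξ F (shGerm (ξ ≫ f) ((EtDesc.pushSh f).obj F) V s σ))
    rw [shGerm_map, shEvPush_germ, shEvPush_germ, shGerm_map]
    rfl

omit [IsFinite f] in
theorem evNat_germ (ξ : {ξ : Spec (CommRingCat.of Ω) ⟶ X // ξ ≫ f = η}) (F : EtDesc.Sh X)
    (V : Y.Etale) (s : (Scheme.pointSmallEtale η).fiber.obj V)
    (σ : F.obj.obj (op ((EtCoh.bc f).obj V))) :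
    (evNat f η ξ).app F (shGerm η ((EtDesc.pushSh f).obj F) V s σ) =
      shGerm ξ.1 F _ (pushLift f ξ.1 ξ.2 V s) σ := by
  obtain ⟨ξ, rfl⟩ := ξ
  exact shEvPush_germ f ξ F V s σ

/-- The stalk of a direct image along a finite morphism is the product of the stalks. -/
theorem nonempty_pushSh_fiber_iso :
    Nonempty (EtDesc.pushSh f ⋙ shStalk η ≅
      ∏ᶜ fun ξ : {ξ : Spec (CommRingCat.of Ω) ⟶ X // ξ ≫ f = η} => shStalk ξ.1) := by
  let e := Pi.lift (evNat f η)
  suffices IsIso e from ⟨asIso e⟩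
  refine (NatTrans.isIso_iff_isIso_app e).2 fun F => (isIso_iff_bijective _).2 ?_
  have hπ : ∀ ξ a, (Pi.π (fun ξ : {ξ : Spec (CommRingCat.of Ω) ⟶ X // ξ ≫ f = η} => shStalk ξ.1) ξ).app F
      (e.app F a) = (evNat f η ξ).app F a := fun ξ a => by
    rw [← ConcreteCategory.comp_apply, ← NatTrans.comp_app, Pi.lift_π]
  let p := piObjIso (fun ξ : {ξ : Spec (CommRingCat.of Ω) ⟶ X // ξ ≫ f = η} => shStalk ξ.1) F
  let q : (∏ᶜ fun ξ : {ξ : Spec (CommRingCat.of Ω) ⟶ X // ξ ≫ f = η} => shStalk ξ.1).obj F ≃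
      ∀ ξ : {ξ : Spec (CommRingCat.of Ω) ⟶ X // ξ ≫ f = η}, (shStalk ξ.1).obj F :=
    p.toEquiv.trans (Types.productIso.{u, u + 1} _).toEquiv
  have hq : ∀ x ξ, q x ξ = (Pi.π (fun ξ : {ξ : Spec (CommRingCat.of Ω) ⟶ X // ξ ≫ f = η} =>
      shStalk ξ.1) ξ).app F x := fun x ξ => by
    rw [← piObjIso_hom_comp_π]
    exact congrArg (fun k => k (p.hom x)) (Types.productIso_hom_comp_eval.{u, u + 1} _ ξ)
  constructor
  · intro a b hab
    obtain ⟨V₁, s₁, σ₁, rfl⟩ := shGerm_surjective η _ a
    obtain ⟨V₂, s₂, σ₂, rfl⟩ := shGerm_surjective η _ b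
    refine shGerm_push_eq f η F V₁ V₂ s₁ s₂ σ₁ σ₂ fun ξ h => ?_
    have := congrArg ((Pi.π (fun ξ : {ξ : Spec (CommRingCat.of Ω) ⟶ X // ξ ≫ f = η} => shStalk ξ.1)
      ⟨ξ, h⟩).app F) hab
    erw [hπ, hπ, evNat_germ, evNat_germ] at this
    exact this
  · intro x
    obtain ⟨V, s, σ, hσ⟩ := exists_germ_push_values f η F (q x)
    refine ⟨shGerm η _ V s σ, q.injective (funext fun ξ => ?_)⟩
    rw [hq, hπ, evNat_germ, hσ]

end Groth.DescentBase
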