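import Groth.Agent.DescentBase.PushPullValues

/-!
Values of `a_* a^* F` at geometric points: injectivity and functions along morphisms of fibres.
-/

set_option autoImplicit false
set_option backward.isDefEq.respectTransparency.types false

universe u

open CategoryTheory CategoryTheory.Limits AlgebraicGeometry Opposite

namespace Groth.DescentBase.PushPull

open Groth.EtaleBase

variable {Y A B C : Scheme.{u}} (F : EtCoh.Ab Y)
variable {Ω : Type u} [Field Ω] [IsSepClosed Ω] {η : Spec (CommRingCat.of Ω) ⟶ Y}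

/-- Evaluation of the stalk of a direct image at a point over the geometric point. -/
noncomputable def ev (a : A ⟶ Y) (ξ : Spec (CommRingCat.of Ω) ⟶ A) (h : ξ ≫ a = η)
    (G : EtCoh.Ab A) : (EtCoh.stalk η).obj ((EtCoh.push a).obj G) ⟶ (EtCoh.stalk ξ).obj G :=
  eqToHom (congrArg (fun e => (EtCoh.stalk e).obj ((EtCoh.push a).obj G)) h.symm) ≫ evPush a ξ G

lemma ev_germ (a : A ⟶ Y) (ξ : Spec (CommRingCat.of Ω) ⟶ A) (h : ξ ≫ a = η) (G : EtCoh.Ab A)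
    (V : Y.Etale) (s : (Scheme.pointSmallEtale η).fiber.obj V)
    (σ : G.obj.obj (op ((EtCoh.bc a).obj V))) :
    ev a ξ h G (germ η ((EtCoh.push a).obj G) V s σ) = germ ξ G _ (pushLift a ξ h V s) σ := by
  subst h
  rw [← evPush_germ]
  simp only [ev, eqToHom_refl, Category.id_comp]

lemma ev_map (a : A ⟶ Y) (ξ : Spec (CommRingCat.of Ω) ⟶ A) (h : ξ ≫ a = η) {G G' : EtCoh.Ab A}
    (φ : G ⟶ G') (x : (EtCoh.stalk η).obj ((EtCoh.push a).obj G)) :
    ev a ξ h G' ((EtCoh.stalk η).map ((EtCoh.push a).map φ) x) =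
      (EtCoh.stalk ξ).map φ (ev a ξ h G x) := by
  obtain ⟨V, s, σ, rfl⟩ := germ_surjective _ _ x
  erw [germ_map, ev_germ, ev_germ, germ_map]
  rfl

lemma ev_congr {a a' : A ⟶ Y} (e : a = a') (ξ : Spec (CommRingCat.of Ω) ⟶ A) (h : ξ ≫ a = η)
    (h' : ξ ≫ a' = η) (G : EtCoh.Ab A) (x : (EtCoh.stalk η).obj ((EtCoh.push a).obj G)) :
    ev a' ξ h' G ((EtCoh.stalk η).map ((EtCoh.pushCongr e).hom.app G) x) = ev a ξ h G x := by
  subst e
  have : (EtCoh.pushCongr (rfl : a = a)).hom.app G = 𝟙 _ := by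
    ext V : 3
    refine (pushCongr_hom_app rfl G V.unop).trans ?_
    have h1 : (MorphismProperty.Over.pullbackCongr (P := EtCoh.etaleMP) (Q := ⊤)
        (rfl : a = a)).inv.app V.unop = 𝟙 _ := by
      apply MorphismProperty.Over.Hom.ext
      simp [MorphismProperty.Over.pullbackCongr]
      rfl
    rw [h1]
    exact G.obj.map_id _
  rw [this, CategoryTheory.Functor.map_id]
  rfl

lemma ev_comp (b : B ⟶ Y) (g : A ⟶ B) (ξ : Spec (CommRingCat.of Ω) ⟶ A)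
    (ζ : Spec (CommRingCat.of Ω) ⟶ B) (h : ξ ≫ g ≫ b = η) (hg : ξ ≫ g = ζ) (hb : ζ ≫ b = η)
    (G : EtCoh.Ab A) (x : (EtCoh.stalk η).obj ((EtCoh.push b).obj ((EtCoh.push g).obj G))) :
    ev (g ≫ b) ξ h G ((EtCoh.stalk η).map ((EtCoh.pushComp b g).hom.app G) x) =
      ev g ξ hg G (ev b ζ hb _ x) := by
  subst hg
  subst h
  obtain ⟨V, s, σ, rfl⟩ := germ_surjective _ _ x
  refine (congrArg (ev (g ≫ b) ξ rfl G)
    (germ_map (ξ ≫ g ≫ b) ((EtCoh.pushComp b g).hom.app G) V s σ)).trans ?_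
  refine ((congrArg (fun τ => ev (g ≫ b) ξ rfl G (germ (ξ ≫ g ≫ b) _ V s τ))
    (ConcreteCategory.congr_hom (pushComp_hom_app b g G V) σ)).trans
    (ev_germ (g ≫ b) ξ rfl G V s _)).trans ?_
  refine Eq.trans ?_ ((congrArg (ev g ξ rfl G) (ev_germ b (ξ ≫ g) hb ((EtCoh.push g).obj G) V s σ)).trans
    (ev_germ g ξ rfl G ((EtCoh.bc b).obj V) (pushLift b (ξ ≫ g) hb V s) σ)).symm
  refine ((Scheme.pointSmallEtale ξ).toPresheafFiber_w_apply
    ((MorphismProperty.Over.pullbackComp (P := EtCoh.etaleMP) (Q := ⊤) g b).hom.app V) _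
    G.obj _).trans ?_
  exact congrArg (fun t => germ ξ G _ t σ) (pushLift_comp g b ξ V s)

/-- The stalk of `F` at the geometric point and of its inverse image at a point over it. -/
noncomputable def pt (a : A ⟶ Y) (ξ : Spec (CommRingCat.of Ω) ⟶ A) (h : ξ ≫ a = η) :
    (EtCoh.stalk η).obj F ≅ (EtCoh.stalk ξ).obj ((EtCoh.pull a).obj F) :=
  eqToIso (congrArg (fun e => (EtCoh.stalk e).obj F) h.symm) ≪≫ (stalkPullIso a ξ).app F

lemma pt_injective (a : A ⟶ Y) (ξ : Spec (CommRingCat.of Ω) ⟶ A) (h : ξ ≫ a = η) :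
    Function.Injective (pt F a ξ h).hom :=
  (ConcreteCategory.bijective_of_isIso (pt F a ξ h).hom).1

lemma pt_value (a : A ⟶ Y) (ξ : Spec (CommRingCat.of Ω) ⟶ A) (h : ξ ≫ a = η)
    (x : (EtCoh.stalk η).obj (P F a)) :
    (pt F a ξ h).hom (value F a ξ h x) = ev a ξ h ((EtCoh.pull a).obj F) x := by
  subst h
  simp only [pt, value, ev, eqToIso_refl, Iso.refl_trans, Iso.app_hom, eqToHom_refl,
    Category.id_comp, Category.comp_id]
  rw [← ConcreteCategory.comp_apply]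
  erw [Category.assoc, Iso.inv_hom_id_app]
  rfl

lemma pt_comp (g : A ⟶ B) (b : B ⟶ Y) (ξ : Spec (CommRingCat.of Ω) ⟶ A)
    (ζ : Spec (CommRingCat.of Ω) ⟶ B) (h : ξ ≫ g ≫ b = η) (hg : ξ ≫ g = ζ) (hb : ζ ≫ b = η)
    (z : (EtCoh.stalk η).obj F) :
    (EtCoh.stalk ξ).map ((EtCore.pullComp g b).hom.app F) ((pt F (g ≫ b) ξ h).hom z) =
      (pt ((EtCoh.pull b).obj F) g ξ hg).hom ((pt F b ζ hb).hom z) := by
  subst hg
  subst h
  simp only [pt, eqToIso_refl, Iso.refl_trans, Iso.app_hom]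
  erw [← stalkPullIso_comp F g b ξ z]
  rw [← ConcreteCategory.comp_apply ((EtCoh.stalk ξ).map _), ← Functor.map_comp,
    Iso.inv_hom_id_app, CategoryTheory.Functor.map_id]
  rfl

section acl

variable {Ω : Type u} [Field Ω] [IsAlgClosed Ω] {η : Spec (CommRingCat.of Ω) ⟶ Y}

lemma ev_eq_zero (a : A ⟶ Y) [IsIntegralHom a] (G : EtCoh.Ab A)
    (x : (EtCoh.stalk η).obj ((EtCoh.push a).obj G))
    (hx : ∀ (ξ : Spec (CommRingCat.of Ω) ⟶ A) (h : ξ ≫ a = η), ev a ξ h G x = 0) : x = 0 := by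
  obtain ⟨V, s, σ, rfl⟩ := germ_surjective _ _ x
  exact germ_push_eq_zero a η G V s σ fun ξ h => (ev_germ a ξ h G V s σ).symm.trans (hx ξ h)

/-- The values at the points over the geometric point determine an element of the stalk. -/
theorem value_ext (a : A ⟶ Y) [IsIntegralHom a] {x y : (EtCoh.stalk η).obj (P F a)}
    (h : ∀ (ξ : Spec (CommRingCat.of Ω) ⟶ A) (hξ : ξ ≫ a = η),
      value F a ξ hξ x = value F a ξ hξ y) : x = y := by
  rw [← sub_eq_zero]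
  refine ev_eq_zero a _ _ fun ξ hξ => ?_
  rw [← pt_value, map_sub, h, sub_self, map_zero]

lemma ev_baseChange0 (b : B ⟶ Y) {Z : Scheme.{u}} (pr : Z ⟶ B)
    (q : Z ⟶ Spec (CommRingCat.of Ω)) (η : Spec (CommRingCat.of Ω) ⟶ Y)
    (hsq : IsPullback pr q b η) (G : EtCoh.Ab B) (ζ : Spec (CommRingCat.of Ω) ⟶ Z)
    (hq : ζ ≫ q = 𝟙 _) (h : (ζ ≫ pr) ≫ b = 𝟙 _ ≫ η)
    (y : (EtCoh.stalk (𝟙 _ ≫ η)).obj ((EtCoh.push b).obj G)) :
    ev q ζ hq ((EtCoh.pull pr).obj G)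
        ((EtCoh.stalk (𝟙 _)).map (EtCoh.baseChange0 b η q pr hsq.w G)
          ((stalkPullIso η (𝟙 _)).hom.app ((EtCoh.push b).obj G) y)) =
      (stalkPullIso pr ζ).hom.app G (ev b (ζ ≫ pr) h G y) := by
  obtain ⟨V, s, σ, rfl⟩ := germ_surjective _ _ y
  refine (congrArg (ev q ζ hq ((EtCoh.pull pr).obj G))
    (stalk_baseChange0_germ b η q pr hsq G (𝟙 _) V s σ)).trans ?_
  refine (ev_germ q ζ hq ((EtCoh.pull pr).obj G) _ _ _).trans ?_
  refine (value_baseChange0 b η q pr hsq G (𝟙 _) V s σ ζ hq h).trans ?_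
  exact congrArg ((stalkPullIso pr ζ).hom.app G) (ev_germ b (ζ ≫ pr) h G V s σ).symm

lemma exists_value_eq_aux (a : A ⟶ Y) (b : B ⟶ Y) [IsIntegralHom b] {Z : Scheme.{u}} (pr : Z ⟶ B)
    (q : Z ⟶ Spec (CommRingCat.of Ω)) (η : Spec (CommRingCat.of Ω) ⟶ Y)
    (hsq : IsPullback pr q b η) (u : Z ⟶ A) (hu : u ≫ a = pr ≫ b)
    (x : (EtCoh.stalk (𝟙 _ ≫ η)).obj (P F a)) :
    ∃ y : (EtCoh.stalk (𝟙 _ ≫ η)).obj (P F b), ∀ (ζ : Spec (CommRingCat.of Ω) ⟶ Z)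
      (_ : ζ ≫ q = 𝟙 _) (h : (ζ ≫ pr) ≫ b = 𝟙 _ ≫ η) (h' : (ζ ≫ u) ≫ a = 𝟙 _ ≫ η),
      value F b (ζ ≫ pr) h y = value F a (ζ ≫ u) h' x := by
  let G := (EtCoh.pull b).obj F
  let H := (EtCoh.pull pr).obj G
  let x1 := (EtCoh.stalk (𝟙 _ ≫ η)).map (res F u a (pr ≫ b) hu) x
  let x2 := (EtCoh.stalk (𝟙 _ ≫ η)).map
    ((EtCoh.push (pr ≫ b)).map ((EtCore.pullComp pr b).hom.app F)) x1
  let x3 := (EtCoh.stalk (𝟙 _ ≫ η)).map ((EtCoh.pushCongr hsq.w).hom.app H) x2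
  let x4 := (EtCoh.stalk (𝟙 _ ≫ η)).map ((EtCoh.pushComp η q).inv.app H) x3
  let β := ev η (𝟙 _) rfl ((EtCoh.push q).obj H) x4
  obtain ⟨y', hy'⟩ := surjective_stalk_baseChange0 b η q pr hsq G (𝟙 _) β
  obtain ⟨y, rfl⟩ := (ConcreteCategory.bijective_of_isIso
    ((stalkPullIso η (𝟙 _)).hom.app ((EtCoh.push b).obj G))).2 y'
  refine ⟨y, fun ζ hq h h' => ?_⟩
  have hb : ζ ≫ pr ≫ b = 𝟙 _ ≫ η := (Category.assoc _ _ _).symm.trans h
  have hη : ζ ≫ q ≫ η = 𝟙 _ ≫ η := (Category.assoc _ _ _).symm.trans (congrArg (· ≫ η) hq)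
  have e4 : x3 = (EtCoh.stalk (𝟙 _ ≫ η)).map ((EtCoh.pushComp η q).hom.app H) x4 := by
    rw [← ConcreteCategory.comp_apply, ← Functor.map_comp, Iso.inv_hom_id_app,
      CategoryTheory.Functor.map_id]
    rfl
  have k : ev q ζ hq H β =
      (EtCoh.stalk ζ).map ((EtCore.pullComp pr b).hom.app F)
        ((pt F (pr ≫ b) ζ hb).hom (value F a (ζ ≫ u) h' x)) := by
    refine (ev_comp η q ζ (𝟙 _) hη hq rfl H x4).symm.trans ?_
    refine (congrArg (ev (q ≫ η) ζ hη H) e4.symm).trans ?_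
    refine (ev_congr hsq.w ζ hb hη H x2).trans ?_
    refine (ev_map (pr ≫ b) ζ hb ((EtCore.pullComp pr b).hom.app F) x1).trans ?_
    refine congrArg ((EtCoh.stalk ζ).map ((EtCore.pullComp pr b).hom.app F))
      ((pt_value F (pr ≫ b) ζ hb x1).symm.trans ?_)
    exact congrArg (pt F (pr ≫ b) ζ hb).hom (value_res F u a (pr ≫ b) hu ζ hb h' x)
  rw [pt_comp F pr b ζ (ζ ≫ pr) hb rfl h] at k
  apply pt_injective F b (ζ ≫ pr) h
  apply pt_injective G pr ζ rfl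
  refine Eq.trans ?_ k
  refine Eq.trans ?_ (congrArg (ev q ζ hq H) hy')
  refine Eq.trans ?_ (ev_baseChange0 b pr q η hsq G ζ hq h y).symm
  rw [pt_value]
  simp only [pt, eqToIso_refl, Iso.refl_trans, Iso.app_hom]
  rfl

lemma value_congr (b : B ⟶ Y) {ξ ξ' : Spec (CommRingCat.of Ω) ⟶ B} (e : ξ = ξ') (h : ξ ≫ b = η)
    (h' : ξ' ≫ b = η) (y : (EtCoh.stalk η).obj (P F b)) : value F b ξ h y = value F b ξ' h' y := by
  subst e
  rfl

/-- Functions on a fibre induced by a morphism from it are values of elements of the stalk. -/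
theorem exists_value_eq (a : A ⟶ Y) (b : B ⟶ Y) [IsIntegralHom b]
    (u : pullback b η ⟶ A) (hu : u ≫ a = pullback.fst b η ≫ b)
    (x : (EtCoh.stalk η).obj (P F a)) :
    ∃ y : (EtCoh.stalk η).obj (P F b), ∀ (ξ : Spec (CommRingCat.of Ω) ⟶ B) (h : ξ ≫ b = η)
      (h' : (pullback.lift ξ (𝟙 _) (h.trans (Category.id_comp η).symm) ≫ u) ≫ a = η),
      value F b ξ h y =
        value F a (pullback.lift ξ (𝟙 _) (h.trans (Category.id_comp η).symm) ≫ u) h' x := by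
  have main : ∀ η' (_ : 𝟙 _ ≫ η = η') (x : (EtCoh.stalk η').obj (P F a)),
      ∃ y : (EtCoh.stalk η').obj (P F b), ∀ (ζ : Spec (CommRingCat.of Ω) ⟶ pullback b η)
      (_ : ζ ≫ pullback.snd b η = 𝟙 _) (h : (ζ ≫ pullback.fst b η) ≫ b = η')
      (h' : (ζ ≫ u) ≫ a = η'), value F b (ζ ≫ pullback.fst b η) h y = value F a (ζ ≫ u) h' x := by
    rintro η' rfl x
    exact exists_value_eq_aux F a b _ _ η (IsPullback.of_hasPullback b η) u hu x
  obtain ⟨y, hy⟩ := main η (Category.id_comp η) x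
  refine ⟨y, fun ξ h h' => ?_⟩
  have e : pullback.lift ξ (𝟙 _) (h.trans (Category.id_comp η).symm) ≫ pullback.fst b η = ξ :=
    pullback.lift_fst _ _ _
  refine Eq.trans ?_ (hy _ (pullback.lift_snd _ _ _) (by rw [e]; exact h) h')
  exact value_congr F b e.symm h _ y

end acl

end Groth.DescentBase.PushPull
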