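import Groth.Agent.DescentBase.HpullViaComp
import Groth.Agent.EtaleBase.PushStalkInt
import Groth.Agent.EtaleBase.BaseChange0

/-!
The sheaves `a_* a^* F` and their values at geometric points.
-/

set_option autoImplicit false
set_option backward.isDefEq.respectTransparency.types false

universe u

open CategoryTheory CategoryTheory.Limits AlgebraicGeometry Opposite

namespace Groth.DescentBase.PushPull

open Groth.EtaleBase

variable {Y A B C : Scheme.{u}} (F : EtCoh.Ab Y)

/-- The sheaf `a_* a^* F`. -/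
noncomputable def P (a : A ⟶ Y) : EtCoh.Ab Y := (EtCoh.push a).obj ((EtCoh.pull a).obj F)

/-- The restriction `b_* b^* F ⟶ a_* a^* F` along `g` over `Y`. -/
noncomputable def res (g : A ⟶ B) (b : B ⟶ Y) (a : A ⟶ Y) (w : g ≫ b = a) : P F b ⟶ P F a :=
  (EtCoh.push b).map ((EtCoh.pullPushAdj g).unit.app ((EtCoh.pull b).obj F) ≫
      (EtCoh.push g).map (((EtCore.pullComp g b).symm ≪≫ EtCore.pullCongr w).hom.app F)) ≫
    (EtCoh.pushComp b g).hom.app ((EtCoh.pull a).obj F) ≫
      (EtCoh.pushCongr w).hom.app ((EtCoh.pull a).obj F)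

variable {Ω : Type u} [Field Ω] [IsSepClosed Ω] {η : Spec (CommRingCat.of Ω) ⟶ Y}

lemma hom_inv_apply {C : Type*} [Category C] {G H : C ⥤ AddCommGrpCat.{u + 1}} (α : G ≅ H)
    (X : C) (z : G.obj X) : α.inv.app X (α.hom.app X z) = z := by
  rw [← ConcreteCategory.comp_apply, Iso.hom_inv_id_app]
  rfl

/-- The value of a germ of `a_* a^* F` at a point over the geometric point. -/
noncomputable def value (a : A ⟶ Y) (ξ : Spec (CommRingCat.of Ω) ⟶ A) (h : ξ ≫ a = η) :
    (EtCoh.stalk η).obj (P F a) ⟶ (EtCoh.stalk η).obj F :=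
  eqToHom (congrArg (fun e => (EtCoh.stalk e).obj (P F a)) h.symm) ≫
    evPush a ξ ((EtCoh.pull a).obj F) ≫ (stalkPullIso a ξ).inv.app F ≫
      eqToHom (congrArg (fun e => (EtCoh.stalk e).obj F) h)

lemma value_germ_rfl (a : A ⟶ Y) (ξ : Spec (CommRingCat.of Ω) ⟶ A) (V : Y.Etale)
    (s : (Scheme.pointSmallEtale (ξ ≫ a)).fiber.obj V)
    (σ : ((EtCoh.pull a).obj F).obj.obj (op ((EtCoh.bc a).obj V))) :
    value F a ξ rfl (germ (ξ ≫ a) (P F a) V s σ) =
      (stalkPullIso a ξ).inv.app F (germ ξ ((EtCoh.pull a).obj F) _ (pushLift a ξ rfl V s) σ) := by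
  rw [← evPush_germ]
  simp only [value, eqToHom_refl, Category.id_comp, Category.comp_id]
  rfl

/-- The value of a section coming from `F` is the germ of the section. -/
lemma value_unit (a : A ⟶ Y) (ξ : Spec (CommRingCat.of Ω) ⟶ A) (h : ξ ≫ a = η)
    (m : (EtCoh.stalk η).obj F) :
    value F a ξ h ((EtCoh.stalk η).map ((EtCoh.pullPushAdj a).unit.app F) m) = m := by
  subst h
  obtain ⟨V, s, τ, rfl⟩ := germ_surjective _ _ m
  erw [germ_map]
  erw [value_germ_rfl]
  rw [← stalkPullIso_germ, ← ConcreteCategory.comp_apply, ← NatTrans.comp_app, Iso.hom_inv_id]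
  rfl

lemma fiber_map_left {X : Scheme.{u}} (ξ : Spec (CommRingCat.of Ω) ⟶ X) {W U : X.Etale} (g : W ⟶ U)
    (t : (Scheme.pointSmallEtale ξ).fiber.obj W) :
    ((Scheme.pointSmallEtale ξ).fiber.map g t).left = t.left ≫ g.left := rfl

/-- The unit of a composite on sections. -/
lemma unit_comp_apply (g : A ⟶ B) (b : B ⟶ Y) (U : Y.Etale) (τ : F.obj.obj (op U)) :
    (((EtCoh.pullPushAdj (g ≫ b)).unit.app F).hom.app (op U) τ :) =
      ((EtCoh.pull (g ≫ b)).obj F).obj.map
          ((MorphismProperty.Over.pullbackComp (P := EtCoh.etaleMP) (Q := ⊤) g b).hom.app U).op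
        (((EtCore.pullComp g b).inv.app F).hom.app _
          (((EtCoh.pullPushAdj g).unit.app ((EtCoh.pull b).obj F)).hom.app _
            (((EtCoh.pullPushAdj b).unit.app F).hom.app (op U) τ))) := by
  have key := homEquiv_pullComp g b F (𝟙 ((EtCoh.pull (g ≫ b)).obj F))
  rw [Category.comp_id, Adjunction.homEquiv_id] at key
  rw [← key, Adjunction.homEquiv_unit, Adjunction.homEquiv_unit, ← pushComp_hom_app]
  rfl

set_option maxHeartbeats 800000 in
/-- Lifting points along a composite. -/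
lemma pushLift_comp (g : A ⟶ B) (b : B ⟶ Y) (ξ : Spec (CommRingCat.of Ω) ⟶ A) (U : Y.Etale)
    (s : (Scheme.pointSmallEtale (ξ ≫ g ≫ b)).fiber.obj U) :
    (Scheme.pointSmallEtale ξ).fiber.map
        ((MorphismProperty.Over.pullbackComp (P := EtCoh.etaleMP) (Q := ⊤) g b).hom.app U)
        (pushLift (g ≫ b) ξ rfl U s) =
      pushLift g ξ rfl ((EtCoh.bc b).obj U) (pushLift b (ξ ≫ g) rfl U s) := by
  symm
  apply fiber_bc_ext
  apply pullback.hom_ext
  · erw [fiber_map_left]
    simp [MorphismProperty.Over.pullbackComp, EtCoh.bc, pushLift]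
    show (pullback.lift _ _ _ ≫ pullback.fst (pullback.snd U.hom b) g) ≫ _ =
      (_ ≫ _ ≫ _ ≫ pullback.fst (pullback.snd U.hom b) g) ≫ _
    simp
    refine (pullback.lift_fst_assoc _ _ _ _).trans ?_
    first
      | exact (pullback.lift_fst _ _ _).trans ((congrArg (_ ≫ ·) (Category.id_comp _)).trans (pullback.lift_fst _ _ _)).symm
      | exact (pullback.lift_snd _ _ _).trans (congrArg (· ≫ g) ((congrArg (_ ≫ ·) (Category.id_comp _)).trans (pullback.lift_snd _ _ _))).symm
  · erw [fiber_map_left]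
    simp [MorphismProperty.Over.pullbackComp, EtCoh.bc, pushLift]
    show (pullback.lift _ _ _ ≫ pullback.fst (pullback.snd U.hom b) g) ≫ _ =
      (_ ≫ _ ≫ _ ≫ pullback.fst (pullback.snd U.hom b) g) ≫ _
    simp
    refine (pullback.lift_fst_assoc _ _ _ _).trans ?_
    first
      | exact (pullback.lift_fst _ _ _).trans ((congrArg (_ ≫ ·) (Category.id_comp _)).trans (pullback.lift_fst _ _ _)).symm
      | exact (pullback.lift_snd _ _ _).trans (congrArg (· ≫ g) ((congrArg (_ ≫ ·) (Category.id_comp _)).trans (pullback.lift_snd _ _ _))).symm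

/-- Composition of inverse images on stalks. -/
lemma stalkPullIso_comp (g : A ⟶ B) (b : B ⟶ Y) (ξ : Spec (CommRingCat.of Ω) ⟶ A)
    (m : (EtCoh.stalk (ξ ≫ g ≫ b)).obj F) :
    (EtCoh.stalk ξ).map ((EtCore.pullComp g b).inv.app F)
        ((stalkPullIso g ξ).hom.app ((EtCoh.pull b).obj F) ((stalkPullIso b (ξ ≫ g)).hom.app F m)) =
      (stalkPullIso (g ≫ b) ξ).hom.app F m := by
  obtain ⟨U, s, τ, rfl⟩ := germ_surjective _ _ m
  have h1 : (stalkPullIso b (ξ ≫ g)).hom.app F (germ (ξ ≫ g ≫ b) F U s τ) =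
      germ (ξ ≫ g) _ _ (pushLift b (ξ ≫ g) rfl U s)
        (((EtCoh.pullPushAdj b).unit.app F).hom.app (op U) τ) :=
    stalkPullIso_germ b (ξ ≫ g) F U s τ
  rw [h1, stalkPullIso_germ]
  erw [germ_map, stalkPullIso_germ]
  rw [unit_comp_apply]
  refine Eq.trans ?_ ((Scheme.pointSmallEtale ξ).toPresheafFiber_w_apply
    ((MorphismProperty.Over.pullbackComp (P := EtCoh.etaleMP) (Q := ⊤) g b).hom.app U) _
    ((EtCoh.pull (g ≫ b)).obj F).obj _).symm
  exact congrArg (fun t => germ ξ ((EtCoh.pull (g ≫ b)).obj F) _ t _) (pushLift_comp g b ξ U s).symm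

/-- Restriction on sections. -/
lemma res_apply (g : A ⟶ B) (b : B ⟶ Y) (V : Y.Etale) (σ : (P F b).obj.obj (op V)) :
    ((res F g b (g ≫ b) rfl).hom.app (op V) σ :) =
      ((EtCoh.pull (g ≫ b)).obj F).obj.map
          ((MorphismProperty.Over.pullbackComp (P := EtCoh.etaleMP) (Q := ⊤) g b).hom.app V).op
        (((EtCore.pullComp g b).inv.app F).hom.app _
          (((EtCoh.pullPushAdj g).unit.app ((EtCoh.pull b).obj F)).hom.app (op ((EtCoh.bc b).obj V)) σ)) := by
  simp only [res, EtCore.pullCongr, EtCoh.pushCongr]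
  rw [← pushComp_hom_app]
  simp
  have h1 : (MorphismProperty.Over.pullbackCongr (P := EtCoh.etaleMP) (Q := ⊤)
      (rfl : g ≫ b = g ≫ b)).inv.app V = 𝟙 _ := by
    apply MorphismProperty.Over.Hom.ext
    simp [MorphismProperty.Over.pullbackCongr]
    rfl
  rw [h1]
  exact ConcreteCategory.congr_hom (((EtCoh.pull (g ≫ b)).obj F).obj.map_id _) _

set_option maxHeartbeats 1600000 in
/-- Restriction is computed by composition of points. -/
theorem value_res (g : A ⟶ B) (b : B ⟶ Y) (a : A ⟶ Y) (w : g ≫ b = a)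
    (ξ : Spec (CommRingCat.of Ω) ⟶ A) (h : ξ ≫ a = η) (h' : (ξ ≫ g) ≫ b = η)
    (x : (EtCoh.stalk η).obj (P F b)) :
    value F a ξ h ((EtCoh.stalk η).map (res F g b a w) x) = value F b (ξ ≫ g) h' x := by
  subst w
  subst h
  obtain ⟨V, s, σ, rfl⟩ := germ_surjective _ _ x
  obtain ⟨z, hz⟩ := (ConcreteCategory.bijective_of_isIso
    ((stalkPullIso b (ξ ≫ g)).hom.app F)).2 (germ (ξ ≫ g) _ _ (pushLift b (ξ ≫ g) rfl V s) σ)
  have e1 : value F b (ξ ≫ g) h' (germ (ξ ≫ g ≫ b) (P F b) V s σ) = z := by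
    refine (value_germ_rfl F b (ξ ≫ g) V s σ).trans ?_
    rw [← hz]
    exact hom_inv_apply _ F z
  rw [e1]
  erw [germ_map]
  rw [value_germ_rfl]
  refine Eq.trans (congrArg ((stalkPullIso (g ≫ b) ξ).inv.app F) ?_) (hom_inv_apply _ F z)
  refine Eq.trans ?_ (stalkPullIso_comp F g b ξ z)
  refine Eq.trans ?_ (congrArg ((EtCoh.stalk ξ).map ((EtCore.pullComp g b).inv.app F))
    ((congrArg ((stalkPullIso g ξ).hom.app ((EtCoh.pull b).obj F)) hz).trans
      (stalkPullIso_germ g ξ ((EtCoh.pull b).obj F) ((EtCoh.bc b).obj V)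
        (pushLift b (ξ ≫ g) rfl V s) σ))).symm
  refine Eq.trans ?_ (germ_map ξ ((EtCore.pullComp g b).inv.app F) _ _ _).symm
  rw [res_apply]
  refine ((Scheme.pointSmallEtale ξ).toPresheafFiber_w_apply
    ((MorphismProperty.Over.pullbackComp (P := EtCoh.etaleMP) (Q := ⊤) g b).hom.app V) _
    ((EtCoh.pull (g ≫ b)).obj F).obj _).trans ?_
  exact congrArg (fun t => germ ξ ((EtCoh.pull (g ≫ b)).obj F) _ t _) (pushLift_comp g b ξ V s)

end Groth.DescentBase.PushPull
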