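import Mathlib
import Groth.Prelude.Def_SGA4b
import Groth.Prelude.Def_BigSite
import Groth.Agent.EtaleBase.Stalks

/-! Direct image of étale sheaves of sets: conditions (B) and (C). -/

set_option autoImplicit false
set_option backward.isDefEq.respectTransparency.types false

open CategoryTheory CategoryTheory.Limits AlgebraicGeometry Opposite

namespace Groth.DescentBase

universe u

variable {X Y : Scheme.{u}}

theorem subsingleton_sect_of_isEmpty (F : EtDesc.Sh X) (Z : X.Etale) [IsEmpty Z.left] :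
    Subsingleton (F.obj.obj (op Z)) := by
  refine ⟨fun a b => (((isSheaf_iff_isSheaf_of_type _ _).mp F.property).isSeparated (⊥ : Sieve Z)
    ((Groth.EtaleBase.mem_topology_iff _).mpr fun x => isEmptyElim x)).ext ?_⟩
  intro W g hg
  exact hg.elim

/-- Sections on the members of a decomposition into disjoint opens glue. -/
theorem exists_glue_disjoint (F : EtDesc.Sh X) {T : X.Etale} {μ : Type u}
    (W : μ → X.Etale) (i : ∀ a, W a ⟶ T) [∀ a, IsOpenImmersion (i a).left]
    (hdisj : ∀ a b, a ≠ b → Disjoint (Set.range (i a).left.base) (Set.range (i b).left.base))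
    (hcov : ∀ x : T.left, ∃ a, x ∈ Set.range (i a).left.base) (t : ∀ a, F.obj.obj (op (W a))) :
    ∃ s : F.obj.obj (op T), ∀ a, F.obj.map (i a).op s = t a := by
  have hJ : Sieve.ofArrows W i ∈ X.smallEtaleTopology T := by
    refine (Groth.EtaleBase.mem_topology_iff _).mpr fun x => ?_
    obtain ⟨a, w, hw⟩ := hcov x
    exact ⟨W a, i a, w, Sieve.ofArrows_mk _ _ _, hw⟩
  have hs : Presieve.IsSheafFor F.obj (Presieve.ofArrows W i) := by
    rw [Presieve.isSheafFor_iff_generate]
    exact ((isSheaf_iff_isSheaf_of_type _ _).mp F.property) _ hJ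
  refine ⟨_, ((Presieve.isSheafFor_arrows_iff _ _ |>.mp hs) t ?_).choose_spec.1⟩
  intro a b Z ga gb h
  have hl : ga.left ≫ (i a).left = gb.left ≫ (i b).left :=
    congrArg (fun m : Z ⟶ T => m.left) h
  by_cases hab : a = b
  · subst hab
    have : ga = gb := MorphismProperty.Over.Hom.ext ((cancel_mono (i a).left).mp hl)
    rw [this]
  · haveI : IsEmpty Z.left := ⟨fun z => Set.disjoint_left.mp (hdisj a b hab)
      (show (i a).left.base (ga.left.base z) ∈ Set.range (i a).left.base from ⟨_, rfl⟩) ⟨gb.left.base z, by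
        rw [← Scheme.Hom.comp_apply, ← hl, Scheme.Hom.comp_apply]⟩⟩
    haveI := subsingleton_sect_of_isEmpty F Z
    exact Subsingleton.elim _ _

theorem pushSh_preservesEpimorphisms {f : X ⟶ Y} (hB : BigSite.PropB f) :
    (EtDesc.pushSh f).PreservesEpimorphisms := by
  refine ⟨fun {F G} φ hφ => ?_⟩
  rw [← Sheaf.isLocallySurjective_iff_epi]
  have hls : Sheaf.IsLocallySurjective φ := (Sheaf.isLocallySurjective_iff_epi φ).mpr hφ
  refine ⟨fun {V} s => (Groth.EtaleBase.mem_topology_iff _).mpr fun y => ?_⟩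
  let T : X.Etale := (EtCoh.bc f).obj V
  have hR := (Groth.EtaleBase.mem_topology_iff _).mp
    (hls.imageSieve_mem (U := T) s)
  choose U g v hg hv using hR
  choose t ht using hg
  haveI : Etale V.hom := V.prop
  let e : pullback f V.hom ≅ T.left := pullbackSymmetry f V.hom
  haveI : ∀ x, Etale (g x).left := fun x => by
    have : Etale ((g x).left ≫ T.hom) := by rw [MorphismProperty.Over.w (g x)]; exact (U x).prop
    haveI : Etale T.hom := T.prop
    exact Etale.of_comp (g x).left T.hom
  obtain ⟨κ, V', v', hv', hcov, hdec⟩ := hB V.left V.hom T.left (fun x => (U x).left)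
    (fun x => (g x).left ≫ e.inv) (fun x => inferInstance) (fun x => ⟨e.hom.base x, v (e.hom.base x), by
      rw [Scheme.Hom.comp_apply, hv, ← Scheme.Hom.comp_apply, e.hom_inv_id]; rfl⟩)
  obtain ⟨j, w, hw⟩ := hcov y
  haveI := hv' j
  let Vj : Y.Etale := MorphismProperty.Over.mk ⊤ (v' j ≫ V.hom) (inferInstance : Etale (v' j ≫ V.hom))
  let vj : Vj ⟶ V := MorphismProperty.Over.homMk (v' j) rfl
  refine ⟨Vj, vj, w, ?_, hw⟩
  obtain ⟨μ, W, hdisj, htop, hW⟩ := hdec j
  choose i h hh using hW
  let Tj : X.Etale := (EtCoh.bc f).obj Vj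
  let e' : pullback f (v' j ≫ V.hom) ≅ Tj.left := pullbackSymmetry f (v' j ≫ V.hom)
  haveI : Etale Tj.hom := Tj.prop
  let Wa : μ → X.Etale := fun a =>
    MorphismProperty.Over.mk ⊤ (((W a).ι ≫ e'.hom) ≫ Tj.hom)
      (inferInstance : Etale (((W a).ι ≫ e'.hom) ≫ Tj.hom))
  let ia : ∀ a, Wa a ⟶ Tj := fun a => MorphismProperty.Over.homMk ((W a).ι ≫ e'.hom) rfl
  haveI : ∀ a, IsOpenImmersion (ia a).left :=
    fun a => inferInstanceAs (IsOpenImmersion ((W a).ι ≫ e'.hom))
  have key : ∀ a, (h a ≫ (g (i a)).left) =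
      ((W a).ι ≫ e'.hom) ≫ ((EtCoh.bc f).map vj).left := fun a => by
    rw [← cancel_mono e.inv, Category.assoc, hh a, Category.assoc, Category.assoc]
    congr 1
    change pullback.map _ _ _ _ _ _ _ _ _ =
      (pullbackSymmetry f (v' j ≫ V.hom)).hom ≫
        pullback.lift (pullback.fst Vj.hom f ≫ v' j) (pullback.snd Vj.hom f) _ ≫
          (pullbackSymmetry f V.hom).inv
    apply pullback.hom_ext
    · simp only [Category.assoc, pullbackSymmetry_inv_comp_fst, pullback.map]
      erw [pullback.lift_fst, pullback.lift_snd, pullbackSymmetry_hom_comp_snd]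
      exact Category.comp_id _
    · simp only [Category.assoc, pullbackSymmetry_inv_comp_snd, pullback.map]
      erw [pullback.lift_snd, pullback.lift_fst, ← Category.assoc, pullbackSymmetry_hom_comp_fst]
      rfl
  let ha : ∀ a, Wa a ⟶ U (i a) := fun a => MorphismProperty.Over.homMk (h a) (by
    change h a ≫ (U (i a)).hom = ((W a).ι ≫ e'.hom) ≫ Tj.hom
    rw [← MorphismProperty.Over.w (g (i a)), ← Category.assoc, key a, Category.assoc,
      MorphismProperty.Over.w ((EtCoh.bc f).map vj)])
  have hha : ∀ a, ha a ≫ g (i a) = ia a ≫ (EtCoh.bc f).map vj :=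
    fun a => MorphismProperty.Over.Hom.ext (key a)
  have hrange : ∀ a, Set.range (ia a).left.base = e'.hom.base '' (W a : Set _) := fun a => by
    change Set.range ((W a).ι ≫ e'.hom).base = _
    rw [Scheme.Hom.comp_base, TopCat.coe_comp, Set.range_comp, Scheme.Opens.range_ι]
  obtain ⟨σ, hσ⟩ := exists_glue_disjoint F Wa ia (fun a b hab => by
      rw [hrange, hrange]
      refine Set.disjoint_image_of_injective e'.hom.homeomorph.injective ?_
      rw [Set.disjoint_left]
      exact fun x h1 h2 => (show x ∈ (⊥ : TopologicalSpace.Opens _) from (hdisj a b hab).le_bot ⟨h1, h2⟩))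
    (fun x => by
      have : e'.inv.base x ∈ (⨆ a, W a) := htop ▸ trivial
      obtain ⟨a, ha⟩ := TopologicalSpace.Opens.mem_iSup.mp this
      refine ⟨a, ?_⟩
      rw [hrange]
      exact ⟨_, ha, by rw [← Scheme.Hom.comp_apply, e'.inv_hom_id]; rfl⟩)
    (fun a => F.obj.map (ha a).op (t (i a)))
  refine ⟨σ, ?_⟩
  have hcov' : Sieve.ofArrows Wa ia ∈ X.smallEtaleTopology Tj :=
    (Groth.EtaleBase.mem_topology_iff _).mpr fun x => by
      have : e'.inv.base x ∈ (⨆ a, W a) := htop ▸ trivial
      obtain ⟨a, ha⟩ := TopologicalSpace.Opens.mem_iSup.mp this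
      exact ⟨Wa a, ia a, ⟨_, ha⟩, Sieve.ofArrows_mk _ _ _, by
        change ((W a).ι ≫ e'.hom).base ⟨_, ha⟩ = x
        rw [Scheme.Hom.comp_apply]
        change e'.hom.base (e'.inv.base x) = x
        rw [← Scheme.Hom.comp_apply, e'.inv_hom_id]; rfl⟩
  refine (((isSheaf_iff_isSheaf_of_type _ _).mp G.property).isSeparated _ hcov').ext ?_
  rintro Z q hq
  obtain ⟨W₀, r, m, ⟨a⟩, rfl⟩ := hq
  rw [op_comp, Functor.map_comp_apply, Functor.map_comp_apply]
  congr 1
  change G.obj.map (ia a).op (φ.hom.app (op Tj) σ) = G.obj.map (ia a).op (G.obj.map _ s)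
  rw [← NatTrans.naturality_apply φ.hom, hσ a, NatTrans.naturality_apply φ.hom, ht,
    ← Functor.map_comp_apply, ← op_comp, hha, op_comp, Functor.map_comp_apply]
  rfl

theorem pushSh_reflects_mono_epi {f : X ⟶ Y} (hC : BigSite.PropC f) :
    (EtDesc.pushSh f).ReflectsMonomorphisms ∧ (EtDesc.pushSh f).ReflectsEpimorphisms := by
  have key : ∀ U : X.Etale, ∃ (V : Y.Etale) (h : (EtCoh.bc f).obj V ⟶ U),
      Function.Surjective h.left.base := by
    intro U
    haveI : Etale U.hom := U.prop
    obtain ⟨V, v, hv, h, hh, hs⟩ := hC U.left U.hom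
    let Vo : Y.Etale := MorphismProperty.Over.mk ⊤ v (inferInstance : Etale v)
    refine ⟨Vo, MorphismProperty.Over.homMk ((pullbackSymmetry f v).inv ≫ h) ?_, ?_⟩
    · change ((pullbackSymmetry f v).inv ≫ h) ≫ U.hom = _
      rw [Category.assoc, hh, pullbackSymmetry_inv_comp_fst]
      rfl
    · exact ((pullbackSymmetry f v).inv ≫ h).surjective
  constructor
  · refine ⟨fun {F G} φ hm => ?_⟩
    haveI : Mono ((EtDesc.pushSh f).map φ).hom :=
      (Sheaf.Hom.mono_iff_presheaf_mono _ _ _).mp hm
    rw [Sheaf.Hom.mono_iff_presheaf_mono, NatTrans.mono_iff_mono_app]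
    intro U
    rw [mono_iff_injective]
    intro a b hab
    obtain ⟨V, h, hs⟩ := key U.unop
    have hinj : Function.Injective (φ.hom.app (op ((EtCoh.bc f).obj V))) :=
      (mono_iff_injective _).mp ((NatTrans.mono_iff_mono_app _).mp
        (inferInstance : Mono ((EtDesc.pushSh f).map φ).hom) (op V))
    have hJ : Sieve.generate (Presieve.singleton h) ∈ X.smallEtaleTopology U.unop :=
      (Groth.EtaleBase.mem_topology_iff _).mpr fun x => by
        obtain ⟨z, hz⟩ := hs x
        exact ⟨_, h, z, Sieve.le_generate (Presieve.singleton h) _ _ Presieve.singleton.mk, hz⟩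
    refine (((isSheaf_iff_isSheaf_of_type _ _).mp F.property).isSeparated _ hJ).ext ?_
    rintro Z q ⟨W, r, m, ⟨⟩, rfl⟩
    rw [op_comp, Functor.map_comp_apply, Functor.map_comp_apply]
    congr 1
    apply hinj
    rw [NatTrans.naturality_apply φ.hom, NatTrans.naturality_apply φ.hom, hab]
  · refine ⟨fun {F G} φ he => ?_⟩
    rw [← Sheaf.isLocallySurjective_iff_epi] at he ⊢
    refine ⟨fun {U} s => (Groth.EtaleBase.mem_topology_iff _).mpr fun x => ?_⟩
    obtain ⟨V, h, hs⟩ := key U
    obtain ⟨z, hz⟩ := hs x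
    have hR := (Groth.EtaleBase.mem_topology_iff _).mp
      (he.imageSieve_mem (U := V) (G.obj.map h.op s))
    obtain ⟨V', g, w, ⟨t, ht⟩, hw⟩ := hR ((pullback.fst V.hom f).base z)
    obtain ⟨z', hz', -⟩ := Scheme.Pullback.exists_preimage_pullback
      (f := pullback.fst V.hom f) (g := g.left) z w hw.symm
    have sq : IsPullback ((EtCoh.bc f).map g).left (pullback.fst V'.hom f)
        (pullback.fst V.hom f) g.left := by
      refine (IsPullback.of_bot (h₁₁ := pullback.fst V'.hom f) ?_ ?_
        (IsPullback.of_hasPullback V.hom f)).flip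
      · rw [MorphismProperty.Over.w g]
        have hsnd : ((EtCoh.bc f).map g).left ≫ pullback.snd V.hom f = pullback.snd V'.hom f :=
          MorphismProperty.Over.w ((EtCoh.bc f).map g)
        have h2 := IsPullback.of_hasPullback V'.hom f
        rw [← hsnd] at h2
        exact h2
      · exact (pullback.lift_fst _ _ _).symm
    obtain ⟨z'', hz'', -⟩ := Scheme.exists_preimage_of_isPullback sq z w hw.symm
    refine ⟨(EtCoh.bc f).obj V', (EtCoh.bc f).map g ≫ h, z'', ⟨t, ?_⟩, ?_⟩
    · rw [op_comp, Functor.map_comp_apply]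
      exact ht
    · change (((EtCoh.bc f).map g).left ≫ h.left).base z'' = x
      rw [Scheme.Hom.comp_apply, hz'', hz]

end Groth.DescentBase
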