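import Groth.Agent.DescentBase.ShStalk
import Groth.Agent.DescentBase.PushSh
import Groth.Agent.EtaleBase.PushStalkInt
import Groth.Agent.EtaleBase.DisjointGlue

/-!
Germs of direct and inverse images of etale sheaves of sets along integral morphisms.
-/

set_option autoImplicit false
set_option backward.isDefEq.respectTransparency.types false

universe u

open CategoryTheory CategoryTheory.Limits AlgebraicGeometry Opposite

namespace Groth.DescentBase

open Groth.EtaleBase (openObj openHom fiberPoint fiberPoint_map exists_fiber_lift isOpenMap_left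
  pushLift pushLift_map exists_pushLift comapPt comapPointIso bcFiberEquiv mem_topology_iff)

variable {X Y : Scheme.{u}}

section agree

/-- Points near which two sections agree. -/
def agreeSet (F : EtDesc.Sh X) (U : X.Etale) (σ τ : F.obj.obj (op U)) : Set U.left :=
  {x | ∃ (V : X.Etale) (g : V ⟶ U), (∃ v, g.left.base v = x) ∧ F.obj.map g.op σ = F.obj.map g.op τ}

lemma isOpen_agreeSet (F : EtDesc.Sh X) (U : X.Etale) (σ τ : F.obj.obj (op U)) :
    IsOpen (agreeSet F U σ τ) := by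
  rw [isOpen_iff_forall_mem_open]
  rintro x ⟨V, g, ⟨v, hv⟩, hz⟩
  exact ⟨Set.range g.left.base, fun y ⟨w, hw⟩ => ⟨V, g, ⟨w, hw⟩, hz⟩,
    (isOpenMap_left g).isOpen_range, ⟨v, hv⟩⟩

lemma shGerm_eq_iff_mem {Ω : Type u} [Field Ω] [IsSepClosed Ω]
    (ξ : Spec (CommRingCat.of Ω) ⟶ X) (F : EtDesc.Sh X) (U : X.Etale) (σ τ : F.obj.obj (op U))
    (t : (Scheme.pointSmallEtale ξ).fiber.obj U) :
    shGerm ξ F U t σ = shGerm ξ F U t τ ↔ fiberPoint ξ t ∈ agreeSet F U σ τ := by
  rw [shGerm_eq_iff]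
  constructor
  · rintro ⟨V, g, s, rfl, hz⟩
    exact ⟨V, g, ⟨_, (fiberPoint_map ξ g s).symm⟩, hz⟩
  · rintro ⟨V, g, ⟨v, hv⟩, hz⟩
    obtain ⟨s, hs, -⟩ := exists_fiber_lift ξ g t v hv
    exact ⟨V, g, s, hs, hz⟩

lemma shSection_ext (F : EtDesc.Sh X) (U : X.Etale) (σ τ : F.obj.obj (op U))
    (h : ∀ x : U.left, x ∈ agreeSet F U σ τ) : σ = τ := by
  let R : Sieve U :=
    { arrows := fun V g => F.obj.map g.op σ = F.obj.map g.op τ
      downward_closed := fun {V W g} hg h => by
        rw [op_comp, Functor.map_comp_apply, Functor.map_comp_apply, hg] }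
  have hR : R ∈ X.smallEtaleTopology U := by
    rw [mem_topology_iff]
    intro x
    obtain ⟨V, g, ⟨v, hv⟩, hz⟩ := h x
    exact ⟨V, g, v, hz, hv⟩
  exact (((isSheaf_iff_isSheaf_of_type _ _).mp F.property).isSeparated _ hR).ext fun V g hg => hg

lemma map_eq_iff_range_subset (F : EtDesc.Sh X) {U V : X.Etale} (φ : V ⟶ U)
    (σ τ : F.obj.obj (op U)) :
    F.obj.map φ.op σ = F.obj.map φ.op τ ↔ Set.range φ.left.base ⊆ agreeSet F U σ τ := by
  refine ⟨fun h x ⟨v, hv⟩ => ⟨V, φ, ⟨v, hv⟩, h⟩, fun h => ?_⟩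
  refine shSection_ext F V _ _ fun v => ?_
  obtain ⟨t, ht⟩ := Groth.EtaleBase.exists_geomPoint_lift V v
  have h0 : shGerm _ F U ((Scheme.pointSmallEtale _).fiber.map φ t) σ =
      shGerm _ F U ((Scheme.pointSmallEtale _).fiber.map φ t) τ :=
    (shGerm_eq_iff_mem _ F U σ τ _).2 (h ⟨_, (fiberPoint_map _ φ t).symm⟩)
  have h1 : shGerm _ F V t (F.obj.map φ.op σ) = shGerm _ F V t (F.obj.map φ.op τ) :=
    (((Scheme.pointSmallEtale _).toPresheafFiber_w_apply φ t F.obj σ).trans h0).trans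
      ((Scheme.pointSmallEtale _).toPresheafFiber_w_apply φ t F.obj τ).symm
  have := (shGerm_eq_iff_mem _ F V _ _ t).1 h1
  exact ht ▸ this

variable {μ : Type u} (U : X.Etale) (W : μ → U.left.Opens)
  (hW : ∀ a b, a ≠ b → Disjoint (W a) (W b)) (hsup : ⨆ a, W a = ⊤)

include hW hsup

lemma exists_glue_disjoint' (F : EtDesc.Sh X) (x : ∀ a, F.obj.obj (op (openObj U (W a)))) :
    ∃ s : F.obj.obj (op U), ∀ a, F.obj.map (openHom U (W a)).op s = x a := by
  have : ∀ a, IsOpenImmersion (openHom U (W a)).left := fun a =>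
    inferInstanceAs (IsOpenImmersion (W a).ι)
  refine exists_glue_disjoint F (fun a => openObj U (W a)) (fun a => openHom U (W a))
    (fun a b hab => ?_) (fun u => ?_) x
  · show Disjoint (Set.range (W a).ι.base) (Set.range (W b).ι.base)
    rw [Scheme.Opens.range_ι, Scheme.Opens.range_ι, Set.disjoint_left]
    exact fun z h1 h2 => (disjoint_iff.1 (hW a b hab)).le ⟨h1, h2⟩
  · obtain ⟨a, ha⟩ := TopologicalSpace.Opens.mem_iSup.1 (hsup.symm ▸ TopologicalSpace.Opens.mem_top u)
    exact ⟨a, ⟨u, ha⟩, rfl⟩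

omit hW in
lemma ext_disjoint' (F : EtDesc.Sh X) (s t : F.obj.obj (op U))
    (h : ∀ a, F.obj.map (openHom U (W a)).op s = F.obj.map (openHom U (W a)).op t) : s = t := by
  refine shSection_ext F U s t fun u => ?_
  obtain ⟨a, ha⟩ := TopologicalSpace.Opens.mem_iSup.1 (hsup.symm ▸ TopologicalSpace.Opens.mem_top u)
  exact ⟨_, openHom U (W a), ⟨⟨u, ha⟩, rfl⟩, h a⟩

end agree

section push

variable (f : X ⟶ Y) {Ω : Type u} [Field Ω] [IsAlgClosed Ω] (η : Spec (CommRingCat.of Ω) ⟶ Y)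

/-- Germs of a direct image along an integral morphism are equal as soon as their values at all
points over the geometric point are equal. -/
lemma shGerm_push_ext [IsIntegralHom f] (F : EtDesc.Sh X) (V : Y.Etale)
    (s : (Scheme.pointSmallEtale η).fiber.obj V) (σ τ : F.obj.obj (op ((EtCoh.bc f).obj V)))
    (hσ : ∀ (ξ : Spec (CommRingCat.of Ω) ⟶ X) (h : ξ ≫ f = η),
      shGerm ξ F ((EtCoh.bc f).obj V) (pushLift f ξ h V s) σ =
        shGerm ξ F ((EtCoh.bc f).obj V) (pushLift f ξ h V s) τ) :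
    shGerm η ((EtDesc.pushSh f).obj F) V s σ = shGerm η ((EtDesc.pushSh f).obj F) V s τ := by
  rw [shGerm_eq_iff_mem]
  let fV : pullback V.hom f ⟶ V.left := pullback.fst _ _
  have : IsIntegralHom fV := MorphismProperty.pullback_fst _ _ ‹_›
  have hclosed : IsClosed (fV.base '' (agreeSet F _ σ τ)ᶜ) :=
    fV.isClosedMap _ (isOpen_agreeSet F _ σ τ).isClosed_compl
  let O : V.left.Opens := ⟨(fV.base '' (agreeSet F _ σ τ)ᶜ)ᶜ, hclosed.isOpen_compl⟩
  have hO : fiberPoint η s ∈ O := by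
    rintro ⟨z, hz, hzt⟩
    obtain ⟨ξ, h, rfl⟩ := exists_pushLift f η V s z hzt
    exact hz ((shGerm_eq_iff_mem ξ F _ σ τ _).1 (hσ ξ h))
  let W : Y.Etale := Scheme.Etale.mk (O.ι ≫ V.hom)
  let j : W ⟶ V := MorphismProperty.Over.homMk O.ι rfl
  refine ⟨W, j, ⟨⟨_, hO⟩, rfl⟩, ?_⟩
  show F.obj.map ((EtCoh.bc f).map j).op σ = F.obj.map ((EtCoh.bc f).map j).op τ
  rw [map_eq_iff_range_subset]
  rintro _ ⟨w, rfl⟩
  by_contra hn
  have h1 : ((EtCoh.bc f).map j).left ≫ fV = pullback.fst (O.ι ≫ V.hom) f ≫ O.ι :=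
    pullback.lift_fst _ _ _
  exact ((pullback.fst (O.ι ≫ V.hom) f).base w).2 ⟨_, hn,
    congrArg (fun m : pullback (O.ι ≫ V.hom) f ⟶ V.left => m.base w) h1⟩

/-- The same for germs at different neighbourhoods. -/
lemma shGerm_push_eq [IsIntegralHom f] (F : EtDesc.Sh X)
    (V₁ V₂ : Y.Etale) (s₁ : (Scheme.pointSmallEtale η).fiber.obj V₁)
    (s₂ : (Scheme.pointSmallEtale η).fiber.obj V₂)
    (σ₁ : F.obj.obj (op ((EtCoh.bc f).obj V₁))) (σ₂ : F.obj.obj (op ((EtCoh.bc f).obj V₂)))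
    (hσ : ∀ (ξ : Spec (CommRingCat.of Ω) ⟶ X) (h : ξ ≫ f = η),
      shGerm ξ F ((EtCoh.bc f).obj V₁) (pushLift f ξ h V₁ s₁) σ₁ =
        shGerm ξ F ((EtCoh.bc f).obj V₂) (pushLift f ξ h V₂ s₂) σ₂) :
    shGerm η ((EtDesc.pushSh f).obj F) V₁ s₁ σ₁ = shGerm η ((EtDesc.pushSh f).obj F) V₂ s₂ σ₂ := by
  let Φ := Scheme.pointSmallEtale η
  obtain ⟨W₀, pm, qm, -⟩ := IsCofilteredOrEmpty.cone_objs (C := Φ.fiber.Elements)
    (Functor.elementsMk _ V₁ s₁) (Functor.elementsMk _ V₂ s₂)
  obtain ⟨W, w⟩ := W₀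
  let p : W ⟶ V₁ := pm.1
  let q : W ⟶ V₂ := qm.1
  have hp : Φ.fiber.map p w = s₁ := pm.2
  have hq : Φ.fiber.map q w = s₂ := qm.2
  rw [← hp, ← hq]
  refine ((Φ.toPresheafFiber_w_apply p w ((EtDesc.pushSh f).obj F).obj σ₁).symm.trans ?_).trans
    (Φ.toPresheafFiber_w_apply q w ((EtDesc.pushSh f).obj F).obj σ₂)
  refine shGerm_push_ext f η F W w _ _ fun ξ h => ?_
  refine (((Scheme.pointSmallEtale ξ).toPresheafFiber_w_apply ((EtCoh.bc f).map p) _ F.obj σ₁).trans
    ?_).trans ((Scheme.pointSmallEtale ξ).toPresheafFiber_w_apply ((EtCoh.bc f).map q) _ F.obj σ₂).symm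
  rw [pushLift_map, pushLift_map]
  erw [hp, hq]
  exact hσ ξ h

end push

section stalks

variable (f : X ⟶ Y) {Ω : Type u} [Field Ω] [IsSepClosed Ω] (ξ : Spec (CommRingCat.of Ω) ⟶ X)

/-- The counit of `f⁻¹ ⊣ f_*` on stalks. -/
noncomputable def shStalkCounit (F : EtDesc.Sh X) :
    (comapPt f ξ).sheafFiber.obj ((EtDesc.pushSh f).obj F) ⟶ (shStalk ξ).obj F :=
  (GrothendieckTopology.Point.sheafFiberComapIso (Scheme.pointSmallEtale ξ) (EtCoh.bc f)
      (EtCoh.coverPreserving_bc f) (Type (u + 1))).hom.app _ ≫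
    (shStalk ξ).map ((EtDesc.adjSh f).counit.app F)

set_option backward.isDefEq.respectTransparency.types false in
lemma toPresheafFiber_shStalkCounit (F : EtDesc.Sh X) (V : Y.Etale)
    (t : (Scheme.pointSmallEtale ξ).fiber.obj ((EtCoh.bc f).obj V)) :
    (comapPt f ξ).toPresheafFiber V t ((EtDesc.pushSh f).obj F).obj ≫ shStalkCounit f ξ F =
      shGerm ξ F ((EtCoh.bc f).obj V) t := by
  let adjA := EtDesc.adjSh f
  let adjS := (Scheme.pointSmallEtale ξ).skyscraperSheafAdjunction (A := (Type (u + 1)))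
  let adj₂ := (comapPt f ξ).skyscraperSheafAdjunction (A := (Type (u + 1)))
  have h1 : adj₂.homEquiv _ _ (shStalkCounit f ξ F) = (EtDesc.pushSh f).map (adjS.unit.app F) := by
    rw [Adjunction.homEquiv_unit, shStalkCounit, Functor.map_comp, ← Category.assoc]
    have h2 := unit_conjugateEquiv_symm (adjA.comp adjS) adj₂
      ((Scheme.pointSmallEtale ξ).skyscraperSheafFunctorCompSheafPushforwardContinuous (EtCoh.bc f)
        (EtCoh.coverPreserving_bc f) (Type (u + 1))).hom ((EtDesc.pushSh f).obj F)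
    erw [← h2]
    simp only [GrothendieckTopology.Point.skyscraperSheafFunctorCompSheafPushforwardContinuous,
      Iso.refl_hom, Adjunction.comp_unit_app]
    erw [Category.comp_id]
    show (adjA.unit.app _ ≫ (EtDesc.pushSh f).map (adjS.unit.app _)) ≫
      (EtDesc.pushSh f).map ((Scheme.pointSmallEtale ξ).skyscraperSheafFunctor.map
        ((shStalk ξ).map (adjA.counit.app F))) = _
    rw [Category.assoc, ← Functor.map_comp]
    erw [← adjS.unit.naturality (adjA.counit.app F)]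
    rw [Functor.id_map, Functor.map_comp, ← Category.assoc,
      adjA.right_triangle_components]
    exact Category.id_comp _
  rw [← (adj₂.homEquiv _ _).symm_apply_apply (shStalkCounit f ξ F), h1]
  erw [GrothendieckTopology.Point.skyscraperSheafAdjunction_homEquiv_symm_apply]
  simp only [GrothendieckTopology.Point.skyscraperPresheafHomEquiv, Equiv.coe_fn_symm_mk]
  refine (colimit.ι_desc _ _).trans ?_
  show (adjS.unit.app F).hom.app (op ((EtCoh.bc f).obj V)) ≫ Pi.π _ t = _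
  rw [← Adjunction.homEquiv_id]
  erw [GrothendieckTopology.Point.skyscraperSheafAdjunction_homEquiv_apply_hom]
  simp only [GrothendieckTopology.Point.skyscraperPresheafHomEquiv]
  erw [limit.lift_π]
  exact Category.comp_id _

set_option backward.isDefEq.respectTransparency.types false in
/-- Evaluation of the stalk of a direct image at a point over the geometric point. -/
noncomputable def shEvPush (F : EtDesc.Sh X) :
    (shStalk (ξ ≫ f)).obj ((EtDesc.pushSh f).obj F) ⟶ (shStalk ξ).obj F :=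
  (comapPointIso f ξ).hom.sheafFiber.app _ ≫ shStalkCounit f ξ F

set_option backward.isDefEq.respectTransparency.types false in
lemma shEvPush_germ (F : EtDesc.Sh X) (V : Y.Etale)
    (s : (Scheme.pointSmallEtale (ξ ≫ f)).fiber.obj V) (σ : F.obj.obj (op ((EtCoh.bc f).obj V))) :
    shEvPush f ξ F (shGerm (ξ ≫ f) ((EtDesc.pushSh f).obj F) V s σ) =
      shGerm ξ F _ (pushLift f ξ rfl V s) σ := by
  have h1 : shGerm (ξ ≫ f) ((EtDesc.pushSh f).obj F) V s ≫ (comapPointIso f ξ).hom.sheafFiber.app _ =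
      (comapPt f ξ).toPresheafFiber V ((bcFiberEquiv f ξ V).symm s) ((EtDesc.pushSh f).obj F).obj := by
    exact colimit.ι_desc _ _
  show shStalkCounit f ξ F ((shGerm (ξ ≫ f) ((EtDesc.pushSh f).obj F) V s ≫
    (comapPointIso f ξ).hom.sheafFiber.app _) σ) = _
  rw [h1]
  exact ConcreteCategory.congr_hom (toPresheafFiber_shStalkCounit f ξ F V _) σ

set_option backward.isDefEq.respectTransparency.types false in
/-- The stalk comparison of inverse images on germs. -/
lemma shStalkPullIso_germ (P : EtDesc.Sh Y) (V : Y.Etale)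
    (s : (Scheme.pointSmallEtale (ξ ≫ f)).fiber.obj V) (σ : P.obj.obj (op V)) :
    (shStalkPullIso f ξ).hom.app P (shGerm (ξ ≫ f) P V s σ) =
      shGerm ξ ((EtDesc.pullSh f).obj P) ((EtCoh.bc f).obj V) (pushLift f ξ rfl V s)
        (((EtDesc.adjSh f).unit.app P).hom.app (op V) σ) := by
  have key : (shStalkPullIso f ξ).hom.app P =
      (shStalk (ξ ≫ f)).map ((EtDesc.adjSh f).unit.app P) ≫
        shEvPush f ξ ((EtDesc.pullSh f).obj P) := by
    have h1 : ((EtDesc.adjSh f).unit.app P) = (EtDesc.adjSh f).unit.app P := rfl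
    unfold shEvPush shStalkCounit
    rw [← Category.assoc, ← Category.assoc]
    erw [(comapPointIso f ξ).hom.sheafFiber.naturality]
    erw [Category.assoc ((comapPointIso f ξ).hom.sheafFiber.app P)]
    erw [(GrothendieckTopology.Point.sheafFiberComapIso (Scheme.pointSmallEtale ξ) (EtCoh.bc f)
      (EtCoh.coverPreserving_bc f) (Type (u + 1))).hom.naturality]
    rw [Category.assoc, Category.assoc]
    show (shStalkPullIso f ξ).hom.app P =
      (comapPointIso f ξ).hom.sheafFiber.app P ≫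
        (GrothendieckTopology.Point.sheafFiberComapIso (Scheme.pointSmallEtale ξ) (EtCoh.bc f)
          (EtCoh.coverPreserving_bc f) (Type (u + 1))).hom.app P ≫
          (shStalk ξ).map ((EtDesc.pullSh f).map ((EtDesc.adjSh f).unit.app P)) ≫
            (shStalk ξ).map ((EtDesc.adjSh f).counit.app ((EtDesc.pullSh f).obj P))
    rw [← Functor.map_comp]
    erw [(EtDesc.adjSh f).left_triangle_components P]
    rw [CategoryTheory.Functor.map_id]
    erw [Category.comp_id]
    rfl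
  rw [key, ConcreteCategory.comp_apply]
  erw [shGerm_map]
  exact shEvPush_germ f ξ _ V s _

end stalks

section counit

variable (f : X ⟶ Y) [IsIntegralHom f] [UniversallyInjective f]

lemma bijective_shEvPush {Ω : Type u} [Field Ω] [IsAlgClosed Ω] (ξ : Spec (CommRingCat.of Ω) ⟶ X)
    (F : EtDesc.Sh X) : Function.Bijective (shEvPush f ξ F) := by
  constructor
  · intro a b hab
    obtain ⟨V₁, s₁, σ₁, rfl⟩ := shGerm_surjective (ξ ≫ f) _ a
    obtain ⟨V₂, s₂, σ₂, rfl⟩ := shGerm_surjective (ξ ≫ f) _ b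
    rw [shEvPush_germ, shEvPush_germ] at hab
    refine shGerm_push_eq f (ξ ≫ f) F V₁ V₂ s₁ s₂ σ₁ σ₂ fun ξ' h => ?_
    have hpts := ((tfae_universallyInjective f).out 0 1
      (a := UniversallyInjective f)
      (b := ∀ (K : Type u) [Field K], Function.Injective (fun g : Spec (.of K) ⟶ X ↦ g ≫ f))
      rfl rfl).mp ‹_›
    obtain rfl : ξ' = ξ := hpts Ω h
    exact hab
  · intro a
    obtain ⟨U, t, σ, rfl⟩ := shGerm_surjective ξ F a
    obtain ⟨V, g, s, rfl⟩ := Groth.EtaleBase.exists_bc_nbhd f ξ U t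
    obtain ⟨s', hs'⟩ : ∃ s', pushLift f ξ rfl V s' = s :=
      ⟨bcFiberEquiv f ξ V s, (bcFiberEquiv f ξ V).symm_apply_apply s⟩
    refine ⟨shGerm (ξ ≫ f) ((EtDesc.pushSh f).obj F) V s' (F.obj.map g.op σ), ?_⟩
    rw [shEvPush_germ, hs']
    exact (Scheme.pointSmallEtale ξ).toPresheafFiber_w_apply g s F.obj σ

theorem isIso_counitSh (F : EtDesc.Sh X) : IsIso ((EtDesc.adjSh f).counit.app F) := by
  have key : ∀ x : X, ∃ (Ω : Type u) (_ : Field Ω) (_ : IsSepClosed Ω)
      (ξ : Spec (CommRingCat.of Ω) ⟶ X), ξ.base default = x ∧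
        Function.Bijective ((shStalk ξ).map ((EtDesc.adjSh f).counit.app F)) := fun x => by
    let K := AlgebraicClosure (X.residueField x)
    let ξ : Spec (CommRingCat.of K) ⟶ X :=
      Spec.map (CommRingCat.ofHom (algebraMap (X.residueField x) K)) ≫ X.fromSpecResidueField x
    refine ⟨K, inferInstance, inferInstance, ξ, Scheme.fromSpecResidueField_apply x _, ?_⟩
    have hb := bijective_shEvPush f ξ F
    have hi : IsIso (shEvPush f ξ F) := (isIso_iff_bijective _).2 hb
    unfold shEvPush shStalkCounit at hi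
    have h1 : IsIso ((comapPointIso f ξ).hom.sheafFiber (A := Type (u + 1))) :=
      ⟨(comapPointIso f ξ).inv.sheafFiber,
        by rw [← GrothendieckTopology.Point.Hom.sheafFiber_comp, Iso.inv_hom_id,
          GrothendieckTopology.Point.Hom.sheafFiber_id],
        by rw [← GrothendieckTopology.Point.Hom.sheafFiber_comp, Iso.hom_inv_id,
          GrothendieckTopology.Point.Hom.sheafFiber_id]⟩
    have h2 := @IsIso.of_isIso_comp_left _ _ _ _ _ _ _ inferInstance hi
    have h3 := @IsIso.of_isIso_comp_left _ _ _ _ _ _ _ inferInstance h2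
    exact (isIso_iff_bijective _).1 h3
  have := mono_of_stalks ((EtDesc.adjSh f).counit.app F) fun x => by
    obtain ⟨Ω, i1, i2, ξ, h1, h2⟩ := key x; exact ⟨Ω, i1, i2, ξ, h1, h2.1⟩
  have := epi_of_stalks ((EtDesc.adjSh f).counit.app F) fun x => by
    obtain ⟨Ω, i1, i2, ξ, h1, h2⟩ := key x; exact ⟨Ω, i1, i2, ξ, h1, h2.2⟩
  exact isIso_of_mono_of_epi _

end counit

end Groth.DescentBase
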