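import Groth.Prelude.Def_Pi1
import Mathlib.Algebra.Module.CharacterModule
import Mathlib.RingTheory.Flat.FaithfullyFlat.Algebra
import Mathlib.LinearAlgebra.TensorProduct.Tower

/-!
# Coalgebras for a universally injective ring extension are effective

If `R → S` is universally injective, the equalizer of a coalgebra structure `ψ : N → S ⊗ N` with the
unit `n ↦ 1 ⊗ n` stays an equalizer after tensoring (it becomes split on character modules).
-/

set_option autoImplicit false

universe u

open TensorProduct

namespace Groth.DescentBase.UnivInj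

variable {R S : Type u} [CommRing R] [CommRing S] [Algebra R S]
  {X Y : Type u} [AddCommGroup X] [Module R X] [AddCommGroup Y] [Module R Y]

/-- The unit `X → S ⊗ X`. -/
noncomputable abbrev eta (S : Type u) [CommRing S] [Algebra R S] (X : Type u) [AddCommGroup X]
    [Module R X] : X →ₗ[R] S ⊗[R] X :=
  TensorProduct.mk R S X 1

theorem eta_injective (h : Pi1.UnivInjective R S) : Function.Injective (eta (R := R) S X) := by
  intro x y hxy
  have h' := congrArg (TensorProduct.comm R S X) hxy
  refine (TensorProduct.rid R X).symm.injective (h X ?_)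
  simpa using h'

theorem univInjective_of_eta
    (h : ∀ (P : Type u) [AddCommGroup P] [Module R P], Function.Injective (eta (R := R) S P)) :
    Pi1.UnivInjective R S := by
  intro P _ _ x y hxy
  obtain ⟨a, rfl⟩ := (TensorProduct.rid R P).symm.surjective x
  obtain ⟨b, rfl⟩ := (TensorProduct.rid R P).symm.surjective y
  refine congrArg _ (h P ?_)
  have h' := congrArg (TensorProduct.comm R P S) hxy
  simpa using h'

theorem univInjective_of_faithfullyFlat [Module.FaithfullyFlat R S] : Pi1.UnivInjective R S :=
  univInjective_of_eta fun _ _ _ => Module.FaithfullyFlat.tensorProduct_mk_injective _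

/-- A universally injective extension has a character of `C(R) ⊗ S` extending evaluation at `1`. -/
theorem exists_char (h : Pi1.UnivInjective R S) :
    ∃ G : CharacterModule (CharacterModule R ⊗[R] S),
      ∀ χ : CharacterModule R, G (χ ⊗ₜ 1) = χ 1 := by
  let j : CharacterModule R →ₗ[R] CharacterModule R ⊗[R] S :=
    (TensorProduct.mk R (CharacterModule R) S).flip 1
  have hj : Function.Injective j := fun a b hab =>
    eta_injective h (X := CharacterModule R) ((TensorProduct.comm R S _).injective (by simpa [j] using hab))
  obtain ⟨G, hG⟩ := CharacterModule.dual_surjective_of_injective j hj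
    (AddMonoidHom.mk' (fun χ : CharacterModule R => χ 1) fun _ _ => rfl)
  exact ⟨G, fun χ => DFunLike.congr_fun hG χ⟩

variable (G : CharacterModule (CharacterModule R ⊗[R] S))

/-- The character `a ↦ χ (a • x)` of `R`. -/
noncomputable abbrev evalAt (x : X) (χ : CharacterModule X) : CharacterModule R :=
  CharacterModule.dual (LinearMap.toSpanSingleton R X x) χ

/-- The natural section of the dual of the unit, as a bilinear map. -/
noncomputable def sectLin : CharacterModule X →ₗ[R] S →ₗ[R] CharacterModule X :=
  LinearMap.mk₂ R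
    (fun χ s => AddMonoidHom.mk' (fun x => G (evalAt x χ ⊗ₜ s)) fun x y => by
      have : evalAt (x + y) χ = evalAt (R := R) x χ + evalAt y χ := by
        ext a
        change χ (a • (x + y)) = χ (a • x) + χ (a • y)
        rw [smul_add, map_add]
      change G (evalAt (x + y) χ ⊗ₜ s) = G (evalAt x χ ⊗ₜ s) + G (evalAt y χ ⊗ₜ s)
      rw [this, add_tmul, map_add])
    (fun χ χ' s => by
      ext x
      change G (evalAt x (χ + χ') ⊗ₜ s) = G (evalAt x χ ⊗ₜ s) + G (evalAt x χ' ⊗ₜ s)
      rw [← map_add G, ← add_tmul]
      exact congrArg (fun y => G (y ⊗ₜ s)) (map_add (CharacterModule.dual _) χ χ'))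
    (fun r χ s => by
      ext x
      change G (evalAt x (r • χ) ⊗ₜ s) = G (evalAt (r • x) χ ⊗ₜ s)
      congr 2
      ext a
      change χ (r • a • x) = χ (a • r • x)
      rw [smul_comm])
    (fun χ s s' => by
      ext x
      change G (evalAt x χ ⊗ₜ (s + s')) = G (evalAt x χ ⊗ₜ s) + G (evalAt x χ ⊗ₜ s')
      rw [tmul_add, map_add])
    (fun r χ s => by
      ext x
      change G (evalAt x χ ⊗ₜ (r • s)) = G (evalAt (r • x) χ ⊗ₜ s)
      rw [← smul_tmul]
      congr 2
      ext a
      change χ ((r • a) • x) = χ (a • r • x)
      rw [smul_eq_mul, mul_smul, smul_comm])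

/-- The natural section of the dual of the unit. -/
noncomputable def sect : CharacterModule X →ₗ[R] CharacterModule (S ⊗[R] X) :=
  CharacterModule.uncurry ∘ₗ sectLin G

theorem sect_tmul (χ : CharacterModule X) (s : S) (x : X) :
    sect G χ (s ⊗ₜ x) = G (evalAt x χ ⊗ₜ s) := rfl

theorem sect_eta (hG : ∀ χ : CharacterModule R, G (χ ⊗ₜ 1) = χ 1) (χ : CharacterModule X) (x : X) :
    sect G χ (1 ⊗ₜ x) = χ x := by
  rw [sect_tmul, hG]
  change χ ((1 : R) • x) = χ x
  rw [one_smul]

theorem sect_natural (l : X →ₗ[R] Y) (χ : CharacterModule Y) (z : S ⊗[R] X) :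
    sect G χ (LinearMap.lTensor S l z) = sect G (CharacterModule.dual l χ) z := by
  induction z using TensorProduct.induction_on with
  | zero => simp
  | tmul s x =>
    rw [LinearMap.lTensor_tmul, sect_tmul, sect_tmul]
    congr 2
    ext a
    exact congrArg χ (l.map_smul a x).symm
  | add a b ha hb => simp only [map_add, ha, hb]

variable {N : Type u} [AddCommGroup N] [Module R N] (ψ : N →ₗ[R] S ⊗[R] N)

/-- The coinvariants of a coalgebra. -/
noncomputable def coinv : Submodule R N := LinearMap.ker (ψ - eta S N)

theorem mem_coinv {n : N} : n ∈ coinv ψ ↔ ψ n = (1 : S) ⊗ₜ n := by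
  simp [coinv, sub_eq_zero]

variable (hcoassoc : ∀ n, LinearMap.lTensor S ψ (ψ n) = LinearMap.lTensor S (eta S N) (ψ n))
include hcoassoc

theorem lTensor_coinv_injective_exact (h : Pi1.UnivInjective R S) (P : Type u) [AddCommGroup P]
    [Module R P] :
    Function.Injective (LinearMap.lTensor P (coinv ψ).subtype) ∧
      Function.Exact (LinearMap.lTensor P (coinv ψ).subtype)
        (LinearMap.lTensor P (ψ - eta S N)) := by
  obtain ⟨G, hG⟩ := exists_char h
  let δ : N →ₗ[R] S ⊗[R] N := ψ - eta S N
  let e : CharacterModule N →ₗ[R] CharacterModule N := CharacterModule.dual ψ ∘ₗ sect G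
  -- `e` kills the characters vanishing on the coinvariants
  have hker : ∀ χ : CharacterModule N, (∀ m ∈ coinv ψ, χ m = 0) → e χ = 0 := by
    intro χ hχ
    obtain ⟨χ', rfl⟩ : ∃ χ', CharacterModule.dual δ χ' = χ := by
      let q : N ⧸ coinv ψ →ₗ[R] S ⊗[R] N := (coinv ψ).liftQ δ le_rfl
      have hq : Function.Injective q :=
        LinearMap.ker_eq_bot.1 (Submodule.ker_liftQ_eq_bot _ _ _ le_rfl)
      let χq : CharacterModule (N ⧸ coinv ψ) :=
        QuotientAddGroup.lift (coinv ψ).toAddSubgroup χ fun m hm => hχ m hm
      obtain ⟨χ', hχ'⟩ := CharacterModule.dual_surjective_of_injective q hq χq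
      exact ⟨χ', DFunLike.ext _ _ fun n => DFunLike.congr_fun hχ' (Submodule.Quotient.mk n)⟩
    ext n
    change sect G (CharacterModule.dual δ χ') (ψ n) = 0
    rw [← sect_natural, LinearMap.lTensor_sub, LinearMap.sub_apply, hcoassoc, sub_self, map_zero]
  -- decomposition of the identity
  have hid : ∀ (χ : CharacterModule N) (n : N), χ n = e χ n - sect G χ (δ n) := fun χ n => by
    change χ n = sect G χ (ψ n) - sect G χ (ψ n - 1 ⊗ₜ n)
    rw [map_sub, sect_eta G hG, sub_sub_cancel]
  refine ⟨(injective_iff_map_eq_zero _).2 fun z hz => CharacterModule.eq_zero_of_character_apply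
    fun Ω => ?_, ?_⟩
  · have hsurj := CharacterModule.dual_surjective_of_injective (coinv ψ).subtype
      (coinv ψ).injective_subtype
    choose x hx using hsurj
    have hadd : ∀ χ χ' : CharacterModule N,
        CharacterModule.dual (coinv ψ).subtype χ = CharacterModule.dual (coinv ψ).subtype χ' →
          e χ = e χ' := fun χ χ' hh => by
      rw [← sub_eq_zero, ← map_sub]
      refine hker _ fun m hm => ?_
      change χ m - χ' m = 0
      rw [sub_eq_zero]
      exact DFunLike.congr_fun hh ⟨m, hm⟩
    let t : CharacterModule (coinv ψ) →ₗ[R] CharacterModule N :=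
      { toFun := fun ω => e (x ω)
        map_add' := fun ω ω' => by rw [← map_add]; exact hadd _ _ (by rw [map_add, hx, hx, hx])
        map_smul' := fun r ω => by
          rw [RingHom.id_apply, ← map_smul]; exact hadd _ _ (by rw [map_smul, hx, hx]) }
    have ht : ∀ ω (m : coinv ψ), t ω (m : N) = ω m := fun ω m => by
      change sect G (x ω) (ψ m) = ω m
      rw [(mem_coinv ψ).1 m.2, sect_eta G hG]
      exact DFunLike.congr_fun (hx ω) m
    have key : ∀ w, CharacterModule.uncurry (t ∘ₗ CharacterModule.curry Ω)
        (LinearMap.lTensor P (coinv ψ).subtype w) = Ω w := by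
      intro w
      induction w using TensorProduct.induction_on with
      | zero => simp
      | tmul p m => exact ht _ m
      | add a b ha hb => simp only [map_add, ha, hb]
    rw [← key, hz, map_zero]
  · intro z
    constructor
    · intro hz
      by_contra hzr
      let Q := LinearMap.range (LinearMap.lTensor P (coinv ψ).subtype)
      obtain ⟨θ, hθ⟩ := CharacterModule.exists_character_apply_ne_zero_of_ne_zero
        (show (Submodule.Quotient.mk z : (P ⊗[R] N) ⧸ Q) ≠ 0 from
          fun h0 => hzr ((Submodule.Quotient.mk_eq_zero Q).1 h0))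
      apply hθ
      let Θ : CharacterModule (P ⊗[R] N) := CharacterModule.dual Q.mkQ θ
      have hec : e ∘ₗ CharacterModule.curry Θ = 0 := by
        ext1 p
        refine hker _ fun m hm => ?_
        change θ (Q.mkQ (p ⊗ₜ m)) = 0
        have : Q.mkQ (p ⊗ₜ m) = 0 :=
          (Submodule.Quotient.mk_eq_zero Q).2 ⟨p ⊗ₜ ⟨m, hm⟩, rfl⟩
        rw [this, map_zero]
      have key : ∀ w, Θ w = CharacterModule.uncurry (e ∘ₗ CharacterModule.curry Θ) w -
          CharacterModule.uncurry (sect G ∘ₗ CharacterModule.curry Θ) (LinearMap.lTensor P δ w) := by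
        intro w
        induction w using TensorProduct.induction_on with
        | zero => simp
        | tmul p n => exact hid (CharacterModule.curry Θ p) n
        | add a b ha hb => simp only [map_add, ha, hb]; abel
      change Θ z = 0
      rw [key z, hec, hz, map_zero, map_zero, sub_zero]
      rfl
    · rintro ⟨w, rfl⟩
      rw [← LinearMap.comp_apply, ← LinearMap.lTensor_comp]
      have : (ψ - eta S N) ∘ₗ (coinv ψ).subtype = 0 := by
        ext m
        exact sub_eq_zero.2 ((mem_coinv ψ).1 m.2)
      rw [this, LinearMap.lTensor_zero, LinearMap.zero_apply]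

omit hcoassoc

variable [Module S N] [IsScalarTower R S N]

variable (R S N) in
/-- The action `S ⊗ N → N`. -/
noncomputable def actMap : S ⊗[R] N →ₗ[S] N :=
  LinearMap.liftBaseChange S (LinearMap.id : N →ₗ[R] N)

theorem actMap_tmul (s : S) (n : N) : actMap R S N (s ⊗ₜ n) = s • n := rfl

variable (hsmul : ∀ (s : S) (n : N), ψ (s • n) = s • ψ n)
  (hcounit : ∀ n, actMap R S N (ψ n) = n)
include hsmul hcounit hcoassoc

/-- Coalgebras of a universally injective extension are induced from their coinvariants. -/
theorem bijective_coinv (h : Pi1.UnivInjective R S) :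
    Function.Bijective (LinearMap.liftBaseChange S (coinv ψ).subtype) := by
  obtain ⟨hinj, hex⟩ := lTensor_coinv_injective_exact ψ hcoassoc h S
  have hμι : ∀ t, LinearMap.liftBaseChange S (coinv ψ).subtype t =
      actMap R S N (LinearMap.lTensor S (coinv ψ).subtype t) := by
    intro t
    induction t using TensorProduct.induction_on with
    | zero => simp
    | tmul s m => rfl
    | add a b ha hb => simp only [map_add, ha, hb]
  have hψμ : ∀ t, ψ (LinearMap.liftBaseChange S (coinv ψ).subtype t) =
      LinearMap.lTensor S (coinv ψ).subtype t := by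
    intro t
    induction t using TensorProduct.induction_on with
    | zero => simp
    | tmul s m =>
      change ψ (s • (m : N)) = s ⊗ₜ (m : N)
      rw [hsmul, (mem_coinv ψ).1 m.2, smul_tmul', smul_eq_mul, mul_one]
    | add a b ha hb => simp only [map_add, ha, hb]
  refine ⟨fun a b hab => hinj ?_, fun n => ?_⟩
  · rw [← hψμ, ← hψμ, hab]
  · obtain ⟨t, ht⟩ := (hex (ψ n)).1 (by
      rw [LinearMap.lTensor_sub, LinearMap.sub_apply, hcoassoc, sub_self])
    exact ⟨t, by rw [hμι, ht, hcounit]⟩

omit hsmul hcounit hcoassoc [Module S N] [IsScalarTower R S N]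

variable (R S) in
/-- The free coalgebra structure on `S ⊗ M`. -/
noncomputable def freePsi (M : Type u) [AddCommGroup M] [Module R M] :
    S ⊗[R] M →ₗ[R] S ⊗[R] (S ⊗[R] M) :=
  LinearMap.lTensor S (eta S M)

/-- Equalizer form of descent for elements. -/
theorem exists_of_freePsi (h : Pi1.UnivInjective R S) {M : Type u} [AddCommGroup M] [Module R M]
    (z : S ⊗[R] M) (hz : freePsi R S M z = (1 : S) ⊗ₜ z) : ∃ m, (1 : S) ⊗ₜ m = z := by
  have hco : ∀ n, LinearMap.lTensor S (freePsi R S M) (freePsi R S M n) =
      LinearMap.lTensor S (eta S (S ⊗[R] M)) (freePsi R S M n) := by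
    intro n
    induction n using TensorProduct.induction_on with
    | zero => simp
    | tmul s m => rfl
    | add a b ha hb => simp only [map_add, ha, hb]
  have hsm : ∀ (s : S) (n : S ⊗[R] M), freePsi R S M (s • n) = s • freePsi R S M n := by
    intro s n
    induction n using TensorProduct.induction_on with
    | zero => simp
    | tmul t m => rfl
    | add a b ha hb => simp only [smul_add, map_add, ha, hb]
  have hcu : ∀ n, actMap R S (S ⊗[R] M) (freePsi R S M n) = n := by
    intro n
    induction n using TensorProduct.induction_on with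
    | zero => simp
    | tmul s m => exact (smul_tmul' s (1 : S) m).trans (by rw [smul_eq_mul, mul_one])
    | add a b ha hb => simp only [map_add, ha, hb]
  let E := coinv (freePsi R S M)
  let _ : AddCommGroup E := E.addCommGroup
  let j : M →ₗ[R] E := LinearMap.codRestrict E (eta S M) fun m => (mem_coinv _).2 rfl
  have hb := bijective_coinv (freePsi R S M) hco hsm hcu h
  have hsurj : Function.Surjective (LinearMap.lTensor S j) := by
    have hcomp : ∀ w, LinearMap.liftBaseChange S E.subtype (LinearMap.lTensor S j w) = w := by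
      intro w
      induction w using TensorProduct.induction_on with
      | zero => simp
      | tmul s m => exact (smul_tmul' s (1 : S) m).trans (by rw [smul_eq_mul, mul_one])
      | add a b ha hb => simp only [map_add, ha, hb]
    intro w
    exact ⟨LinearMap.liftBaseChange S E.subtype w, hb.1 (hcomp _)⟩
  have hj : Function.Surjective j := by
    intro x
    have h0 : (LinearMap.range j).mkQ x = 0 := by
      refine eta_injective h ?_
      rw [map_zero]
      obtain ⟨w, hw⟩ := hsurj (1 ⊗ₜ x)
      change (1 : S) ⊗ₜ (LinearMap.range j).mkQ x = 0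
      have h' : (LinearMap.range j).mkQ ∘ₗ j = 0 := LinearMap.range_mkQ_comp j
      rw [← LinearMap.lTensor_tmul, ← hw, ← LinearMap.comp_apply, ← LinearMap.lTensor_comp, h',
        LinearMap.lTensor_zero, LinearMap.zero_apply]
    exact (Submodule.Quotient.mk_eq_zero _).1 h0
  obtain ⟨m, hm⟩ := hj ⟨z, (mem_coinv _).2 hz⟩
  exact ⟨m, congrArg Subtype.val hm⟩

end Groth.DescentBase.UnivInj
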