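import Groth.Prelude.Def_Desc
import Groth.Agent.DescentBase.UnivInjCoalg

/-!
# Descent data of modules along a ring map as coalgebras
-/

set_option autoImplicit false
set_option backward.isDefEq.respectTransparency false
set_option backward.isDefEq.respectTransparency.types false

universe u

open CategoryTheory Opposite TensorProduct ModuleCat
open scoped ChangeOfRings

namespace Groth.DescentBase.RingDD

section et

variable {A T : Type u} [CommRing A] [CommRing T] (φ : A →+* T) (N : ModuleCat.{u} A)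

/-- The elementary tensor `t ⊗ n` of an extension of scalars. -/
noncomputable def et (t : T) (n : N) : (extendScalars φ).obj N := t ⊗ₜ[A,φ] n

/-- Maps out of an extension of scalars from balanced biadditive maps. -/
noncomputable def liftE {P : Type u} [AddCommGroup P] (b : T →+ N →+ P)
    (hb : ∀ (a : A) (t : T) (n : N), b (φ a * t) n = b t (a • n)) :
    (extendScalars φ).obj N →+ P :=
  letI := Module.compHom T φ
  TensorProduct.liftAddHom (M := T) (N := N) b hb

theorem liftE_et {P : Type u} [AddCommGroup P] (b : T →+ N →+ P)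
    (hb : ∀ (a : A) (t : T) (n : N), b (φ a * t) n = b t (a • n)) (t : T) (n : N) :
    liftE φ N b hb (et φ N t n) = b t n := rfl

theorem et_induction {C : (extendScalars φ).obj N → Prop} (x : (extendScalars φ).obj N)
    (h0 : C 0) (ht : ∀ t n, C (et φ N t n)) (ha : ∀ a b, C a → C b → C (a + b)) : C x := by
  let := Module.compHom T φ
  exact TensorProduct.induction_on x h0 ht ha

theorem smul_et (s t : T) (n : N) : s • et φ N t n = et φ N (s * t) n := rfl

theorem et_smul (t : T) (a : A) (n : N) : et φ N t (a • n) = et φ N (φ a * t) n := by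
  let := Module.compHom T φ
  exact (TensorProduct.smul_tmul a t n).symm

theorem et_add (t : T) (n n' : N) : et φ N t (n + n') = et φ N t n + et φ N t n' := by
  let := Module.compHom T φ
  exact TensorProduct.tmul_add t n n'

end et

variable {A B C : CommRingCat.{u}}

/-- `mapComp'` as a morphism of modules. -/
noncomputable def mc (g : op B ⟶ op A) (k : op C ⟶ op B) (q : op C ⟶ op A)
    (h : g.op.toLoc ≫ k.op.toLoc = q.op.toLoc) (N : ModuleCat.{u} A) :
    (extendScalars q.unop.hom).obj N ⟶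
      (extendScalars k.unop.hom).obj ((extendScalars g.unop.hom).obj N) :=
  (Desc.ringModPF.{u}.mapComp' g.op.toLoc k.op.toLoc q.op.toLoc h).hom.toNatTrans.app N

/-- The inverse of `mapComp'` as a morphism of modules. -/
noncomputable def mcInv (g : op B ⟶ op A) (k : op C ⟶ op B) (q : op C ⟶ op A)
    (h : g.op.toLoc ≫ k.op.toLoc = q.op.toLoc) (N : ModuleCat.{u} A) :
    (extendScalars k.unop.hom).obj ((extendScalars g.unop.hom).obj N) ⟶
      (extendScalars q.unop.hom).obj N :=
  (Desc.ringModPF.{u}.mapComp' g.op.toLoc k.op.toLoc q.op.toLoc h).inv.toNatTrans.app N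

theorem mc_et (g : op B ⟶ op A) (k : op C ⟶ op B) (q : op C ⟶ op A) (e : k ≫ g = q)
    (h : g.op.toLoc ≫ k.op.toLoc = q.op.toLoc) (N : ModuleCat.{u} A) (t : C) (n : N) :
    mc g k q h N (et q.unop.hom N t n) =
      et k.unop.hom ((extendScalars g.unop.hom).obj N) t (et g.unop.hom N 1 n) := by
  subst e
  have h1 : mc g k (k ≫ g) h N = (extendScalarsComp g.unop.hom k.unop.hom).hom.app N :=
    congr(($(Pseudofunctor.mapComp'_eq_mapComp Desc.ringModPF.{u} g.op.toLoc
      k.op.toLoc)).hom.toNatTrans.app N)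
  rw [h1]
  have h2 : et (k ≫ g).unop.hom N t n =
      (t : C) • et (k.unop.hom.comp g.unop.hom) N 1 n := by
    rw [smul_et, mul_one]
    rfl
  rw [h2]
  refine (map_smul ((extendScalarsComp g.unop.hom k.unop.hom).hom.app N).hom t _).trans ?_
  refine (congrArg (t • ·) (extendScalarsComp_hom_app_one_tmul g.unop.hom k.unop.hom N n)).trans ?_
  exact (smul_et k.unop.hom _ t 1 _).trans (by rw [mul_one]; rfl)

theorem mcInv_et (g : op B ⟶ op A) (k : op C ⟶ op B) (q : op C ⟶ op A) (e : k ≫ g = q)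
    (h : g.op.toLoc ≫ k.op.toLoc = q.op.toLoc) (N : ModuleCat.{u} A) (t : C) (b : B) (n : N) :
    mcInv g k q h N
      (et k.unop.hom ((extendScalars g.unop.hom).obj N) t (et g.unop.hom N b n)) =
      et q.unop.hom N (k.unop.hom b * t) n := by
  have h0 : et k.unop.hom ((extendScalars g.unop.hom).obj N) t (et g.unop.hom N b n) =
      et k.unop.hom ((extendScalars g.unop.hom).obj N) (k.unop.hom b * t) (et g.unop.hom N 1 n) := by
    rw [← et_smul, smul_et, mul_one]
  rw [h0, ← mc_et g k q e h N]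
  have h1 : mc g k q h N ≫ mcInv g k q h N = 𝟙 _ :=
    congr($((Desc.ringModPF.{u}.mapComp' g.op.toLoc k.op.toLoc q.op.toLoc h).hom_inv_id).toNatTrans.app N)
  exact congr($h1 (et q.unop.hom N (k.unop.hom b * t) n))

variable (R S : Type u) [CommRing R] [CommRing S] [Algebra R S]

/-- The morphism `Spec S ⟶ Spec R`. -/
abbrev f0 : op (CommRingCat.of S) ⟶ op (CommRingCat.of R) :=
  (CommRingCat.ofHom (algebraMap R S)).op

/-- Descent data along `R → S`. -/
abbrev DD := Desc.ringModPF.{u}.DescentData (fun _ : PUnit.{u + 1} => f0 R S)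

/-- The double ring. -/
abbrev T2 : CommRingCat.{u} := CommRingCat.of (S ⊗[R] S)

/-- The first projection. -/
abbrev i₁ : op (T2 R S) ⟶ op (CommRingCat.of S) :=
  (CommRingCat.ofHom (Algebra.TensorProduct.includeLeftRingHom (A := S) (R := R) (B := S))).op

/-- The second projection. -/
abbrev i₂ : op (T2 R S) ⟶ op (CommRingCat.of S) :=
  (CommRingCat.ofHom (Algebra.TensorProduct.includeRight (A := S) (R := R) (B := S)).toRingHom).op

theorem i_condition : i₁ R S ≫ f0 R S = i₂ R S ≫ f0 R S := by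
  apply Quiver.Hom.unop_inj
  ext r
  exact ((Algebra.TensorProduct.includeLeft (R := R) (S := R) (A := S) (B := S)).commutes r).trans
    ((Algebra.TensorProduct.includeRight (R := R) (A := S) (B := S)).commutes r).symm

variable {R S}

/-- The module of a descent datum, as an `R`-module. -/
abbrev NN (D : DD R S) : ModuleCat.{u} S := D.obj PUnit.unit

/-- Restriction of scalars to `R`. -/
@[reducible]
noncomputable def nnModule (D : DD R S) : Module R (NN D) := Module.compHom _ (algebraMap R S)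

variable (N : ModuleCat.{u} S) [Module R N] [IsScalarTower R S N]

/-- The map `s ↦ s • n`. -/
noncomputable abbrev tS (n : N) : S →ₗ[R] N := (LinearMap.toSpanSingleton S N n).restrictScalars R

/-- `(S ⊗ S) ⊗_{S, i₂} N → S ⊗ N`. -/
noncomputable def V2 : (extendScalars (i₂ R S).unop.hom).obj N →+ S ⊗[R] N :=
  liftE _ N
    (AddMonoidHom.mk' (fun w => AddMonoidHom.mk'
      (fun n => LinearMap.lTensor S (tS N n) w)
      fun n n' => by
        rw [← LinearMap.add_apply, ← LinearMap.lTensor_add]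
        congr 2
        ext s
        exact smul_add s n n')
      fun w w' => by ext n; exact (LinearMap.lTensor S _).map_add w w')
    fun s w n => by
      change LinearMap.lTensor S (tS N n) ((i₂ R S).unop.hom s * w) = LinearMap.lTensor S (tS N (s • n)) w
      induction w using TensorProduct.induction_on with
      | zero => rw [mul_zero, map_zero, map_zero]
      | tmul x y =>
        change LinearMap.lTensor S (tS N n) (((1 : S) ⊗ₜ[R] s) * (x ⊗ₜ[R] y)) = x ⊗ₜ[R] (y • s • n)
        rw [Algebra.TensorProduct.tmul_mul_tmul, one_mul, LinearMap.lTensor_tmul]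
        exact congrArg (x ⊗ₜ[R] ·) ((mul_comm s y).symm ▸ mul_smul y s n)
      | add a b ha hb => simp only [mul_add, map_add, ha, hb]

theorem V2_et (a b : S) (n : N) : V2 N (et _ N (a ⊗ₜ[R] b) n) = a ⊗ₜ[R] (b • n) := rfl

theorem V2_smul (s : S) (x : (extendScalars (i₂ R S).unop.hom).obj N) :
    V2 N (((s ⊗ₜ[R] (1 : S)) : T2 R S) • x) = s • V2 N x := by
  induction x using et_induction with
  | h0 => rw [smul_zero, map_zero, smul_zero]
  | ht w n =>
    induction w using TensorProduct.induction_on with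
    | zero =>
      rw [smul_et, mul_zero]
      change LinearMap.lTensor S (tS N n) (0 : S ⊗[R] S) = s • LinearMap.lTensor S (tS N n) (0 : S ⊗[R] S)
      rw [map_zero, smul_zero]
    | tmul a b =>
      rw [smul_et]
      change V2 N (et _ N ((s ⊗ₜ[R] (1 : S)) * (a ⊗ₜ[R] b)) n) = _
      rw [Algebra.TensorProduct.tmul_mul_tmul, one_mul, V2_et, V2_et, smul_tmul', smul_eq_mul]
    | add a b ha hb =>
      rw [smul_et] at ha hb ⊢
      change LinearMap.lTensor S (tS N n) ((s ⊗ₜ[R] (1 : S)) * (a + b)) =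
        s • LinearMap.lTensor S (tS N n) (a + b)
      rw [mul_add, map_add, map_add, smul_add]
      exact congrArg₂ (· + ·) ha hb
  | ha a b ha hb => rw [smul_add, map_add, map_add, smul_add, ha, hb]

theorem V2_injective : Function.Injective (V2 (R := R) N) := by
  let W : S ⊗[R] N →+ (extendScalars (i₂ R S).unop.hom).obj N :=
    TensorProduct.liftAddHom
      (AddMonoidHom.mk' (fun s => AddMonoidHom.mk' (fun n => et _ N ((s ⊗ₜ[R] (1 : S)) : T2 R S) n)
        fun n n' => et_add _ _ _ _ _) fun s s' => by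
          ext n
          let := Module.compHom (T2 R S) (i₂ R S).unop.hom
          change et _ N ((s + s') ⊗ₜ[R] (1 : S) : T2 R S) n = _
          rw [TensorProduct.add_tmul]
          exact TensorProduct.add_tmul _ _ n)
      fun r s n => by
        change et _ N ((r • s) ⊗ₜ[R] (1 : S) : T2 R S) n = et _ N (s ⊗ₜ[R] (1 : S) : T2 R S) (r • n)
        rw [← IsScalarTower.algebraMap_smul S r n, et_smul]
        congr 1
        change (r • s) ⊗ₜ[R] (1 : S) = ((1 : S) ⊗ₜ[R] algebraMap R S r) * (s ⊗ₜ[R] (1 : S))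
        rw [Algebra.TensorProduct.tmul_mul_tmul, one_mul, mul_one, smul_tmul,
          Algebra.algebraMap_eq_smul_one]
  refine Function.LeftInverse.injective (g := W) fun x => ?_
  induction x using et_induction with
  | h0 => rw [map_zero, map_zero]
  | ht w n =>
    let := Module.compHom (T2 R S) (i₂ R S).unop.hom
    induction w using TensorProduct.induction_on with
    | zero =>
      have h0 : et (i₂ R S).unop.hom N (0 : S ⊗[R] S) n = 0 := TensorProduct.zero_tmul _ n
      rw [h0, map_zero, map_zero]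
    | tmul a b =>
      rw [V2_et]
      change et _ N ((a ⊗ₜ[R] (1 : S)) : T2 R S) (b • n) = _
      rw [et_smul]
      congr 1
      change ((1 : S) ⊗ₜ[R] b) * (a ⊗ₜ[R] (1 : S)) = a ⊗ₜ[R] b
      rw [Algebra.TensorProduct.tmul_mul_tmul, one_mul, mul_one]
    | add a b ha hb =>
      have h : et (i₂ R S).unop.hom N (a + b : S ⊗[R] S) n =
          et (i₂ R S).unop.hom N a n + et (i₂ R S).unop.hom N b n := TensorProduct.add_tmul _ _ n
      rw [h, map_add, map_add, ha, hb]
  | ha a b ha hb => rw [map_add, map_add, ha, hb]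

/-- Base change of elementary tensors along a ring map. -/
noncomputable def bcE {N' : ModuleCat.{u} A} (g : op B ⟶ op A) (k : op C ⟶ op B) (g' : op C ⟶ op A)
    (e : k ≫ g = g') : (extendScalars g.unop.hom).obj N' →+ (extendScalars g'.unop.hom).obj N' :=
  liftE _ N'
    (AddMonoidHom.mk' (fun t => AddMonoidHom.mk' (fun n => et g'.unop.hom N' (k.unop.hom t) n)
        fun n n' => et_add _ _ _ _ _) fun t t' => by
      ext n
      let := Module.compHom C g'.unop.hom
      change et g'.unop.hom N' (k.unop.hom (t + t')) n = _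
      rw [map_add]
      exact TensorProduct.add_tmul _ _ n)
    fun a t n => by
      subst e
      change et _ N' (k.unop.hom (g.unop.hom a * t)) n = et _ N' (k.unop.hom t) (a • n)
      rw [et_smul, map_mul]
      rfl

theorem bcE_et {N' : ModuleCat.{u} A} (g : op B ⟶ op A) (k : op C ⟶ op B) (g' : op C ⟶ op A)
    (e : k ≫ g = g') (t : B) (n : N') :
    bcE g k g' e (et g.unop.hom N' t n) = et g'.unop.hom N' (k.unop.hom t) n := rfl

theorem bcE_smul {N' : ModuleCat.{u} A} (g : op B ⟶ op A) (k : op C ⟶ op B) (g' : op C ⟶ op A)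
    (e : k ≫ g = g') (r : B) (x : (extendScalars g.unop.hom).obj N') :
    bcE g k g' e (r • x) = (k.unop.hom r : C) • bcE g k g' e x := by
  induction x using et_induction with
  | h0 => rw [smul_zero, map_zero, smul_zero]
  | ht t n => rw [smul_et, bcE_et, bcE_et, smul_et, map_mul]
  | ha a b ha hb => rw [smul_add, map_add, map_add, smul_add, ha, hb]

set_option linter.unusedSectionVars false

section DD

variable (D : DD R S)

/-- The descent isomorphisms as morphisms of modules. -/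
noncomputable def dh {C : CommRingCat.{u}} (g₁ g₂ : op C ⟶ op (CommRingCat.of S))
    (h : g₁ ≫ f0 R S = g₂ ≫ f0 R S) :
    (extendScalars g₁.unop.hom).obj (NN D) ⟶ (extendScalars g₂.unop.hom).obj (NN D) :=
  D.hom (g₁ ≫ f0 R S) g₁ g₂ rfl h.symm

theorem dh_self {C : CommRingCat.{u}} (g : op C ⟶ op (CommRingCat.of S)) :
    dh D g g rfl = 𝟙 _ :=
  D.hom_self (g ≫ f0 R S) g rfl

theorem dh_comp {C : CommRingCat.{u}} (g₁ g₂ g₃ : op C ⟶ op (CommRingCat.of S))
    (h : g₁ ≫ f0 R S = g₂ ≫ f0 R S) (h' : g₂ ≫ f0 R S = g₃ ≫ f0 R S) :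
    dh D g₁ g₂ h ≫ dh D g₂ g₃ h' = dh D g₁ g₃ (h.trans h') := by
  have H : ∀ (q : op C ⟶ op (CommRingCat.of R)) (h₂ : g₂ ≫ f0 R S = q) (h₃ : g₃ ≫ f0 R S = q),
      dh D g₂ g₃ h' = D.hom q g₂ g₃ h₂ h₃ := by
    intro q h₂ h₃
    subst h₂
    rfl
  rw [H _ h.symm (h.trans h').symm]
  exact D.hom_comp (g₁ ≫ f0 R S) g₁ g₂ g₃ rfl h.symm (h.trans h').symm

/-- The descent isomorphisms are natural in the test ring. -/
theorem dh_bcE {B C : CommRingCat.{u}} (k : op C ⟶ op B) (g₁ g₂ : op B ⟶ op (CommRingCat.of S))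
    (h : g₁ ≫ f0 R S = g₂ ≫ f0 R S) (g₁' g₂' : op C ⟶ op (CommRingCat.of S)) (e₁ : k ≫ g₁ = g₁')
    (e₂ : k ≫ g₂ = g₂') (n : NN D) :
    dh D g₁' g₂' (by rw [← e₁, ← e₂, Category.assoc, Category.assoc, h])
        (et g₁'.unop.hom (NN D) 1 n) =
      bcE g₂ k g₂' e₂ (dh D g₁ g₂ h (et g₁.unop.hom (NN D) 1 n)) := by
  have hh : g₂' ≫ f0 R S = g₁' ≫ f0 R S := by
    rw [← e₁, ← e₂, Category.assoc, Category.assoc, h]
  have w₁ : g₁.op.toLoc ≫ k.op.toLoc = g₁'.op.toLoc := by subst e₁; rfl
  have w₂ : g₂.op.toLoc ≫ k.op.toLoc = g₂'.op.toLoc := by subst e₂; rfl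
  have H : dh D g₁' g₂' hh.symm = mc g₁ k g₁' w₁ (NN D) ≫
      (extendScalars k.unop.hom).map (dh D g₁ g₂ h) ≫ mcInv g₂ k g₂' w₂ (NN D) :=
    (D.pullHom_hom k (g₁ ≫ f0 R S) (g₁' ≫ f0 R S) (by rw [← e₁, Category.assoc]) g₁ g₂ rfl h.symm
      g₁' g₂' e₁ e₂).symm
  rw [H]
  change mcInv g₂ k g₂' w₂ (NN D) ((extendScalars k.unop.hom).map (dh D g₁ g₂ h)
    (mc g₁ k g₁' w₁ (NN D) (et g₁'.unop.hom (NN D) 1 n))) = _
  rw [mc_et g₁ k g₁' e₁ w₁]
  change mcInv g₂ k g₂' w₂ (NN D)
    (et k.unop.hom _ 1 (dh D g₁ g₂ h (et g₁.unop.hom (NN D) 1 n))) = _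
  generalize dh D g₁ g₂ h (et g₁.unop.hom (NN D) 1 n) = x
  induction x using et_induction with
  | h0 =>
    let := Module.compHom C k.unop.hom
    have h0 : et k.unop.hom ((extendScalars g₂.unop.hom).obj (NN D)) 1 0 = 0 :=
      TensorProduct.tmul_zero _ _
    rw [h0, map_zero, map_zero]
  | ht t n =>
    rw [mcInv_et g₂ k g₂' e₂ w₂, bcE_et, mul_one]
  | ha a b ha hb => rw [et_add, map_add, map_add, ha, hb]

variable [Module R (NN D)] [IsScalarTower R S (NN D)]

/-- The coalgebra structure of a descent datum. -/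
noncomputable def psi : NN D →ₗ[R] S ⊗[R] NN D where
  toFun n := V2 _ (dh D (i₁ R S) (i₂ R S) (i_condition R S) (et _ (NN D) 1 n))
  map_add' n n' := by rw [et_add, map_add, map_add]
  map_smul' r n := by
    rw [← IsScalarTower.algebraMap_smul S r n, et_smul, ← smul_et]
    change V2 _ ((dh D (i₁ R S) (i₂ R S) (i_condition R S)).hom
      (((algebraMap R S r) ⊗ₜ[R] (1 : S) : T2 R S) • et _ (NN D) 1 n)) = _
    rw [map_smul, V2_smul, IsScalarTower.algebraMap_smul, RingHom.id_apply]

theorem psi_smul (s : S) (n : NN D) : psi D (s • n) = s • psi D n := by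
  change V2 _ (dh D (i₁ R S) (i₂ R S) (i_condition R S) (et _ (NN D) 1 (s • n))) = _
  rw [et_smul, ← smul_et]
  change V2 _ ((dh D (i₁ R S) (i₂ R S) (i_condition R S)).hom
    (((s ⊗ₜ[R] (1 : S)) : T2 R S) • et _ (NN D) 1 n)) = _
  rw [map_smul, V2_smul]
  rfl

theorem psi_counit (n : NN D) : UnivInj.actMap R S (NN D) (psi D n) = n := by
  let μ : op (CommRingCat.of S) ⟶ op (T2 R S) :=
    (CommRingCat.ofHom (Algebra.TensorProduct.lmul' R (S := S)).toRingHom).op
  have e₁ : μ ≫ i₁ R S = 𝟙 _ := by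
    apply Quiver.Hom.unop_inj
    ext s
    exact (Algebra.TensorProduct.lmul'_apply_tmul s (1 : S)).trans (mul_one s)
  have e₂ : μ ≫ i₂ R S = 𝟙 _ := by
    apply Quiver.Hom.unop_inj
    ext s
    exact (Algebra.TensorProduct.lmul'_apply_tmul (1 : S) s).trans (one_mul s)
  have H := dh_bcE D μ (i₁ R S) (i₂ R S) (i_condition R S) (𝟙 _) (𝟙 _) e₁ e₂ n
  rw [dh_self, ModuleCat.id_apply] at H
  let V1 : (extendScalars (𝟙 (op (CommRingCat.of S))).unop.hom).obj (NN D) →+ NN D :=
    liftE _ _ (AddMonoidHom.mk' (fun t : S => AddMonoidHom.mk' (fun n : NN D => t • n) (smul_add t))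
      fun t t' => by ext m; exact add_smul t t' m)
      fun a t m => by
        change (a * t) • m = t • a • m
        rw [mul_comm, mul_smul]
  have hV : ∀ x, V1 (bcE (i₂ R S) μ (𝟙 _) e₂ x) = UnivInj.actMap R S (NN D) (V2 _ x) := by
    intro x
    induction x using et_induction with
    | h0 => simp only [map_zero]
    | ht w m =>
      rw [bcE_et]
      change (Algebra.TensorProduct.lmul' R (S := S) w) • m =
        UnivInj.actMap R S (NN D) (LinearMap.lTensor S (tS _ m) w)
      induction w using TensorProduct.induction_on with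
      | zero => simp only [map_zero, zero_smul]
      | tmul a b =>
        rw [Algebra.TensorProduct.lmul'_apply_tmul, LinearMap.lTensor_tmul, UnivInj.actMap_tmul,
          mul_smul]
        rfl
      | add a b ha hb => simp only [map_add, add_smul, ha, hb]
    | ha a b ha hb => simp only [map_add, ha, hb]
  refine (hV _).symm.trans ((congrArg V1 H.symm).trans ?_)
  exact one_smul S n

/-- The triple ring. -/
abbrev T3 (R S : Type u) [CommRing R] [CommRing S] [Algebra R S] : CommRingCat.{u} :=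
  CommRingCat.of (S ⊗[R] (S ⊗[R] S))

variable (R S) in
/-- The projection `(1, 2)`. -/
noncomputable abbrev k₁₂ : op (T3 R S) ⟶ op (T2 R S) := (CommRingCat.ofHom (Algebra.TensorProduct.map
    (AlgHom.id R S) (Algebra.TensorProduct.includeLeft (R := R) (S := R) (A := S) (B := S))).toRingHom).op

variable (R S) in
/-- The projection `(1, 3)`. -/
noncomputable abbrev k₁₃ : op (T3 R S) ⟶ op (T2 R S) := (CommRingCat.ofHom (Algebra.TensorProduct.map
    (AlgHom.id R S) (Algebra.TensorProduct.includeRight (R := R) (A := S) (B := S))).toRingHom).op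

variable (R S) in
/-- The projection `(2, 3)`. -/
noncomputable abbrev k₂₃ : op (T3 R S) ⟶ op (T2 R S) := (CommRingCat.ofHom
    (Algebra.TensorProduct.includeRight (R := R) (A := S) (B := S ⊗[R] S)).toRingHom).op

variable (R S) in
/-- The last vertex. -/
noncomputable abbrev j₃ : op (T3 R S) ⟶ op (CommRingCat.of S) := k₁₃ R S ≫ i₂ R S

theorem k₁₃_i₁ : k₁₃ R S ≫ i₁ R S = k₁₂ R S ≫ i₁ R S := by
  apply Quiver.Hom.unop_inj
  ext s
  rfl

theorem k₂₃_i₁ : k₂₃ R S ≫ i₁ R S = k₁₂ R S ≫ i₂ R S := by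
  apply Quiver.Hom.unop_inj
  ext s
  rfl

theorem k₂₃_i₂ : k₂₃ R S ≫ i₂ R S = j₃ R S := by
  apply Quiver.Hom.unop_inj
  ext s
  rfl

theorem cond₁₂ : (k₁₂ R S ≫ i₁ R S) ≫ f0 R S = (k₁₂ R S ≫ i₂ R S) ≫ f0 R S := by
  rw [Category.assoc, Category.assoc, i_condition]

theorem cond₂₃ : (k₁₂ R S ≫ i₂ R S) ≫ f0 R S = j₃ R S ≫ f0 R S := by
  rw [← k₂₃_i₁, ← k₂₃_i₂, Category.assoc, Category.assoc, i_condition]

/-- `w ↦ w • m` on the double ring. -/
noncomputable abbrev tS2 (m : NN D) : S ⊗[R] S →ₗ[R] S ⊗[R] NN D :=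
  LinearMap.lTensor S (tS (NN D) m)

theorem tS2_add (m m' : NN D) : tS2 D (m + m') = tS2 D m + tS2 D m' := by
  rw [tS2, tS2, tS2, ← LinearMap.lTensor_add]
  congr 1
  ext s
  exact smul_add s m m'

theorem tS2_right_mul (s : S) (m : NN D) (v : S ⊗[R] S) :
    tS2 D m (((1 : S) ⊗ₜ[R] s) * v) = tS2 D (s • m) v := by
  induction v using TensorProduct.induction_on with
  | zero => rw [mul_zero, map_zero, map_zero]
  | tmul b c =>
    rw [Algebra.TensorProduct.tmul_mul_tmul, one_mul]
    exact congrArg (b ⊗ₜ[R] ·) (by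
      change (s * c) • m = c • s • m
      rw [mul_comm, mul_smul])
  | add p q hp hq => simp only [mul_add, map_add, hp, hq]

theorem lTensor_tS2_right_mul (s : S) (m : NN D) (w : S ⊗[R] (S ⊗[R] S)) :
    LinearMap.lTensor S (tS2 D m) (((1 : S) ⊗ₜ[R] ((1 : S) ⊗ₜ[R] s)) * w) =
      LinearMap.lTensor S (tS2 D (s • m)) w := by
  induction w using TensorProduct.induction_on with
  | zero => rw [mul_zero, map_zero, map_zero]
  | tmul a v =>
    rw [Algebra.TensorProduct.tmul_mul_tmul, one_mul, LinearMap.lTensor_tmul,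
      LinearMap.lTensor_tmul, tS2_right_mul]
  | add p q hp hq => simp only [mul_add, map_add, hp, hq]

/-- `T3 ⊗_{j₃} N → S ⊗ S ⊗ N`. -/
noncomputable def V3 :
    (extendScalars (j₃ R S).unop.hom).obj (NN D) →+ S ⊗[R] (S ⊗[R] NN D) :=
  liftE _ _ (AddMonoidHom.mk' (fun w : S ⊗[R] (S ⊗[R] S) => AddMonoidHom.mk'
    (fun m : NN D => LinearMap.lTensor S (tS2 D m) w) fun m m' => by
      rw [← LinearMap.add_apply, ← LinearMap.lTensor_add, ← tS2_add])
    fun w w' => by ext m; exact (LinearMap.lTensor S (tS2 D m)).map_add w w')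
    fun s w m => lTensor_tS2_right_mul D s m w

theorem V3_et (w : S ⊗[R] (S ⊗[R] S)) (m : NN D) :
    V3 D (et _ (NN D) w m) = LinearMap.lTensor S (tS2 D m) w := rfl

theorem V3_bcE₁₃ (y : (extendScalars (i₂ R S).unop.hom).obj (NN D)) :
    V3 D (bcE (i₂ R S) (k₁₃ R S) (j₃ R S) rfl y) =
      LinearMap.lTensor S (UnivInj.eta S (NN D)) (V2 _ y) := by
  induction y using et_induction with
  | h0 => simp only [map_zero]
  | ht w m =>
    rw [bcE_et, V3_et]
    change LinearMap.lTensor S (tS2 D m) (Algebra.TensorProduct.map (AlgHom.id R S)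
        Algebra.TensorProduct.includeRight w) =
      LinearMap.lTensor S (UnivInj.eta S (NN D)) (LinearMap.lTensor S (tS _ m) w)
    induction w using TensorProduct.induction_on with
    | zero => simp only [map_zero]
    | tmul a b => rfl
    | add p q hp hq => simp only [map_add, hp, hq]
  | ha a b ha hb => simp only [map_add, ha, hb]

theorem V3_smul_bcE₂₃ (a b : S) (y : (extendScalars (i₂ R S).unop.hom).obj (NN D)) :
    V3 D ((a ⊗ₜ[R] (b ⊗ₜ[R] (1 : S)) : T3 R S) •
      bcE (i₂ R S) (k₂₃ R S) (j₃ R S) k₂₃_i₂ y) = a ⊗ₜ[R] (b • V2 _ y) := by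
  induction y using et_induction with
  | h0 => rw [map_zero, smul_zero, map_zero, map_zero, smul_zero, tmul_zero]
  | ht w m =>
    rw [bcE_et, smul_et, V3_et]
    change LinearMap.lTensor S (tS2 D m) ((a ⊗ₜ[R] (b ⊗ₜ[R] (1 : S))) * ((1 : S) ⊗ₜ[R] w)) =
      a ⊗ₜ[R] (b • LinearMap.lTensor S (tS _ m) w)
    rw [Algebra.TensorProduct.tmul_mul_tmul, mul_one, LinearMap.lTensor_tmul]
    congr 1
    induction w using TensorProduct.induction_on with
    | zero => simp only [mul_zero, map_zero, smul_zero]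
    | tmul c d =>
      rw [Algebra.TensorProduct.tmul_mul_tmul, one_mul, LinearMap.lTensor_tmul,
        LinearMap.lTensor_tmul, smul_tmul', smul_eq_mul]
    | add p q hp hq => simp only [mul_add, map_add, smul_add, hp, hq]
  | ha p q hp hq => simp only [map_add, smul_add, tmul_add, hp, hq]

theorem dh₂₃_et (m : NN D) :
    dh D (k₁₂ R S ≫ i₂ R S) (j₃ R S) cond₂₃ (et _ (NN D) 1 m) =
      bcE (i₂ R S) (k₂₃ R S) (j₃ R S) k₂₃_i₂
        (dh D (i₁ R S) (i₂ R S) (i_condition R S) (et _ (NN D) 1 m)) :=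
  dh_bcE D (k₂₃ R S) _ _ (i_condition R S) _ _ k₂₃_i₁ k₂₃_i₂ m

theorem V3_dh_bcE₁₂ (y : (extendScalars (i₂ R S).unop.hom).obj (NN D)) :
    V3 D (dh D (k₁₂ R S ≫ i₂ R S) (j₃ R S) cond₂₃
      (bcE (i₂ R S) (k₁₂ R S) (k₁₂ R S ≫ i₂ R S) rfl y)) =
      LinearMap.lTensor S (psi D) (V2 _ y) := by
  induction y using et_induction with
  | h0 => simp only [map_zero]
  | ht w m =>
    rw [bcE_et]
    induction w using TensorProduct.induction_on with
    | zero =>
      let := Module.compHom (T3 R S) (k₁₂ R S ≫ i₂ R S).unop.hom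
      let := Module.compHom (T2 R S) (i₂ R S).unop.hom
      have h0 : et (k₁₂ R S ≫ i₂ R S).unop.hom (NN D) (0 : T3 R S) m = 0 :=
        TensorProduct.zero_tmul _ _
      have h0' : et (i₂ R S).unop.hom (NN D) (0 : T2 R S) m = 0 := TensorProduct.zero_tmul _ _
      rw [map_zero, h0, h0', map_zero, map_zero, map_zero, map_zero]
    | tmul a b =>
      rw [V2_et, LinearMap.lTensor_tmul, psi_smul]
      refine Eq.trans ?_ (V3_smul_bcE₂₃ D a b
        (dh D (i₁ R S) (i₂ R S) (i_condition R S) (et _ (NN D) 1 m)))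
      rw [← dh₂₃_et D m]
      refine congrArg (V3 D) (Eq.trans (congrArg (dh D (k₁₂ R S ≫ i₂ R S) (j₃ R S) cond₂₃) ?_)
        (map_smul (dh D (k₁₂ R S ≫ i₂ R S) (j₃ R S) cond₂₃).hom _ _))
      rw [smul_et, mul_one]
      rfl
    | add p q hp hq =>
      let := Module.compHom (T3 R S) (k₁₂ R S ≫ i₂ R S).unop.hom
      let := Module.compHom (T2 R S) (i₂ R S).unop.hom
      have hadd : ∀ u v : T3 R S, et (k₁₂ R S ≫ i₂ R S).unop.hom (NN D) (u + v) m =
          et (k₁₂ R S ≫ i₂ R S).unop.hom (NN D) u m + et (k₁₂ R S ≫ i₂ R S).unop.hom (NN D) v m :=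
        fun u v => TensorProduct.add_tmul _ _ _
      have hadd' : et (i₂ R S).unop.hom (NN D) (p + q : T2 R S) m =
          et (i₂ R S).unop.hom (NN D) p m + et (i₂ R S).unop.hom (NN D) q m :=
        TensorProduct.add_tmul _ _ _
      rw [map_add, hadd, hadd']
      simp only [map_add, hp, hq]
  | ha a b ha hb => simp only [map_add, ha, hb]

theorem psi_coassoc (n : NN D) :
    LinearMap.lTensor S (psi D) (psi D n) =
      LinearMap.lTensor S (UnivInj.eta S (NN D)) (psi D n) := by
  let x := dh D (i₁ R S) (i₂ R S) (i_condition R S) (et _ (NN D) 1 n)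
  have H₁₂ : dh D (k₁₂ R S ≫ i₁ R S) (k₁₂ R S ≫ i₂ R S) cond₁₂ (et _ (NN D) 1 n) =
      bcE (i₂ R S) (k₁₂ R S) (k₁₂ R S ≫ i₂ R S) rfl x :=
    dh_bcE D (k₁₂ R S) _ _ (i_condition R S) _ _ rfl rfl n
  have H₁₃ : dh D (k₁₂ R S ≫ i₁ R S) (j₃ R S) (cond₁₂.trans cond₂₃) (et _ (NN D) 1 n) =
      bcE (i₂ R S) (k₁₃ R S) (j₃ R S) rfl x :=
    dh_bcE D (k₁₃ R S) _ _ (i_condition R S) _ _ k₁₃_i₁ rfl n
  change LinearMap.lTensor S (psi D) (V2 _ x) = LinearMap.lTensor S (UnivInj.eta S (NN D)) (V2 _ x)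
  rw [← V3_dh_bcE₁₂ D x, ← V3_bcE₁₃ D x, ← H₁₃, ← H₁₂, ← dh_comp D _ _ _ cond₁₂ cond₂₃]
  rfl

end DD

end Groth.DescentBase.RingDD
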