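import Groth.Agent.DescentBase.RingDD

/-!
# Descent of modules along universally injective ring maps
-/

set_option autoImplicit false
set_option backward.isDefEq.respectTransparency false
set_option backward.isDefEq.respectTransparency.types false
set_option linter.unusedSectionVars false

universe u

open CategoryTheory Opposite TensorProduct ModuleCat
open scoped ChangeOfRings

namespace Groth.DescentBase.RingDD

variable {R S : Type u} [CommRing R] [CommRing S] [Algebra R S]

variable (R S) in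
/-- The extension of scalars along `R → S`. -/
noncomputable abbrev extS : ModuleCat.{u} R ⥤ ModuleCat.{u} S := extendScalars (f0 R S).unop.hom

/-- The canonical descent datum of an `R`-module. -/
noncomputable abbrev canRD (M : ModuleCat.{u} R) : DD R S :=
  (Desc.ringModPF.{u}.toDescentData (fun _ : PUnit.{u + 1} => f0 R S)).obj M

/-- The extension of scalars as a plain tensor product. -/
noncomputable def toT (M : ModuleCat.{u} R) : (extS R S).obj M →+ S ⊗[R] M :=
  liftE _ M
    (AddMonoidHom.mk' (fun s : S => AddMonoidHom.mk' (fun m : M => s ⊗ₜ[R] m) (tmul_add s))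
      fun s s' => by ext m; exact add_tmul s s' m)
    fun r s m => by
      change (algebraMap R S r * s) ⊗ₜ[R] m = s ⊗ₜ[R] (r • m)
      rw [← Algebra.smul_def, smul_tmul]

theorem toT_et (M : ModuleCat.{u} R) (s : S) (m : M) :
    toT M (et (f0 R S).unop.hom M s m) = s ⊗ₜ[R] m := rfl

theorem et_add_left {A T : Type u} [CommRing A] [CommRing T] (φ : A →+* T) (N : ModuleCat.{u} A)
    (t t' : T) (n : N) : et φ N (t + t') n = et φ N t n + et φ N t' n := by
  let := Module.compHom T φ
  exact TensorProduct.add_tmul t t' n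

theorem toT_bijective (M : ModuleCat.{u} R) : Function.Bijective (toT (R := R) (S := S) M) := by
  let W : S ⊗[R] M →+ (extS R S).obj M :=
    TensorProduct.liftAddHom
      (AddMonoidHom.mk' (fun s : S => AddMonoidHom.mk' (fun m : M => et (f0 R S).unop.hom M s m)
        fun m m' => et_add _ _ _ _ _) fun s s' => by
          ext m
          exact et_add_left _ _ s s' m)
      fun r s m => by
        change et (f0 R S).unop.hom M (r • s) m = et (f0 R S).unop.hom M s (r • m)
        rw [Algebra.smul_def, et_smul]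
        rfl
  refine ⟨Function.LeftInverse.injective (g := W) fun x => ?_, fun y => ⟨W y, ?_⟩⟩
  · induction x using et_induction with
    | h0 => rw [map_zero, map_zero]
    | ht s m => rfl
    | ha a b ha hb => rw [map_add, map_add, ha, hb]
  · induction y using TensorProduct.induction_on with
    | zero => rw [map_zero, map_zero]
    | tmul s m => rfl
    | add a b ha hb => rw [map_add, map_add, ha, hb]

theorem toT_smul (M : ModuleCat.{u} R) (s : S) (x : (extS R S).obj M) :
    toT M (s • x) = s • toT M x := by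
  induction x using et_induction with
  | h0 => rw [smul_zero, map_zero, smul_zero]
  | ht t m => rw [smul_et, toT_et, toT_et, smul_tmul', smul_eq_mul]
  | ha a b ha hb => rw [smul_add, map_add, map_add, smul_add, ha, hb]

theorem et_zero {A T : Type u} [CommRing A] [CommRing T] (φ : A →+* T) (N : ModuleCat.{u} A)
    (t : T) : et φ N t 0 = 0 := by
  let := Module.compHom T φ
  exact TensorProduct.tmul_zero N t

/-- The element `1 ⊗ m` of a canonical descent datum. -/
noncomputable def cel (M : ModuleCat.{u} R) (m : M) : NN (canRD (S := S) M) :=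
  et (f0 R S).unop.hom M 1 m

/-- The canonical descent datum as a plain tensor product. -/
noncomputable def cT (M : ModuleCat.{u} R) : NN (canRD (S := S) M) →+ S ⊗[R] M := toT M

theorem cT_cel (M : ModuleCat.{u} R) (m : M) : cT M (cel (S := S) M m) = (1 : S) ⊗ₜ[R] m := rfl

theorem cT_bijective (M : ModuleCat.{u} R) : Function.Bijective (cT (R := R) (S := S) M) :=
  toT_bijective M

theorem cT_smul (M : ModuleCat.{u} R) (s : S) (x : NN (canRD (S := S) M)) :
    cT M (s • x) = s • cT M x :=
  toT_smul M s x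

theorem cel_induction (M : ModuleCat.{u} R) {C : NN (canRD (S := S) M) → Prop}
    (x : NN (canRD (S := S) M)) (h0 : C 0) (ht : ∀ (s : S) m, C (s • cel M m))
    (ha : ∀ a b, C a → C b → C (a + b)) : C x := by
  obtain ⟨t, ht'⟩ : ∃ t, cT M x = t := ⟨_, rfl⟩
  induction t using TensorProduct.induction_on generalizing x with
  | zero =>
    rw [(cT_bijective M).1 (ht'.trans (map_zero _).symm)]
    exact h0
  | tmul s m =>
    have : x = s • cel M m := (cT_bijective M).1 (ht'.trans (by
      rw [cT_smul, cT_cel, smul_tmul', smul_eq_mul, mul_one]))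
    rw [this]
    exact ht s m
  | add a b iha ihb =>
    obtain ⟨a', rfl⟩ := (cT_bijective M).2 a
    obtain ⟨b', rfl⟩ := (cT_bijective M).2 b
    rw [(cT_bijective M).1 (ht'.trans (map_add _ a' b').symm)]
    exact ha _ _ (iha a' rfl) (ihb b' rfl)

theorem dh_canRD (M : ModuleCat.{u} R) {C : CommRingCat.{u}}
    (g₁ g₂ : op C ⟶ op (CommRingCat.of S)) (h : g₁ ≫ f0 R S = g₂ ≫ f0 R S) (m : M) :
    dh (canRD M) g₁ g₂ h (et g₁.unop.hom (NN (canRD (S := S) M)) 1 (cel M m)) =
      et g₂.unop.hom (NN (canRD (S := S) M)) 1 (cel M m) := by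
  have w₁ : (f0 R S).op.toLoc ≫ g₁.op.toLoc = (g₁ ≫ f0 R S).op.toLoc := rfl
  have w₂ : (f0 R S).op.toLoc ≫ g₂.op.toLoc = (g₁ ≫ f0 R S).op.toLoc := by rw [h]; rfl
  have H : mc (f0 R S) g₂ (g₁ ≫ f0 R S) w₂ M (mcInv (f0 R S) g₁ (g₁ ≫ f0 R S) w₁ M
      (et g₁.unop.hom ((extS R S).obj M) 1 (et (f0 R S).unop.hom M 1 m))) =
      et g₂.unop.hom ((extS R S).obj M) 1 (et (f0 R S).unop.hom M 1 m) := by
    rw [mcInv_et (f0 R S) g₁ _ rfl, map_one, one_mul, mc_et (f0 R S) g₂ _ h.symm]
  exact H

theorem psi_apply (D : DD R S) [Module R (NN D)] [IsScalarTower R S (NN D)] (n : NN D) :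
    psi D n = V2 (NN D) (dh D (i₁ R S) (i₂ R S) (i_condition R S)
      (et (i₁ R S).unop.hom (NN D) 1 n)) := rfl

theorem V2_et_one (D : DD R S) [Module R (NN D)] [IsScalarTower R S (NN D)] (n : NN D) :
    V2 (R := R) (NN D) (et (i₂ R S).unop.hom (NN D) 1 n) = (1 : S) ⊗ₜ[R] n :=
  (V2_et (R := R) (NN D) (1 : S) 1 n).trans (by rw [one_smul])

theorem psi_eq_of_dh (D : DD R S) [Module R (NN D)] [IsScalarTower R S (NN D)] (n : NN D)
    (h : dh D (i₁ R S) (i₂ R S) (i_condition R S) (et (i₁ R S).unop.hom (NN D) 1 n) =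
      et (i₂ R S).unop.hom (NN D) 1 n) :
    psi D n = (1 : S) ⊗ₜ[R] n := by
  rw [psi_apply, h, V2_et_one]

theorem psi_eq_of_forall_dh (D : DD R S) [Module R (NN D)] [IsScalarTower R S (NN D)] (n : NN D)
    (h : ∀ {C : CommRingCat.{u}} (g₁ g₂ : op C ⟶ op (CommRingCat.of S))
      (hh : g₁ ≫ f0 R S = g₂ ≫ f0 R S),
      dh D g₁ g₂ hh (et g₁.unop.hom (NN D) 1 n) = et g₂.unop.hom (NN D) 1 n) :
    psi D n = (1 : S) ⊗ₜ[R] n :=
  psi_eq_of_dh D n (h (i₁ R S) (i₂ R S) (i_condition R S))

/-- The value of `ψ` on a coinvariant element determines all descent isomorphisms on it. -/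
theorem dh_et_of_coinv (D : DD R S) [Module R (NN D)] [IsScalarTower R S (NN D)] {m : NN D}
    (hm : psi D m = (1 : S) ⊗ₜ[R] m) {C : CommRingCat.{u}} (g₁ g₂ : op C ⟶ op (CommRingCat.of S))
    (h : g₁ ≫ f0 R S = g₂ ≫ f0 R S) :
    dh D g₁ g₂ h (et g₁.unop.hom (NN D) 1 m) = et g₂.unop.hom (NN D) 1 m := by
  let : Algebra R C := ((g₁ ≫ f0 R S).unop.hom).toAlgebra
  let φ₁ : S →ₐ[R] C := { g₁.unop.hom with commutes' := fun r => rfl }
  let φ₂ : S →ₐ[R] C :=
    { g₂.unop.hom with commutes' := fun r => congr(($h.symm).unop.hom r) }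
  let k : op C ⟶ op (T2 R S) :=
    (CommRingCat.ofHom (Algebra.TensorProduct.productMap φ₁ φ₂).toRingHom).op
  have e₁ : k ≫ i₁ R S = g₁ := by
    apply Quiver.Hom.unop_inj
    ext s
    exact Algebra.TensorProduct.productMap_left_apply φ₁ φ₂ s
  have e₂ : k ≫ i₂ R S = g₂ := by
    apply Quiver.Hom.unop_inj
    ext s
    exact Algebra.TensorProduct.productMap_right_apply φ₁ φ₂ s
  have h0 : dh D (i₁ R S) (i₂ R S) (i_condition R S) (et _ (NN D) 1 m) =
      et (i₂ R S).unop.hom (NN D) 1 m := by
    refine V2_injective (R := R) (NN D) ?_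
    refine hm.trans ?_
    exact ((V2_et (R := R) (NN D) (1 : S) 1 m).trans (by rw [one_smul])).symm
  rw [dh_bcE D k (i₁ R S) (i₂ R S) (i_condition R S) g₁ g₂ e₁ e₂ m, h0, bcE_et, map_one]

theorem psi_canRD (M : ModuleCat.{u} R) [Module R (NN (canRD (S := S) M))]
    [IsScalarTower R S (NN (canRD (S := S) M))] (m : M) :
    psi (canRD M) (cel (S := S) M m) = (1 : S) ⊗ₜ[R] cel (S := S) M m := by
  exact psi_eq_of_forall_dh (canRD M) (cel M m) fun g₁ g₂ hh => dh_canRD M g₁ g₂ hh m

/-- Coinvariant elements of a canonical descent datum come from the module. -/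
theorem exists_of_coinv_canRD (h : Pi1.UnivInjective R S) (M : ModuleCat.{u} R)
    [Module R (NN (canRD (S := S) M))] [IsScalarTower R S (NN (canRD (S := S) M))]
    (y : NN (canRD (S := S) M)) (hy : psi (canRD M) y = (1 : S) ⊗ₜ[R] y) :
    ∃ m : M, cel M m = y := by
  let L : NN (canRD (S := S) M) →ₗ[R] S ⊗[R] M :=
    { toFun := cT M
      map_add' := map_add _
      map_smul' := fun r x => by
        rw [← IsScalarTower.algebraMap_smul S r x, cT_smul, IsScalarTower.algebraMap_smul,
          RingHom.id_apply] }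
  have hL : ∀ x : NN (canRD (S := S) M),
      LinearMap.lTensor S L (psi (canRD M) x) = UnivInj.freePsi R S M (cT M x) := by
    intro x
    induction x using cel_induction with
    | h0 => simp only [map_zero]
    | ht s m =>
      rw [psi_smul, psi_canRD, cT_smul, cT_cel, smul_tmul', smul_tmul', smul_eq_mul, mul_one,
        LinearMap.lTensor_tmul]
      rfl
    | ha a b ha hb => simp only [map_add, ha, hb]
  have h1 := hL y
  rw [hy, LinearMap.lTensor_tmul] at h1
  obtain ⟨m, hm⟩ := UnivInj.exists_of_freePsi h (cT M y) h1.symm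
  exact ⟨m, (cT_bijective M).1 ((cT_cel M m).trans hm)⟩

/-- Descent data along a universally injective ring map are effective. -/
theorem exists_canRD_iso (h : Pi1.UnivInjective R S) (D : DD R S) :
    ∃ M : ModuleCat.{u} R, Nonempty (canRD M ≅ D) := by
  let := nnModule D
  have : IsScalarTower R S (NN D) := IsScalarTower.of_compHom _ _ _
  let M : ModuleCat.{u} R := ModuleCat.of R (UnivInj.coinv (psi D))
  refine ⟨M, ?_⟩
  have hb := UnivInj.bijective_coinv (psi D) (psi_coassoc D) (psi_smul D) (psi_counit D) h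
  let e : NN (canRD (S := S) M) →ₗ[S] NN D :=
    { toFun := fun x => LinearMap.liftBaseChange S (UnivInj.coinv (psi D)).subtype (cT M x)
      map_add' := fun x y => by rw [map_add, map_add]
      map_smul' := fun s x => by rw [cT_smul, map_smul, RingHom.id_apply] }
  have he : Function.Bijective e := hb.comp (cT_bijective M)
  let E : NN (canRD (S := S) M) ≅ NN D := (LinearEquiv.ofBijective e he).toModuleIso
  refine ⟨Pseudofunctor.DescentData.isoMk (fun _ => E) ?_⟩
  rintro ⟨C⟩ q ⟨⟩ ⟨⟩ g₁ g₂ h₁ h₂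
  subst h₁
  change (extendScalars g₁.unop.hom).map E.hom ≫ dh D g₁ g₂ h₂.symm =
    dh (canRD M) g₁ g₂ h₂.symm ≫ (extendScalars g₂.unop.hom).map E.hom
  refine ExtendScalars.hom_ext fun y => ?_
  change dh D g₁ g₂ h₂.symm (et g₁.unop.hom (NN D) 1 (e y)) =
    (extendScalars g₂.unop.hom).map E.hom
      (dh (canRD M) g₁ g₂ h₂.symm (et g₁.unop.hom (NN (canRD (S := S) M)) 1 y))
  induction y using cel_induction with
  | h0 =>
    have h0' : et g₁.unop.hom (NN D) 1 (e 0) = 0 := by
      rw [map_zero]; exact et_zero _ _ _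
    rw [et_zero, h0', map_zero, map_zero, map_zero]
  | ha a b ha hb => rw [map_add, et_add, et_add, map_add, map_add, map_add, ha, hb]
  | ht s m =>
    have hem : e (cel M m) = (m : NN D) := one_smul S _
    rw [map_smul, hem, et_smul, et_smul, ← smul_et, ← smul_et,
      map_smul (dh D g₁ g₂ h₂.symm).hom, map_smul (dh (canRD M) g₁ g₂ h₂.symm).hom,
      dh_et_of_coinv D ((UnivInj.mem_coinv (psi D)).1 m.2) g₁ g₂ h₂.symm, dh_canRD,
      map_smul ((extendScalars g₂.unop.hom).map E.hom).hom]
    exact congrArg _ (congrArg (et g₂.unop.hom (NN D) 1) hem.symm)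

/-- The functor to descent data. -/
noncomputable abbrev toDD : ModuleCat.{u} R ⥤ DD R S :=
  Desc.ringModPF.{u}.toDescentData (fun _ : PUnit.{u + 1} => f0 R S)

theorem toDD_map_hom {M M' : ModuleCat.{u} R} (l : M ⟶ M') (m : M) :
    (show NN (canRD (S := S) M) ⟶ NN (canRD (S := S) M') from
      ((toDD (R := R) (S := S)).map l).hom PUnit.unit) (cel M m) = cel M' (l m) :=
  rfl

theorem cel_injective (h : Pi1.UnivInjective R S) (M : ModuleCat.{u} R) :
    Function.Injective (cel (R := R) (S := S) M) := fun _ _ hab =>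
  UnivInj.eta_injective (S := S) h (congrArg (cT M) hab)

theorem cel_smul (M : ModuleCat.{u} R) (r : R) (m : M) :
    cel (S := S) M (r • m) = algebraMap R S r • cel M m := by
  refine (cT_bijective M).1 ?_
  rw [cT_smul, cT_cel, cT_cel, tmul_smul, IsScalarTower.algebraMap_smul]

theorem cel_add (M : ModuleCat.{u} R) (m m' : M) :
    cel (S := S) M (m + m') = cel M m + cel M m' :=
  et_add _ _ _ _ _

theorem hom_ext_cel {M : ModuleCat.{u} R} {P : ModuleCat.{u} S}
    {α β : NN (canRD (S := S) M) ⟶ P} (h : ∀ m, α (cel M m) = β (cel M m)) : α = β := by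
  refine ModuleCat.hom_ext (LinearMap.ext fun x => ?_)
  induction x using cel_induction with
  | h0 => rw [map_zero, map_zero]
  | ht s m => rw [map_smul, map_smul]; exact congrArg (s • ·) (h m)
  | ha a b ha hb => rw [map_add, map_add, ha, hb]

theorem univInjective_of_faithful [(toDD (R := R) (S := S)).Faithful] :
    Pi1.UnivInjective R S := by
  refine UnivInj.univInjective_of_eta fun P _ _ => (injective_iff_map_eq_zero _).2 fun x hx => ?_
  let A : ModuleCat.{u} R := ModuleCat.of R R
  let B : ModuleCat.{u} R := ModuleCat.of R P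
  let l : A ⟶ B := ModuleCat.ofHom (LinearMap.toSpanSingleton R P x)
  have hx' : cel (S := S) B x = 0 := (cT_bijective B).1 (hx.trans (map_zero _).symm)
  have hz : cel (S := S) B 0 = 0 :=
    (cT_bijective B).1 ((cT_cel B 0).trans ((tmul_zero _ _).trans (map_zero _).symm))
  have h1 : (toDD (R := R) (S := S)).map l = (toDD (R := R) (S := S)).map 0 := by
    refine Pseudofunctor.DescentData.hom_ext fun i => ?_
    refine hom_ext_cel (M := A) fun r => ?_
    rw [toDD_map_hom, toDD_map_hom]
    change cel (S := S) B ((r : R) • x) = cel (S := S) B 0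
    rw [cel_smul, hx', smul_zero, hz]
  have h2 := congr($((toDD (R := R) (S := S)).map_injective h1) (1 : R))
  exact (one_smul R x).symm.trans h2

theorem faithful_of_univInjective (h : Pi1.UnivInjective R S) :
    (toDD (R := R) (S := S)).Faithful := by
  refine ⟨fun {M M'} φ φ' hφ => ?_⟩
  refine ModuleCat.hom_ext (LinearMap.ext fun m => cel_injective (S := S) h M' ?_)
  rw [← toDD_map_hom φ m, ← toDD_map_hom φ' m, hφ]

theorem map_et {A T : Type u} [CommRing A] [CommRing T] (φ : A →+* T) {N N' : ModuleCat.{u} A}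
    (g : N ⟶ N') (t : T) (n : N) : (extendScalars φ).map g (et φ N t n) = et φ N' t (g n) := rfl

theorem comp_eq_apply {T : Type u} [CommRing T] {X Y Z W : ModuleCat.{u} T} {a : X ⟶ Y}
    {b : Y ⟶ Z} {c : X ⟶ W} {d : W ⟶ Z} (h : a ≫ b = c ≫ d) (x : X) : b (a x) = d (c x) :=
  congr($h x)

theorem psi_hom_of_forall_dh (D D' : DD R S) [Module R (NN D')] [IsScalarTower R S (NN D')]
    (φ : NN D ⟶ NN D') (x : NN D)
    (hφ : ∀ {C : CommRingCat.{u}} (g₁ g₂ : op C ⟶ op (CommRingCat.of S))
      (hh : g₁ ≫ f0 R S = g₂ ≫ f0 R S),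
      (extendScalars g₁.unop.hom).map φ ≫ dh D' g₁ g₂ hh =
        dh D g₁ g₂ hh ≫ (extendScalars g₂.unop.hom).map φ)
    (hx : ∀ {C : CommRingCat.{u}} (g₁ g₂ : op C ⟶ op (CommRingCat.of S))
      (hh : g₁ ≫ f0 R S = g₂ ≫ f0 R S),
      dh D g₁ g₂ hh (et g₁.unop.hom (NN D) 1 x) = et g₂.unop.hom (NN D) 1 x) :
    psi D' (φ x) = (1 : S) ⊗ₜ[R] φ x := by
  refine psi_eq_of_forall_dh D' (φ x) fun g₁ g₂ hh => ?_
  have h1 := comp_eq_apply (hφ g₁ g₂ hh) (et g₁.unop.hom (NN D) 1 x)
  rw [map_et, hx, map_et] at h1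
  exact h1

theorem full_of_univInjective (h : Pi1.UnivInjective R S) :
    (toDD (R := R) (S := S)).Full := by
  refine ⟨fun {M M'} Φ => ?_⟩
  let := nnModule (canRD (S := S) M')
  have : IsScalarTower R S (NN (canRD (S := S) M')) := IsScalarTower.of_compHom _ _ _
  let φ : NN (canRD (S := S) M) ⟶ NN (canRD (S := S) M') := Φ.hom PUnit.unit
  have hco : ∀ m : M, psi (canRD M') (φ (cel M m)) = (1 : S) ⊗ₜ[R] φ (cel M m) := fun m =>
    psi_hom_of_forall_dh (canRD M) (canRD M') φ (cel M m)
      (fun g₁ g₂ hh => Φ.comm (g₁ ≫ f0 R S) g₁ g₂ rfl hh.symm)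
      (fun g₁ g₂ hh => dh_canRD M g₁ g₂ hh m)
  choose g hg using fun m => exists_of_coinv_canRD h M' _ (hco m)
  let l : M ⟶ M' := ModuleCat.ofHom
    { toFun := g
      map_add' := fun m m' => cel_injective (S := S) h M' (by
        rw [hg, cel_add, cel_add, map_add, hg, hg])
      map_smul' := fun r m => cel_injective (S := S) h M' (by
        rw [RingHom.id_apply, hg, cel_smul, cel_smul, map_smul φ.hom, hg]) }
  refine ⟨l, Pseudofunctor.DescentData.hom_ext fun i => ?_⟩
  refine hom_ext_cel (M := M) fun m => ?_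
  rw [toDD_map_hom]
  exact hg m

theorem isEquivalence_of_univInjective (h : Pi1.UnivInjective R S) :
    (toDD (R := R) (S := S)).IsEquivalence where
  faithful := faithful_of_univInjective h
  full := full_of_univInjective h
  essSurj := ⟨fun D => exists_canRD_iso h D⟩

end Groth.DescentBase.RingDD
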