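import Mathlib
import Groth.Prelude.Def_EtCore
import Groth.Agent.DescentBase.PushSh
import Groth.Agent.EtaleBase.Sections
import Groth.Agent.DescentBase.ShStalk

/-! The small étale site of a separably closed field. -/

set_option autoImplicit false
set_option backward.isDefEq.respectTransparency.types false

open CategoryTheory CategoryTheory.Limits AlgebraicGeometry Opposite

namespace Groth.DescentBase

universe u

variable {k : Type u} [Field k] [IsSepClosed k]

local notation "Xk" => Spec (CommRingCat.of k)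

local notation "pt₀" => (default : Spec (CommRingCat.of k))

theorem exists_section_through (U : (Xk).Etale) (x : U.left) :
    ∃ r : EtCoh.top Xk ⟶ U, r.left.base pt₀ = x := by
  haveI : Etale U.hom := U.prop
  obtain ⟨l, hl, hl'⟩ := Scheme.exists_fac_of_etale_of_isSepClosed U.hom (𝟙 Xk) x
    (Subsingleton.elim (α := Xk) _ _)
  exact ⟨MorphismProperty.Over.homMk l hl, hl'⟩

theorem section_ext {U : (Xk).Etale} {r r' : EtCoh.top Xk ⟶ U}
    (h : r.left.base pt₀ = r'.left.base pt₀) : r = r' := by
  haveI : Etale U.hom := U.prop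
  refine MorphismProperty.Over.Hom.ext (Groth.EtaleBase.section_eq_of_range_eq U.hom r.left r'.left
    (MorphismProperty.Over.w r) (MorphismProperty.Over.w r') ?_)
  ext z
  exact ⟨fun ⟨a, ha⟩ => ⟨a, by rw [← ha, Subsingleton.elim (α := Xk) a pt₀]; exact h.symm⟩,
    fun ⟨a, ha⟩ => ⟨a, by rw [← ha, Subsingleton.elim (α := Xk) a pt₀]; exact h⟩⟩

theorem isOpenImmersion_section' {U : (Xk).Etale} (r : EtCoh.top Xk ⟶ U) : IsOpenImmersion r.left := by
  haveI : Etale U.hom := U.prop
  exact (Groth.EtaleBase.section_isImmersion U.hom r.left (MorphismProperty.Over.w r)).1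

theorem restr_bijective (F : EtDesc.Sh Xk) (U : (Xk).Etale) :
    Function.Bijective fun (σ : F.obj.obj (op U)) (r : EtCoh.top Xk ⟶ U) => F.obj.map r.op σ := by
  constructor
  · intro σ σ' h
    have hJ : Sieve.ofArrows (fun _ => EtCoh.top Xk) (fun r : EtCoh.top Xk ⟶ U => r) ∈
        (Xk).smallEtaleTopology U :=
      (Groth.EtaleBase.mem_topology_iff _).mpr fun x => by
        obtain ⟨r, hr⟩ := exists_section_through U x
        exact ⟨_, r, pt₀, Sieve.ofArrows_mk _ _ r, hr⟩
    refine (((isSheaf_iff_isSheaf_of_type _ _).mp F.property).isSeparated _ hJ).ext ?_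
    rintro Z q ⟨W, m, r, ⟨r⟩, rfl⟩
    rw [op_comp, Functor.map_comp_apply, Functor.map_comp_apply]
    exact congrArg (F.obj.map m.op) (congrFun h r)
  · intro t
    haveI : ∀ r : EtCoh.top Xk ⟶ U, IsOpenImmersion r.left := isOpenImmersion_section'
    obtain ⟨s, hs⟩ := exists_glue_disjoint F (fun _ => EtCoh.top Xk) (fun r => r)
      (fun a b hab => Set.disjoint_left.mpr fun x ⟨z, hz⟩ ⟨z', hz'⟩ => hab (section_ext (by
        rw [Subsingleton.elim (α := Xk) pt₀ z, hz, Subsingleton.elim (α := Xk) z z', hz'])))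
      (fun x => by
        obtain ⟨r, hr⟩ := exists_section_through U x
        exact ⟨r, pt₀, hr⟩) t
    exact ⟨s, funext hs⟩

/-- The presheaf of families of elements of `T` indexed by the rational points. -/
noncomputable def ptsPresheaf (T : Type (u + 1)) : (Xk).Etaleᵒᵖ ⥤ Type (u + 1) where
  obj U := (EtCoh.top Xk ⟶ U.unop) → T
  map g := ↾fun φ r => φ (r ≫ g.unop)
  map_id U := by ext φ r; simp
  map_comp g h := by ext φ r; simp

theorem isSheaf_ptsPresheaf (T : Type (u + 1)) :
    Presheaf.IsSheaf (Xk).smallEtaleTopology (ptsPresheaf (k := k) T) := by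
  rw [isSheaf_iff_isSheaf_of_type]
  intro U R hR x hx
  have hmem : ∀ r : EtCoh.top Xk ⟶ U, R r := by
    intro r
    obtain ⟨V, g, v, hg, hv⟩ := (Groth.EtaleBase.mem_topology_iff _).mp hR (r.left.base pt₀)
    obtain ⟨s, hs⟩ := exists_section_through V v
    have : s ≫ g = r := section_ext (by
      change (s.left ≫ g.left).base pt₀ = _
      rw [Scheme.Hom.comp_apply, hs, hv])
    rw [← this]
    exact R.downward_closed hg s
  refine ⟨fun r => x r (hmem r) (𝟙 _), fun V g hg => ?_, fun φ hφ => ?_⟩
  · funext r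
    change x (r ≫ g) (hmem _) (𝟙 _) = x g hg r
    have := congrFun (hx (Z := EtCoh.top Xk) (𝟙 _) r (hmem (r ≫ g)) hg (Category.id_comp _)) (𝟙 _)
    change x (r ≫ g) (hmem _) (𝟙 _ ≫ 𝟙 _) = x g hg (𝟙 _ ≫ r) at this
    rw [Category.id_comp, Category.id_comp] at this
    exact this
  · funext r
    have := congrFun (hφ r (hmem r)) (𝟙 _)
    change φ (𝟙 _ ≫ r) = _ at this
    rw [Category.id_comp] at this
    exact this

theorem sections_isEquivalence :
    ((sheafSections (Xk).smallEtaleTopology (Type (u + 1))).obj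
      (op (EtCoh.top Xk))).IsEquivalence := by
  refine { faithful := ⟨fun {F G} φ ψ h => ?_⟩, full := ⟨fun {F G} α => ?_⟩, essSurj := ⟨fun T => ?_⟩ }
  · refine Sheaf.hom_ext (NatTrans.ext (funext fun U => ?_))
    ext σ
    apply (restr_bijective G U.unop).1
    funext r
    change G.obj.map r.op (φ.hom.app U σ) = G.obj.map r.op (ψ.hom.app U σ)
    rw [← NatTrans.naturality_apply φ.hom r.op, ← NatTrans.naturality_apply ψ.hom r.op]
    exact congrArg (fun m => m (F.obj.map r.op σ)) h
  · let eG := fun U : (Xk).Etale => Equiv.ofBijective _ (restr_bijective G U)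
    let app : ∀ U : (Xk).Etaleᵒᵖ, F.obj.obj U → G.obj.obj U := fun U σ =>
      (eG U.unop).symm fun r => α (F.obj.map r.op σ)
    have happ : ∀ (U : (Xk).Etale) (σ : F.obj.obj (op U)) (r : EtCoh.top Xk ⟶ U),
        G.obj.map r.op (app (op U) σ) = α (F.obj.map r.op σ) := fun U σ r =>
      congrFun ((eG U).apply_symm_apply fun r => α (F.obj.map r.op σ)) r
    refine ⟨⟨{ app := fun U => ↾(app U), naturality := fun U V g => ?_ }⟩, ?_⟩
    · ext σ
      apply (restr_bijective G V.unop).1
      funext r
      change G.obj.map r.op (app V (F.obj.map g σ)) = G.obj.map r.op (G.obj.map g (app U σ))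
      rw [happ V.unop, ← Functor.map_comp_apply, ← Functor.map_comp_apply]
      exact (happ U.unop σ (r ≫ g.unop)).symm
    · ext σ
      have := happ (EtCoh.top Xk) σ (𝟙 _)
      rw [op_id, Functor.map_id_apply, Functor.map_id_apply] at this
      exact this
  · refine ⟨⟨ptsPresheaf (k := k) T, isSheaf_ptsPresheaf T⟩, ⟨Equiv.toIso ?_⟩⟩
    exact { toFun := fun φ => φ (𝟙 _)
            invFun := fun t _ => t
            left_inv := fun φ => funext fun r =>
              congrArg φ ((EtCore.topIsTerminal Xk).hom_ext _ _)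
            right_inv := fun _ => rfl }

section Stalk

variable {Ω : Type u} [Field Ω] [IsSepClosed Ω]
  (ξ : Spec (CommRingCat.of Ω) ⟶ Spec (CommRingCat.of k))

/-- The lift of a geometric point to the terminal object. -/
noncomputable abbrev topPtOf : (Scheme.pointSmallEtale ξ).fiber.obj (EtCoh.top Xk) :=
  Over.homMk ξ (Category.comp_id _)

theorem exists_section_fiber (U : (Xk).Etale) (t : (Scheme.pointSmallEtale ξ).fiber.obj U) :
    ∃ r : EtCoh.top Xk ⟶ U, (Scheme.pointSmallEtale ξ).fiber.map r (topPtOf ξ) = t := by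
  let tl : Spec (CommRingCat.of Ω) ⟶ U.left := t.left
  have htl : tl ≫ U.hom = ξ := Over.w t
  obtain ⟨r, hr⟩ := exists_section_through U (tl.base default)
  haveI := isOpenImmersion_section' r
  let t' := IsOpenImmersion.lift r.left tl (by
    rintro _ ⟨z, rfl⟩
    rw [Subsingleton.elim z default]
    exact ⟨pt₀, hr⟩)
  have ht' : t' ≫ r.left = tl := IsOpenImmersion.lift_fac _ _ _
  have hw : r.left ≫ U.hom = 𝟙 _ := MorphismProperty.Over.w r
  refine ⟨r, Over.OverMorphism.ext ?_⟩
  change ξ ≫ r.left = tl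
  rw [← htl, ← ht', Category.assoc t', hw]
  erw [Category.comp_id]
  rfl

theorem toPresheafFiber_pt_bijective (F : EtDesc.Sh Xk) :
    Function.Bijective ((Scheme.pointSmallEtale ξ).toPresheafFiber (A := Type (u + 1))
        (EtCoh.top Xk) (topPtOf ξ) F.obj) := by
  constructor
  · intro σ σ' h
    obtain ⟨V, g, s, hs, he⟩ := (shGerm_eq_iff ξ F _ (topPtOf ξ) σ σ').mp h
    obtain ⟨r, hr⟩ := exists_section_fiber ξ V s
    have he' : r ≫ g = 𝟙 (EtCoh.top Xk) := (EtCore.topIsTerminal Xk).hom_ext _ _
    have := congrArg (F.obj.map r.op) he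
    rwa [← Functor.map_comp_apply, ← Functor.map_comp_apply, ← op_comp, he', op_id,
      Functor.map_id_apply, Functor.map_id_apply] at this
  · intro a
    obtain ⟨U, t, σ, rfl⟩ := shGerm_surjective ξ F a
    obtain ⟨r, hr⟩ := exists_section_fiber ξ U t
    refine ⟨F.obj.map r.op σ, ?_⟩
    rw [← hr]
    exact (Scheme.pointSmallEtale ξ).toPresheafFiber_w_apply r (topPtOf ξ) F.obj σ

/-- Global sections are the stalk at any geometric point. -/
noncomputable def sectionsStalkIso :
    (sheafSections (Xk).smallEtaleTopology (Type (u + 1))).obj (op (EtCoh.top Xk)) ≅ shStalk ξ :=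
  NatIso.ofComponents (fun F => (Equiv.ofBijective _ (toPresheafFiber_pt_bijective ξ F)).toIso)
    (fun {F G} φ => by
      ext σ
      exact (shGerm_map ξ φ _ (topPtOf ξ) σ).symm)

theorem shStalk_isEquivalence : (shStalk ξ).IsEquivalence := by
  haveI := sections_isEquivalence (k := k)
  exact Functor.isEquivalence_of_iso (sectionsStalkIso ξ)

end Stalk

theorem pullSh_isEquivalence {k' : Type u} [Field k'] [IsSepClosed k']
    (v : Spec (CommRingCat.of k') ⟶ Spec (CommRingCat.of k)) : (EtDesc.pullSh v).IsEquivalence := by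
  let ζ : Spec (CommRingCat.of k') ⟶ Spec (CommRingCat.of k') := 𝟙 _
  haveI := shStalk_isEquivalence (k := k') ζ
  haveI := shStalk_isEquivalence (k := k) (ζ ≫ v)
  haveI : (EtDesc.pullSh v ⋙ shStalk ζ).IsEquivalence :=
    Functor.isEquivalence_of_iso (shStalkPullIso v ζ)
  exact Functor.isEquivalence_of_comp_right (EtDesc.pullSh v) (shStalk ζ)

end Groth.DescentBase
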