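import Mathlib
import Groth.Agent.Hensel1.Std
import Groth.Prelude.Def_Hens2

/-! Lifting maps from a strict henselization that are not local. -/

set_option autoImplicit false

open TensorProduct IsLocalRing Groth.Hensel1

namespace Groth.DescentBase

universe u v

variable {R : Type u} [CommRing R] {Ω : Type u} [Field Ω] [Algebra R Ω]

/-- Every morphism from the strict henselization to the residue field of a henselian local ring
lifts uniquely. -/
theorem existsUnique_lift_of_hom {T : Type v} [CommRing T] [HenselianLocalRing T] [Algebra R T]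
    (σ : Hens R Ω →ₐ[R] ResidueField T) :
    ∃! g : Hens R Ω →ₐ[R] T, ∀ x, residue T (g x) = σ x := by
  classical
  let c : ∀ i : HensIdx R Ω, i.P.Ring →ₐ[R] ResidueField T := fun i =>
    (σ.comp (Hens.of i)).comp (IsScalarTower.toAlgHom R i.P.Ring i.Obj)
  choose f hf huniq using fun i : HensIdx R Ω => existsUnique_algHom_lift_residue (T := T) (c i)
  have hu : ∀ (i : HensIdx R Ω) (s : i.q.primeCompl), IsUnit (f i (s : i.P.Ring)) := fun i s => by
    refine IsUnit.of_map (residue T) _ ?_
    rw [hf]
    exact ((IsLocalization.map_units i.Obj s).map (Hens.of i)).map σ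
  let fL : ∀ i : HensIdx R Ω, i.Obj →ₐ[R] T := fun i => IsLocalization.liftAlgHom (hu i)
  have hfL : ∀ i x, residue T (fL i x) = σ (Hens.of i x) := fun i x => by
    have : (IsScalarTower.toAlgHom R T (ResidueField T)).comp (fL i) = σ.comp (Hens.of i) :=
      IsLocalization.algHom_ext i.q.primeCompl (AlgHom.ext fun a => by
        show residue T (fL i (algebraMap _ _ a)) = _
        rw [show fL i (algebraMap _ _ a) = f i a from IsLocalization.lift_eq _ _, hf]
        rfl)
    exact DFunLike.congr_fun this x
  have hcompat : ∀ i j (h : i ≤ j) (x : i.Obj), fL j (HensIdx.tr i j h x) = fL i x :=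
    fun i j h x => by
    have : (fL j).comp (HensIdx.tr i j h) = fL i := IsLocalization.algHom_ext i.q.primeCompl
      (algHom_eq_of_residue_eq fun a => by
        show residue T (fL j (HensIdx.tr i j h (algebraMap _ _ a))) =
          residue T (fL i (algebraMap _ _ a))
        rw [hfL, hfL, Hens.of_tr])
    exact DFunLike.congr_fun this x
  let g0 : Hens R Ω →+* T := DirectLimit.Ring.lift (fun i : HensIdx R Ω => i.Obj)
    (fun i j h => (HensIdx.tr i j h).toRingHom) T (fun i => (fL i).toRingHom) hcompat
  let g : Hens R Ω →ₐ[R] T :=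
    { g0 with commutes' := fun r => (fL (Classical.arbitrary (HensIdx R Ω))).commutes r }
  have hg : ∀ x, residue T (g x) = σ x := fun x => by
    obtain ⟨i, y, rfl⟩ := Hens.exists_of x
    exact hfL i y
  refine ⟨g, hg, fun g' hg' => AlgHom.ext fun x => ?_⟩
  obtain ⟨i, y, rfl⟩ := Hens.exists_of x
  have : g'.comp (Hens.of i) = g.comp (Hens.of i) := IsLocalization.algHom_ext i.q.primeCompl
    (algHom_eq_of_residue_eq fun a => (hg' _).trans (hg _).symm)
  exact DFunLike.congr_fun this y

/-- A point of an étale algebra in a field is separable over the base field. -/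
theorem isSeparable_apply_of_etale {K L : Type*} [Field K] [Field L] [Algebra K L]
    {A : Type*} [CommRing A] [Algebra K A] [Algebra.Etale K A] (φ : A →ₐ[K] L) (a : A) :
    IsSeparable K (φ a) := by
  haveI : Module.Finite K A := Algebra.FormallyUnramified.finite_of_free (R := K) (S := A)
  have : IsArtinianRing A := IsArtinianRing.of_finite K A
  haveI : Module.Finite K φ.range :=
    Module.Finite.of_surjective φ.rangeRestrict.toLinearMap φ.rangeRestrict_surjective
  let E : IntermediateField K L := φ.range.toIntermediateField fun x hx => by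
    exact Subalgebra.inv_mem_of_algebraic φ.range (x := ⟨x, hx⟩)
      ((Algebra.IsAlgebraic.isAlgebraic (R := K) (⟨x, hx⟩ : φ.range)).algHom φ.range.val)
  let ψ : A →ₐ[K] E := φ.codRestrict E.toSubalgebra fun b => ⟨b, rfl⟩
  haveI : Algebra.FormallyUnramified K E :=
    Algebra.FormallyUnramified.of_surjective ψ fun ⟨y, b, hb⟩ => ⟨b, Subtype.ext hb⟩
  haveI : Module.Finite K E :=
    Module.Finite.of_surjective ψ.toLinearMap fun ⟨y, b, hb⟩ => ⟨b, Subtype.ext hb⟩
  haveI : Algebra.IsSeparable K E := Algebra.FormallyUnramified.isSeparable K E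
  exact IsSeparable.map (x := ψ a) E.val (RingHom.injective (E.val : E →+* L))
    (Algebra.IsSeparable.isSeparable K (ψ a))

/-- The residue fields of the strict henselization are separable algebraic over those of the base. -/
theorem isSeparable_of_hom {K L : Type u} [Field K] [Field L] [Algebra K L] [Algebra R K]
    [Algebra R L] [IsScalarTower R K L] (σ : Hens R Ω →ₐ[R] L) (x : Hens R Ω) :
    IsSeparable K (σ x) := by
  obtain ⟨i, y, rfl⟩ := Hens.exists_of x
  obtain ⟨a, s, rfl⟩ := IsLocalization.exists_mk'_eq i.q.primeCompl y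
  let φ : i.P.Ring →ₐ[R] L := (σ.comp (Hens.of i)).comp (IsScalarTower.toAlgHom R i.P.Ring i.Obj)
  have key : ∀ b : i.P.Ring, IsSeparable K (φ b) := fun b => by
    have := isSeparable_apply_of_etale
      (Algebra.TensorProduct.lift (Algebra.ofId K L) φ fun _ _ => mul_comm _ _ :
        K ⊗[R] i.P.Ring →ₐ[K] L) (1 ⊗ₜ b)
    simpa using this
  have h2 : σ (Hens.of i (IsLocalization.mk' i.Obj a s)) = φ a * (φ s)⁻¹ := by
    rw [eq_mul_inv_iff_mul_eq₀]
    · change _ * σ (Hens.of i (algebraMap _ _ (s : i.P.Ring))) = σ (Hens.of i (algebraMap _ _ a))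
      rw [← map_mul, ← map_mul, IsLocalization.mk'_spec]
    · exact (((IsLocalization.map_units i.Obj s).map (Hens.of i)).map σ).ne_zero
  rw [h2]
  exact Field.isSeparable_mul (key a) (Field.isSeparable_inv (key s))

/-- A compatible point in a separably closed field exists over every prime with a point above. -/
theorem exists_hom_sepClosed {k' : Type u} [Field k'] [IsSepClosed k'] [Algebra R k']
    (hQ : ∃ Q : Ideal (Hens R Ω), Q.IsPrime ∧
      Q.comap (algebraMap R (Hens R Ω)) = RingHom.ker (algebraMap R k')) :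
    Nonempty (Hens R Ω →ₐ[R] k') := by
  obtain ⟨Q, hQ, hQp⟩ := hQ
  let p : Ideal R := RingHom.ker (algebraMap R k')
  haveI : p.IsPrime := RingHom.ker_isPrime _
  letI : Algebra p.ResidueField Q.ResidueField :=
    (Ideal.ResidueField.map p Q (algebraMap R (Hens R Ω)) hQp.symm).toAlgebra
  haveI : IsScalarTower R p.ResidueField Q.ResidueField :=
    IsScalarTower.of_algebraMap_eq fun r => by
      rw [RingHom.algebraMap_toAlgebra, Ideal.ResidueField.map_algebraMap,
        IsScalarTower.algebraMap_apply R (Hens R Ω) Q.ResidueField]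
  letI : Algebra p.ResidueField k' :=
    (Ideal.ResidueField.lift p (algebraMap R k') le_rfl
      (fun r hr => IsUnit.mk0 _ hr)).toAlgebra
  haveI : IsScalarTower R p.ResidueField k' :=
    IsScalarTower.of_algebraMap_eq fun r => by
      rw [RingHom.algebraMap_toAlgebra, Ideal.ResidueField.lift_algebraMap]
  haveI : Algebra.IsSeparable p.ResidueField Q.ResidueField := ⟨fun z => by
    obtain ⟨a, b, -, rfl⟩ := IsFractionRing.div_surjective (A := Hens R Ω ⧸ Q) z
    obtain ⟨a, rfl⟩ := Ideal.Quotient.mk_surjective a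
    obtain ⟨b, rfl⟩ := Ideal.Quotient.mk_surjective b
    have hs := isSeparable_of_hom (K := p.ResidueField)
      (IsScalarTower.toAlgHom R (Hens R Ω) Q.ResidueField)
    rw [div_eq_mul_inv]
    exact Field.isSeparable_mul (hs a) (Field.isSeparable_inv (hs b))⟩
  let ψ : Q.ResidueField →ₐ[p.ResidueField] k' := IsSepClosed.lift
  exact ⟨(ψ.restrictScalars R).comp (IsScalarTower.toAlgHom R (Hens R Ω) Q.ResidueField)⟩

section Scheme

open CategoryTheory AlgebraicGeometry

variable (X : Scheme.{u}) (x x' : X)
  (R : Type u) [CommRing R] [IsLocalRing R] [Algebra (X.presheaf.stalk x) R]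
  [IsLocalHom (algebraMap (X.presheaf.stalk x) R)] [Hensel.IsStrictHenselization (X.presheaf.stalk x) R]
  (R' : Type u) [CommRing R'] [IsLocalRing R'] [Algebra (X.presheaf.stalk x') R']
  [IsLocalHom (algebraMap (X.presheaf.stalk x') R')] [Hensel.IsStrictHenselization (X.presheaf.stalk x') R']

theorem specOf_closedPoint :
    (Hens2.specOf X x' R').base (IsLocalRing.closedPoint R') = x' := by
  rw [Scheme.Hom.comp_apply,
    show (Spec.map (CommRingCat.ofHom (algebraMap (X.presheaf.stalk x') R'))).base
      (IsLocalRing.closedPoint R') = IsLocalRing.closedPoint (X.presheaf.stalk x') from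
      IsLocalRing.comap_closedPoint (algebraMap (X.presheaf.stalk x') R'),
    Scheme.fromSpecStalk_closedPoint]

theorem geomPt_apply (z : Spec (CommRingCat.of (IsLocalRing.ResidueField R'))) :
    (Hens2.geomPt X x' R').base z = x' := by
  rw [Scheme.Hom.comp_apply]
  refine (congrArg (Hens2.specOf X x' R').base ?_).trans (specOf_closedPoint X x' R')
  rw [Subsingleton.elim (α := Spec (CommRingCat.of (IsLocalRing.ResidueField R'))) z
    (IsLocalRing.closedPoint (IsLocalRing.ResidueField R'))]
  exact IsLocalRing.comap_closedPoint (IsLocalRing.residue R')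

theorem specializes_of_hom {Z : Scheme.{u}} (g : Z ⟶ Spec (CommRingCat.of R)) (z : Z)
    (hz : (g ≫ Hens2.specOf X x R).base z = x') : x' ⤳ x := by
  have : x' ∈ Set.range (X.fromSpecStalk x).base :=
    ⟨(Spec.map (CommRingCat.ofHom (algebraMap (X.presheaf.stalk x) R))).base (g.base z), hz⟩
  rw [Scheme.range_fromSpecStalk] at this
  exact this

theorem specOf_eq (h : x' ⤳ x) :
    Spec.map (X.presheaf.stalkSpecializes h ≫
        CommRingCat.ofHom (algebraMap (X.presheaf.stalk x') R')) ≫ X.fromSpecStalk x =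
      Hens2.specOf X x' R' := by
  rw [Spec.map_comp, Category.assoc, Scheme.SpecMap_stalkSpecializes_fromSpecStalk]
  rfl

theorem hom_ext_of_residue (g₁ g₂ : Spec (CommRingCat.of R') ⟶ Spec (CommRingCat.of R))
    (h₁ : g₁ ≫ Hens2.specOf X x R = Hens2.specOf X x' R')
    (h₂ : g₂ ≫ Hens2.specOf X x R = Hens2.specOf X x' R')
    (h : Spec.map (CommRingCat.ofHom (IsLocalRing.residue R')) ≫ g₁ =
      Spec.map (CommRingCat.ofHom (IsLocalRing.residue R')) ≫ g₂) : g₁ = g₂ := by
  haveI := Hensel.IsStrictHenselization.henselian (R := X.presheaf.stalk x') (S := R')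
  obtain ⟨ψ₁, rfl⟩ := Spec.map_surjective g₁
  obtain ⟨ψ₂, rfl⟩ := Spec.map_surjective g₂
  have hc : CommRingCat.ofHom (algebraMap (X.presheaf.stalk x) R) ≫ ψ₁ =
      CommRingCat.ofHom (algebraMap (X.presheaf.stalk x) R) ≫ ψ₂ := by
    apply Spec.map_injective
    rw [← cancel_mono (X.fromSpecStalk x), Spec.map_comp, Spec.map_comp, Category.assoc,
      Category.assoc]
    exact h₁.trans h₂.symm
  have hres : ψ₁ ≫ CommRingCat.ofHom (IsLocalRing.residue R') =
      ψ₂ ≫ CommRingCat.ofHom (IsLocalRing.residue R') := by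
    apply Spec.map_injective
    rw [Spec.map_comp, Spec.map_comp, h]
  letI : Algebra (X.presheaf.stalk x) R' := (ψ₁.hom.comp (algebraMap _ R)).toAlgebra
  let φ₁ : R →ₐ[X.presheaf.stalk x] R' := { ψ₁.hom with commutes' := fun r => rfl }
  let φ₂ : R →ₐ[X.presheaf.stalk x] R' :=
    { ψ₂.hom with commutes' := fun r => (congrArg (fun m => m.hom r) hc).symm }
  obtain ⟨e⟩ := exists_algEquiv_of_isStrictHenselization (X.presheaf.stalk x) R
  obtain ⟨g, -, hu⟩ := existsUnique_lift_of_hom
    ((IsScalarTower.toAlgHom (X.presheaf.stalk x) R' (IsLocalRing.ResidueField R')).comp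
      (φ₁.comp e.toAlgHom))
  have e₁ : φ₁.comp e.toAlgHom = g := hu _ fun _ => rfl
  have e₂ : φ₂.comp e.toAlgHom = g := hu _ fun y => (congrArg (fun m => m.hom (e y)) hres).symm
  congr 1
  ext r
  have := DFunLike.congr_fun (e₁.trans e₂.symm) (e.symm r)
  simpa [φ₁, φ₂] using this

theorem exists_hom_of_residue (h : Spec (CommRingCat.of (IsLocalRing.ResidueField R')) ⟶
      Spec (CommRingCat.of R)) (hh : h ≫ Hens2.specOf X x R = Hens2.geomPt X x' R') :
    ∃ g : Spec (CommRingCat.of R') ⟶ Spec (CommRingCat.of R),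
      g ≫ Hens2.specOf X x R = Hens2.specOf X x' R' ∧
      Spec.map (CommRingCat.ofHom (IsLocalRing.residue R')) ≫ g = h := by
  haveI := Hensel.IsStrictHenselization.henselian (R := X.presheaf.stalk x') (S := R')
  have hsp : x' ⤳ x := specializes_of_hom X x x' R h default (by rw [hh]; exact geomPt_apply X x' R' _)
  obtain ⟨σ, rfl⟩ := Spec.map_surjective h
  let α : X.presheaf.stalk x ⟶ CommRingCat.of R' :=
    X.presheaf.stalkSpecializes hsp ≫ CommRingCat.ofHom (algebraMap (X.presheaf.stalk x') R')
  have hc : CommRingCat.ofHom (algebraMap (X.presheaf.stalk x) R) ≫ σ =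
      α ≫ CommRingCat.ofHom (IsLocalRing.residue R') := by
    apply Spec.map_injective
    rw [← cancel_mono (X.fromSpecStalk x), Spec.map_comp, Spec.map_comp, Category.assoc,
      Category.assoc, hh, specOf_eq X x x' R' hsp]
  letI : Algebra (X.presheaf.stalk x) R' := α.hom.toAlgebra
  let σ' : R →ₐ[X.presheaf.stalk x] IsLocalRing.ResidueField R' :=
    { σ.hom with commutes' := fun r => congrArg (fun m => m.hom r) hc }
  obtain ⟨e⟩ := exists_algEquiv_of_isStrictHenselization (X.presheaf.stalk x) R
  obtain ⟨g, hg, -⟩ := existsUnique_lift_of_hom (σ'.comp e.toAlgHom)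
  let ψ : CommRingCat.of R ⟶ CommRingCat.of R' :=
    CommRingCat.ofHom (g.comp e.symm.toAlgHom).toRingHom
  refine ⟨Spec.map ψ, ?_, ?_⟩
  · rw [← Category.assoc, ← Spec.map_comp]
    rw [show CommRingCat.ofHom (algebraMap (X.presheaf.stalk x) R) ≫ ψ = α from
      CommRingCat.hom_ext (g.comp e.symm.toAlgHom).comp_algebraMap, specOf_eq X x x' R' hsp]
  · rw [← Spec.map_comp]
    congr 1
    ext r
    exact (hg (e.symm r)).trans (congrArg σ' (e.apply_symm_apply r))

theorem exists_hom_iff_specializes :
    (∃ g : Spec (CommRingCat.of R') ⟶ Spec (CommRingCat.of R),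
      g ≫ Hens2.specOf X x R = Hens2.specOf X x' R') ↔ x' ⤳ x := by
  constructor
  · rintro ⟨g, hg⟩
    exact specializes_of_hom X x x' R g (IsLocalRing.closedPoint R')
      (by rw [hg]; exact specOf_closedPoint X x' R')
  · intro hsp
    let α : X.presheaf.stalk x ⟶ CommRingCat.of R' :=
      X.presheaf.stalkSpecializes hsp ≫ CommRingCat.ofHom (algebraMap (X.presheaf.stalk x') R')
    haveI : IsSepClosed (IsLocalRing.ResidueField R') :=
      (Hensel.IsStrictHenselization.isSepClosure (R := X.presheaf.stalk x') (S := R')).sep_closed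
    letI : Algebra (X.presheaf.stalk x) R' := α.hom.toAlgebra
    obtain ⟨e⟩ := exists_algEquiv_of_isStrictHenselization (X.presheaf.stalk x) R
    let := Hensel.IsStrictHenselization.isSepClosure (R := X.presheaf.stalk x) (S := R)
    haveI : Algebra.IsSeparable (IsLocalRing.ResidueField (X.presheaf.stalk x))
      (IsLocalRing.ResidueField R) := IsSepClosure.separable
    haveI : Module.FaithfullyFlat (X.presheaf.stalk x)
        (Hens (X.presheaf.stalk x) (IsLocalRing.ResidueField R)) := Hens.faithfullyFlat
    obtain ⟨Q, hQ⟩ := PrimeSpectrum.comap_surjective_of_faithfullyFlat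
      (A := X.presheaf.stalk x) (B := Hens (X.presheaf.stalk x) (IsLocalRing.ResidueField R))
      ⟨RingHom.ker (algebraMap (X.presheaf.stalk x) (IsLocalRing.ResidueField R')),
        RingHom.ker_isPrime _⟩
    obtain ⟨σ⟩ := exists_hom_sepClosed (R := X.presheaf.stalk x)
      (k' := IsLocalRing.ResidueField R') ⟨Q.asIdeal, Q.isPrime, congrArg PrimeSpectrum.asIdeal hQ⟩
    let σ₀ : CommRingCat.of R ⟶ CommRingCat.of (IsLocalRing.ResidueField R') :=
      CommRingCat.ofHom (σ.comp e.symm.toAlgHom).toRingHom
    obtain ⟨g, hg, -⟩ := exists_hom_of_residue X x x' R R' (Spec.map σ₀) (by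
      change Spec.map σ₀ ≫ Hens2.specOf X x R =
        Spec.map (CommRingCat.ofHom (IsLocalRing.residue R')) ≫ Hens2.specOf X x' R'
      rw [← Category.assoc, ← Spec.map_comp, ← specOf_eq X x x' R' hsp, ← Category.assoc,
        ← Spec.map_comp,
        show CommRingCat.ofHom (algebraMap (X.presheaf.stalk x) R) ≫ σ₀ =
          α ≫ CommRingCat.ofHom (IsLocalRing.residue R') from
          CommRingCat.hom_ext (σ.comp e.symm.toAlgHom).comp_algebraMap])
    exact ⟨g, hg⟩

end Scheme

end Groth.DescentBase
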