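import Groth.Agent.DescentBase.UnivSubm
import Groth.Agent.DescentBase.BaseChange0Sh
import Groth.Agent.DescentBase.PushPullValues

/-!
Stalks of iterated inverse images of sheaves of sets and canonical descent data.
-/

set_option autoImplicit false
set_option backward.isDefEq.respectTransparency.types false

universe u

open CategoryTheory CategoryTheory.Limits AlgebraicGeometry Opposite

namespace Groth.DescentBase.UnivSubm

open Groth.EtaleBase (fiberPoint pushLift pushLift_map)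

variable {A B Y : Scheme.{u}}

/-- The unit of a composite. -/
lemma unitSh_comp (g : A ⟶ B) (b : B ⟶ Y) (F : EtDesc.Sh Y) :
    (EtDesc.adjSh b).unit.app F ≫
      (EtDesc.pushSh b).map ((EtDesc.adjSh g).unit.app ((EtDesc.pullSh b).obj F) ≫
        (EtDesc.pushSh g).map ((EtDesc.pullCompSh g b).inv.app F)) ≫
      (EtDesc.pushCompSh b g).hom.app ((EtDesc.pullSh (g ≫ b)).obj F) =
    (EtDesc.adjSh (g ≫ b)).unit.app F := by
  let comp' := ((EtDesc.adjSh b).comp (EtDesc.adjSh g)).ofNatIsoRight (EtDesc.pushCompSh b g)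
  have h1 : comp'.homEquiv F _ ((EtDesc.pullCompSh g b).inv.app F) =
      (EtDesc.adjSh (g ≫ b)).unit.app F :=
    Adjunction.homEquiv_leftAdjointUniq_hom_app comp' (EtDesc.adjSh (g ≫ b)) F
  rw [← h1, show comp' = _ from rfl, Adjunction.homEquiv_ofNatIsoRight_apply,
    Adjunction.comp_homEquiv]
  simp only [Equiv.trans_apply, Adjunction.homEquiv_unit, Category.assoc]

lemma unitSh_comp_apply (g : A ⟶ B) (b : B ⟶ Y) (F : EtDesc.Sh Y) (U : Y.Etale)
    (τ : F.obj.obj (op U)) :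
    (((EtDesc.adjSh (g ≫ b)).unit.app F).hom.app (op U) τ :) =
      ((EtDesc.pullSh (g ≫ b)).obj F).obj.map
          ((MorphismProperty.Over.pullbackComp (P := EtCoh.etaleMP) (Q := ⊤) g b).hom.app U).op
        (((EtDesc.pullCompSh g b).inv.app F).hom.app _
          (((EtDesc.adjSh g).unit.app ((EtDesc.pullSh b).obj F)).hom.app _
            (((EtDesc.adjSh b).unit.app F).hom.app (op U) τ))) := by
  rw [← unitSh_comp g b F, ← pushComp_hom_app]
  rfl

variable {Ω : Type u} [Field Ω] [IsSepClosed Ω] {η : Spec (CommRingCat.of Ω) ⟶ Y}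

lemma pullVia_rfl (g : A ⟶ B) (b : B ⟶ Y) (F : EtDesc.Sh Y) :
    (EtDesc.pullVia g b (g ≫ b) rfl F).hom = (EtDesc.pullCompSh g b).inv.app F := by
  simp [EtDesc.pullVia, EtDesc.pullCongrSh]

/-- The identification `g^* a^* ≅ b^*` on stalks. -/
theorem pt_pullVia (g : A ⟶ B) (a : B ⟶ Y) (b : A ⟶ Y) (w : g ≫ a = b) (F : EtDesc.Sh Y)
    (ζ : Spec (CommRingCat.of Ω) ⟶ A) (ξ : Spec (CommRingCat.of Ω) ⟶ B) (h : ζ ≫ b = η)
    (hg : ζ ≫ g = ξ) (ha : ξ ≫ a = η) (z : (shStalk η).obj F) :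
    (shStalk ζ).map (EtDesc.pullVia g a b w F).hom
        ((pt g ((EtDesc.pullSh a).obj F) ζ hg).hom ((pt a F ξ ha).hom z)) =
      (pt b F ζ h).hom z := by
  subst w
  subst hg
  subst h
  obtain ⟨U, s, τ, rfl⟩ := shGerm_surjective _ F z
  rw [pullVia_rfl, pt_germ, pt_germ, pt_germ, shGerm_map, unitSh_comp_apply]
  refine Eq.trans ?_ ((Scheme.pointSmallEtale ζ).toPresheafFiber_w_apply
    ((MorphismProperty.Over.pullbackComp (P := EtCoh.etaleMP) (Q := ⊤) g a).hom.app U) _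
    ((EtDesc.pullSh (g ≫ a)).obj F).obj _).symm
  exact congrArg (fun t => shGerm ζ ((EtDesc.pullSh (g ≫ a)).obj F) _ t _)
    (Groth.DescentBase.PushPull.pushLift_comp g a ζ U s).symm

/-- The canonical descent datum on stalks. -/
theorem pt_canIso {X' X : Scheme.{u}} (f : X' ⟶ X) (F : EtDesc.Sh X)
    {η : Spec (CommRingCat.of Ω) ⟶ X} (ζ : Spec (CommRingCat.of Ω) ⟶ EtDesc.X2 f)
    (ξ₁ ξ₂ : Spec (CommRingCat.of Ω) ⟶ X') (e₁ : ζ ≫ pullback.fst f f = ξ₁)
    (e₂ : ζ ≫ pullback.snd f f = ξ₂) (h₁ : ξ₁ ≫ f = η) (h₂ : ξ₂ ≫ f = η) (z : (shStalk η).obj F) :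
    (shStalk ζ).map (EtDesc.canIso f F).hom
        ((pt (pullback.fst f f) ((EtDesc.pullSh f).obj F) ζ e₁).hom ((pt f F ξ₁ h₁).hom z)) =
      (pt (pullback.snd f f) ((EtDesc.pullSh f).obj F) ζ e₂).hom ((pt f F ξ₂ h₂).hom z) := by
  have h : ζ ≫ pullback.fst f f ≫ f = η :=
    (Category.assoc _ _ _).symm.trans ((congrArg (· ≫ f) e₁).trans h₁)
  have k₁ := pt_pullVia (pullback.fst f f) f (pullback.fst f f ≫ f) rfl F ζ ξ₁ h e₁ h₁ z
  have k₂ := pt_pullVia (pullback.snd f f) f (pullback.fst f f ≫ f) pullback.condition.symm F ζ ξ₂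
    h e₂ h₂ z
  rw [EtDesc.canIso, Iso.trans_hom, Iso.symm_hom, Functor.map_comp, ConcreteCategory.comp_apply,
    k₁, ← k₂]
  exact iso_hom_inv ((shStalk ζ).mapIso
    (EtDesc.pullVia (pullback.snd f f) f (pullback.fst f f ≫ f) pullback.condition.symm F)) _

end Groth.DescentBase.UnivSubm
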