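import Groth.Agent.DescentBase.UnivSubmComp

/-!
Descent of morphisms and sub-sheaves along universally submersive morphisms.
-/

set_option autoImplicit false
set_option backward.isDefEq.respectTransparency.types false

universe u

open CategoryTheory CategoryTheory.Limits AlgebraicGeometry Opposite

namespace Groth.DescentBase.UnivSubm

open Groth.EtaleBase (openObj openHom fiberPoint fiberPoint_map exists_fiber_lift pushLift
  pushLift_map mem_topology_iff geomPoint exists_geomPoint_lift)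

variable {X' X : Scheme.{u}} (f : X' ⟶ X)

lemma subsingleton_top {S : Scheme.{u}} {Ω : Type u} [Field Ω] [IsSepClosed Ω]
    (ξ : Spec (CommRingCat.of Ω) ⟶ S) (t t' : (Scheme.pointSmallEtale ξ).fiber.obj (EtCoh.top S)) :
    t = t' := by
  apply Over.OverMorphism.ext
  have h := (Over.w t).trans (Over.w t').symm
  exact (Category.comp_id _).symm.trans (h.trans (Category.comp_id _))

lemma secPull_germ (F : EtDesc.Sh X) {Ω : Type u} [Field Ω] [IsSepClosed Ω]
    {η : Spec (CommRingCat.of Ω) ⟶ X} (ξ : Spec (CommRingCat.of Ω) ⟶ X') (h : ξ ≫ f = η)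
    (t : (Scheme.pointSmallEtale η).fiber.obj (EtCoh.top X))
    (t' : (Scheme.pointSmallEtale ξ).fiber.obj (EtCoh.top X'))
    (s : EtDesc.sect F (EtCoh.top X)) :
    shGerm ξ ((EtDesc.pullSh f).obj F) (EtCoh.top X') t' (EtDesc.secPull f F s) =
      (pt f F ξ h).hom (shGerm η F (EtCoh.top X) t s) := by
  rw [pt_germ]
  refine ((Scheme.pointSmallEtale ξ).toPresheafFiber_w_apply (EtCore.bcTopIso f).inv t'
    ((EtDesc.pullSh f).obj F).obj _).trans ?_
  refine congrArg (fun a => shGerm ξ ((EtDesc.pullSh f).obj F) _ a _) ?_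
  refine (Function.LeftInverse.injective
    (g := (Scheme.pointSmallEtale ξ).fiber.map (EtCore.bcTopIso f).inv) fun a => ?_)
      (subsingleton_top ξ ((Scheme.pointSmallEtale ξ).fiber.map (EtCore.bcTopIso f).hom _)
        ((Scheme.pointSmallEtale ξ).fiber.map (EtCore.bcTopIso f).hom _))
  rw [← Functor.map_comp_apply, Iso.hom_inv_id, Functor.map_id_apply]

lemma section_ext_germ {S : Scheme.{u}} (F : EtDesc.Sh S) (U : S.Etale) (σ τ : F.obj.obj (op U))
    (h : ∀ (Ω : Type u) [Field Ω] [IsSepClosed Ω] (ξ : Spec (CommRingCat.of Ω) ⟶ S)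
      (t : (Scheme.pointSmallEtale ξ).fiber.obj U), shGerm ξ F U t σ = shGerm ξ F U t τ) : σ = τ := by
  refine shSection_ext F U σ τ fun u => ?_
  obtain ⟨t, ht⟩ := exists_geomPoint_lift U u
  have h1 := (shGerm_eq_iff_mem _ F U σ τ t).1 (h _ _ t)
  exact ht ▸ h1

/-- The tautological lift of a geometric point to the final object. -/
noncomputable def topPt {S : Scheme.{u}} {Ω : Type u} [Field Ω] [IsSepClosed Ω]
    (ξ : Spec (CommRingCat.of Ω) ⟶ S) : (Scheme.pointSmallEtale ξ).fiber.obj (EtCoh.top S) :=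
  Over.homMk ξ (Category.comp_id _)

variable (hf : EtDesc.IsUnivSubmersive f)

lemma shGerm_map_eq {S : Scheme.{u}} {Ω : Type u} [Field Ω] [IsSepClosed Ω]
    (ξ : Spec (CommRingCat.of Ω) ⟶ S) {F G : EtDesc.Sh S} (φ : F ⟶ G) (U : S.Etale)
    (t : (Scheme.pointSmallEtale ξ).fiber.obj U) (σ : F.obj.obj (op U)) (τ : G.obj.obj (op U))
    (h : φ.hom.app (op U) σ = τ) : (shStalk ξ).map φ (shGerm ξ F U t σ) = shGerm ξ G U t τ := by
  rw [shGerm_map, h]

lemma eq_of_canIso (F : EtDesc.Sh X) {Ω : Type u} [Field Ω] [IsSepClosed Ω]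
    {η : Spec (CommRingCat.of Ω) ⟶ X} (ζ : Spec (CommRingCat.of Ω) ⟶ pullback f f)
    (ξ₁ ξ₂ : Spec (CommRingCat.of Ω) ⟶ X') (e₁ : ζ ≫ pullback.fst f f = ξ₁)
    (e₂ : ζ ≫ pullback.snd f f = ξ₂) (h₁ : ξ₁ ≫ f = η) (h₂ : ξ₂ ≫ f = η)
    (v₁ v₂ : (shStalk η).obj F)
    (k : (shStalk ζ).map (EtDesc.canIso f F).hom
        ((pt (pullback.fst f f) ((EtDesc.pullSh f).obj F) ζ e₁).hom ((pt f F ξ₁ h₁).hom v₁)) =
      (pt (pullback.snd f f) ((EtDesc.pullSh f).obj F) ζ e₂).hom ((pt f F ξ₂ h₂).hom v₂)) :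
    v₁ = v₂ := by
  rw [pt_canIso f F ζ ξ₁ ξ₂ e₁ e₂ h₁ h₂] at k
  have k1 := congrArg (pt (pullback.snd f f) ((EtDesc.pullSh f).obj F) ζ e₂).inv k
  rw [pt_hom_inv, pt_hom_inv] at k1
  have k2 := congrArg (pt f F ξ₂ h₂).inv k1
  rw [pt_hom_inv, pt_hom_inv] at k2
  exact k2

lemma compat_of_equalizes (F : EtDesc.Sh X)
    (s' : EtDesc.sect ((EtDesc.pullSh f).obj F) (EtCoh.top X'))
    (hs' : (EtDesc.canIso f F).hom.hom.app (op (EtCoh.top (pullback f f)))
        (EtDesc.secPull (pullback.fst f f) ((EtDesc.pullSh f).obj F) s') =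
      EtDesc.secPull (pullback.snd f f) ((EtDesc.pullSh f).obj F) s') :
    Compat f F (EtCoh.top X) (((EtDesc.pullSh f).obj F).obj.map (EtCore.bcTopIso f).hom.op s') := by
  intro Ω _ _ η t ξ₁ ξ₂ h₁ h₂
  let ζ : Spec (CommRingCat.of Ω) ⟶ pullback f f := pullback.lift ξ₁ ξ₂ (h₁.trans h₂.symm)
  have hv : ∀ (ξ : Spec (CommRingCat.of Ω) ⟶ X') (h : ξ ≫ f = η),
      shGerm ξ ((EtDesc.pullSh f).obj F) (EtCoh.top X') (topPt ξ) s' =
        (pt f F ξ h).hom (val f F ξ h (EtCoh.top X) t (((EtDesc.pullSh f).obj F).obj.map (EtCore.bcTopIso f).hom.op s')) := by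
    intro ξ h
    rw [val, pt_inv_hom]
    refine Eq.trans ?_ ((Scheme.pointSmallEtale ξ).toPresheafFiber_w_apply
      (EtCore.bcTopIso f).hom _ ((EtDesc.pullSh f).obj F).obj s').symm
    exact congrArg (fun a => shGerm ξ ((EtDesc.pullSh f).obj F) _ a s') (subsingleton_top ξ _ _)
  have e₁ : ζ ≫ pullback.fst f f = ξ₁ := pullback.lift_fst _ _ _
  have e₂ : ζ ≫ pullback.snd f f = ξ₂ := pullback.lift_snd _ _ _
  have k := shGerm_map_eq ζ (EtDesc.canIso f F).hom (EtCoh.top (pullback f f)) (topPt ζ) _ _ hs'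
  rw [secPull_germ (pullback.fst f f) ((EtDesc.pullSh f).obj F) ζ e₁ (topPt ξ₁) (topPt ζ),
    secPull_germ (pullback.snd f f) ((EtDesc.pullSh f).obj F) ζ e₂ (topPt ξ₂) (topPt ζ), hv ξ₁ h₁, hv ξ₂ h₂] at k
  exact eq_of_canIso f F ζ ξ₁ ξ₂ e₁ e₂ h₁ h₂ _ _ k

include hf in
/-- Global sections descend along universally submersive morphisms. -/
theorem sections_equalizer (F : EtDesc.Sh X) :
    Function.Injective (EtDesc.secPull f F) ∧
    Set.range (EtDesc.secPull f F) =
      {s' | (EtDesc.canIso f F).hom.hom.app (op (EtCoh.top (pullback f f)))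
          (EtDesc.secPull (pullback.fst f f) ((EtDesc.pullSh f).obj F) s') =
        EtDesc.secPull (pullback.snd f f) ((EtDesc.pullSh f).obj F) s'} := by
  have hm : ∀ a, ((EtDesc.pullSh f).obj F).obj.map (EtCore.bcTopIso f).hom.op (((EtDesc.pullSh f).obj F).obj.map (EtCore.bcTopIso f).inv.op a) = a := by
    intro a
    rw [← Functor.map_comp_apply, ← op_comp, Iso.hom_inv_id, op_id, Functor.map_id_apply]
  have hm' : ∀ a, ((EtDesc.pullSh f).obj F).obj.map (EtCore.bcTopIso f).inv.op (((EtDesc.pullSh f).obj F).obj.map (EtCore.bcTopIso f).hom.op a) = a := by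
    intro a
    rw [← Functor.map_comp_apply, ← op_comp, Iso.inv_hom_id, op_id, Functor.map_id_apply]
  refine ⟨fun s t e => ?_, ?_⟩
  · apply unit_injective f F hf
    have e' := congrArg (((EtDesc.pullSh f).obj F).obj.map (EtCore.bcTopIso f).hom.op) e
    simp only [EtDesc.secPull] at e'
    rwa [hm, hm] at e'
  ext s'
  constructor
  · rintro ⟨s, rfl⟩
    refine section_ext_germ _ _ _ _ fun Ω _ _ ζ t => ?_
    let ξ₁ := ζ ≫ pullback.fst f f
    let ξ₂ := ζ ≫ pullback.snd f f
    have h₂ : ξ₂ ≫ f = ξ₁ ≫ f := by simp only [ξ₁, ξ₂, Category.assoc, pullback.condition]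
    rw [← shGerm_map, secPull_germ (pullback.fst f f) ((EtDesc.pullSh f).obj F) ζ (η := ξ₁) rfl (topPt ξ₁) t,
      secPull_germ (pullback.snd f f) ((EtDesc.pullSh f).obj F) ζ (η := ξ₂) rfl (topPt ξ₂) t,
      secPull_germ f F ξ₁ (η := ξ₁ ≫ f) rfl (topPt _) (topPt ξ₁),
      secPull_germ f F ξ₂ (η := ξ₁ ≫ f) h₂ (topPt _) (topPt ξ₂)]
    exact pt_canIso f F ζ ξ₁ ξ₂ rfl rfl rfl h₂ _
  · intro hs'
    simp only [Set.mem_ofPred_eq] at hs'
    have hc := compat_of_equalizes f F s' hs'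
    obtain ⟨s, hs⟩ := exists_descent f F hf _ _ hc
    refine ⟨s, ?_⟩
    simp only [EtDesc.secPull]
    rw [hs]
    exact hm' s'

/-- Inverse images commute with the stalk identifications. -/
lemma pt_naturality {F G : EtDesc.Sh X} (b : F ⟶ G) {Ω : Type u} [Field Ω] [IsSepClosed Ω]
    {η : Spec (CommRingCat.of Ω) ⟶ X} (ξ : Spec (CommRingCat.of Ω) ⟶ X') (h : ξ ≫ f = η)
    (z : (shStalk η).obj F) :
    (shStalk ξ).map ((EtDesc.pullSh f).map b) ((pt f F ξ h).hom z) =
      (pt f G ξ h).hom ((shStalk η).map b z) := by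
  subst h
  simp only [pt, eqToIso_refl, Iso.refl_trans, Iso.app_hom]
  exact (ConcreteCategory.congr_hom ((shStalkPullIso f ξ).hom.naturality b) z).symm

/-- Transport of the equalizer condition along an equality of etale schemes. -/
theorem canIso_app_iff (F : EtDesc.Sh X) (U : (pullback f f).Etale) (e : U = EtCoh.top (pullback f f))
    (a : EtDesc.sect ((EtDesc.pullSh (pullback.fst f f)).obj ((EtDesc.pullSh f).obj F)) U)
    (b : EtDesc.sect ((EtDesc.pullSh (pullback.snd f f)).obj ((EtDesc.pullSh f).obj F)) U) :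
    (EtDesc.canIso f F).hom.hom.app (op U) a = b ↔
      (EtDesc.canIso f F).hom.hom.app (op (EtCoh.top (pullback f f)))
          (e ▸ a : EtDesc.sect ((EtDesc.pullSh (pullback.fst f f)).obj ((EtDesc.pullSh f).obj F))
            (EtCoh.top (pullback f f))) =
        (e ▸ b : EtDesc.sect ((EtDesc.pullSh (pullback.snd f f)).obj ((EtDesc.pullSh f).obj F))
            (EtCoh.top (pullback f f))) := by
  subst e
  rfl

include hf in
/-- Morphisms descend along universally submersive morphisms. -/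
theorem existsUnique_hom (F G : EtDesc.Sh X)
    (a : (EtDesc.pullSh f).obj F ⟶ (EtDesc.pullSh f).obj G)
    (ha : (EtDesc.canIso f F).hom ≫ (EtDesc.pullSh (pullback.snd f f)).map a =
      (EtDesc.pullSh (pullback.fst f f)).map a ≫ (EtDesc.canIso f G).hom) :
    ∃! b : F ⟶ G, (EtDesc.pullSh f).map b = a := by
  have hc : ∀ (U : X.Etale) (σ : F.obj.obj (op U)), Compat f G U
      (a.hom.app (op ((EtCoh.bc f).obj U)) (((EtDesc.adjSh f).unit.app F).hom.app (op U) σ)) := by
    intro U σ Ω _ _ η t ξ₁ ξ₂ h₁ h₂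
    let ζ : Spec (CommRingCat.of Ω) ⟶ pullback f f := pullback.lift ξ₁ ξ₂ (h₁.trans h₂.symm)
    have e₁ : ζ ≫ pullback.fst f f = ξ₁ := pullback.lift_fst _ _ _
    have e₂ : ζ ≫ pullback.snd f f = ξ₂ := pullback.lift_snd _ _ _
    let z := shGerm η F U t σ
    have hv : ∀ (ξ : Spec (CommRingCat.of Ω) ⟶ X') (h : ξ ≫ f = η),
        (shStalk ξ).map a ((pt f F ξ h).hom z) = (pt f G ξ h).hom (val f G ξ h U t
          (a.hom.app (op ((EtCoh.bc f).obj U)) (((EtDesc.adjSh f).unit.app F).hom.app (op U) σ))) := by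
      intro ξ h
      rw [pt_germ, shGerm_map, val, pt_inv_hom]
    have k := congrArg (fun m => (shStalk ζ).map m
      ((pt (pullback.fst f f) ((EtDesc.pullSh f).obj F) ζ e₁).hom ((pt f F ξ₁ h₁).hom z))) ha
    simp only [Functor.map_comp, ConcreteCategory.comp_apply] at k
    rw [pt_canIso f F ζ ξ₁ ξ₂ e₁ e₂ h₁ h₂, pt_naturality (pullback.snd f f) a ζ e₂,
      pt_naturality (pullback.fst f f) a ζ e₁, hv ξ₁ h₁, hv ξ₂ h₂,
      pt_canIso f G ζ ξ₁ ξ₂ e₁ e₂ h₁ h₂] at k
    have k1 := congrArg (pt (pullback.snd f f) ((EtDesc.pullSh f).obj G) ζ e₂).inv k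
    rw [pt_hom_inv, pt_hom_inv] at k1
    have k2 := congrArg (pt f G ξ₂ h₂).inv k1
    rw [pt_hom_inv, pt_hom_inv] at k2
    exact k2.symm
  choose b₀ hb₀ using fun U σ => exists_descent f G hf U _ (hc U σ)
  let b : F ⟶ G := ⟨{ app := fun U => TypeCat.ofHom (b₀ U.unop)
                      naturality := fun U V g => by
                        ext σ
                        apply unit_injective f G hf
                        refine (hb₀ V.unop (F.obj.map g σ)).trans ?_
                        refine Eq.trans ?_ (NatTrans.naturality_apply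
                          ((EtDesc.adjSh f).unit.app G).hom g (b₀ U.unop σ)).symm
                        refine Eq.trans ?_ (congrArg _ (hb₀ U.unop σ)).symm
                        refine (congrArg _ (NatTrans.naturality_apply
                          ((EtDesc.adjSh f).unit.app F).hom g σ)).trans ?_
                        exact NatTrans.naturality_apply a.hom _ _ }⟩
  refine ⟨b, ?_, fun b' hb' => ?_⟩
  · apply ((EtDesc.adjSh f).homEquiv _ _).injective
    rw [Adjunction.homEquiv_unit, Adjunction.homEquiv_unit, Adjunction.unit_naturality]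
    ext U σ
    exact hb₀ U.unop σ
  · ext U σ
    apply unit_injective f G hf
    refine Eq.trans ?_ (hb₀ U.unop σ).symm
    refine (ConcreteCategory.congr_hom (congrArg (fun m : F ⟶ (EtDesc.pushSh f).obj ((EtDesc.pullSh f).obj G) => m.hom.app U)
      ((EtDesc.adjSh f).unit.naturality b')) σ).trans ?_
    exact ConcreteCategory.congr_hom (congrArg (fun m : F ⟶ (EtDesc.pushSh f).obj ((EtDesc.pullSh f).obj G) => m.hom.app U)
      (congrArg (fun m => (EtDesc.adjSh f).unit.app F ≫ (EtDesc.pushSh f).map m) hb')) σ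

end Groth.DescentBase.UnivSubm
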