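import Groth.Agent.DescentBase.UnivSubmDescent

/-!
Descent of subsheaves along universally submersive morphisms.
-/

set_option autoImplicit false
set_option backward.isDefEq.respectTransparency.types false

universe u

open CategoryTheory CategoryTheory.Limits AlgebraicGeometry Opposite

namespace Groth.DescentBase.UnivSubm

open Groth.EtaleBase (openObj openHom fiberPoint fiberPoint_map exists_fiber_lift isOpenMap_left
  pushLift pushLift_map mem_topology_iff geomPoint geomPoint_apply exists_geomPoint_lift)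

variable {X' X : Scheme.{u}}

section image

variable {A B : EtDesc.Sh X} (a : A ⟶ B)

/-- The points near which a section comes from a subsheaf. -/
def imageSet (U : X.Etale) (σ : B.obj.obj (op U)) : Set U.left :=
  {x | ∃ (V : X.Etale) (g : V ⟶ U), (∃ v, g.left.base v = x) ∧
    ∃ τ : A.obj.obj (op V), a.hom.app (op V) τ = B.obj.map g.op σ}

lemma isOpen_imageSet (U : X.Etale) (σ : B.obj.obj (op U)) : IsOpen (imageSet a U σ) := by
  rw [isOpen_iff_forall_mem_open]
  rintro x ⟨V, g, ⟨v, hv⟩, hz⟩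
  exact ⟨Set.range g.left.base, fun y ⟨w, hw⟩ => ⟨V, g, ⟨w, hw⟩, hz⟩,
    (isOpenMap_left g).isOpen_range, ⟨v, hv⟩⟩

variable {Ω : Type u} [Field Ω] [IsSepClosed Ω] (ξ : Spec (CommRingCat.of Ω) ⟶ X)

lemma germ_mem_range_iff (U : X.Etale) (t : (Scheme.pointSmallEtale ξ).fiber.obj U)
    (σ : B.obj.obj (op U)) :
    (∃ z, (shStalk ξ).map a z = shGerm ξ B U t σ) ↔ fiberPoint ξ t ∈ imageSet a U σ := by
  constructor
  · rintro ⟨z, hz⟩
    obtain ⟨V₀, s₀, τ₀, rfl⟩ := shGerm_surjective ξ A z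
    rw [shGerm_map] at hz
    obtain ⟨W₀, pm, qm, -⟩ := IsCofilteredOrEmpty.cone_objs
      (C := (Scheme.pointSmallEtale ξ).fiber.Elements)
      (Functor.elementsMk _ V₀ s₀) (Functor.elementsMk _ U t)
    obtain ⟨W, w⟩ := W₀
    let p : W ⟶ V₀ := pm.1
    let q : W ⟶ U := qm.1
    have hp : (Scheme.pointSmallEtale ξ).fiber.map p w = s₀ := pm.2
    have hq : (Scheme.pointSmallEtale ξ).fiber.map q w = t := qm.2
    have key : shGerm ξ B W w (a.hom.app _ (A.obj.map p.op τ₀)) =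
        shGerm ξ B W w (B.obj.map q.op σ) := by
      change (Scheme.pointSmallEtale ξ).toPresheafFiber W w B.obj _ =
        (Scheme.pointSmallEtale ξ).toPresheafFiber W w B.obj _
      rw [NatTrans.naturality_apply a.hom p.op τ₀,
        (Scheme.pointSmallEtale ξ).toPresheafFiber_w_apply,
        (Scheme.pointSmallEtale ξ).toPresheafFiber_w_apply]
      erw [hp, hq]
      exact hz
    obtain ⟨Z, r, z, hr, heq⟩ := (shGerm_eq_iff _ B W w _ _).1 key
    refine ⟨Z, r ≫ q, ⟨fiberPoint ξ z, ?_⟩, A.obj.map r.op (A.obj.map p.op τ₀), ?_⟩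
    · rw [← hq, ← hr, fiberPoint_map, fiberPoint_map]
      rfl
    · rw [NatTrans.naturality_apply a.hom r.op, heq, op_comp, Functor.map_comp_apply]
  · rintro ⟨V, g, ⟨v, hv⟩, τ, hτ⟩
    obtain ⟨w, hw, -⟩ := exists_fiber_lift ξ g t v hv
    refine ⟨shGerm ξ A V w τ, ?_⟩
    rw [shGerm_map, hτ, ← hw]
    exact (Scheme.pointSmallEtale ξ).toPresheafFiber_w_apply g w B.obj σ

omit ξ [IsSepClosed Ω] [Field Ω] in
/-- A section locally in a subsheaf lies in it. -/
lemma exists_preimage_of_local [Mono a] (U : X.Etale) (σ : B.obj.obj (op U))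
    (h : ∀ x : U.left, x ∈ imageSet a U σ) : ∃ τ, a.hom.app (op U) τ = σ := by
  have hinj : ∀ V : X.Etale, Function.Injective (a.hom.app (op V)) := fun V =>
    injective_of_stalks a (fun s => ⟨_, _, _, _, geomPoint_apply s default,
      (mono_iff_stalks a).1 ‹_› _ _⟩) (op V)
  let R : Sieve U :=
    { arrows := fun V g => ∃ τ, a.hom.app (op V) τ = B.obj.map g.op σ
      downward_closed := fun {V W g} ⟨τ, hτ⟩ k => ⟨A.obj.map k.op τ, by
        rw [NatTrans.naturality_apply a.hom k.op τ, hτ, op_comp, Functor.map_comp_apply]⟩ }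
  have hR : R ∈ X.smallEtaleTopology U := by
    rw [mem_topology_iff]
    intro x
    obtain ⟨V, g, ⟨v, hv⟩, hτ⟩ := h x
    exact ⟨V, g, v, hτ, hv⟩
  let x : Presieve.FamilyOfElements A.obj R.arrows := fun V g hg => hg.choose
  have hx : ∀ {V : X.Etale} (g : V ⟶ U) (hg : R g),
      a.hom.app (op V) (x g hg) = B.obj.map g.op σ := fun g hg => hg.choose_spec
  have hc : x.Compatible := by
    intro V₁ V₂ Z a₁ a₂ g₁ g₂ h₁ h₂ e
    apply hinj
    rw [NatTrans.naturality_apply a.hom a₁.op, NatTrans.naturality_apply a.hom a₂.op, hx g₁ h₁,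
      hx g₂ h₂, ← Functor.map_comp_apply, ← Functor.map_comp_apply, ← op_comp, ← op_comp, e]
  have hA := ((isSheaf_iff_isSheaf_of_type _ _).mp A.property) R hR
  refine ⟨hA.amalgamate x hc,
    (((isSheaf_iff_isSheaf_of_type _ _).mp B.property).isSeparated _ hR).ext fun V g hg => ?_⟩
  rw [← NatTrans.naturality_apply a.hom g.op, hA.valid_glue hc g hg, hx g hg]

end image

variable (f : X' ⟶ X)

/-- Saturation of a set of points of a base change, tested on geometric points. -/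
lemma saturated_of_geomPoints (V : X.Etale) (T : Set ↥(pullback V.hom f))
    (h : ∀ (Ω : Type u) [Field Ω] [IsSepClosed Ω] (η : Spec (CommRingCat.of Ω) ⟶ X)
      (t : (Scheme.pointSmallEtale η).fiber.obj V) (ξ₁ ξ₂ : Spec (CommRingCat.of Ω) ⟶ X')
      (h₁ : ξ₁ ≫ f = η) (h₂ : ξ₂ ≫ f = η), fiberPoint ξ₁ (pushLift f ξ₁ h₁ V t) ∈ T →
        fiberPoint ξ₂ (pushLift f ξ₂ h₂ V t) ∈ T)
    (y₁ y₂ : ↥(pullback V.hom f))
    (he : (pullback.fst V.hom f).base y₁ = (pullback.fst V.hom f).base y₂) (hy : y₁ ∈ T) :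
    y₂ ∈ T := by
  obtain ⟨z, rfl, rfl⟩ := Scheme.Pullback.exists_preimage_pullback
    (f := pullback.fst V.hom f) (g := pullback.fst V.hom f) y₁ y₂ he
  let ζ := geomPoint z
  let l₁ := ζ ≫ pullback.fst (pullback.fst V.hom f) (pullback.fst V.hom f)
  let l₂ := ζ ≫ pullback.snd (pullback.fst V.hom f) (pullback.fst V.hom f)
  have hl : l₁ ≫ pullback.fst V.hom f = l₂ ≫ pullback.fst V.hom f := by
    simp only [l₁, l₂, Category.assoc, pullback.condition]
  let η := (l₁ ≫ pullback.fst V.hom f) ≫ V.hom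
  let t : (Scheme.pointSmallEtale η).fiber.obj V := Over.homMk (l₁ ≫ pullback.fst V.hom f) rfl
  have h₁ : (l₁ ≫ pullback.snd V.hom f) ≫ f = η := by
    simp only [η, Category.assoc, pullback.condition]
  have h₂ : (l₂ ≫ pullback.snd V.hom f) ≫ f = η := by
    simp only [η, hl]
    simp only [Category.assoc, pullback.condition]
  have e₁ : (pushLift f _ h₁ V t).left = l₁ :=
    pullback.hom_ext (pullback.lift_fst _ _ _) (pullback.lift_snd _ _ _)
  have e₂ : (pushLift f _ h₂ V t).left = l₂ :=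
    pullback.hom_ext ((pullback.lift_fst _ _ _).trans hl) (pullback.lift_snd _ _ _)
  have p₁ : fiberPoint _ (pushLift f _ h₁ V t) =
      (pullback.fst (pullback.fst V.hom f) (pullback.fst V.hom f)).base z := by
    refine (congrArg (fun m : Spec (CommRingCat.of _) ⟶ pullback V.hom f => m.base default) e₁).trans ?_
    exact congrArg _ (geomPoint_apply z _)
  have p₂ : fiberPoint _ (pushLift f _ h₂ V t) =
      (pullback.snd (pullback.fst V.hom f) (pullback.fst V.hom f)).base z := by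
    refine (congrArg (fun m : Spec (CommRingCat.of _) ⟶ pullback V.hom f => m.base default) e₂).trans ?_
    exact congrArg _ (geomPoint_apply z _)
  rw [← p₁] at hy
  rw [← p₂]
  exact h _ η t _ _ h₁ h₂ hy

variable (hf : EtDesc.IsUnivSubmersive f)

include hf in
lemma exists_factor {F G₁ G₂ : EtDesc.Sh X} (a₁ : G₁ ⟶ F) (a₂ : G₂ ⟶ F) [Mono a₂]
    (φ : (EtDesc.pullSh f).obj G₁ ⟶ (EtDesc.pullSh f).obj G₂)
    (hφ : φ ≫ (EtDesc.pullSh f).map a₂ = (EtDesc.pullSh f).map a₁) :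
    ∃ ψ : G₁ ⟶ G₂, ψ ≫ a₂ = a₁ := by
  have hinj : ∀ V : X.Etaleᵒᵖ, Function.Injective (a₂.hom.app V) :=
    injective_of_stalks a₂ (fun s => ⟨_, _, _, _, geomPoint_apply s default,
      (mono_iff_stalks a₂).1 ‹_› _ _⟩)
  have hloc : ∀ (U : X.Etale) (σ : G₁.obj.obj (op U)),
      ∃ τ, a₂.hom.app (op U) τ = a₁.hom.app (op U) σ := by
    intro U σ
    refine exists_preimage_of_local a₂ U _ fun x => ?_
    obtain ⟨y, rfl⟩ := (isQuotientMap_fst f hf U).surjective x
    obtain ⟨Ω, _, _, ξ, t, rfl⟩ := exists_point f U y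
    rw [fst_fiberPoint]
    refine (germ_mem_range_iff a₂ (ξ ≫ f) U t _).1
      ⟨(pt f G₂ ξ rfl).inv ((shStalk ξ).map φ ((pt f G₁ ξ rfl).hom (shGerm (ξ ≫ f) G₁ U t σ))), ?_⟩
    apply (pt f F ξ rfl).toEquiv.injective
    show (pt f F ξ rfl).hom _ = (pt f F ξ rfl).hom _
    rw [← pt_naturality, pt_inv_hom, ← shGerm_map, ← pt_naturality f a₁ ξ rfl,
      ← hφ, Functor.map_comp, ConcreteCategory.comp_apply]
  choose b hb using hloc
  let ψ : G₁ ⟶ G₂ := ⟨{ app := fun U => TypeCat.ofHom (b U.unop)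
                        naturality := fun U V g => by
                          ext σ
                          apply hinj V
                          refine (hb V.unop (G₁.obj.map g σ)).trans ?_
                          refine (NatTrans.naturality_apply a₁.hom g σ).trans ?_
                          refine Eq.trans ?_ (NatTrans.naturality_apply a₂.hom g (b U.unop σ)).symm
                          exact congrArg (F.obj.map g) (hb U.unop σ).symm }⟩
  refine ⟨ψ, ?_⟩
  ext U σ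
  exact hb U.unop σ

include hf in
/-- Subsheaves are determined by their inverse images. -/
theorem subsheaf_unique (F : EtDesc.Sh X) (G₁ G₂ : EtDesc.Sh X) (a₁ : G₁ ⟶ F) (a₂ : G₂ ⟶ F)
    [Mono a₁] [Mono a₂]
    (h : ∃ φ : (EtDesc.pullSh f).obj G₁ ≅ (EtDesc.pullSh f).obj G₂,
      φ.hom ≫ (EtDesc.pullSh f).map a₂ = (EtDesc.pullSh f).map a₁) :
    ∃ ψ : G₁ ≅ G₂, ψ.hom ≫ a₂ = a₁ := by
  obtain ⟨φ, hφ⟩ := h
  obtain ⟨ψ, hψ⟩ := exists_factor f hf a₁ a₂ φ.hom hφ
  obtain ⟨χ, hχ⟩ := exists_factor f hf a₂ a₁ φ.inv (by rw [← hφ, Iso.inv_hom_id_assoc])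
  exact ⟨⟨ψ, χ, by rw [← cancel_mono a₁, Category.assoc, hχ, hψ, Category.id_comp],
    by rw [← cancel_mono a₂, Category.assoc, hψ, hχ, Category.id_comp]⟩, hψ⟩

variable {F : EtDesc.Sh X} {G' : EtDesc.Sh X'} (a' : G' ⟶ (EtDesc.pullSh f).obj F)

lemma range_transport
    (φ : (EtDesc.pullSh (pullback.fst f f)).obj G' ≅ (EtDesc.pullSh (pullback.snd f f)).obj G')
    (hφ : φ.hom ≫ (EtDesc.pullSh (pullback.snd f f)).map a' =
      (EtDesc.pullSh (pullback.fst f f)).map a' ≫ (EtDesc.canIso f F).hom)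
    {Ω : Type u} [Field Ω] [IsSepClosed Ω] {η : Spec (CommRingCat.of Ω) ⟶ X}
    (ξ₁ ξ₂ : Spec (CommRingCat.of Ω) ⟶ X') (h₁ : ξ₁ ≫ f = η) (h₂ : ξ₂ ≫ f = η)
    (z : (shStalk η).obj F) (hz : ∃ g, (shStalk ξ₁).map a' g = (pt f F ξ₁ h₁).hom z) :
    ∃ g, (shStalk ξ₂).map a' g = (pt f F ξ₂ h₂).hom z := by
  obtain ⟨g, hg⟩ := hz
  let ζ : Spec (CommRingCat.of Ω) ⟶ pullback f f := pullback.lift ξ₁ ξ₂ (h₁.trans h₂.symm)
  have e₁ : ζ ≫ pullback.fst f f = ξ₁ := pullback.lift_fst _ _ _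
  have e₂ : ζ ≫ pullback.snd f f = ξ₂ := pullback.lift_snd _ _ _
  refine ⟨(pt (pullback.snd f f) G' ζ e₂).inv
    ((shStalk ζ).map φ.hom ((pt (pullback.fst f f) G' ζ e₁).hom g)), ?_⟩
  apply (pt (pullback.snd f f) ((EtDesc.pullSh f).obj F) ζ e₂).toEquiv.injective
  show (pt (pullback.snd f f) ((EtDesc.pullSh f).obj F) ζ e₂).hom _ =
    (pt (pullback.snd f f) ((EtDesc.pullSh f).obj F) ζ e₂).hom _
  rw [← pt_naturality, pt_inv_hom, ← ConcreteCategory.comp_apply ((shStalk ζ).map φ.hom),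
    ← Functor.map_comp, hφ, Functor.map_comp, ConcreteCategory.comp_apply, pt_naturality, hg,
    pt_canIso f F ζ ξ₁ ξ₂ e₁ e₂ h₁ h₂]

include hf in
/-- Subsheaves of inverse images with descent data descend. -/
theorem exists_subsheaf [Mono a']
    (h : ∃ φ : (EtDesc.pullSh (pullback.fst f f)).obj G' ≅ (EtDesc.pullSh (pullback.snd f f)).obj G',
        φ.hom ≫ (EtDesc.pullSh (pullback.snd f f)).map a' =
          (EtDesc.pullSh (pullback.fst f f)).map a' ≫ (EtDesc.canIso f F).hom) :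
    ∃ (G : EtDesc.Sh X) (a : G ⟶ F) (_ : Mono a) (ψ : (EtDesc.pullSh f).obj G ≅ G'),
      ψ.hom ≫ a' = (EtDesc.pullSh f).map a := by
  obtain ⟨φ, hφ⟩ := h
  have : (EtDesc.pushSh f).IsRightAdjoint := (EtDesc.adjSh f).isRightAdjoint
  let u := (EtDesc.adjSh f).unit.app F
  let G := pullback u ((EtDesc.pushSh f).map a')
  let a : G ⟶ F := pullback.fst u ((EtDesc.pushSh f).map a')
  let ψ : (EtDesc.pullSh f).obj G ⟶ G' :=
    ((EtDesc.adjSh f).homEquiv G G').symm (pullback.snd u ((EtDesc.pushSh f).map a'))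
  have hψ : ψ ≫ a' = (EtDesc.pullSh f).map a := by
    apply ((EtDesc.adjSh f).homEquiv _ _).injective
    rw [Adjunction.homEquiv_naturality_right, Equiv.apply_symm_apply, Adjunction.homEquiv_unit,
      Adjunction.unit_naturality]
    exact pullback.condition.symm
  have : Mono a := inferInstance
  have ha' : ∀ (Ω : Type u) [Field Ω] [IsSepClosed Ω] (ξ : Spec (CommRingCat.of Ω) ⟶ X'),
      Function.Injective ((shStalk ξ).map a') := fun Ω _ _ ξ => (mono_iff_stalks a').1 ‹_› Ω ξ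
  suffices IsIso ψ from ⟨G, a, inferInstance, asIso ψ, hψ⟩
  have key : ∀ {Ω : Type u} [Field Ω] [IsSepClosed Ω] (ξ : Spec (CommRingCat.of Ω) ⟶ X')
      (z : (shStalk (ξ ≫ f)).obj G), (shStalk ξ).map a' ((shStalk ξ).map ψ ((pt f G ξ rfl).hom z)) =
        (pt f F ξ rfl).hom ((shStalk (ξ ≫ f)).map a z) := by
    intro Ω _ _ ξ z
    rw [← ConcreteCategory.comp_apply, ← Functor.map_comp, hψ, pt_naturality]
  refine isIso_of_acPoints ψ fun x => ⟨fun p q e => ?_, fun g => ?_⟩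
  · obtain ⟨z, rfl⟩ : ∃ z, (pt f G (acPoint x) rfl).hom z = p := ⟨_, pt_inv_hom f G _ rfl p⟩
    obtain ⟨w, rfl⟩ : ∃ w, (pt f G (acPoint x) rfl).hom w = q := ⟨_, pt_inv_hom f G _ rfl q⟩
    have e' := congrArg ((shStalk (acPoint x)).map a') e
    rw [key, key] at e'
    exact congrArg _ ((mono_iff_stalks a).1 inferInstance _ _
      ((pt f F (acPoint x) rfl).toEquiv.injective e'))
  · let ξ := acPoint x
    obtain ⟨V, t, σ, hσ⟩ := shGerm_surjective (ξ ≫ f) F ((pt f F ξ rfl).inv ((shStalk ξ).map a' g))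
    let W' : Set ↥(pullback V.hom f) := imageSet a' ((EtCoh.bc f).obj V) (u.hom.app (op V) σ)
    have hmem : ∀ {Ω : Type u} [Field Ω] [IsSepClosed Ω] {η : Spec (CommRingCat.of Ω) ⟶ X}
        (ξ' : Spec (CommRingCat.of Ω) ⟶ X') (h' : ξ' ≫ f = η)
        (t' : (Scheme.pointSmallEtale η).fiber.obj V),
        fiberPoint ξ' (pushLift f ξ' h' V t') ∈ W' ↔
          ∃ g', (shStalk ξ').map a' g' = (pt f F ξ' h').hom (shGerm η F V t' σ) := by
      intro Ω _ _ η ξ' h' t'
      rw [pt_germ]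
      exact (germ_mem_range_iff a' ξ' ((EtCoh.bc f).obj V) _ _).symm
    have hsat : ∀ y₁ y₂ : ↥(pullback V.hom f),
        (pullback.fst V.hom f).base y₁ = (pullback.fst V.hom f).base y₂ → y₁ ∈ W' → y₂ ∈ W' := by
      refine saturated_of_geomPoints f V W' fun Ω _ _ η t' ξ₁ ξ₂ h₁ h₂ hy => ?_
      exact (hmem ξ₂ h₂ t').2 (range_transport f a' φ hφ ξ₁ ξ₂ h₁ h₂ _ ((hmem ξ₁ h₁ t').1 hy))
    have h0 : fiberPoint ξ (pushLift f ξ rfl V t) ∈ W' :=
      (hmem ξ rfl t).2 ⟨g, by rw [hσ, pt_inv_hom]⟩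
    let O : V.left.Opens := ⟨(pullback.fst V.hom f).base '' W', by
      refine (isQuotientMap_fst f hf V).isOpen_preimage.1 ?_
      have hE : (pullback.fst V.hom f).base ⁻¹' ((pullback.fst V.hom f).base '' W') = W' := by
        ext y
        exact ⟨fun ⟨y', hy', e⟩ => hsat y' y e hy', fun hy => ⟨y, hy, rfl⟩⟩
      exact hE.symm ▸ isOpen_imageSet a' ((EtCoh.bc f).obj V) _⟩
    have hw : fiberPoint (ξ ≫ f) t ∈ O := ⟨_, h0, fst_fiberPoint f ξ rfl V t⟩
    obtain ⟨w, hwt, -⟩ := exists_fiber_lift (ξ ≫ f) (openHom V O) t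
      (⟨fiberPoint (ξ ≫ f) t, hw⟩ : ↥O) rfl
    obtain ⟨τ, hτ⟩ : ∃ τ, a'.hom.app (op ((EtCoh.bc f).obj (openObj V O))) τ =
        u.hom.app (op (openObj V O)) (F.obj.map (openHom V O).op σ) := by
      refine exists_preimage_of_local a' _ _ fun y => ?_
      obtain ⟨Ω, _, _, ξ', t', rfl⟩ := exists_point f (openObj V O) y
      refine (germ_mem_range_iff a' ξ' _ _ _).1 ?_
      rw [show u = (EtDesc.adjSh f).unit.app F from rfl, ← pt_germ,
        show shGerm (ξ' ≫ f) F (openObj V O) t' (F.obj.map (openHom V O).op σ) =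
          shGerm (ξ' ≫ f) F V ((Scheme.pointSmallEtale (ξ' ≫ f)).fiber.map (openHom V O) t') σ from
          (Scheme.pointSmallEtale (ξ' ≫ f)).toPresheafFiber_w_apply (openHom V O) t' F.obj σ]
      refine (hmem ξ' rfl _).1 ?_
      have hin : fiberPoint (ξ' ≫ f) ((Scheme.pointSmallEtale (ξ' ≫ f)).fiber.map (openHom V O) t') ∈
          (pullback.fst V.hom f).base '' W' := by
        rw [fiberPoint_map]
        exact (fiberPoint (ξ' ≫ f) t').2
      obtain ⟨y', hy', e⟩ := hin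
      exact hsat y' _ (e.trans (fst_fiberPoint f ξ' rfl V _).symm) hy'
    obtain ⟨γ, hγ₁, -⟩ := Types.exists_of_isPullback
      ((IsPullback.of_hasPullback u ((EtDesc.pushSh f).map a')).map
        (sheafToPresheaf _ _ ⋙ (evaluation _ _).obj (op (openObj V O))))
      (F.obj.map (openHom V O).op σ) τ hτ.symm
    refine ⟨(pt f G ξ rfl).hom (shGerm (ξ ≫ f) G (openObj V O) w γ), ha' _ ξ ?_⟩
    rw [key, shGerm_map, ← pt_inv_hom f F ξ rfl ((shStalk ξ).map a' g), ← hσ, ← hwt]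
    refine congrArg (pt f F ξ rfl).hom ?_
    refine (congrArg (shGerm (ξ ≫ f) F (openObj V O) w) hγ₁).trans ?_
    exact (Scheme.pointSmallEtale (ξ ≫ f)).toPresheafFiber_w_apply (openHom V O) w F.obj σ

end Groth.DescentBase.UnivSubm
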